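import Mathlib

/-!
# Diagonal blocks of block triangular matrices as homomorphisms
-/

set_option autoImplicit false
set_option linter.unusedSectionVars false

namespace Cfsg.Agent.Helper6.BlockHom

open Matrix

variable {ι m n K : Type*} [Fintype ι] [DecidableEq ι] [Fintype m] [DecidableEq m] [Fintype n]
  [DecidableEq n] [CommRing K] (e : m ⊕ n ≃ ι)

/-- the upper left block -/
def b11 (M : Matrix ι ι K) : Matrix m m K := fun i j => M (e (Sum.inl i)) (e (Sum.inl j))
/-- the lower left block -/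
def b21 (M : Matrix ι ι K) : Matrix n m K := fun i j => M (e (Sum.inr i)) (e (Sum.inl j))
/-- the lower right block -/
def b22 (M : Matrix ι ι K) : Matrix n n K := fun i j => M (e (Sum.inr i)) (e (Sum.inr j))

theorem b11_mul (M N : Matrix ι ι K) (hN : b21 e N = 0) : b11 e (M * N) = b11 e M * b11 e N := by
  ext i j
  simp only [b11, Matrix.mul_apply]
  rw [← e.sum_comp, Fintype.sum_sum_type]
  have h0 : ∀ k : n, N (e (Sum.inr k)) (e (Sum.inl j)) = 0 := fun k => congrFun (congrFun hN k) j
  simp [h0]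

theorem b22_mul (M N : Matrix ι ι K) (hM : b21 e M = 0) : b22 e (M * N) = b22 e M * b22 e N := by
  ext i j
  simp only [b22, Matrix.mul_apply]
  rw [← e.sum_comp, Fintype.sum_sum_type]
  have h0 : ∀ k : m, M (e (Sum.inr i)) (e (Sum.inl k)) = 0 := fun k => congrFun (congrFun hM i) k
  simp [h0]

theorem b21_mul (M N : Matrix ι ι K) (hM : b21 e M = 0) (hN : b21 e N = 0) : b21 e (M * N) = 0 := by
  ext i j
  simp only [b21, Matrix.mul_apply, Matrix.zero_apply]
  rw [← e.sum_comp, Fintype.sum_sum_type]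
  have h0 : ∀ k : m, M (e (Sum.inr i)) (e (Sum.inl k)) = 0 := fun k => congrFun (congrFun hM i) k
  have h1 : ∀ k : n, N (e (Sum.inr k)) (e (Sum.inl j)) = 0 := fun k => congrFun (congrFun hN k) j
  simp [h0, h1]

theorem b21_one : b21 e (1 : Matrix ι ι K) = 0 := by
  ext i j
  simp only [b21, Matrix.zero_apply]
  rw [Matrix.one_apply_ne]
  intro h
  have := e.injective h
  cases this

theorem b11_one : b11 e (1 : Matrix ι ι K) = 1 := by
  ext i j
  simp only [b11]
  by_cases h : i = j
  · subst h; simp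
  · rw [Matrix.one_apply_ne h, Matrix.one_apply_ne]
    intro h'
    exact h (Sum.inl_injective (e.injective h'))

theorem b22_one : b22 e (1 : Matrix ι ι K) = 1 := by
  ext i j
  simp only [b22]
  by_cases h : i = j
  · subst h; simp
  · rw [Matrix.one_apply_ne h, Matrix.one_apply_ne]
    intro h'
    exact h (Sum.inr_injective (e.injective h'))

theorem b21_eq_zero_of_mem_closure (S : Set (GL ι K)) (hinv : ∀ g ∈ S, g⁻¹ ∈ S)
    (hS : ∀ g ∈ S, b21 e (g : Matrix ι ι K) = 0) :
    ∀ g ∈ Subgroup.closure S, b21 e (g : Matrix ι ι K) = 0 := by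
  have key : ∀ g ∈ Subgroup.closure S, b21 e (g : Matrix ι ι K) = 0 ∧
      b21 e ((g⁻¹ : GL ι K) : Matrix ι ι K) = 0 := by
    intro g hg
    induction hg using Subgroup.closure_induction with
    | mem x hx => exact ⟨hS x hx, hS _ (hinv x hx)⟩
    | one =>
      rw [inv_one]
      exact ⟨b21_one e, b21_one e⟩
    | mul x y _ _ ihx ihy =>
      rw [_root_.mul_inv_rev, Units.val_mul, Units.val_mul]
      exact ⟨b21_mul e _ _ ihx.1 ihy.1, b21_mul e _ _ ihy.2 ihx.2⟩
    | inv x _ ihx =>
      rw [inv_inv]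
      exact ⟨ihx.2, ihx.1⟩
  exact fun g hg => (key g hg).1

/-- the upper left block as a homomorphism -/
def hom11 (H : Subgroup (GL ι K)) (hH : ∀ g ∈ H, b21 e (g : Matrix ι ι K) = 0) :
    ↥H →* Matrix m m K where
  toFun g := b11 e ((g : GL ι K) : Matrix ι ι K)
  map_one' := b11_one e
  map_mul' g h := by
    change b11 e (((g : GL ι K) * (h : GL ι K) : GL ι K) : Matrix ι ι K) = _
    rw [Units.val_mul]
    exact b11_mul e _ _ (hH h h.2)

/-- the lower right block as a homomorphism -/
def hom22 (H : Subgroup (GL ι K)) (hH : ∀ g ∈ H, b21 e (g : Matrix ι ι K) = 0) :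
    ↥H →* Matrix n n K where
  toFun g := b22 e ((g : GL ι K) : Matrix ι ι K)
  map_one' := b22_one e
  map_mul' g h := by
    change b22 e (((g : GL ι K) * (h : GL ι K) : GL ι K) : Matrix ι ι K) = _
    rw [Units.val_mul]
    exact b22_mul e _ _ (hH g g.2)

theorem hom11_apply (H : Subgroup (GL ι K)) (hH : ∀ g ∈ H, b21 e (g : Matrix ι ι K) = 0) (g : ↥H) :
    hom11 e H hH g = b11 e ((g : GL ι K) : Matrix ι ι K) := rfl

theorem hom22_apply (H : Subgroup (GL ι K)) (hH : ∀ g ∈ H, b21 e (g : Matrix ι ι K) = 0) (g : ↥H) :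
    hom22 e H hH g = b22 e ((g : GL ι K) : Matrix ι ι K) := rfl

end Cfsg.Agent.Helper6.BlockHom
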