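import Cfsg.Agent.Lib.Helper18.ChevSparse
import Cfsg.Prelude.Def_ChevG2
import Cfsg.Agent.Lib.Helper18.ChevAdd
import Cfsg.Agent.Lib.Helper6.BlockHom

/-!
# `G₂` in characteristic 3: the ideal of the short roots and the two 7-dimensional constituents
-/

set_option autoImplicit false
set_option linter.unusedSectionVars false
set_option linter.unusedVariables false
set_option maxRecDepth 100000

namespace Cfsg.Agent.Helper6.G2C3

open Cfsg Cfsg.Lie Cfsg.Agent.Helper18 Cfsg.Agent.Helper6.BlockHom

/-! ### Laurent polynomials with all coefficients divisible by 3 -/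

/-- all coefficients (after normalisation) are divisible by 3 -/
def div3 (p : LP) : Bool := (LP.norm p).all (fun m => decide (m.1 % 3 = 0))

section

variable {F : Type*} [Field F] [CharP F 3]

theorem eval_of_all3 (a b : Fˣ) : ∀ l : LP, l.all (fun m => decide (m.1 % 3 = 0)) = true →
    LP.eval a b l = 0 := by
  intro l
  induction l with
  | nil => intro _; rfl
  | cons m l ih =>
    intro h
    rw [List.all_cons, Bool.and_eq_true] at h
    rw [LP.eval_cons, ih h.2, add_zero]
    have h3 : (3 : ℤ) ∣ m.1 := Int.dvd_of_emod_eq_zero (of_decide_eq_true h.1)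
    have : ((m.1 : ℤ) : F) = 0 := (CharP.intCast_eq_zero_iff F 3 m.1).2 (by exact_mod_cast h3)
    unfold LP.evalMono
    rw [this, zero_mul]

theorem eval_of_div3 (a b : Fˣ) (p : LP) (h : div3 p = true) : LP.eval a b p = 0 := by
  rw [← LP.eval_norm]
  exact eval_of_all3 a b _ h

end

/-- the coefficient of a sparse vector as a Laurent polynomial -/
def svlp (v : SV) (k : ℕ) : LP := v.flatMap (fun e => if e.1 = k then e.2 else [])

theorem coeff_eq_eval {F : Type*} [Field F] (a b : Fˣ) (v : SV) (k : ℕ) :
    SV.coeff a b v k = LP.eval a b (svlp v k) := by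
  induction v with
  | nil => rfl
  | cons e v ih =>
    rw [SV.coeff_cons, ih]
    unfold svlp
    rw [List.flatMap_cons, LP.eval_append]
    by_cases h : e.1 = k
    · rw [if_pos h, if_pos h]
    · rw [if_neg h, if_neg h]
      rfl

/-! ### the data -/

/-- the variable `t` -/
def tA : LP := [(1, 1, 0)]
/-- the cube of the variable -/
def tA3 : LP := [(1, 3, 0)]

/-- codes of the basis of the ideal: `h₁` and the short root vectors -/
def c1 : Fin 7 → ℕ := ![0, 4, 5, 6, 9, 10, 11]
/-- codes of the complementary basis vectors: `h₂` and the long root vectors -/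
def c2 : Fin 7 → ℕ := ![1, 2, 3, 7, 8, 12, 13]

/-- the permutation of the roots -/
def sig : ℕ → ℕ := fun r => ([2, 3, 0, 1, 5, 4, 7, 6, 10, 11, 8, 9] : List ℕ).getD r 0
/-- the roots whose parameter is cubed -/
def isShort : ℕ → Bool := fun r => ([2, 3, 4, 7, 8, 9] : List ℕ).contains r
/-- the parameter of the image -/
def lamLP (r : ℕ) : LP := if isShort r then tA3 else tA

theorem invCheck : ∀ r : Fin 12, ∀ i j : Fin 7,
    div3 (svlp (xColSpec chevG2 r tA (c1 j)) (c2 i)) = true := by decide +kernel

theorem matchCheck : ∀ r : Fin 12, ∀ i j : Fin 7,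
    div3 (svlp (xColSpec chevG2 r tA (c2 j)) (c2 i) ++
      LP.neg (svlp (xColSpec chevG2 (sig r) (lamLP r) (c1 j)) (c1 i))) = true := by decide +kernel

theorem sig_lt : ∀ r : Fin 12, sig r < 12 := by decide +kernel

end Cfsg.Agent.Helper6.G2C3
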