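import Cfsg.Agent.Lib.Helper6.G2Char3A
import Cfsg.Agent.S1043

/-!
# `G₂` in characteristic 3: the blocks of the root elements
-/

set_option autoImplicit false
set_option linter.unusedSectionVars false
set_option linter.unusedVariables false
set_option maxRecDepth 100000

namespace Cfsg.Agent.Helper6.G2C3

open Cfsg Cfsg.Lie Cfsg.Agent.Helper18 Cfsg.Agent.Helper6.BlockHom Cfsg.Agent.S1043

/-- a coordinate index of the first kind -/
def hI (i : ℕ) (h : i < 2) : chevG2.Idx := Sum.inl ⟨i, h⟩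
/-- a coordinate index of the second kind -/
def eI (s : ℕ) (h : s < 12) : chevG2.Idx := Sum.inr ⟨s, h⟩

/-- the basis of the ideal -/
def i1 : Fin 7 → chevG2.Idx :=
  ![hI 0 (by decide), eI 2 (by decide), eI 3 (by decide), eI 4 (by decide), eI 7 (by decide),
    eI 8 (by decide), eI 9 (by decide)]
/-- the complementary basis vectors -/
def i2 : Fin 7 → chevG2.Idx :=
  ![hI 1 (by decide), eI 0 (by decide), eI 1 (by decide), eI 5 (by decide), eI 6 (by decide),
    eI 10 (by decide), eI 11 (by decide)]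

theorem code_i1 : ∀ j, code chevG2 (i1 j) = c1 j := by decide
theorem code_i2 : ∀ j, code chevG2 (i2 j) = c2 j := by decide

/-- the inverse of the reindexing -/
def invIdx : chevG2.Idx → Fin 7 ⊕ Fin 7
  | Sum.inl i => ([Sum.inl 0, Sum.inr 0] : List (Fin 7 ⊕ Fin 7)).getD i.val (Sum.inl 0)
  | Sum.inr s => ([Sum.inr 1, Sum.inr 2, Sum.inl 1, Sum.inl 2, Sum.inl 3, Sum.inr 3, Sum.inr 4,
      Sum.inl 4, Sum.inl 5, Sum.inl 6, Sum.inr 5, Sum.inr 6] : List (Fin 7 ⊕ Fin 7)).getD s.val (Sum.inl 0)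

/-- the reindexing -/
def eIdx : Fin 7 ⊕ Fin 7 ≃ chevG2.Idx where
  toFun := Sum.elim i1 i2
  invFun := invIdx
  left_inv := by decide
  right_inv := by decide

theorem eIdx_inl (i : Fin 7) : eIdx (Sum.inl i) = i1 i := rfl
theorem eIdx_inr (i : Fin 7) : eIdx (Sum.inr i) = i2 i := rfl

section

variable {K : Type*} [Field K] [CharP K 3]

theorem entry_unit (a : Kˣ) (r : Fin chevG2.nroots) (t : LP) (row col : chevG2.Idx) :
    chevG2.xMat K r (LP.eval a 1 t) row col =
      LP.eval a 1 (svlp (xColSpec chevG2 r.val t (code chevG2 col)) (code chevG2 row)) := by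
  rw [xMat_col chevG2 a 1 r t row col, coeff_eq_eval]

theorem eval_tA (a : Kˣ) : LP.eval a 1 tA = (a : K) := by
  simp [tA, LP.eval, LP.evalMono]

theorem eval_tA3 (a : Kˣ) : LP.eval a 1 tA3 = (a : K) ^ 3 := by
  simp [tA3, LP.eval, LP.evalMono]

theorem eval_lamLP (a : Kˣ) (r : ℕ) :
    LP.eval a 1 (lamLP r) = if isShort r then (a : K) ^ 3 else (a : K) := by
  unfold lamLP
  split_ifs
  · exact eval_tA3 a
  · exact eval_tA a

/-- the blocks of a root element -/
theorem blk_x (r : Fin chevG2.nroots) (t : K) :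
    b21 eIdx (chevG2.xMat K r t) = 0 ∧
    b22 eIdx (chevG2.xMat K r t) =
      b11 eIdx (chevG2.xMat K ⟨sig r.val, sig_lt r⟩ (if isShort r.val then t ^ 3 else t)) := by
  by_cases ht : t = 0
  · subst ht
    have h0 : (if isShort r.val then (0 : K) ^ 3 else 0) = 0 := by split_ifs <;> simp
    rw [h0, xMat_zero, xMat_zero]
    exact ⟨b21_one eIdx, by rw [b22_one, b11_one]⟩
  · set a : Kˣ := Units.mk0 t ht with ha
    have hta : t = LP.eval a 1 tA := by rw [eval_tA]; rfl
    have hta' : (if isShort r.val then t ^ 3 else t) = LP.eval a 1 (lamLP r.val) := by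
      rw [eval_lamLP]; rfl
    constructor
    · ext i j
      rw [b21, eIdx_inr, eIdx_inl, hta, entry_unit, code_i1, code_i2]
      exact eval_of_div3 a 1 _ (invCheck r i j)
    · ext i j
      rw [b22, b11, eIdx_inr, eIdx_inr, eIdx_inl, eIdx_inl, hta', entry_unit]
      conv_lhs => rw [hta, entry_unit]
      rw [code_i1, code_i1, code_i2, code_i2]
      have h := eval_of_div3 a 1 _ (matchCheck r i j)
      rw [LP.eval_append, LP.eval_neg] at h
      exact sub_eq_zero.1 (by rw [sub_eq_add_neg]; exact h)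

end

end Cfsg.Agent.Helper6.G2C3
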