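import Cfsg.Agent.Lib.Helper6.ReeN

/-!
# `²G₂`: the order of the group
-/

set_option autoImplicit false
set_option linter.unusedSectionVars false
set_option linter.unusedVariables false
set_option maxRecDepth 100000

namespace Cfsg.Agent.Helper6.ReeS

open Cfsg Cfsg.Lie Cfsg.Agent.Helper18 Cfsg.Agent.Helper15.Ree Cfsg.Agent.Helper6.ReeSix
open Cfsg.Agent.S1043 Cfsg.Agent.Helper6.G2C3 Cfsg.Agent.Helper6.Weyl Cfsg.Agent.Helper17
open Cfsg.Agent.Helper59.TwFix

theorem neg_of_pos12 : ∀ r < 12, chevG2.IsPosRoot r → chevG2.IsNegRoot (chevG2.neg r) := by decide +kernel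

/-- transfer of cardinalities from the subtype to the general linear group -/
theorem card_inf_subgroupOf {G : Type*} [Group G] (Γ S S' : Subgroup G) (h : S ⊓ S' ≤ Γ) :
    Nat.card ↥(S.subgroupOf Γ ⊓ S'.subgroupOf Γ) = Nat.card ↥(S ⊓ S') := by
  apply Nat.card_congr
  exact
    { toFun := fun x => ⟨((x : ↥Γ) : G), x.2⟩
      invFun := fun y => ⟨⟨(y : G), h y.2⟩, y.2⟩
      left_inv := fun x => rfl
      right_inv := fun y => rfl }

section

variable {K : Type*} [Field K] [CharP K 3] {e : ℕ} (FD : FieldData K e)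
  (α : ↥(chevG2.group K) ≃* ↥(chevG2.group K))
  (hα : ∀ (r : Fin chevG2.nroots) (t : K),
      α (xG r.val t) = xG (sig r.val) (if isShort r.val then t ^ 3 else t))

include FD hα

theorem ca_n0 : CA (n0 : GL chevG2.Idx K) chevG2.neg :=
  (n1_cases FD α hα n0_mem_N (n0_mem_twisted FD)).resolve_left n0_not_mem_H

/-- `U_{w₀}⁻ = U` -/
theorem Uw_n0 : Uw chevG2 (n0 : GL chevG2.Idx K) = chevG2.posUnipotent K := by
  apply le_antisymm (Uw_le_pos chevG2 _)
  unfold Uw ChevalleyDatum.posUnipotent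
  apply Subgroup.closure_mono
  rintro g ⟨r, t, hr, hg⟩
  refine ⟨r, t, hr, ?_, hg⟩
  rw [Subgroup.map_le_iff_le_comap, ChevalleyDatum.rootSubgroup, Subgroup.closure_le]
  rintro y ⟨s, hy⟩
  have hyeq : y = xg r s := Units.ext hy
  rw [SetLike.mem_coe, Subgroup.mem_comap, hyeq]
  simp only [MulEquiv.toMonoidHom_eq_coe, MonoidHom.coe_coe, MulAut.conj_apply]
  obtain ⟨_, c, _, hc⟩ := ca_n0 FD α hα r hr.1
  rw [hc s]
  exact Subgroup.subset_closure ⟨chevG2.neg r, _, neg_of_pos12 r hr.1 hr, rfl⟩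

/-- `U_w⁻ = U` for every element of `N¹` outside `H` -/
theorem Uw_of_not_mem_H {n : GL chevG2.Idx K} (hnN : n ∈ chevG2.monomialSubgroup K)
    (hnG : n ∈ twistedG2 K e) (hn : n ∉ chevG2.diagonalSubgroup K) :
    Uw chevG2 n = chevG2.posUnipotent K := by
  have hn0i : (n0 : GL chevG2.Idx K)⁻¹ ∉ chevG2.diagonalSubgroup K := fun hcon =>
    n0_not_mem_H (by have := inv_mem hcon; rwa [inv_inv] at this)
  have h1 : n * (n0 : GL chevG2.Idx K)⁻¹ ∈ chevG2.diagonalSubgroup K :=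
    mul_mem_H FD α hα hnN hnG (inv_mem n0_mem_N) (inv_mem (n0_mem_twisted FD)) hn hn0i
  have e : n = (n * (n0 : GL chevG2.Idx K)⁻¹) * n0 := by group
  rw [e, Cfsg.Agent.Helper59.TwFix.Uw_H goodG2 (hypG2 (K := K)) n0 _ h1]
  exact Uw_n0 FD α hα

end

section

variable {K : Type*} [Field K] [Fintype K] [CharP K 3] {e : ℕ} (FD : FieldData K e)
  (α : ↥(chevG2.group K) ≃* ↥(chevG2.group K))
  (hα : ∀ (r : Fin chevG2.nroots) (t : K),
      α (xG r.val t) = xG (sig r.val) (if isShort r.val then t ^ 3 else t))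

include FD hα

/-- the order of `G¹` in terms of `U¹` and `H¹` -/
theorem card_twistedG2 :
    Nat.card ↥(twistedG2 K e) =
      Nat.card ↥(chevG2.posUnipotent K ⊓ twistedG2 K e) *
        Nat.card ↥(chevG2.diagonalSubgroup K ⊓ twistedG2 K e) * (1 + Fintype.card K ^ 3) := by
  classical
  have hG1le : twistedG2 K e ≤ chevG2.group K := by
    intro g hg
    exact (twisted_fixed FD α hα g hg).1
  let T := twG2 FD α hα
  have lift' : ∀ n ∈ (ambΓ (K := K)).N, n⁻¹ * T.τ n ∈ (ambΓ (K := K)).H →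
      ∃ n₁ ∈ (ambΓ (K := K)).N, n₁ ∈ T.G1 ∧ n₁⁻¹ * n ∈ (ambΓ (K := K)).H := by
    intro n hn hh
    obtain ⟨n₁, h1, h2, h3⟩ := lift_N FD α hα hn hh
    exact ⟨⟨n₁, N_le_group h1⟩, h1, h2, h3⟩
  have fixUw' : ∀ n ∈ (ambΓ (K := K)).N, n ∈ T.G1 → ∀ u ∈ (ambΓ (K := K)).Uw n, T.τ u = u → u ∈ T.G1 :=
    fun n _ _ u hu hfix => fixU_mem FD α hα (Uw_le_pos chevG2 _ hu) hfix
  have hfixU : ∀ u ∈ (ambΓ (K := K)).U, T.τ u = u → u ∈ T.G1 :=
    fun u hu hfix => fixU_mem FD α hα hu hfix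
  let ψ : ↥((ambΓ (K := K)).N ⊓ T.G1) → Bool := fun n =>
    decide (((n : ↥(chevG2.group K)) : GL chevG2.Idx K) ∈ chevG2.diagonalSubgroup K)
  have hψs : Function.Surjective ψ := by
    intro b
    cases b
    · refine ⟨⟨⟨n0, N_le_group n0_mem_N⟩, n0_mem_N, n0_mem_twisted FD⟩, ?_⟩
      exact decide_eq_false n0_not_mem_H
    · refine ⟨1, ?_⟩
      exact decide_eq_true (one_mem _)
  have hψ : ∀ n n' : ↥((ambΓ (K := K)).N ⊓ T.G1), ψ n = ψ n' ↔
      ((n : ↥(chevG2.group K)))⁻¹ * (n' : ↥(chevG2.group K)) ∈ (ambΓ (K := K)).H := by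
    intro n n'
    have hnN : ((n : ↥(chevG2.group K)) : GL chevG2.Idx K) ∈ chevG2.monomialSubgroup K := n.2.1
    have hnG : ((n : ↥(chevG2.group K)) : GL chevG2.Idx K) ∈ twistedG2 K e := n.2.2
    have hnN' : ((n' : ↥(chevG2.group K)) : GL chevG2.Idx K) ∈ chevG2.monomialSubgroup K := n'.2.1
    have hnG' : ((n' : ↥(chevG2.group K)) : GL chevG2.Idx K) ∈ twistedG2 K e := n'.2.2
    change decide _ = decide _ ↔
      (((n : ↥(chevG2.group K)) : GL chevG2.Idx K))⁻¹ * ((n' : ↥(chevG2.group K)) : GL chevG2.Idx K) ∈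
        chevG2.diagonalSubgroup K
    rw [decide_eq_decide]
    constructor
    · intro hiff
      by_cases h : ((n : ↥(chevG2.group K)) : GL chevG2.Idx K) ∈ chevG2.diagonalSubgroup K
      · exact mul_mem (inv_mem h) (hiff.1 h)
      · have h' : ((n' : ↥(chevG2.group K)) : GL chevG2.Idx K) ∉ chevG2.diagonalSubgroup K :=
          fun hc => h (hiff.2 hc)
        have hi : (((n : ↥(chevG2.group K)) : GL chevG2.Idx K))⁻¹ ∉ chevG2.diagonalSubgroup K :=
          fun hc => h (by have := inv_mem hc; rwa [inv_inv] at this)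
        exact mul_mem_H FD α hα (inv_mem hnN) (inv_mem hnG) hnN' hnG' hi h'
    · intro hm
      constructor
      · intro h
        have := mul_mem h hm
        rwa [mul_inv_cancel_left] at this
      · intro h
        have := mul_mem h (inv_mem hm)
        rw [mul_inv_rev, inv_inv, ← mul_assoc, mul_inv_cancel, one_mul] at this
        exact this
  let F : Bool → ℕ := fun b => if b then 1 else Fintype.card K ^ 3
  have hF : ∀ n : ↥((ambΓ (K := K)).N ⊓ T.G1),
      Nat.card ↥(T.FixUw (n : ↥(chevG2.group K))) = F (ψ n) := by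
    intro n
    have hnN : ((n : ↥(chevG2.group K)) : GL chevG2.Idx K) ∈ chevG2.monomialSubgroup K := n.2.1
    have hnG : ((n : ↥(chevG2.group K)) : GL chevG2.Idx K) ∈ twistedG2 K e := n.2.2
    by_cases h : ((n : ↥(chevG2.group K)) : GL chevG2.Idx K) ∈ chevG2.diagonalSubgroup K
    · have e1 : ψ n = true := decide_eq_true h
      rw [e1]
      change _ = 1
      rw [Subgroup.card_eq_one, eq_bot_iff]
      intro x hx
      have h2 : (ambΓ (K := K)).Uw (n : ↥(chevG2.group K)) = ⊥ := (ambΓ (K := K)).Uw_of_mem_H h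
      rw [← h2]
      exact hx.1
    · have e1 : ψ n = false := decide_eq_false h
      rw [e1]
      change _ = Fintype.card K ^ 3
      rw [← card_U1 FD α hα]
      have hUw := Uw_of_not_mem_H FD α hα hnN hnG h
      have hmem1 : ∀ x : ↥(chevG2.group K), x ∈ (ambΓ (K := K)).Uw (n : ↥(chevG2.group K)) →
          (x : GL chevG2.Idx K) ∈ chevG2.posUnipotent K := by
        intro x hx
        have : (x : GL chevG2.Idx K) ∈ Uw chevG2 ((n : ↥(chevG2.group K)) : GL chevG2.Idx K) := hx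
        rwa [hUw] at this
      have hmem2 : ∀ (y : GL chevG2.Idx K) (hy : y ∈ chevG2.group K), y ∈ chevG2.posUnipotent K →
          (⟨y, hy⟩ : ↥(chevG2.group K)) ∈ (ambΓ (K := K)).Uw (n : ↥(chevG2.group K)) := by
        intro y hy h
        change y ∈ Uw chevG2 ((n : ↥(chevG2.group K)) : GL chevG2.Idx K)
        rw [hUw]
        exact h
      apply Nat.card_congr
      exact
        { toFun := fun x => ⟨((x : ↥(chevG2.group K)) : GL chevG2.Idx K),
            ⟨hmem1 _ x.2.1, fixU_mem FD α hα (hmem1 _ x.2.1) x.2.2⟩⟩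
          invFun := fun y => ⟨⟨(y : GL chevG2.Idx K), U_le_group y.2.1⟩,
            ⟨hmem2 _ _ y.2.1, (twisted_fixed FD α hα _ y.2.2).2⟩⟩
          left_inv := fun x => rfl
          right_inv := fun y => rfl }
  have hfin : Finite ↥(chevG2.group K) := inferInstance
  have hG := T.card_G1 lift' fixUw' ψ hψs hψ F hF
  have hB := T.card_B1 hfixU
  rw [hB] at hG
  have c1 : Nat.card ↥T.G1 = Nat.card ↥(twistedG2 K e) :=
    Nat.card_congr (Subgroup.subgroupOfEquivOfLe hG1le).toEquiv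
  have c2 : Nat.card ↥((ambΓ (K := K)).U ⊓ T.G1) = Nat.card ↥(chevG2.posUnipotent K ⊓ twistedG2 K e) :=
    card_inf_subgroupOf _ _ _ (le_trans inf_le_right hG1le)
  have c3 : Nat.card ↥((ambΓ (K := K)).H ⊓ T.G1) = Nat.card ↥(chevG2.diagonalSubgroup K ⊓ twistedG2 K e) :=
    card_inf_subgroupOf _ _ _ (le_trans inf_le_right hG1le)
  rw [c1, c2, c3, Fintype.sum_bool] at hG
  exact hG

end

end Cfsg.Agent.Helper6.ReeS
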