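import Cfsg.Agent.Lib.Helper6.BNLength

set_option autoImplicit false

namespace Cfsg.Agent.Helper6

open Cfsg

variable {G : Type*} [Group G] (P : Cfsg.BNPair G)

/-- auxiliary one-sided form of uniqueness, by induction on the smaller length -/
theorem bruhat_unique_aux (k : ℕ) : ∀ n ∈ P.N, ∀ n' ∈ P.N, len P n = k → k ≤ len P n' →
    C P n = C P n' → n⁻¹ * n' ∈ P.B := by
  induction k with
  | zero =>
    intro n hn n' hn' hk _ hC
    have hnB : n ∈ P.B := (len_eq_zero_iff P hn).1 hk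
    have h1 : n' ∈ C P n := by rw [hC]; exact self_mem_C P n'
    have h2 : n' ∈ P.B := (mem_C_iff_mem_B P hnB).1 h1
    exact P.B.mul_mem (P.B.inv_mem hnB) h2
  | succ k ih =>
    intro n hn n' hn' hk hle hC
    obtain ⟨s, hs, hm⟩ := exists_peel_left P hn hk
    have hsN : s ∈ P.N := P.subset hs
    have hmN : s⁻¹ * n ∈ P.N := P.N.mul_mem (P.N.inv_mem hsN) hn
    -- m = s⁻¹ n ∈ s⁻¹ C(n')
    have h1 : n ∈ C P n' := by rw [← hC]; exact self_mem_C P n
    obtain ⟨b, hb, b', hb', hnb⟩ := (mem_C P).1 h1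
    have h2 : s⁻¹ * n = (s⁻¹ * b * n') * b' := by rw [hnb]; group
    have h3 : s⁻¹ * n ∈ C P (s * n') ∨ s⁻¹ * n ∈ C P n' := by
      rw [h2]
      rcases T3_left_inv P hs hn' hb with h | h
      · exact Or.inl (mul_right_mem_C P hb' h)
      · exact Or.inr (mul_right_mem_C P hb' h)
    have hlen_sn' : k ≤ len P (s * n') := by
      have := len_le_len_S_mul P hs hn'
      omega
    rcases h3 with h3 | h3
    · have h4 := ih (s⁻¹ * n) hmN (s * n') (P.N.mul_mem hsN hn') hm hlen_sn' (C_eq_of_mem P h3)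
      -- n⁻¹ n' = (s⁻¹ n)⁻¹ (s n') * (n'⁻¹ (s s)⁻¹ n')
      have e : n⁻¹ * n' = ((s⁻¹ * n)⁻¹ * (s * n')) * (n'⁻¹ * (s * s)⁻¹ * n') := by group
      rw [e]
      exact P.B.mul_mem h4 (conj_mem_T' P hn' ((P.B ⊓ P.N).inv_mem (sq_mem_T P hs))).1
    · have h4 := ih (s⁻¹ * n) hmN n' hn' hm (by omega) (C_eq_of_mem P h3)
      have := len_congr P h4
      omega

/-- Bruhat decomposition, uniqueness -/
theorem bruhat_unique {n n' : G} (hn : n ∈ P.N) (hn' : n' ∈ P.N) (hC : C P n = C P n') :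
    n⁻¹ * n' ∈ P.B := by
  rcases le_total (len P n) (len P n') with h | h
  · exact bruhat_unique_aux P _ n hn n' hn' rfl h hC
  · exact eqv_symm P (bruhat_unique_aux P _ n' hn' n hn rfl h hC.symm)

theorem bruhat_unique_iff {n n' : G} (hn : n ∈ P.N) (hn' : n' ∈ P.N) :
    C P n = C P n' ↔ n⁻¹ * n' ∈ P.B :=
  ⟨bruhat_unique P hn hn', C_congr P⟩

/-- Lemma A (left): if `len (s n) ≥ len n` then `s B n ⊆ B s n B`. -/
theorem lemmaA_aux (k : ℕ) : ∀ n ∈ P.N, ∀ s ∈ P.S, len P n = k → len P n ≤ len P (s * n) →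
    ∀ b ∈ P.B, s * b * n ∈ C P (s * n) := by
  induction k with
  | zero =>
    intro n hn s hs hk _ b hb
    have hnB : n ∈ P.B := (len_eq_zero_iff P hn).1 hk
    refine (mem_C P).2 ⟨1, P.B.one_mem, n⁻¹ * b * n, ?_, by group⟩
    exact P.B.mul_mem (P.B.mul_mem (P.B.inv_mem hnB) hb) hnB
  | succ k ih =>
    intro n hn s hs hk hle b hb
    by_contra hcon
    have hsN : s ∈ P.N := P.subset hs
    have h0 : s * b * n ∈ C P n := by
      rcases T3_left P hs hn hb with h | h
      · exact absurd h hcon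
      · exact h
    obtain ⟨s', hs', hm⟩ := exists_peel_right P hn hk
    have hs'N : s' ∈ P.N := P.subset hs'
    set n' := n * s'⁻¹ with hn'def
    have hn'N : n' ∈ P.N := P.N.mul_mem hn (P.N.inv_mem hs'N)
    have hnn' : n = n' * s' := by rw [hn'def]; group
    -- len n' ≤ len (s n')
    have hle' : len P n' ≤ len P (s * n') := by
      have h1 := len_mul_S_le P hs' (P.N.mul_mem hsN hn'N)
      have e : s * n' * s' = s * n := by rw [hnn']; group
      rw [e] at h1
      omega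
    have hIH := ih n' hn'N s hs hm hle' b hb
    -- s b n' ∈ C(n) C(s'⁻¹) ⊆ C(n s') ∪ C(n)
    obtain ⟨b1, hb1, b2, hb2, h0e⟩ := (mem_C P).1 h0
    have e1 : s * b * n' = b1 * (n * b2 * s'⁻¹) := by
      have : s * b * n' = (s * b * n) * s'⁻¹ := by rw [hn'def]; group
      rw [this, h0e]; group
    have h2 : s * b * n' ∈ C P (n * s') ∨ s * b * n' ∈ C P n := by
      rw [e1]
      rcases T3_right_inv P hs' hn hb2 with h | h
      · exact Or.inl (mul_left_mem_C P hb1 h)
      · exact Or.inr (mul_left_mem_C P hb1 h)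
    have hCns' : C P (n * s') = C P n' := by
      apply C_congr
      have : n * s' = n' * s' * s' := by rw [hnn']
      rw [this]
      exact eqv_mul_SS P hs'
    rcases h2 with h2 | h2
    · rw [hCns'] at h2
      have h3 := bruhat_unique P (P.N.mul_mem hsN hn'N) hn'N (C_eq_of_mem_of_mem P hIH h2)
      exact not_S_mul_eqv P hs hn'N h3
    · have h3 := bruhat_unique P (P.N.mul_mem hsN hn'N) hn (C_eq_of_mem_of_mem P hIH h2)
      -- s n' ≡ n = n' s'  ⟹  s n ≡ n'
      have h4 := eqv_mul_right P (P.N.mul_mem hsN hn'N) hn hs'N h3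
      have e2 : s * n' * s' = s * n := by rw [hnn']; group
      rw [e2] at h4
      have h5 : (s * n)⁻¹ * n' ∈ P.B := by
        refine eqv_trans P h4 ?_
        rw [hnn']
        exact eqv_mul_SS P hs'
      have := len_congr P h5
      omega

theorem lemmaA {s n b : G} (hs : s ∈ P.S) (hn : n ∈ P.N) (hle : len P n ≤ len P (s * n))
    (hb : b ∈ P.B) : s * b * n ∈ C P (s * n) :=
  lemmaA_aux P _ n hn s hs rfl hle b hb

/-- Lemma B (left): if `len (s n) ≤ len n` then `s B n` meets `B n B`. -/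
theorem lemmaB {s n : G} (hs : s ∈ P.S) (hn : n ∈ P.N) (hle : len P (s * n) ≤ len P n) :
    ∃ b ∈ P.B, s * b * n ∈ C P n := by
  have hsN : s ∈ P.N := P.subset hs
  set n' := s⁻¹ * n with hn'def
  have hn'N : n' ∈ P.N := P.N.mul_mem (P.N.inv_mem hsN) hn
  have hnn' : n = s * n' := by rw [hn'def]; group
  have h1 : len P n' ≤ len P (s * n') := by
    rw [← hnn']
    have : len P n' = len P (s * n) := by
      rw [hn'def]; exact len_Sinv_mul P hs hn
    omega
  obtain ⟨b0, hb0, hsbs⟩ := exists_sbs_mem_C P hs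
  obtain ⟨b1, hb1, b2, hb2, e⟩ := (mem_C P).1 hsbs
  refine ⟨b0, hb0, ?_⟩
  have e2 : s * b0 * n = b1 * (s * b2 * n') := by
    rw [hnn']
    have : s * b0 * (s * n') = (s * b0 * s) * n' := by group
    rw [this, e]; group
  rw [e2]
  have := lemmaA P hs hn'N h1 hb2
  rw [← hnn'] at this
  exact mul_left_mem_C P hb1 this

/-- Lemma C: `len (s n) ≠ len n`. -/
theorem len_S_mul_ne {s n : G} (hs : s ∈ P.S) (hn : n ∈ P.N) : len P (s * n) ≠ len P n := by
  intro h
  obtain ⟨b, hb, h1⟩ := lemmaB P hs hn h.le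
  have h2 := lemmaA P hs hn h.ge hb
  have h3 := bruhat_unique P (P.N.mul_mem (P.subset hs) hn) hn (C_eq_of_mem_of_mem P h2 h1)
  exact not_S_mul_eqv P hs hn h3

theorem len_S_mul_cases {s n : G} (hs : s ∈ P.S) (hn : n ∈ P.N) :
    len P (s * n) = len P n + 1 ∨ len P (s * n) + 1 = len P n := by
  have h1 := len_S_mul_le P hs hn
  have h2 := len_le_len_S_mul P hs hn
  have h3 := len_S_mul_ne P hs hn
  omega

theorem len_mul_S_ne {s n : G} (hs : s ∈ P.S) (hn : n ∈ P.N) : len P (n * s) ≠ len P n := by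
  rw [len_mul_S_eq P hs hn, ← len_inv P hn]
  exact len_S_mul_ne P hs (P.N.inv_mem hn)

theorem len_mul_S_cases {s n : G} (hs : s ∈ P.S) (hn : n ∈ P.N) :
    len P (n * s) = len P n + 1 ∨ len P (n * s) + 1 = len P n := by
  have h1 := len_mul_S_le P hs hn
  have h2 := len_le_len_mul_S P hs hn
  have h3 := len_mul_S_ne P hs hn
  omega

/-- condition (C): if `len (s n) > len n` and `len (s n s') < len (n s')` then `s n ≡ n s'`. -/
theorem condC {s s' n : G} (hs : s ∈ P.S) (hs' : s' ∈ P.S) (hn : n ∈ P.N)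
    (h1 : len P n < len P (s * n)) (h2 : len P (s * (n * s')) < len P (n * s')) :
    (s * n)⁻¹ * (n * s') ∈ P.B := by
  have hsN := P.subset hs
  have hs'N := P.subset hs'
  have hns' : n * s' ∈ P.N := P.N.mul_mem hn hs'N
  obtain ⟨b, hb, h3⟩ := lemmaB P hs hns' h2.le
  have h4 := lemmaA P hs hn h1.le hb
  -- s b n s' ∈ C(s n) s' ⊆ C(s n s') ∪ C(s n)
  have h5 : s * b * (n * s') ∈ C P (s * n * s') ∨ s * b * (n * s') ∈ C P (s * n) := by
    have e : s * b * (n * s') = (s * b * n) * s' := by group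
    rw [e]
    exact T3_right' P hs' (P.N.mul_mem hsN hn) h4 (self_mem_C P s')
  rcases h5 with h5 | h5
  · exfalso
    have h6 := bruhat_unique P (P.N.mul_mem (P.N.mul_mem hsN hn) hs'N) hns'
      (C_eq_of_mem_of_mem P h5 h3)
    have e : s * n * s' = s * (n * s') := by group
    rw [e] at h6
    exact not_S_mul_eqv P hs hns' h6
  · exact bruhat_unique P (P.N.mul_mem hsN hn) hns' (C_eq_of_mem_of_mem P h5 h3)

/-! ### reduced words -/

/-- `L` is a reduced word for `n` -/
def Red (L : List G) (n : G) : Prop := Rep P L n ∧ L.length = len P n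

theorem exists_red {n : G} (hn : n ∈ P.N) : ∃ L, Red P L n := exists_rep_len P hn

theorem Red.tail {s : G} {L : List G} {n : G} (h : Red P (s :: L) n) (hn : n ∈ P.N) :
    Red P L (s⁻¹ * n) := by
  have hs : s ∈ P.S := h.1.1 s (by simp)
  have hsn : s⁻¹ * n ∈ P.N := P.N.mul_mem (P.N.inv_mem (P.subset hs)) hn
  refine ⟨h.1.tail, ?_⟩
  have h1 := len_le_of_rep P h.1.tail
  have h2 := len_S_mul_le P hs hsn
  have e : s * (s⁻¹ * n) = n := by group
  rw [e] at h2
  have h3 := h.2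
  rw [List.length_cons] at h3
  omega

theorem Red.len_tail_lt {s : G} {L : List G} {n : G} (h : Red P (s :: L) n) (hn : n ∈ P.N) :
    len P (s⁻¹ * n) < len P n := by
  have := (h.tail P hn).2
  have h3 := h.2
  rw [List.length_cons] at h3
  omega

/-- Lemma 2: the letters of a reduced word of `n` lie in every subgroup containing `B` and
`n B n⁻¹`. -/
theorem letters_mem_of_red {L : List G} : ∀ {n : G}, n ∈ P.N → Red P L n →
    ∀ M : Subgroup G, P.B ≤ M → (∀ b ∈ P.B, n * b * n⁻¹ ∈ M) → ∀ x ∈ L, x ∈ M := by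
  induction L with
  | nil => intro n _ _ M _ _ x hx; simp at hx
  | cons s L ih =>
    intro n hn hred M hBM hconj x hx
    have hs : s ∈ P.S := hred.1.1 s (by simp)
    have hsN := P.subset hs
    have hsn : s⁻¹ * n ∈ P.N := P.N.mul_mem (P.N.inv_mem hsN) hn
    have hlt := hred.len_tail_lt P hn
    have hle : len P (s * n) ≤ len P n := by
      rw [← len_Sinv_mul P hs hn]; exact hlt.le
    obtain ⟨b, hb, h1⟩ := lemmaB P hs hn hle
    obtain ⟨b1, hb1, b2, hb2, e⟩ := (mem_C P).1 h1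
    clear hlt hle
    have hsM : s ∈ M := by
      have : s = b1 * (n * b2 * n⁻¹) * b⁻¹ := by
        have : s = (s * b * n) * n⁻¹ * b⁻¹ := by group
        rw [this, e]; group
      rw [this]
      exact M.mul_mem (M.mul_mem (hBM hb1) (hconj b2 hb2)) (hBM (P.B.inv_mem hb))
    rcases List.mem_cons.1 hx with rfl | hx
    · exact hsM
    · refine ih hsn (hred.tail P hn) M hBM ?_ x hx
      intro b hb
      have : s⁻¹ * n * b * (s⁻¹ * n)⁻¹ = s⁻¹ * (n * b * n⁻¹) * s := by group
      rw [this]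
      exact M.mul_mem (M.mul_mem (M.inv_mem hsM) (hconj b hb)) hsM

/-- `n` lies in any subgroup containing `B` and `n B n⁻¹` -/
theorem mem_of_conj_B_le {n : G} (hn : n ∈ P.N) (M : Subgroup G) (hBM : P.B ≤ M)
    (hconj : ∀ b ∈ P.B, n * b * n⁻¹ ∈ M) : n ∈ M := by
  obtain ⟨L, hL⟩ := exists_red P hn
  have h1 := letters_mem_of_red P hn hL M hBM hconj
  have h2 : L.prod ∈ M := Subgroup.list_prod_mem _ h1
  have h3 : L.prod⁻¹ * n ∈ M := hBM hL.1.2
  have : n = L.prod * (L.prod⁻¹ * n) := by group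
  rw [this]
  exact M.mul_mem h2 h3

/-- the letters of a reduced word of `n` lie in every subgroup containing `B` and `n` -/
theorem letters_mem_of_red' {L : List G} {n : G} (hn : n ∈ P.N) (hL : Red P L n)
    (M : Subgroup G) (hBM : P.B ≤ M) (hnM : n ∈ M) : ∀ x ∈ L, x ∈ M :=
  letters_mem_of_red P hn hL M hBM
    (fun _ hb => M.mul_mem (M.mul_mem hnM (hBM hb)) (M.inv_mem hnM))

end Cfsg.Agent.Helper6
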