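import Mathlib
import Cfsg.Prelude.Def_LieExceptional

set_option autoImplicit false

namespace Cfsg.Agent.Helper6

open Cfsg

variable {G : Type*} [Group G] (P : Cfsg.BNPair G)

/-- the double coset `B n B` -/
def C (n : G) : Set G := DoubleCoset.doubleCoset n (P.B : Set G) P.B

theorem C_def (n : G) : C P n = DoubleCoset.doubleCoset n (P.B : Set G) P.B := rfl

theorem mem_C {n g : G} : g ∈ C P n ↔ ∃ b ∈ P.B, ∃ b' ∈ P.B, g = b * n * b' := by
  unfold C
  rw [DoubleCoset.mem_doubleCoset]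
  rfl

theorem self_mem_C (n : G) : n ∈ C P n := DoubleCoset.mem_doubleCoset_self _ _ _

theorem C_eq_of_mem {n g : G} (h : g ∈ C P n) : C P g = C P n :=
  DoubleCoset.doubleCoset_eq_of_mem h

theorem C_eq_of_mem_of_mem {n n' g : G} (h : g ∈ C P n) (h' : g ∈ C P n') : C P n = C P n' := by
  rw [← C_eq_of_mem P h, C_eq_of_mem P h']

theorem mul_mem_C {n g b b' : G} (hb : b ∈ P.B) (hb' : b' ∈ P.B) (h : g ∈ C P n) :
    b * g * b' ∈ C P n := by
  obtain ⟨c, hc, c', hc', rfl⟩ := (mem_C P).1 h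
  exact (mem_C P).2 ⟨b * c, P.B.mul_mem hb hc, c' * b', P.B.mul_mem hc' hb', by group⟩

theorem mul_left_mem_C {n g b : G} (hb : b ∈ P.B) (h : g ∈ C P n) : b * g ∈ C P n := by
  simpa using mul_mem_C P hb P.B.one_mem h

theorem mul_right_mem_C {n g b : G} (hb : b ∈ P.B) (h : g ∈ C P n) : g * b ∈ C P n := by
  simpa using mul_mem_C P P.B.one_mem hb h

theorem C_mul_right {n b : G} (hb : b ∈ P.B) : C P (n * b) = C P n :=
  C_eq_of_mem P (mul_right_mem_C P hb (self_mem_C P n))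

theorem C_mul_left {n b : G} (hb : b ∈ P.B) : C P (b * n) = C P n :=
  C_eq_of_mem P (mul_left_mem_C P hb (self_mem_C P n))

theorem C_of_mem_B {b : G} (hb : b ∈ P.B) : C P b = (P.B : Set G) := by
  ext g
  rw [mem_C]
  constructor
  · rintro ⟨c, hc, c', hc', rfl⟩
    exact P.B.mul_mem (P.B.mul_mem hc hb) hc'
  · intro hg
    exact ⟨g * b⁻¹, P.B.mul_mem hg (P.B.inv_mem hb), 1, P.B.one_mem, by group⟩

theorem C_one : C P 1 = (P.B : Set G) := C_of_mem_B P P.B.one_mem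

theorem mem_C_iff_mem_B {b g : G} (hb : b ∈ P.B) : g ∈ C P b ↔ g ∈ P.B := by
  rw [C_of_mem_B P hb]; rfl

theorem inv_mem_C {n g : G} (h : g ∈ C P n) : g⁻¹ ∈ C P n⁻¹ := by
  obtain ⟨c, hc, c', hc', rfl⟩ := (mem_C P).1 h
  exact (mem_C P).2 ⟨c'⁻¹, P.B.inv_mem hc', c⁻¹, P.B.inv_mem hc, by group⟩

/-- the relation "same left coset of `B`" -/
theorem C_congr {n n' : G} (h : n⁻¹ * n' ∈ P.B) : C P n = C P n' := by
  have : n' = n * (n⁻¹ * n') := by group
  rw [this, C_mul_right P h]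

theorem S_mem_N {s : G} (hs : s ∈ P.S) : s ∈ P.N := P.subset hs

theorem sq_mem_T {s : G} (hs : s ∈ P.S) : s * s ∈ P.B ⊓ P.N :=
  ⟨P.sq_mem s hs, P.N.mul_mem (P.subset hs) (P.subset hs)⟩

theorem T_le_B : P.B ⊓ P.N ≤ P.B := inf_le_left
theorem T_le_N : P.B ⊓ P.N ≤ P.N := inf_le_right

/-- conjugation of `T` by elements of `N` (both directions) -/
theorem conj_mem_T {n t : G} (hn : n ∈ P.N) (ht : t ∈ P.B ⊓ P.N) : n * t * n⁻¹ ∈ P.B ⊓ P.N :=
  ⟨P.conj_mem n hn t ht, P.N.mul_mem (P.N.mul_mem hn ht.2) (P.N.inv_mem hn)⟩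

theorem conj_mem_T' {n t : G} (hn : n ∈ P.N) (ht : t ∈ P.B ⊓ P.N) : n⁻¹ * t * n ∈ P.B ⊓ P.N := by
  simpa using conj_mem_T P (P.N.inv_mem hn) ht

theorem closure_le_N {J : Set G} (hJ : J ⊆ P.S) : Subgroup.closure J ≤ P.N :=
  (Subgroup.closure_le _).2 (fun _ hx => P.subset (hJ hx))

/-- left-handed (T3) in a flexible form -/
theorem T3_left {s n b : G} (hs : s ∈ P.S) (hn : n ∈ P.N) (hb : b ∈ P.B) :
    s * b * n ∈ C P (s * n) ∨ s * b * n ∈ C P n := P.mul_mem_union s hs n hn b hb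

theorem T3_left' {s n g h : G} (hs : s ∈ P.S) (hn : n ∈ P.N) (hg : g ∈ C P s) (hh : h ∈ C P n) :
    g * h ∈ C P (s * n) ∨ g * h ∈ C P n := by
  obtain ⟨b1, hb1, b2, hb2, rfl⟩ := (mem_C P).1 hg
  obtain ⟨b3, hb3, b4, hb4, rfl⟩ := (mem_C P).1 hh
  have key : b1 * s * b2 * (b3 * n * b4) = b1 * (s * (b2 * b3) * n) * b4 := by group
  rw [key]
  rcases T3_left P hs hn (P.B.mul_mem hb2 hb3) with h | h
  · exact Or.inl (mul_mem_C P hb1 hb4 h)
  · exact Or.inr (mul_mem_C P hb1 hb4 h)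

/-- `s⁻¹ = s * (s*s)⁻¹` -/
theorem S_inv_eq {s : G} : s⁻¹ = s * (s * s)⁻¹ := by group

theorem S_inv_eq' {s : G} : s⁻¹ = (s * s)⁻¹ * s := by group

theorem C_S_inv {s : G} (hs : s ∈ P.S) : C P s⁻¹ = C P s := by
  rw [S_inv_eq (s := s)]
  exact C_mul_right P (P.B.inv_mem (P.sq_mem s hs))

/-- `C (s⁻¹ * n) = C (s * n)` -/
theorem C_S_inv_mul {s n : G} (hs : s ∈ P.S) : C P (s⁻¹ * n) = C P (s * n) := by
  have : s⁻¹ * n = (s * s)⁻¹ * (s * n) := by group
  rw [this]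
  exact C_mul_left P (P.B.inv_mem (P.sq_mem s hs))

theorem C_mul_S_inv {s n : G} (hs : s ∈ P.S) : C P (n * s⁻¹) = C P (n * s) := by
  have : n * s⁻¹ = (n * s) * (s * s)⁻¹ := by group
  rw [this]
  exact C_mul_right P (P.B.inv_mem (P.sq_mem s hs))

/-- (T3) for `s⁻¹` -/
theorem T3_left_inv {s n b : G} (hs : s ∈ P.S) (hn : n ∈ P.N) (hb : b ∈ P.B) :
    s⁻¹ * b * n ∈ C P (s * n) ∨ s⁻¹ * b * n ∈ C P n := by
  have : s⁻¹ * b * n = s * ((s * s)⁻¹ * b) * n := by group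
  rw [this]
  exact T3_left P hs hn (P.B.mul_mem (P.B.inv_mem (P.sq_mem s hs)) hb)

/-- right-handed (T3) -/
theorem T3_right {s n b : G} (hs : s ∈ P.S) (hn : n ∈ P.N) (hb : b ∈ P.B) :
    n * b * s ∈ C P (n * s) ∨ n * b * s ∈ C P n := by
  have h := T3_left_inv P hs (P.N.inv_mem hn) (P.B.inv_mem hb)
  have e : n * b * s = (s⁻¹ * b⁻¹ * n⁻¹)⁻¹ := by group
  rcases h with h | h
  · left
    have := inv_mem_C P h
    rw [← e] at this
    have e2 : (s * n⁻¹)⁻¹ = n * s⁻¹ := by group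
    rw [e2, C_mul_S_inv P hs] at this
    exact this
  · right
    have := inv_mem_C P h
    rw [← e, inv_inv] at this
    exact this

theorem T3_right_inv {s n b : G} (hs : s ∈ P.S) (hn : n ∈ P.N) (hb : b ∈ P.B) :
    n * b * s⁻¹ ∈ C P (n * s) ∨ n * b * s⁻¹ ∈ C P n := by
  have : n * b * s⁻¹ = n * (b * (s * s)⁻¹) * s := by group
  rw [this]
  exact T3_right P hs hn (P.B.mul_mem hb (P.B.inv_mem (P.sq_mem s hs)))

theorem T3_right' {s n g h : G} (hs : s ∈ P.S) (hn : n ∈ P.N) (hg : g ∈ C P n) (hh : h ∈ C P s) :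
    g * h ∈ C P (n * s) ∨ g * h ∈ C P n := by
  obtain ⟨b1, hb1, b2, hb2, rfl⟩ := (mem_C P).1 hg
  obtain ⟨b3, hb3, b4, hb4, rfl⟩ := (mem_C P).1 hh
  have key : b1 * n * b2 * (b3 * s * b4) = b1 * (n * (b2 * b3) * s) * b4 := by group
  rw [key]
  rcases T3_right P hs hn (P.B.mul_mem hb2 hb3) with h | h
  · exact Or.inl (mul_mem_C P hb1 hb4 h)
  · exact Or.inr (mul_mem_C P hb1 hb4 h)

theorem S_not_mem_B {s : G} (hs : s ∈ P.S) : s ∉ P.B := by
  intro hsB
  apply P.conj_ne s hs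
  ext g
  constructor
  · rintro ⟨b, hb, rfl⟩
    exact P.B.mul_mem (P.B.mul_mem hsB hb) hsB
  · intro hg
    exact ⟨s⁻¹ * g * s⁻¹, P.B.mul_mem (P.B.mul_mem (P.B.inv_mem hsB) hg) (P.B.inv_mem hsB), by
      simp only; group⟩

/-- there is `b ∈ B` with `s b s ∈ B s B` -/
theorem exists_sbs_mem_C {s : G} (hs : s ∈ P.S) : ∃ b ∈ P.B, s * b * s ∈ C P s := by
  have hss := P.sq_mem s hs
  have key : ∃ b ∈ P.B, s * b * s ∉ P.B := by
    by_contra hcon
    push Not at hcon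
    apply P.conj_ne s hs
    ext g
    constructor
    · rintro ⟨b, hb, rfl⟩
      exact hcon b hb
    · intro hg
      refine ⟨s⁻¹ * g * s⁻¹, ?_, by simp only; group⟩
      have e : s⁻¹ * g * s⁻¹ = (s * s)⁻¹ * (s * g * s) * (s * s)⁻¹ := by group
      rw [e]
      exact P.B.mul_mem (P.B.mul_mem (P.B.inv_mem hss) (hcon g hg)) (P.B.inv_mem hss)
  obtain ⟨b, hb, hnb⟩ := key
  refine ⟨b, hb, ?_⟩
  rcases T3_left P hs (P.subset hs) hb with h | h
  · exact absurd ((mem_C_iff_mem_B P hss).1 h) hnb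
  · exact h

/-- `B ⊔ closure S = ⊤` -/
theorem parabolic_S : P.parabolic P.S = ⊤ := by
  unfold BNPair.parabolic
  rw [eq_top_iff, ← P.sup_eq_top]
  apply sup_le le_sup_left
  conv_lhs => rw [← P.closure_sup]
  apply sup_le le_sup_right
  exact le_trans inf_le_left le_sup_left

/-- the decomposition `P_J = B W_J B` -/
theorem mem_parabolic_iff {J : Set G} (hJ : J ⊆ P.S) (g : G) :
    g ∈ P.parabolic J ↔ ∃ n ∈ Subgroup.closure J, g ∈ C P n := by
  constructor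
  · intro hg
    unfold BNPair.parabolic at hg
    have hcl : P.B ⊔ Subgroup.closure J = Subgroup.closure ((P.B : Set G) ∪ J) := by
      rw [Subgroup.closure_union, Subgroup.closure_eq]
    rw [hcl] at hg
    induction hg using Subgroup.closure_induction_left with
    | one => exact ⟨1, Subgroup.one_mem _, by rw [C_one]; exact P.B.one_mem⟩
    | mul_left x hx y _ ih =>
      obtain ⟨n, hn, hy⟩ := ih
      rcases hx with hx | hx
      · exact ⟨n, hn, mul_left_mem_C P hx hy⟩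
      · have hnN : n ∈ P.N := closure_le_N P hJ hn
        rcases T3_left' P (hJ hx) hnN (self_mem_C P x) hy with h | h
        · exact ⟨x * n, Subgroup.mul_mem _ (Subgroup.subset_closure hx) hn, h⟩
        · exact ⟨n, hn, h⟩
    | inv_mul_cancel x hx y _ ih =>
      obtain ⟨n, hn, hy⟩ := ih
      rcases hx with hx | hx
      · exact ⟨n, hn, mul_left_mem_C P (P.B.inv_mem hx) hy⟩
      · have hnN : n ∈ P.N := closure_le_N P hJ hn
        have hxi : x⁻¹ ∈ C P x := by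
          rw [← C_S_inv P (hJ hx)]; exact self_mem_C P _
        rcases T3_left' P (hJ hx) hnN hxi hy with h | h
        · exact ⟨x * n, Subgroup.mul_mem _ (Subgroup.subset_closure hx) hn, h⟩
        · exact ⟨n, hn, h⟩
  · rintro ⟨n, hn, hg⟩
    obtain ⟨b, hb, b', hb', rfl⟩ := (mem_C P).1 hg
    unfold BNPair.parabolic
    have h1 : b ∈ P.B ⊔ Subgroup.closure J := Subgroup.mem_sup_left hb
    have h2 : b' ∈ P.B ⊔ Subgroup.closure J := Subgroup.mem_sup_left hb'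
    have h3 : n ∈ P.B ⊔ Subgroup.closure J := Subgroup.mem_sup_right hn
    exact Subgroup.mul_mem _ (Subgroup.mul_mem _ h1 h3) h2

/-- Bruhat decomposition, existence -/
theorem bruhat_exists (g : G) : ∃ n ∈ P.N, g ∈ C P n := by
  have hg : g ∈ P.parabolic P.S := by rw [parabolic_S]; trivial
  obtain ⟨n, hn, h⟩ := (mem_parabolic_iff P (le_refl _) g).1 hg
  exact ⟨n, closure_le_N P (le_refl _) hn, h⟩

end Cfsg.Agent.Helper6
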