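import Cfsg.Agent.Lib.Helper6.BNExchange

set_option autoImplicit false

namespace Cfsg.Agent.Helper6

open Cfsg

variable {G : Type*} [Group G] (P : Cfsg.BNPair G)

theorem len_mul_of_ne {s1 s2 : G} (hs1 : s1 ∈ P.S) (hs2 : s2 ∈ P.S) (hne : s1 ≠ s2) :
    len P (s1 * s2) = 2 := by
  rcases len_mul_S_cases P hs2 (P.subset hs1) with h | h
  · rw [h, len_S P hs1]
  · exfalso
    rw [len_S P hs1] at h
    have h0 : len P (s1 * s2) = 0 := by omega
    have hB : s1 * s2 ∈ P.B :=
      (len_eq_zero_iff P (P.N.mul_mem (P.subset hs1) (P.subset hs2))).1 h0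
    apply hne
    apply P.inj s1 hs1 s2 hs2
    have : s1⁻¹ * s2 = (s1 * s1)⁻¹ * (s1 * s2) := by group
    rw [this]
    exact P.B.mul_mem (P.B.inv_mem (P.sq_mem s1 hs1)) hB

/-- for a normal subgroup `H`, the generators in `BH` commute (mod `B ∩ N`) with those outside -/
theorem commute_of_normal (H : Subgroup G) [H.Normal] {s1 s2 : G} (hs1 : s1 ∈ P.S)
    (hs2 : s2 ∈ P.S) (h1 : s1 ∈ P.B ⊔ H) (h2 : s2 ∉ P.B ⊔ H) :
    s1 * s2 * s1⁻¹ * s2⁻¹ ∈ P.B := by
  set M := P.B ⊔ H with hM
  have hBM : P.B ≤ M := le_sup_left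
  have hHM : H ≤ M := le_sup_right
  have hs1N := P.subset hs1
  have hs2N := P.subset hs2
  have hne : s1 ≠ s2 := by rintro rfl; exact h2 h1
  have hpar := eq_parabolic_of_B_le P M hBM
  -- s1 = b h
  have h1' : s1 ∈ ((P.B ⊔ H : Subgroup G) : Set G) := h1
  rw [Subgroup.mul_normal] at h1'
  obtain ⟨b, hb, h, hh, e⟩ := Set.mem_mul.1 h1'
  have hh' : s2 * h * s2⁻¹ ∈ H := Subgroup.Normal.conj_mem inferInstance h hh s2
  have hhe : h = b⁻¹ * s1 := by rw [← e]; group
  have hlen21 : len P (s2 * s1) = 2 := len_mul_of_ne P hs2 hs1 hne.symm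
  have hlen12 : len P (s1 * s2) = 2 := len_mul_of_ne P hs1 hs2 hne
  have hA : s2 * b⁻¹ * s1 ∈ C P (s2 * s1) := by
    apply lemmaA P hs2 hs1N _ (P.B.inv_mem hb)
    rw [hlen21, len_S P hs1]; omega
  have hinv : s2⁻¹ ∈ C P s2 := by rw [← C_S_inv P hs2]; exact self_mem_C P _
  have h21N : s2 * s1 ∈ P.N := P.N.mul_mem hs2N hs1N
  have hcases := T3_right' P hs2 h21N hA hinv
  have he' : s2 * b⁻¹ * s1 * s2⁻¹ = s2 * h * s2⁻¹ := by rw [hhe]; group
  rw [he'] at hcases
  have hmemM : ∀ n : G, s2 * h * s2⁻¹ ∈ C P n → n ∈ M := by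
    intro n hn
    obtain ⟨b1, hb1, b2, hb2, e2⟩ := (mem_C P).1 hn
    have : n = b1⁻¹ * (s2 * h * s2⁻¹) * b2⁻¹ := by rw [e2]; group
    rw [this]
    exact M.mul_mem (M.mul_mem (M.inv_mem (hBM hb1)) (hHM hh')) (M.inv_mem (hBM hb2))
  rcases hcases with hc | hc
  · have hnM : s2 * s1 * s2 ∈ M := hmemM _ hc
    have hnN : s2 * s1 * s2 ∈ P.N := P.N.mul_mem h21N hs2N
    rcases len_mul_S_cases P hs2 h21N with hl | hl
    · -- length 3: reduced word [s2, s1, s2]
      exfalso
      have hred : Red P [s2, s1, s2] (s2 * s1 * s2) := by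
        refine ⟨⟨?_, ?_⟩, ?_⟩
        · intro x hx
          simp only [List.mem_cons, List.not_mem_nil, or_false] at hx
          rcases hx with rfl | rfl | rfl <;> assumption
        · have : ([s2, s1, s2] : List G).prod⁻¹ * (s2 * s1 * s2) = 1 := by
            simp only [List.prod_cons, List.prod_nil]; group
          rw [this]; exact P.B.one_mem
        · rw [hl, hlen21]; rfl
      exact h2 (letters_mem_of_red' P hnN hred M hBM hnM s2 (by simp))
    · -- length 1: condC
      have hl1 : len P (s2 * s1 * s2) = 1 := by omega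
      have hc1 : len P s1 < len P (s2 * s1) := by rw [hlen21, len_S P hs1]; omega
      have hc2 : len P (s2 * (s1 * s2)) < len P (s1 * s2) := by
        rw [← mul_assoc, hl1, hlen12]; omega
      have h3 := condC P hs2 hs2 hs1N hc1 hc2
      have h12N : s1 * s2 ∈ P.N := P.N.mul_mem hs1N hs2N
      have h4 := conj_mem_T P h12N ⟨h3, P.N.mul_mem (P.N.inv_mem h21N) h12N⟩
      have : s1 * s2 * ((s2 * s1)⁻¹ * (s1 * s2)) * (s1 * s2)⁻¹ = s1 * s2 * s1⁻¹ * s2⁻¹ := by
        group
      rw [this] at h4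
      exact h4.1
  · exfalso
    have hnM : s2 * s1 ∈ M := hmemM _ hc
    apply h2
    have : s2 = (s2 * s1) * s1⁻¹ := by group
    rw [this]
    exact M.mul_mem hnM (M.inv_mem h1)

theorem simple_of_irreducible [Nontrivial G] (hirr : P.Irreducible)
    (hsolv : Group.IsSolvable P.B) (hperf : commutator G = ⊤) (hcore : P.B.normalCore = ⊥) :
    IsSimpleGroup G := by
  refine ⟨fun H hH => ?_⟩
  by_cases hbot : H = ⊥
  · exact Or.inl hbot
  right
  set M := P.B ⊔ H with hM
  have hBM : P.B ≤ M := le_sup_left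
  have hpar := eq_parabolic_of_B_le P M hBM
  set X : Set G := {s | s ∈ P.S ∧ s ∈ M} with hX
  have hXS : X ⊆ P.S := fun s hs => hs.1
  -- M = ⊤
  have hMtop : M = ⊤ := by
    by_cases hXne : X.Nonempty
    · by_cases hXc : (P.S \ X).Nonempty
      · exfalso
        obtain ⟨s, hs, s', hs', hns⟩ := hirr X hXS hXne hXc
        apply hns
        apply commute_of_normal P H hs.1 hs'.1 hs.2
        intro hcon
        exact hs'.2 ⟨hs'.1, hcon⟩
      · have hXeq : X = P.S := by
          apply Set.Subset.antisymm hXS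
          intro s hs
          by_contra hsX
          exact hXc ⟨s, hs, hsX⟩
        rw [hpar, hXeq, parabolic_S]
    · exfalso
      rw [Set.not_nonempty_iff_eq_empty] at hXne
      rw [hXne] at hpar
      unfold BNPair.parabolic at hpar
      rw [Subgroup.closure_empty, sup_bot_eq] at hpar
      have hHB : H ≤ P.B := by rw [← hpar]; exact le_sup_right
      have : H ≤ P.B.normalCore := Subgroup.normal_le_normalCore.2 hHB
      rw [hcore] at this
      exact hbot (le_bot_iff.1 this)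
  -- G ⧸ H is solvable and perfect
  let φ : P.B →* G ⧸ H := (QuotientGroup.mk' H).comp P.B.subtype
  have hφ : Function.Surjective φ := by
    intro q
    induction q using QuotientGroup.induction_on with | H g => ?_
    have hg : g ∈ ((P.B ⊔ H : Subgroup G) : Set G) := by
      change g ∈ M; rw [hMtop]; trivial
    rw [Subgroup.mul_normal] at hg
    obtain ⟨b, hb, h, hh, e⟩ := Set.mem_mul.1 hg
    refine ⟨⟨b, hb⟩, ?_⟩
    change (QuotientGroup.mk b : G ⧸ H) = QuotientGroup.mk g
    rw [QuotientGroup.eq]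
    have : b⁻¹ * g = h := by rw [← e]; group
    rw [this]; exact hh
  have hsolvQ : Group.IsSolvable (G ⧸ H) := Group.isSolvable_of_surjective hφ
  have hperfQ : commutator (G ⧸ H) = ⊤ := by
    have h1 := Subgroup.map_commutator (⊤ : Subgroup G) ⊤ (QuotientGroup.mk' H)
    have h2 : Subgroup.map (QuotientGroup.mk' H) ⊤ = ⊤ :=
      Subgroup.map_top_of_surjective _ (QuotientGroup.mk'_surjective H)
    rw [h2] at h1
    have h3 : (⁅(⊤ : Subgroup G), ⊤⁆) = ⊤ := hperf
    rw [h3, h2] at h1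
    exact h1.symm
  by_contra hHtop
  have hnt : Nontrivial (G ⧸ H) := by
    by_contra hnn
    rw [not_nontrivial_iff_subsingleton] at hnn
    exact hHtop (QuotientGroup.subgroup_eq_top_of_subsingleton H hnn)
  have := Group.IsSolvable.commutator_lt_top_of_nontrivial (G ⧸ H)
  rw [hperfQ] at this
  exact lt_irrefl _ this

end Cfsg.Agent.Helper6
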