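import Cfsg.Agent.Lib.Helper6.BNBruhat

set_option autoImplicit false

namespace Cfsg.Agent.Helper6

open Cfsg

variable {G : Type*} [Group G] (P : Cfsg.BNPair G)

theorem B_le_parabolic (J : Set G) : P.B ≤ P.parabolic J := le_sup_left

theorem closure_le_parabolic (J : Set G) : Subgroup.closure J ≤ P.parabolic J := le_sup_right

theorem parabolic_mono {J K : Set G} (h : J ⊆ K) : P.parabolic J ≤ P.parabolic K :=
  sup_le_sup_left (Subgroup.closure_mono h) _

/-- any `g` with `g B g⁻¹ ⊆ M ⊇ B` lies in `M` -/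
theorem mem_of_conj_B_le' {g : G} (M : Subgroup G) (hBM : P.B ≤ M)
    (hconj : ∀ b ∈ P.B, g * b * g⁻¹ ∈ M) : g ∈ M := by
  obtain ⟨n, hn, hg⟩ := bruhat_exists P g
  obtain ⟨b1, hb1, b2, hb2, rfl⟩ := (mem_C P).1 hg
  have hnM : n ∈ M := by
    apply mem_of_conj_B_le P hn M hBM
    intro b hb
    have h := hconj (b2⁻¹ * b * b2) (P.B.mul_mem (P.B.mul_mem (P.B.inv_mem hb2) hb) hb2)
    have e : n * b * n⁻¹ = b1⁻¹ * (b1 * n * b2 * (b2⁻¹ * b * b2) * (b1 * n * b2)⁻¹) * b1 := by group
    rw [e]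
    exact M.mul_mem (M.mul_mem (M.inv_mem (hBM hb1)) h) (hBM hb1)
  exact M.mul_mem (M.mul_mem (hBM hb1) hnM) (hBM hb2)

/-- every subgroup containing `B` is parabolic -/
theorem eq_parabolic_of_B_le (M : Subgroup G) (hM : P.B ≤ M) :
    M = P.parabolic {s | s ∈ P.S ∧ s ∈ M} := by
  apply le_antisymm
  · intro g hg
    obtain ⟨n, hn, hgn⟩ := bruhat_exists P g
    obtain ⟨b1, hb1, b2, hb2, rfl⟩ := (mem_C P).1 hgn
    have hnM : n ∈ M := by
      have : n = b1⁻¹ * (b1 * n * b2) * b2⁻¹ := by group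
      rw [this]
      exact M.mul_mem (M.mul_mem (M.inv_mem (hM hb1)) hg) (M.inv_mem (hM hb2))
    obtain ⟨L, hL⟩ := exists_red P hn
    have h1 := letters_mem_of_red' P hn hL M hM hnM
    have h2 : L.prod ∈ Subgroup.closure {s | s ∈ P.S ∧ s ∈ M} :=
      Subgroup.list_prod_mem _ (fun x hx => Subgroup.subset_closure ⟨hL.1.1 x hx, h1 x hx⟩)
    have h3 : n ∈ P.parabolic {s | s ∈ P.S ∧ s ∈ M} := by
      have : n = L.prod * (L.prod⁻¹ * n) := by group
      rw [this]
      exact Subgroup.mul_mem _ (closure_le_parabolic P _ h2) (B_le_parabolic P _ hL.1.2)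
    exact Subgroup.mul_mem _ (Subgroup.mul_mem _ (B_le_parabolic P _ hb1) h3)
      (B_le_parabolic P _ hb2)
  · unfold BNPair.parabolic
    apply sup_le hM
    rw [Subgroup.closure_le]
    intro x hx
    exact hx.2

/-- conjugate parabolics: the conjugating element lies in the target -/
theorem mem_of_map_conj_parabolic {J : Set G} {M : Subgroup G} (hBM : P.B ≤ M) (g : G)
    (h : (P.parabolic J).map (MulAut.conj g).toMonoidHom ≤ M) : g ∈ M := by
  apply mem_of_conj_B_le' P M hBM
  intro b hb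
  apply h
  exact ⟨b, B_le_parabolic P J hb, by simp [MulAut.conj_apply]⟩

theorem sup_closure_singleton_eq {n : G} (hn : n ∈ P.N) :
    P.B ⊔ Subgroup.closure {n} = P.B ⊔ P.B.map (MulAut.conj n).toMonoidHom := by
  apply le_antisymm
  · apply sup_le le_sup_left
    rw [Subgroup.closure_le, Set.singleton_subset_iff]
    apply mem_of_conj_B_le P hn _ le_sup_left
    intro b hb
    apply Subgroup.mem_sup_right
    exact ⟨b, hb, by simp [MulAut.conj_apply]⟩
  · apply sup_le le_sup_left
    rintro x ⟨b, hb, rfl⟩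
    have hnm : n ∈ P.B ⊔ Subgroup.closure {n} :=
      Subgroup.mem_sup_right (Subgroup.subset_closure rfl)
    have hbm : b ∈ P.B ⊔ Subgroup.closure {n} := Subgroup.mem_sup_left hb
    simp only [MulEquiv.toMonoidHom_eq_coe, MonoidHom.coe_coe, MulAut.conj_apply]
    exact Subgroup.mul_mem _ (Subgroup.mul_mem _ hnm hbm) (Subgroup.inv_mem _ hnm)

theorem parabolic_eq_of_map_conj {J K : Set G} (g : G)
    (h : (P.parabolic J).map (MulAut.conj g).toMonoidHom = P.parabolic K) :
    P.parabolic J = P.parabolic K := by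
  have hg : g ∈ P.parabolic K := mem_of_map_conj_parabolic P (B_le_parabolic P K) g h.le
  ext x
  constructor
  · intro hx
    have h1 : g * x * g⁻¹ ∈ P.parabolic K := by
      rw [← h]; exact ⟨x, hx, by simp [MulAut.conj_apply]⟩
    have : x = g⁻¹ * (g * x * g⁻¹) * g := by group
    rw [this]
    exact Subgroup.mul_mem _ (Subgroup.mul_mem _ (Subgroup.inv_mem _ hg) h1) hg
  · intro hx
    have h1 : g * (g⁻¹ * x * g) * g⁻¹ ∈ P.parabolic K := by
      have : g * (g⁻¹ * x * g) * g⁻¹ = x := by group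
      rw [this]; exact hx
    rw [← h] at h1
    obtain ⟨y, hy, e⟩ := h1
    simp only [MulEquiv.toMonoidHom_eq_coe, MonoidHom.coe_coe, MulAut.conj_apply] at e
    have e2 : y = g⁻¹ * x * g := by
      have e3 : g * y * g⁻¹ = x := by rw [e]; group
      rw [← e3]; group
    have hy' : g⁻¹ * x * g ∈ P.parabolic K := by
      exact Subgroup.mul_mem _ (Subgroup.mul_mem _ (Subgroup.inv_mem _ hg) hx) hg
    -- x = g y g⁻¹ with y ∈ P_J; need x ∈ P_J: use g ∈ P_K and symmetric argument
    have hg' : g⁻¹ ∈ P.parabolic J := by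
      apply mem_of_map_conj_parabolic P (J := K) (B_le_parabolic P J) g⁻¹
      rw [← h]
      rintro z ⟨w, ⟨v, hv, rfl⟩, rfl⟩
      simp only [MulEquiv.toMonoidHom_eq_coe, MonoidHom.coe_coe, MulAut.conj_apply, inv_inv]
      have : g⁻¹ * (g * v * g⁻¹) * g = v := by group
      rw [this]; exact hv
    have : x = g⁻¹⁻¹ * y * g⁻¹ := by rw [e2]; group
    rw [this]
    exact Subgroup.mul_mem _ (Subgroup.mul_mem _ (Subgroup.inv_mem _ hg') hy) hg'

theorem normalizer_parabolic (J : Set G) :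
    Subgroup.normalizer (P.parabolic J : Set G) = P.parabolic J := by
  apply le_antisymm
  · intro g hg
    apply mem_of_map_conj_parabolic P (J := J) (B_le_parabolic P J) g
    rintro z ⟨w, hw, rfl⟩
    simp only [MulEquiv.toMonoidHom_eq_coe, MonoidHom.coe_coe, MulAut.conj_apply]
    exact (Subgroup.mem_normalizer_iff.1 hg w).1 hw
  · exact Subgroup.le_normalizer

end Cfsg.Agent.Helper6
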