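import Cfsg.Agent.Lib.Helper6.ChevNorm

/-!
# Reachability certificates: every root is obtained from a fundamental root by fundamental reflections
-/

set_option autoImplicit false

namespace Cfsg.Agent.Helper6.Chev

open Cfsg.Lie Cfsg.Agent.Helper18

variable (D : ChevalleyDatum)

/-- run a reachability certificate: each step `(i, s)` adds `w_i s` for an already reached root `s` -/
def reachRun (perm : ℕ → ℕ) : List (ℕ × ℕ) → ℕ → Option ℕ
  | [], seen => some seen
  | (i, s) :: rest, seen =>
    if i < D.rank ∧ s < D.nroots ∧ seen.testBit s = true then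
      forceN (seen ||| (1 <<< dig (perm i) s)) fun seen' => reachRun perm rest seen'
    else none

/-- the initial mask: the fundamental roots -/
def simpleMask : ℕ := (List.range D.rank).foldr (fun j m => m ||| (1 <<< fSimple D j)) 0

theorem testBit_simpleMask_aux (n r : ℕ)
    (h : ((List.range n).foldr (fun j m => m ||| (1 <<< fSimple D j)) 0).testBit r = true) :
    ∃ j < n, r = D.simple j := by
  induction n with
  | zero => simp at h
  | succ n ih =>
    rw [List.range_succ, List.foldr_append] at h
    simp only [List.foldr_cons, List.foldr_nil, Nat.zero_or] at h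
    -- foldr over range n starting from 1 <<< fSimple n
    have key : ∀ (l : List ℕ) (a : ℕ),
        (l.foldr (fun j m => m ||| (1 <<< fSimple D j)) a).testBit r = true →
          a.testBit r = true ∨ (l.foldr (fun j m => m ||| (1 <<< fSimple D j)) 0).testBit r = true := by
      intro l
      induction l with
      | nil => intro a ha; exact Or.inl ha
      | cons x l ihl =>
        intro a ha
        rw [List.foldr_cons, Nat.testBit_or, Bool.or_eq_true] at ha
        rcases ha with ha | ha
        · rcases ihl a ha with h1 | h1
          · exact Or.inl h1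
          · right
            rw [List.foldr_cons, Nat.testBit_or, Bool.or_eq_true]
            exact Or.inl h1
        · right
          rw [List.foldr_cons, Nat.testBit_or, Bool.or_eq_true]
          exact Or.inr ha
    rcases key _ _ h with h1 | h1
    · rw [Nat.one_shiftLeft, Nat.testBit_two_pow] at h1
      refine ⟨n, Nat.lt_succ_self n, ?_⟩
      rw [← fSimple_eq]
      have h2 : fSimple D n = r := by simpa using h1
      exact h2.symm
    · obtain ⟨j, hj, hr⟩ := ih h1
      exact ⟨j, Nat.lt_succ_of_lt hj, hr⟩

theorem testBit_simpleMask (r : ℕ) (h : (simpleMask D).testBit r = true) :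
    ∃ j < D.rank, r = D.simple j := testBit_simpleMask_aux D D.rank r h

theorem reachRun_sound (perm : ℕ → ℕ) (hperm : ∀ i < D.rank, permOK D i (perm i) = true)
    (P : ℕ → Prop) (hstep : ∀ i < D.rank, ∀ s < D.nroots, P s → P (D.reflectRoot i s)) :
    ∀ (cert : List (ℕ × ℕ)) (seen seen' : ℕ), (∀ r, seen.testBit r = true → P r) →
      reachRun D perm cert seen = some seen' → ∀ r, seen'.testBit r = true → P r := by
  intro cert
  induction cert with
  | nil =>
    intro seen seen' hs hrun
    simp only [reachRun, Option.some.injEq] at hrun
    subst hrun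
    exact hs
  | cons a cert ih =>
    intro seen seen' hs hrun
    obtain ⟨i, s⟩ := a
    rw [reachRun] at hrun
    split_ifs at hrun with hc
    rw [forceN_eq] at hrun
    refine ih _ seen' ?_ hrun
    intro r hr
    rw [Nat.testBit_or, Bool.or_eq_true] at hr
    rcases hr with hr | hr
    · exact hs r hr
    · rw [Nat.one_shiftLeft, Nat.testBit_two_pow] at hr
      have : dig (perm i) s = r := by simpa using hr
      rw [← this, dig_of_permOK D (hperm i hc.1) hc.2.1]
      exact hstep i hc.1 s hc.2.1 (hs s hc.2.2)

/-- the full reachability check -/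
def reachCheck (perm : ℕ → ℕ) (cert : List (ℕ × ℕ)) : Bool :=
  match reachRun D perm cert (simpleMask D) with
  | none => false
  | some seen => (List.range D.nroots).all fun r => seen.testBit r

theorem reach_of_check (perm : ℕ → ℕ) (hperm : ∀ i < D.rank, permOK D i (perm i) = true)
    (cert : List (ℕ × ℕ)) (hc : reachCheck D perm cert = true) (P : ℕ → Prop)
    (hbase : ∀ j < D.rank, P (D.simple j))
    (hstep : ∀ i < D.rank, ∀ s < D.nroots, P s → P (D.reflectRoot i s)) :
    ∀ r < D.nroots, P r := by
  intro r hr
  rw [reachCheck] at hc
  split at hc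
  · exact absurd hc (by simp)
  · rename_i seen hrun
    rw [List.all_eq_true] at hc
    have hbit := hc r (List.mem_range.mpr hr)
    refine reachRun_sound D perm hperm P hstep cert _ seen ?_ hrun r hbit
    intro r' hr'
    obtain ⟨j, hj, rfl⟩ := testBit_simpleMask D r' hr'
    exact hbase j hj

end Cfsg.Agent.Helper6.Chev

namespace Cfsg.Agent.Helper6.Chev

open Cfsg.Lie Cfsg.Agent.Helper18

/-- decidable table facts (using the permutation codes) -/
def tableCheck (D : ChevalleyDatum) (perm : ℕ → ℕ) : Bool :=
  ((List.range D.rank).all fun i => decide (fSimple D i < D.nroots) &&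
    (List.range D.nroots).all fun s => decide (dig (perm i) s < D.nroots) &&
      (dig (perm i) (fNeg D s) == fNeg D (dig (perm i) s))) &&
  (List.range D.nroots).all fun s => decide (fNeg D s < D.nroots)

/-- assemble `NData` from the kernel checks -/
theorem nData_of_checks {F : Type*} [Field F] (D : ChevalleyDatum) (η : ℕ → ℕ → ℤ) (perm : ℕ → ℕ)
    (cert : List (ℕ × ℕ))
    (hadd : ∀ (r : ℕ) (t u : F), D.x F r t * D.x F r u = D.x F r (t + u))
    (hperm : ∀ i < D.rank, permOK D i (perm i) = true)
    (hsign : ∀ i < D.rank, fSignCheck D i (η i) = true)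
    (hpm : ∀ i s, η i s = 1 ∨ η i s = -1)
    (hn : ∀ i < D.rank, fnCheck D i (η i) = true)
    (hconj : ∀ i < D.rank, ∀ s < D.nroots, conjCheckF D i (η i) (perm i) s = true)
    (htab : tableCheck D perm = true)
    (hreach : reachCheck D perm cert = true) : NData F D η := by
  simp only [tableCheck, Bool.and_eq_true, List.all_eq_true, List.mem_range, decide_eq_true_eq,
    beq_iff_eq, fSimple_eq, fNeg_eq] at htab
  obtain ⟨htab1, hneg⟩ := htab
  have hrl : ∀ i < D.rank, ∀ s < D.nroots, D.reflectRoot i s < D.nroots := by
    intro i hi s hs
    rw [← dig_of_permOK D (hperm i hi) hs]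
    exact ((htab1 i hi).2 s hs).1
  refine
    { add := hadd
      mono := fun i hi => nMat_eq_of_check D i hi _ (by rw [← fnCheck_eq]; exact hn i hi)
      conj := fun i hi s hs t => conj_of_checkF D i hi (η i) (perm i) (hperm i hi) (hrl i hi) s hs
        (hconj i hi s hs) t
      eta_pm := fun i _ s _ => hpm i s
      eta_neg := ?_
      refl_lt := hrl
      refl_neg := ?_
      neg_lt := hneg
      simple_lt := fun i hi => (htab1 i hi).1
      reach := fun P hb hs => reach_of_check D perm hperm cert hreach P hb hs }
  · intro i hi s hs
    have := ((signProp_of_check D i _ (hsign i hi)).2.2 s hs).2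
    rcases hpm i s with e | e <;> rcases hpm i (D.neg s) with e' | e' <;> rw [e, e'] at this <;>
      simp_all
  · intro i hi s hs
    have := ((htab1 i hi).2 s hs).2
    rwa [dig_of_permOK D (hperm i hi) (hneg s hs), dig_of_permOK D (hperm i hi) hs] at this

end Cfsg.Agent.Helper6.Chev
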