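import Cfsg.Agent.Lib.Helper18.ConjSmall
import Cfsg.Agent.Lib.Helper18.ConjE6_0
import Cfsg.Agent.Lib.Helper18.ConjE6_1
import Cfsg.Agent.Lib.Helper18.AddSmall
import Cfsg.Agent.Lib.Helper6.ConjCodes
import Cfsg.Agent.Lib.Helper6.ChevReach

/-! Generated: the structure `NData` for the seven tabulated Chevalley data, from helper18's kernel checks
of the conjugation identities `n_i x_s(t) n_i⁻¹ = x_{w_i s}(η t)`. -/

set_option autoImplicit false
set_option maxRecDepth 100000

namespace Cfsg.Agent.Helper6.Chev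

open Cfsg.Lie Cfsg.Agent.Helper18

/-- assemble `NData` from the kernel checks, the conjugation identities being given for `n_{p_i}(1)` -/
theorem nData_of_conj {F : Type*} [Field F] (D : ChevalleyDatum) (η : ℕ → ℕ → ℤ) (perm : ℕ → ℕ)
    (cert : List (ℕ × ℕ))
    (hadd : ∀ (r : ℕ) (t u : F), D.x F r t * D.x F r u = D.x F r (t + u))
    (hperm : ∀ i < D.rank, permOK D i (perm i) = true)
    (hsign : ∀ i < D.rank, fSignCheck D i (η i) = true)
    (hpm : ∀ i s, η i s = 1 ∨ η i s = -1)
    (hn : ∀ i < D.rank, fnCheck D i (η i) = true)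
    (hconj : ∀ i < D.rank, ∀ s < D.nroots, ∀ t : F, D.nMat F (D.simple i) 1 * D.x F s t =
      D.x F (D.reflectRoot i s) ((η i s : F) * t) * D.nMat F (D.simple i) 1)
    (htab : tableCheck D perm = true)
    (hreach : reachCheck D perm cert = true) : NData F D η := by
  simp only [tableCheck, Bool.and_eq_true, List.all_eq_true, List.mem_range, decide_eq_true_eq,
    beq_iff_eq, fSimple_eq, fNeg_eq] at htab
  obtain ⟨htab1, hneg⟩ := htab
  have hrl : ∀ i < D.rank, ∀ s < D.nroots, D.reflectRoot i s < D.nroots := by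
    intro i hi s hs
    rw [← dig_of_permOK D (hperm i hi) hs]
    exact ((htab1 i hi).2 s hs).1
  have hmono : ∀ i < D.rank, D.nMat F (D.simple i) 1 = monoMat D i (η i) :=
    fun i hi => nMat_eq_of_check D i hi _ (by rw [← fnCheck_eq]; exact hn i hi)
  refine
    { add := hadd
      mono := hmono
      conj := fun i hi s hs t => by rw [← hmono i hi]; exact hconj i hi s hs t
      eta_pm := fun i _ s _ => hpm i s
      eta_neg := ?_
      refl_lt := hrl
      refl_neg := ?_
      neg_lt := hneg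
      simple_lt := fun i hi => (htab1 i hi).1
      reach := fun P hb hs => reach_of_check D perm hperm cert hreach P hb hs }
  · intro i hi s hs
    have := ((signProp_of_check D i _ (hsign i hi)).2.2 s hs).2
    rcases hpm i s with e | e <;> rcases hpm i (D.neg s) with e' | e' <;> rw [e, e'] at this <;>
      simp_all
  · intro i hi s hs
    have := ((htab1 i hi).2 s hs).2
    rwa [dig_of_permOK D (hperm i hi) (hneg s hs), dig_of_permOK D (hperm i hi) hs] at this

theorem xadd_G2 {F : Type*} [Field F] (r : ℕ) (t u : F) :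
    chevG2.x F r t * chevG2.x F r u = chevG2.x F r (t + u) := by
  by_cases hr : r < chevG2.nroots
  · have hr' : r < 12 := hr
    exact x_add_of_check chevG2 r (addG2_0' r (by omega) hr') t u
  · simp [ChevalleyDatum.x, hr]

theorem conj18_G2_0 {F : Type*} [Field F] (s : ℕ) (hs : s < chevG2.nroots) (t : F) :
    chevG2.nMat F (chevG2.simple 0) 1 * chevG2.x F s t =
      chevG2.x F (chevG2.reflectRoot 0 s) (((etaOf etaG2_0 s : ℤ) : F) * t) *
        chevG2.nMat F (chevG2.simple 0) 1 := by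
  have hs' : s < 12 := hs
  have hc : Cfsg.Agent.Helper18.conjCheck chevG2 (pMonoCol chevG2 0 permG2_0 etaG2_0) s (dec8 permG2_0 s) (etaOf etaG2_0 s) = true := by
    exact conjG2_0_from0 s (by omega) hs'
  exact n_conj_of_checks chevG2 0 (by decide) permG2_0 etaG2_0 permChkG2_0 nChkG2_0' s hs hc t

theorem conj18_G2_1 {F : Type*} [Field F] (s : ℕ) (hs : s < chevG2.nroots) (t : F) :
    chevG2.nMat F (chevG2.simple 1) 1 * chevG2.x F s t =
      chevG2.x F (chevG2.reflectRoot 1 s) (((etaOf etaG2_1 s : ℤ) : F) * t) *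
        chevG2.nMat F (chevG2.simple 1) 1 := by
  have hs' : s < 12 := hs
  have hc : Cfsg.Agent.Helper18.conjCheck chevG2 (pMonoCol chevG2 1 permG2_1 etaG2_1) s (dec8 permG2_1 s) (etaOf etaG2_1 s) = true := by
    exact conjG2_1_from0 s (by omega) hs'
  exact n_conj_of_checks chevG2 1 (by decide) permG2_1 etaG2_1 permChkG2_1 nChkG2_1' s hs hc t

theorem conj18_G2 {F : Type*} [Field F] (i : ℕ) (hi : i < 2) (s : ℕ) (hs : s < chevG2.nroots) (t : F) :
    chevG2.nMat F (chevG2.simple i) 1 * chevG2.x F s t =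
      chevG2.x F (chevG2.reflectRoot i s) (((etaG2 i s : ℤ) : F) * t) *
        chevG2.nMat F (chevG2.simple i) 1 := by
  interval_cases i
  · exact conj18_G2_0 s hs t
  · exact conj18_G2_1 s hs t

/-- reachability certificate for `G2` -/
def reachCertG2 : List (ℕ × ℕ) := [(0, 7), (1, 7), (0, 6), (1, 6), (1, 4), (0, 8), (1, 10), (0, 5), (0, 3), (1, 1)]

theorem reachOK_G2 : reachCheck chevG2 permG2 reachCertG2 = true := by decide +kernel

theorem tableOK_G2 : tableCheck chevG2 permG2 = true := by decide +kernel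

theorem signOK_G2 (i : ℕ) (hi : i < 2) : fSignCheck chevG2 i (etaG2 i) = true := by
  interval_cases i
  · exact nSignG2_0
  · exact nSignG2_1

theorem nOK_G2 (i : ℕ) (hi : i < 2) : fnCheck chevG2 i (etaG2 i) = true := by
  interval_cases i
  · exact nChkG2_0
  · exact nChkG2_1

/-- the matrix identities and table facts for `G2` -/
theorem nData_G2 {F : Type*} [Field F] : NData F chevG2 etaG2 :=
  nData_of_conj chevG2 etaG2 permG2 reachCertG2
    xadd_G2
    (fun i hi => permOK_G2 i hi)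
    (fun i hi => signOK_G2 i hi)
    (fun i s => etaOf_cases _ s)
    (fun i hi => nOK_G2 i hi)
    (fun i hi s hs t => conj18_G2 i hi s hs t)
    tableOK_G2 reachOK_G2

theorem xadd_B2 {F : Type*} [Field F] (r : ℕ) (t u : F) :
    chevB2.x F r t * chevB2.x F r u = chevB2.x F r (t + u) := by
  by_cases hr : r < chevB2.nroots
  · have hr' : r < 8 := hr
    exact x_add_of_check chevB2 r (addB2_0' r (by omega) hr') t u
  · simp [ChevalleyDatum.x, hr]

theorem conj18_B2_0 {F : Type*} [Field F] (s : ℕ) (hs : s < chevB2.nroots) (t : F) :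
    chevB2.nMat F (chevB2.simple 0) 1 * chevB2.x F s t =
      chevB2.x F (chevB2.reflectRoot 0 s) (((etaOf etaB2_0 s : ℤ) : F) * t) *
        chevB2.nMat F (chevB2.simple 0) 1 := by
  have hs' : s < 8 := hs
  have hc : Cfsg.Agent.Helper18.conjCheck chevB2 (pMonoCol chevB2 0 permB2_0 etaB2_0) s (dec8 permB2_0 s) (etaOf etaB2_0 s) = true := by
    exact conjB2_0_from0 s (by omega) hs'
  exact n_conj_of_checks chevB2 0 (by decide) permB2_0 etaB2_0 permChkB2_0 nChkB2_0' s hs hc t

theorem conj18_B2_1 {F : Type*} [Field F] (s : ℕ) (hs : s < chevB2.nroots) (t : F) :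
    chevB2.nMat F (chevB2.simple 1) 1 * chevB2.x F s t =
      chevB2.x F (chevB2.reflectRoot 1 s) (((etaOf etaB2_1 s : ℤ) : F) * t) *
        chevB2.nMat F (chevB2.simple 1) 1 := by
  have hs' : s < 8 := hs
  have hc : Cfsg.Agent.Helper18.conjCheck chevB2 (pMonoCol chevB2 1 permB2_1 etaB2_1) s (dec8 permB2_1 s) (etaOf etaB2_1 s) = true := by
    exact conjB2_1_from0 s (by omega) hs'
  exact n_conj_of_checks chevB2 1 (by decide) permB2_1 etaB2_1 permChkB2_1 nChkB2_1' s hs hc t

theorem conj18_B2 {F : Type*} [Field F] (i : ℕ) (hi : i < 2) (s : ℕ) (hs : s < chevB2.nroots) (t : F) :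
    chevB2.nMat F (chevB2.simple i) 1 * chevB2.x F s t =
      chevB2.x F (chevB2.reflectRoot i s) (((etaB2 i s : ℤ) : F) * t) *
        chevB2.nMat F (chevB2.simple i) 1 := by
  interval_cases i
  · exact conj18_B2_0 s hs t
  · exact conj18_B2_1 s hs t

/-- reachability certificate for `B2` -/
def reachCertB2 : List (ℕ × ℕ) := [(0, 5), (1, 5), (0, 4), (1, 4), (1, 2), (0, 3)]

theorem reachOK_B2 : reachCheck chevB2 permB2 reachCertB2 = true := by decide +kernel

theorem tableOK_B2 : tableCheck chevB2 permB2 = true := by decide +kernel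

theorem signOK_B2 (i : ℕ) (hi : i < 2) : fSignCheck chevB2 i (etaB2 i) = true := by
  interval_cases i
  · exact nSignB2_0
  · exact nSignB2_1

theorem nOK_B2 (i : ℕ) (hi : i < 2) : fnCheck chevB2 i (etaB2 i) = true := by
  interval_cases i
  · exact nChkB2_0
  · exact nChkB2_1

/-- the matrix identities and table facts for `B2` -/
theorem nData_B2 {F : Type*} [Field F] : NData F chevB2 etaB2 :=
  nData_of_conj chevB2 etaB2 permB2 reachCertB2
    xadd_B2
    (fun i hi => permOK_B2 i hi)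
    (fun i hi => signOK_B2 i hi)
    (fun i s => etaOf_cases _ s)
    (fun i hi => nOK_B2 i hi)
    (fun i hi s hs t => conj18_B2 i hi s hs t)
    tableOK_B2 reachOK_B2

theorem xadd_D4 {F : Type*} [Field F] (r : ℕ) (t u : F) :
    chevD4.x F r t * chevD4.x F r u = chevD4.x F r (t + u) := by
  by_cases hr : r < chevD4.nroots
  · have hr' : r < 24 := hr
    exact x_add_of_check chevD4 r (addD4_0' r (by omega) hr') t u
  · simp [ChevalleyDatum.x, hr]

theorem conj18_D4_0 {F : Type*} [Field F] (s : ℕ) (hs : s < chevD4.nroots) (t : F) :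
    chevD4.nMat F (chevD4.simple 0) 1 * chevD4.x F s t =
      chevD4.x F (chevD4.reflectRoot 0 s) (((etaOf etaD4_0 s : ℤ) : F) * t) *
        chevD4.nMat F (chevD4.simple 0) 1 := by
  have hs' : s < 24 := hs
  have hc : Cfsg.Agent.Helper18.conjCheck chevD4 (pMonoCol chevD4 0 permD4_0 etaD4_0) s (dec8 permD4_0 s) (etaOf etaD4_0 s) = true := by
    exact conjD4_0_from0 s (by omega) hs'
  exact n_conj_of_checks chevD4 0 (by decide) permD4_0 etaD4_0 permChkD4_0 nChkD4_0' s hs hc t

theorem conj18_D4_1 {F : Type*} [Field F] (s : ℕ) (hs : s < chevD4.nroots) (t : F) :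
    chevD4.nMat F (chevD4.simple 1) 1 * chevD4.x F s t =
      chevD4.x F (chevD4.reflectRoot 1 s) (((etaOf etaD4_1 s : ℤ) : F) * t) *
        chevD4.nMat F (chevD4.simple 1) 1 := by
  have hs' : s < 24 := hs
  have hc : Cfsg.Agent.Helper18.conjCheck chevD4 (pMonoCol chevD4 1 permD4_1 etaD4_1) s (dec8 permD4_1 s) (etaOf etaD4_1 s) = true := by
    exact conjD4_1_from0 s (by omega) hs'
  exact n_conj_of_checks chevD4 1 (by decide) permD4_1 etaD4_1 permChkD4_1 nChkD4_1' s hs hc t

theorem conj18_D4_2 {F : Type*} [Field F] (s : ℕ) (hs : s < chevD4.nroots) (t : F) :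
    chevD4.nMat F (chevD4.simple 2) 1 * chevD4.x F s t =
      chevD4.x F (chevD4.reflectRoot 2 s) (((etaOf etaD4_2 s : ℤ) : F) * t) *
        chevD4.nMat F (chevD4.simple 2) 1 := by
  have hs' : s < 24 := hs
  have hc : Cfsg.Agent.Helper18.conjCheck chevD4 (pMonoCol chevD4 2 permD4_2 etaD4_2) s (dec8 permD4_2 s) (etaOf etaD4_2 s) = true := by
    exact conjD4_2_from0 s (by omega) hs'
  exact n_conj_of_checks chevD4 2 (by decide) permD4_2 etaD4_2 permChkD4_2 nChkD4_2' s hs hc t

theorem conj18_D4_3 {F : Type*} [Field F] (s : ℕ) (hs : s < chevD4.nroots) (t : F) :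
    chevD4.nMat F (chevD4.simple 3) 1 * chevD4.x F s t =
      chevD4.x F (chevD4.reflectRoot 3 s) (((etaOf etaD4_3 s : ℤ) : F) * t) *
        chevD4.nMat F (chevD4.simple 3) 1 := by
  have hs' : s < 24 := hs
  have hc : Cfsg.Agent.Helper18.conjCheck chevD4 (pMonoCol chevD4 3 permD4_3 etaD4_3) s (dec8 permD4_3 s) (etaOf etaD4_3 s) = true := by
    exact conjD4_3_from0 s (by omega) hs'
  exact n_conj_of_checks chevD4 3 (by decide) permD4_3 etaD4_3 permChkD4_3 nChkD4_3' s hs hc t

theorem conj18_D4 {F : Type*} [Field F] (i : ℕ) (hi : i < 4) (s : ℕ) (hs : s < chevD4.nroots) (t : F) :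
    chevD4.nMat F (chevD4.simple i) 1 * chevD4.x F s t =
      chevD4.x F (chevD4.reflectRoot i s) (((etaD4 i s : ℤ) : F) * t) *
        chevD4.nMat F (chevD4.simple i) 1 := by
  interval_cases i
  · exact conj18_D4_0 s hs t
  · exact conj18_D4_1 s hs t
  · exact conj18_D4_2 s hs t
  · exact conj18_D4_3 s hs t

/-- reachability certificate for `D4` -/
def reachCertD4 : List (ℕ × ℕ) := [(0, 18), (1, 18), (1, 14), (2, 14), (3, 14), (2, 13), (3, 12), (1, 5), (2, 19), (3, 19), (2, 9), (3, 9), (3, 16), (2, 4), (3, 4), (3, 21), (3, 7), (3, 2), (1, 22), (1, 1)]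

theorem reachOK_D4 : reachCheck chevD4 permD4 reachCertD4 = true := by decide +kernel

theorem tableOK_D4 : tableCheck chevD4 permD4 = true := by decide +kernel

theorem signOK_D4 (i : ℕ) (hi : i < 4) : fSignCheck chevD4 i (etaD4 i) = true := by
  interval_cases i
  · exact nSignD4_0
  · exact nSignD4_1
  · exact nSignD4_2
  · exact nSignD4_3

theorem nOK_D4 (i : ℕ) (hi : i < 4) : fnCheck chevD4 i (etaD4 i) = true := by
  interval_cases i
  · exact nChkD4_0
  · exact nChkD4_1
  · exact nChkD4_2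
  · exact nChkD4_3

/-- the matrix identities and table facts for `D4` -/
theorem nData_D4 {F : Type*} [Field F] : NData F chevD4 etaD4 :=
  nData_of_conj chevD4 etaD4 permD4 reachCertD4
    xadd_D4
    (fun i hi => permOK_D4 i hi)
    (fun i hi => signOK_D4 i hi)
    (fun i s => etaOf_cases _ s)
    (fun i hi => nOK_D4 i hi)
    (fun i hi s hs t => conj18_D4 i hi s hs t)
    tableOK_D4 reachOK_D4

theorem xadd_F4 {F : Type*} [Field F] (r : ℕ) (t u : F) :
    chevF4.x F r t * chevF4.x F r u = chevF4.x F r (t + u) := by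
  by_cases hr : r < chevF4.nroots
  · have hr' : r < 48 := hr
    exact x_add_of_check chevF4 r (addF4_0' r (by omega) hr') t u
  · simp [ChevalleyDatum.x, hr]

theorem conj18_F4_0 {F : Type*} [Field F] (s : ℕ) (hs : s < chevF4.nroots) (t : F) :
    chevF4.nMat F (chevF4.simple 0) 1 * chevF4.x F s t =
      chevF4.x F (chevF4.reflectRoot 0 s) (((etaOf etaF4_0 s : ℤ) : F) * t) *
        chevF4.nMat F (chevF4.simple 0) 1 := by
  have hs' : s < 48 := hs
  have hc : Cfsg.Agent.Helper18.conjCheck chevF4 (pMonoCol chevF4 0 permF4_0 etaF4_0) s (dec8 permF4_0 s) (etaOf etaF4_0 s) = true := by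
    exact conjF4_0_from0 s (by omega) hs'
  exact n_conj_of_checks chevF4 0 (by decide) permF4_0 etaF4_0 permChkF4_0 nChkF4_0' s hs hc t

theorem conj18_F4_1 {F : Type*} [Field F] (s : ℕ) (hs : s < chevF4.nroots) (t : F) :
    chevF4.nMat F (chevF4.simple 1) 1 * chevF4.x F s t =
      chevF4.x F (chevF4.reflectRoot 1 s) (((etaOf etaF4_1 s : ℤ) : F) * t) *
        chevF4.nMat F (chevF4.simple 1) 1 := by
  have hs' : s < 48 := hs
  have hc : Cfsg.Agent.Helper18.conjCheck chevF4 (pMonoCol chevF4 1 permF4_1 etaF4_1) s (dec8 permF4_1 s) (etaOf etaF4_1 s) = true := by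
    exact conjF4_1_from0 s (by omega) hs'
  exact n_conj_of_checks chevF4 1 (by decide) permF4_1 etaF4_1 permChkF4_1 nChkF4_1' s hs hc t

theorem conj18_F4_2 {F : Type*} [Field F] (s : ℕ) (hs : s < chevF4.nroots) (t : F) :
    chevF4.nMat F (chevF4.simple 2) 1 * chevF4.x F s t =
      chevF4.x F (chevF4.reflectRoot 2 s) (((etaOf etaF4_2 s : ℤ) : F) * t) *
        chevF4.nMat F (chevF4.simple 2) 1 := by
  have hs' : s < 48 := hs
  have hc : Cfsg.Agent.Helper18.conjCheck chevF4 (pMonoCol chevF4 2 permF4_2 etaF4_2) s (dec8 permF4_2 s) (etaOf etaF4_2 s) = true := by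
    exact conjF4_2_from0 s (by omega) hs'
  exact n_conj_of_checks chevF4 2 (by decide) permF4_2 etaF4_2 permChkF4_2 nChkF4_2' s hs hc t

theorem conj18_F4_3 {F : Type*} [Field F] (s : ℕ) (hs : s < chevF4.nroots) (t : F) :
    chevF4.nMat F (chevF4.simple 3) 1 * chevF4.x F s t =
      chevF4.x F (chevF4.reflectRoot 3 s) (((etaOf etaF4_3 s : ℤ) : F) * t) *
        chevF4.nMat F (chevF4.simple 3) 1 := by
  have hs' : s < 48 := hs
  have hc : Cfsg.Agent.Helper18.conjCheck chevF4 (pMonoCol chevF4 3 permF4_3 etaF4_3) s (dec8 permF4_3 s) (etaOf etaF4_3 s) = true := by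
    exact conjF4_3_from0 s (by omega) hs'
  exact n_conj_of_checks chevF4 3 (by decide) permF4_3 etaF4_3 permChkF4_3 nChkF4_3' s hs hc t

theorem conj18_F4 {F : Type*} [Field F] (i : ℕ) (hi : i < 4) (s : ℕ) (hs : s < chevF4.nroots) (t : F) :
    chevF4.nMat F (chevF4.simple i) 1 * chevF4.x F s t =
      chevF4.x F (chevF4.reflectRoot i s) (((etaF4 i s : ℤ) : F) * t) *
        chevF4.nMat F (chevF4.simple i) 1 := by
  interval_cases i
  · exact conj18_F4_0 s hs t
  · exact conj18_F4_1 s hs t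
  · exact conj18_F4_2 s hs t
  · exact conj18_F4_3 s hs t

/-- reachability certificate for `F4` -/
def reachCertF4 : List (ℕ × ℕ) := [(0, 33), (1, 33), (1, 27), (2, 27), (1, 25), (2, 25), (3, 25), (3, 24), (1, 14), (2, 34), (2, 20), (3, 28), (0, 30), (3, 30), (1, 22), (3, 22), (2, 13), (1, 35), (3, 35), (3, 19), (3, 41), (2, 31), (0, 17), (3, 17), (1, 12), (3, 12), (3, 37), (2, 42), (3, 6), (2, 16), (3, 10), (2, 38), (1, 43), (2, 5), (2, 9), (1, 39), (2, 45), (1, 4), (1, 8), (0, 40), (3, 46), (2, 2), (0, 7), (3, 1)]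

theorem reachOK_F4 : reachCheck chevF4 permF4 reachCertF4 = true := by decide +kernel

theorem tableOK_F4 : tableCheck chevF4 permF4 = true := by decide +kernel

theorem signOK_F4 (i : ℕ) (hi : i < 4) : fSignCheck chevF4 i (etaF4 i) = true := by
  interval_cases i
  · exact nSignF4_0
  · exact nSignF4_1
  · exact nSignF4_2
  · exact nSignF4_3

theorem nOK_F4 (i : ℕ) (hi : i < 4) : fnCheck chevF4 i (etaF4 i) = true := by
  interval_cases i
  · exact nChkF4_0
  · exact nChkF4_1
  · exact nChkF4_2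
  · exact nChkF4_3

/-- the matrix identities and table facts for `F4` -/
theorem nData_F4 {F : Type*} [Field F] : NData F chevF4 etaF4 :=
  nData_of_conj chevF4 etaF4 permF4 reachCertF4
    xadd_F4
    (fun i hi => permOK_F4 i hi)
    (fun i hi => signOK_F4 i hi)
    (fun i s => etaOf_cases _ s)
    (fun i hi => nOK_F4 i hi)
    (fun i hi s hs t => conj18_F4 i hi s hs t)
    tableOK_F4 reachOK_F4

theorem xadd_E6 {F : Type*} [Field F] (r : ℕ) (t u : F) :
    chevE6.x F r t * chevE6.x F r u = chevE6.x F r (t + u) := by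
  by_cases hr : r < chevE6.nroots
  · have hr' : r < 72 := hr
    by_cases h1 : r < 36
    · exact x_add_of_check chevE6 r (addE6_0' r (by omega) h1) t u
    · exact x_add_of_check chevE6 r (addE6_36' r (by omega) hr') t u
  · simp [ChevalleyDatum.x, hr]

theorem conj18_E6_0 {F : Type*} [Field F] (s : ℕ) (hs : s < chevE6.nroots) (t : F) :
    chevE6.nMat F (chevE6.simple 0) 1 * chevE6.x F s t =
      chevE6.x F (chevE6.reflectRoot 0 s) (((etaOf etaE6_0 s : ℤ) : F) * t) *
        chevE6.nMat F (chevE6.simple 0) 1 := by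
  have hs' : s < 72 := hs
  have hc : Cfsg.Agent.Helper18.conjCheck chevE6 (pMonoCol chevE6 0 permE6_0 etaE6_0) s (dec8 permE6_0 s) (etaOf etaE6_0 s) = true := by
    exact conjE6_0_from0 s (by omega) hs'
  exact n_conj_of_checks chevE6 0 (by decide) permE6_0 etaE6_0 permChkE6_0 nChkE6_0' s hs hc t

theorem conj18_E6_1 {F : Type*} [Field F] (s : ℕ) (hs : s < chevE6.nroots) (t : F) :
    chevE6.nMat F (chevE6.simple 1) 1 * chevE6.x F s t =
      chevE6.x F (chevE6.reflectRoot 1 s) (((etaOf etaE6_1 s : ℤ) : F) * t) *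
        chevE6.nMat F (chevE6.simple 1) 1 := by
  have hs' : s < 72 := hs
  have hc : Cfsg.Agent.Helper18.conjCheck chevE6 (pMonoCol chevE6 1 permE6_1 etaE6_1) s (dec8 permE6_1 s) (etaOf etaE6_1 s) = true := by
    exact conjE6_1_from0 s (by omega) hs'
  exact n_conj_of_checks chevE6 1 (by decide) permE6_1 etaE6_1 permChkE6_1 nChkE6_1' s hs hc t

theorem conj18_E6_2 {F : Type*} [Field F] (s : ℕ) (hs : s < chevE6.nroots) (t : F) :
    chevE6.nMat F (chevE6.simple 2) 1 * chevE6.x F s t =
      chevE6.x F (chevE6.reflectRoot 2 s) (((etaOf etaE6_2 s : ℤ) : F) * t) *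
        chevE6.nMat F (chevE6.simple 2) 1 := by
  have hs' : s < 72 := hs
  have hc : Cfsg.Agent.Helper18.conjCheck chevE6 (pMonoCol chevE6 2 permE6_2 etaE6_2) s (dec8 permE6_2 s) (etaOf etaE6_2 s) = true := by
    exact conjE6_2_from0 s (by omega) hs'
  exact n_conj_of_checks chevE6 2 (by decide) permE6_2 etaE6_2 permChkE6_2 nChkE6_2' s hs hc t

theorem conj18_E6_3 {F : Type*} [Field F] (s : ℕ) (hs : s < chevE6.nroots) (t : F) :
    chevE6.nMat F (chevE6.simple 3) 1 * chevE6.x F s t =
      chevE6.x F (chevE6.reflectRoot 3 s) (((etaOf etaE6_3 s : ℤ) : F) * t) *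
        chevE6.nMat F (chevE6.simple 3) 1 := by
  have hs' : s < 72 := hs
  have hc : Cfsg.Agent.Helper18.conjCheck chevE6 (pMonoCol chevE6 3 permE6_3 etaE6_3) s (dec8 permE6_3 s) (etaOf etaE6_3 s) = true := by
    exact conjE6_3_from0 s (by omega) hs'
  exact n_conj_of_checks chevE6 3 (by decide) permE6_3 etaE6_3 permChkE6_3 nChkE6_3' s hs hc t

theorem conj18_E6_4 {F : Type*} [Field F] (s : ℕ) (hs : s < chevE6.nroots) (t : F) :
    chevE6.nMat F (chevE6.simple 4) 1 * chevE6.x F s t =
      chevE6.x F (chevE6.reflectRoot 4 s) (((etaOf etaE6_4 s : ℤ) : F) * t) *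
        chevE6.nMat F (chevE6.simple 4) 1 := by
  have hs' : s < 72 := hs
  have hc : Cfsg.Agent.Helper18.conjCheck chevE6 (pMonoCol chevE6 4 permE6_4 etaE6_4) s (dec8 permE6_4 s) (etaOf etaE6_4 s) = true := by
    exact conjE6_4_from0 s (by omega) hs'
  exact n_conj_of_checks chevE6 4 (by decide) permE6_4 etaE6_4 permChkE6_4 nChkE6_4' s hs hc t

theorem conj18_E6_5 {F : Type*} [Field F] (s : ℕ) (hs : s < chevE6.nroots) (t : F) :
    chevE6.nMat F (chevE6.simple 5) 1 * chevE6.x F s t =
      chevE6.x F (chevE6.reflectRoot 5 s) (((etaOf etaE6_5 s : ℤ) : F) * t) *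
        chevE6.nMat F (chevE6.simple 5) 1 := by
  have hs' : s < 72 := hs
  have hc : Cfsg.Agent.Helper18.conjCheck chevE6 (pMonoCol chevE6 5 permE6_5 etaE6_5) s (dec8 permE6_5 s) (etaOf etaE6_5 s) = true := by
    exact conjE6_5_from0 s (by omega) hs'
  exact n_conj_of_checks chevE6 5 (by decide) permE6_5 etaE6_5 permChkE6_5 nChkE6_5' s hs hc t

theorem conj18_E6 {F : Type*} [Field F] (i : ℕ) (hi : i < 6) (s : ℕ) (hs : s < chevE6.nroots) (t : F) :
    chevE6.nMat F (chevE6.simple i) 1 * chevE6.x F s t =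
      chevE6.x F (chevE6.reflectRoot i s) (((etaE6 i s : ℤ) : F) * t) *
        chevE6.nMat F (chevE6.simple i) 1 := by
  interval_cases i
  · exact conj18_E6_0 s hs t
  · exact conj18_E6_1 s hs t
  · exact conj18_E6_2 s hs t
  · exact conj18_E6_3 s hs t
  · exact conj18_E6_4 s hs t
  · exact conj18_E6_5 s hs t

/-- reachability certificate for `E6` -/
def reachCertE6 : List (ℕ × ℕ) := [(0, 56), (2, 56), (1, 46), (3, 46), (2, 42), (3, 42), (3, 39), (4, 39), (4, 37), (5, 37), (5, 36), (2, 15), (3, 57), (3, 25), (2, 47), (4, 47), (3, 29), (4, 43), (4, 32), (5, 40), (5, 34), (3, 14), (1, 58), (4, 58), (2, 24), (4, 24), (4, 50), (5, 48), (4, 28), (5, 44), (5, 31), (1, 13), (4, 13), (4, 61), (5, 59), (4, 21), (5, 23), (3, 51), (5, 51), (5, 27), (4, 10), (5, 12), (3, 62), (5, 62), (3, 20), (5, 20), (5, 53), (3, 9), (5, 9), (2, 64), (5, 64), (5, 18), (4, 54), (2, 7), (5, 7), (5, 67), (4, 65), (4, 17), (5, 4), (4, 6), (4, 68), (4, 3), (3, 69), (3, 2), (1, 70), (1, 1)]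

theorem reachOK_E6 : reachCheck chevE6 permE6 reachCertE6 = true := by decide +kernel

theorem tableOK_E6 : tableCheck chevE6 permE6 = true := by decide +kernel

theorem signOK_E6 (i : ℕ) (hi : i < 6) : fSignCheck chevE6 i (etaE6 i) = true := by
  interval_cases i
  · exact nSignE6_0
  · exact nSignE6_1
  · exact nSignE6_2
  · exact nSignE6_3
  · exact nSignE6_4
  · exact nSignE6_5

theorem nOK_E6 (i : ℕ) (hi : i < 6) : fnCheck chevE6 i (etaE6 i) = true := by
  interval_cases i
  · exact nChkE6_0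
  · exact nChkE6_1
  · exact nChkE6_2
  · exact nChkE6_3
  · exact nChkE6_4
  · exact nChkE6_5

/-- the matrix identities and table facts for `E6` -/
theorem nData_E6 {F : Type*} [Field F] : NData F chevE6 etaE6 :=
  nData_of_conj chevE6 etaE6 permE6 reachCertE6
    xadd_E6
    (fun i hi => permOK_E6 i hi)
    (fun i hi => signOK_E6 i hi)
    (fun i s => etaOf_cases _ s)
    (fun i hi => nOK_E6 i hi)
    (fun i hi s hs t => conj18_E6 i hi s hs t)
    tableOK_E6 reachOK_E6

end Cfsg.Agent.Helper6.Chev
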