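import Cfsg.Agent.Lib.Helper6.ChevConj
import Cfsg.Prelude.Def_ChevStructure

/-!
# The monomial subgroup `N` of a Chevalley group: generation and normality of `H`

Abstract layer: from the matrix identities `n_i x_s(t) n_i⁻¹ = x_{w_i s}(η t)` (kernel-checked elsewhere)
we derive `n_i n_r(t) n_i⁻¹ = n_{w_i r}(η t)`, hence `N = ⟨H, n_{p_i}(1)⟩` and `H ⊴ N`.
-/

set_option autoImplicit false

namespace Cfsg.Agent.Helper6.Chev

open Cfsg.Lie Cfsg.Agent.Helper18

/-- The matrix identities and table facts used to analyse the monomial subgroup. -/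
structure NData (F : Type*) [Field F] (D : ChevalleyDatum) (η : ℕ → ℕ → ℤ) : Prop where
  add : ∀ (r : ℕ) (t u : F), D.x F r t * D.x F r u = D.x F r (t + u)
  mono : ∀ i < D.rank, D.nMat F (D.simple i) 1 = monoMat D i (η i)
  conj : ∀ i < D.rank, ∀ s < D.nroots, ∀ t : F,
    monoMat D i (η i) * D.x F s t = D.x F (D.reflectRoot i s) ((η i s : F) * t) * monoMat D i (η i)
  eta_pm : ∀ i < D.rank, ∀ s < D.nroots, η i s = 1 ∨ η i s = -1
  eta_neg : ∀ i < D.rank, ∀ s < D.nroots, η i (D.neg s) = η i s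
  refl_lt : ∀ i < D.rank, ∀ s < D.nroots, D.reflectRoot i s < D.nroots
  refl_neg : ∀ i < D.rank, ∀ s < D.nroots, D.reflectRoot i (D.neg s) = D.neg (D.reflectRoot i s)
  neg_lt : ∀ s < D.nroots, D.neg s < D.nroots
  simple_lt : ∀ i < D.rank, D.simple i < D.nroots
  reach : ∀ P : ℕ → Prop, (∀ j < D.rank, P (D.simple j)) →
    (∀ i < D.rank, ∀ s < D.nroots, P s → P (D.reflectRoot i s)) → ∀ r < D.nroots, P r

section

variable {F : Type*} [Field F] {D : ChevalleyDatum} {η : ℕ → ℕ → ℤ} (h : NData F D η)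

include h

/-- `x_r(t)` as an element of the general linear group -/
def xg (r : ℕ) (t : F) : GL D.Idx F :=
  ⟨D.x F r t, D.x F r (-t), by rw [h.add, add_neg_cancel, x_zero], by
    rw [h.add, neg_add_cancel, x_zero]⟩

@[simp] theorem xg_val (r : ℕ) (t : F) :
    ((xg h r t : GL D.Idx F) : Matrix D.Idx D.Idx F) = D.x F r t := rfl

theorem xg_inv (r : ℕ) (t : F) : (xg h r t)⁻¹ = xg h r (-t) := by
  apply Units.ext
  rfl

/-- `n_r(t)` as an element of the general linear group -/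
def ng (r : ℕ) (t : F) : GL D.Idx F := xg h r t * xg h (D.neg r) (-t⁻¹) * xg h r t

theorem ng_val (r : ℕ) (t : F) :
    ((ng h r t : GL D.Idx F) : Matrix D.Idx D.Idx F) = D.nMat F r t := by
  simp [ng, ChevalleyDatum.nMat, ChevalleyDatum.nWord, ChevalleyDatum.wordMat, mul_assoc]

theorem ng_inv (r : ℕ) (t : F) : (ng h r t)⁻¹ = ng h r (-t) := by
  rw [ng, mul_inv_rev, mul_inv_rev, xg_inv, xg_inv, ng, neg_neg, inv_neg, neg_neg, mul_assoc]

/-- `h_r(t)` as an element of the general linear group -/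
def hg (r : ℕ) (t : F) : GL D.Idx F := ng h r t * ng h r (-1)

theorem hg_val (r : ℕ) (t : F) :
    ((hg h r t : GL D.Idx F) : Matrix D.Idx D.Idx F) = D.hMat F r t := by
  simp [hg, ng, ChevalleyDatum.hMat, ChevalleyDatum.hWord, ChevalleyDatum.nWord,
    ChevalleyDatum.wordMat, mul_assoc]

theorem eq_ng_of_val {g : GL D.Idx F} {r : ℕ} {t : F}
    (hg' : (g : Matrix D.Idx D.Idx F) = D.nMat F r t) : g = ng h r t :=
  Units.ext (hg'.trans (ng_val h r t).symm)

theorem eq_hg_of_val {g : GL D.Idx F} {r : ℕ} {t : F}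
    (hg' : (g : Matrix D.Idx D.Idx F) = D.hMat F r t) : g = hg h r t :=
  Units.ext (hg'.trans (hg_val h r t).symm)

theorem hg_mem (r : ℕ) (hr : r < D.nroots) (t : F) (ht : t ≠ 0) : hg h r t ∈ D.diagonalSubgroup F :=
  Subgroup.subset_closure ⟨r, t, hr, ht, hg_val h r t⟩

theorem ng_one_mem (r : ℕ) (hr : r < D.nroots) : ng h r 1 ∈ D.monomialSubgroup F :=
  Subgroup.mem_sup_right (Subgroup.subset_closure ⟨r, hr, ng_val h r 1⟩)

/-- the fundamental `n_i = n_{p_i}(1)` -/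
def Ni (i : ℕ) : GL D.Idx F := ng h (D.simple i) 1

theorem Ni_val (i : ℕ) (hi : i < D.rank) :
    ((Ni h i : GL D.Idx F) : Matrix D.Idx D.Idx F) = monoMat D i (η i) := by
  rw [Ni, ng_val, h.mono i hi]

theorem Ni_inv (i : ℕ) : (Ni h i)⁻¹ = ng h (D.simple i) (-1) := ng_inv h _ _

theorem eta_cast_inv (i : ℕ) (hi : i < D.rank) (s : ℕ) (hs : s < D.nroots) (t : F) :
    (((η i s : ℤ) : F) * t)⁻¹ = ((η i s : ℤ) : F) * t⁻¹ := by
  rcases h.eta_pm i hi s hs with e | e <;> rw [e] <;> simp [inv_neg]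

/-- conjugation of root elements by `n_i` -/
theorem conj_xg (i : ℕ) (hi : i < D.rank) (s : ℕ) (hs : s < D.nroots) (t : F) :
    Ni h i * xg h s t * (Ni h i)⁻¹ = xg h (D.reflectRoot i s) ((η i s : F) * t) := by
  rw [mul_inv_eq_iff_eq_mul]
  apply Units.ext
  rw [Units.val_mul, Units.val_mul, Ni_val h i hi, xg_val, xg_val]
  exact h.conj i hi s hs t

/-- conjugation of `n_r(t)` by `n_i` -/
theorem conj_ng (i : ℕ) (hi : i < D.rank) (s : ℕ) (hs : s < D.nroots) (t : F) :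
    Ni h i * ng h s t * (Ni h i)⁻¹ = ng h (D.reflectRoot i s) ((η i s : F) * t) := by
  have e1 : Ni h i * ng h s t * (Ni h i)⁻¹ =
      (Ni h i * xg h s t * (Ni h i)⁻¹) * (Ni h i * xg h (D.neg s) (-t⁻¹) * (Ni h i)⁻¹) *
        (Ni h i * xg h s t * (Ni h i)⁻¹) := by
    rw [ng]; group
  rw [e1, conj_xg h i hi s hs, conj_xg h i hi _ (h.neg_lt s hs), h.refl_neg i hi s hs,
    h.eta_neg i hi s hs, ng, eta_cast_inv h i hi s hs, mul_neg]

/-- The subgroup generated by `H` and the fundamental `n_i`. -/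
def N0 : Subgroup (GL D.Idx F) :=
  D.diagonalSubgroup F ⊔ Subgroup.closure {g | ∃ i < D.rank, g = Ni h i}

theorem Ni_mem_N0 (i : ℕ) (hi : i < D.rank) : Ni h i ∈ N0 h :=
  Subgroup.mem_sup_right (Subgroup.subset_closure ⟨i, hi, rfl⟩)

theorem ng_mem_N0 (r : ℕ) (hr : r < D.nroots) : ng h r 1 ∈ N0 h ∧ ng h r (-1) ∈ N0 h := by
  refine h.reach (fun r => ng h r 1 ∈ N0 h ∧ ng h r (-1) ∈ N0 h) ?_ ?_ r hr
  · intro j hj
    refine ⟨Ni_mem_N0 h j hj, ?_⟩
    rw [← Ni_inv]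
    exact inv_mem (Ni_mem_N0 h j hj)
  · intro i hi s hs ⟨h1, h2⟩
    have hN := Ni_mem_N0 h i hi
    have c1 := conj_ng h i hi s hs 1
    have c2 := conj_ng h i hi s hs (-1)
    have m1 : Ni h i * ng h s 1 * (Ni h i)⁻¹ ∈ N0 h := mul_mem (mul_mem hN h1) (inv_mem hN)
    have m2 : Ni h i * ng h s (-1) * (Ni h i)⁻¹ ∈ N0 h := mul_mem (mul_mem hN h2) (inv_mem hN)
    rw [c1] at m1
    rw [c2] at m2
    rcases h.eta_pm i hi s hs with e | e
    · rw [e] at m1 m2
      simp only [Int.cast_one, one_mul] at m1 m2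
      exact ⟨m1, m2⟩
    · rw [e] at m1 m2
      simp only [Int.cast_neg, Int.cast_one, neg_mul, one_mul, neg_neg] at m1 m2
      exact ⟨m2, m1⟩

/-- `N` is generated by `H` and the fundamental `n_i`. -/
theorem monomial_eq_N0 : D.monomialSubgroup F = N0 h := by
  apply le_antisymm
  · rw [ChevalleyDatum.monomialSubgroup]
    apply sup_le le_sup_left
    rw [Subgroup.closure_le]
    rintro g ⟨r, hr, hg'⟩
    rw [eq_ng_of_val h hg']
    exact (ng_mem_N0 h r hr).1
  · rw [N0]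
    apply sup_le
    · exact le_sup_left
    · rw [Subgroup.closure_le]
      rintro g ⟨i, hi, rfl⟩
      exact ng_one_mem h _ (h.simple_lt i hi)

/-- `n_i` conjugates the generators of `H` into `H`. -/
theorem conj_hg_mem (i : ℕ) (hi : i < D.rank) (r : ℕ) (hr : r < D.nroots) (t : F) (ht : t ≠ 0) :
    Ni h i * hg h r t * (Ni h i)⁻¹ ∈ D.diagonalSubgroup F := by
  have e1 : Ni h i * hg h r t * (Ni h i)⁻¹ =
      (Ni h i * ng h r t * (Ni h i)⁻¹) * (Ni h i * ng h r (-1) * (Ni h i)⁻¹) := by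
    rw [hg]; group
  rw [e1, conj_ng h i hi r hr, conj_ng h i hi r hr]
  have hw := h.refl_lt i hi r hr
  rcases h.eta_pm i hi r hr with e | e
  · rw [e]
    simp only [Int.cast_one, one_mul]
    exact hg_mem h _ hw t ht
  · rw [e]
    simp only [Int.cast_neg, Int.cast_one, neg_mul, one_mul, neg_neg]
    -- n(-t) n(1) = h(-t) * h(-1)⁻¹
    have e2 : ng h (D.reflectRoot i r) (-t) * ng h (D.reflectRoot i r) 1 =
        hg h (D.reflectRoot i r) (-t) * (hg h (D.reflectRoot i r) (-1))⁻¹ := by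
      have e3 : ng h (D.reflectRoot i r) 1 = (ng h (D.reflectRoot i r) (-1))⁻¹ := by
        rw [ng_inv, neg_neg]
      rw [e3, hg, hg]
      group
    rw [e2]
    exact mul_mem (hg_mem h _ hw (-t) (neg_ne_zero.mpr ht))
      (inv_mem (hg_mem h _ hw (-1) (neg_ne_zero.mpr one_ne_zero)))

theorem conj_mem_H (i : ℕ) (hi : i < D.rank) {g : GL D.Idx F} (hg' : g ∈ D.diagonalSubgroup F) :
    Ni h i * g * (Ni h i)⁻¹ ∈ D.diagonalSubgroup F := by
  have key : D.diagonalSubgroup F ≤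
      (D.diagonalSubgroup F).comap (MulAut.conj (Ni h i)).toMonoidHom := by
    conv_lhs => rw [ChevalleyDatum.diagonalSubgroup]
    rw [Subgroup.closure_le]
    rintro y ⟨r, t, hr, ht, hy⟩
    rw [SetLike.mem_coe, Subgroup.mem_comap]
    change Ni h i * y * (Ni h i)⁻¹ ∈ D.diagonalSubgroup F
    rw [eq_hg_of_val h hy]
    exact conj_hg_mem h i hi r hr t ht
  exact key hg'

theorem Ni_sq_inv_mem (i : ℕ) (hi : i < D.rank) : (Ni h i)⁻¹ * (Ni h i)⁻¹ ∈ D.diagonalSubgroup F := by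
  rw [Ni_inv]
  exact hg_mem h _ (h.simple_lt i hi) (-1) (neg_ne_zero.mpr one_ne_zero)

theorem Ni_sq_mem (i : ℕ) (hi : i < D.rank) : Ni h i * Ni h i ∈ D.diagonalSubgroup F := by
  have := inv_mem (Ni_sq_inv_mem h i hi)
  rwa [mul_inv_rev, inv_inv] at this

theorem conj_inv_mem_H (i : ℕ) (hi : i < D.rank) {g : GL D.Idx F} (hg' : g ∈ D.diagonalSubgroup F) :
    (Ni h i)⁻¹ * g * Ni h i ∈ D.diagonalSubgroup F := by
  have h1 : ((Ni h i)⁻¹ * (Ni h i)⁻¹) * g * ((Ni h i)⁻¹ * (Ni h i)⁻¹)⁻¹ ∈ D.diagonalSubgroup F :=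
    mul_mem (mul_mem (Ni_sq_inv_mem h i hi) hg') (inv_mem (Ni_sq_inv_mem h i hi))
  have h2 := conj_mem_H h i hi h1
  have e : Ni h i * ((Ni h i)⁻¹ * (Ni h i)⁻¹ * g * ((Ni h i)⁻¹ * (Ni h i)⁻¹)⁻¹) * (Ni h i)⁻¹ =
      (Ni h i)⁻¹ * g * Ni h i := by group
  rwa [e] at h2

theorem Ni_mem_normalizer (i : ℕ) (hi : i < D.rank) :
    Ni h i ∈ Subgroup.normalizer (D.diagonalSubgroup F : Set (GL D.Idx F)) := by
  rw [Subgroup.mem_normalizer_iff]
  intro g
  constructor
  · exact conj_mem_H h i hi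
  · intro hg'
    have := conj_inv_mem_H h i hi hg'
    have e : (Ni h i)⁻¹ * (Ni h i * g * (Ni h i)⁻¹) * Ni h i = g := by group
    rwa [e] at this

/-- `N` normalizes `H`. -/
theorem monomial_le_normalizer :
    D.monomialSubgroup F ≤ Subgroup.normalizer (D.diagonalSubgroup F : Set (GL D.Idx F)) := by
  rw [monomial_eq_N0 h, N0]
  apply sup_le Subgroup.le_normalizer
  rw [Subgroup.closure_le]
  rintro g ⟨i, hi, rfl⟩
  exact Ni_mem_normalizer h i hi

/-- `H` is normal in `N` (statement S1038 for a datum with `NData`). -/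
theorem diagonal_normal_in_monomial :
    ((D.diagonalSubgroup F).subgroupOf (D.monomialSubgroup F)).Normal := by
  have hle : D.diagonalSubgroup F ≤ D.monomialSubgroup F := le_sup_left
  exact (Subgroup.normal_subgroupOf_iff_le_normalizer hle).mpr (monomial_le_normalizer h)

end

end Cfsg.Agent.Helper6.Chev
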