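import Cfsg.Agent.Lib.Helper6.RF4F

/-!
# `²F₄`: the orders of the two class subgroups and of their `σ`-fixed points
-/

set_option autoImplicit false
set_option linter.unusedSectionVars false
set_option linter.unusedVariables false
set_option maxRecDepth 100000

namespace Cfsg.Agent.Helper6.RF4F

open Cfsg Cfsg.Lie Cfsg.Agent.Helper18 Cfsg.Agent.Helper15.Ree4 Cfsg.Agent.Helper6.ChevGraph.F4

section

variable {K : Type*} [Field K] [CharP K 2] [Finite K] {e : ℕ} (FD : FieldData K e)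
  (α : ↥(chevF4.group K) ≃* ↥(chevF4.group K))
  (hα : ∀ (r : Fin chevF4.nroots) (t : K),
      α (ChevGraph.xG goodF4 r.val t) = ChevGraph.xG goodF4 (sig r.val) (if isShort r.val then t ^ 2 else t))

include FD hα

/-- the orders of `X_a X_b X_{a+b} X_{2a+b}` and of its `σ`-fixed points -/
theorem card_J2 (Y Z : Subgroup ↥(chevF4.group K))
    (hY : ∀ y ∈ Y, ∃ t0 t1 t2 t3 : K,
      (y : GL chevF4.Idx K) = xg 27 t0 * xg 30 t1 * xg 28 t2 * xg 25 t3)
    (hgen : ∀ t : K, Helper59.F4Suz.XG 25 t ∈ Y ∧ Helper59.F4Suz.XG 27 t ∈ Y ∧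
      Helper59.F4Suz.XG 28 t ∈ Y ∧ Helper59.F4Suz.XG 30 t ∈ Y)
    (hZ : ∀ y, y ∈ Z ↔ y ∈ Y ∧ Helper59.F4Suz.sigma FD α y = y) :
    Nat.card ↥Y = Nat.card K ^ 4 ∧ Nat.card ↥Z = Nat.card K ^ 2 := by
  constructor
  · let f : K × K × K × K → ↥Y := fun p =>
      ⟨Helper59.F4Suz.XG 25 p.1 * Helper59.F4Suz.XG 27 p.2.1 * Helper59.F4Suz.XG 28 p.2.2.1 *
        Helper59.F4Suz.XG 30 p.2.2.2,
        mul_mem (mul_mem (mul_mem (hgen _).1 (hgen _).2.1) (hgen _).2.2.1) (hgen _).2.2.2⟩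
    have hf : Function.Bijective f := by
      constructor
      · rintro ⟨a, b, c, d⟩ ⟨a', b', c', d'⟩ h
        have h1 := congrArg (fun y : ↥Y => ((y : ↥(chevF4.group K)) : GL chevF4.Idx K)) h
        simp only [f, Subgroup.coe_mul, Helper59.F4Suz.XG_val] at h1
        obtain ⟨e1, e2, e3, e4⟩ := nf_unique h1
        rw [e1, e2, e3, e4]
      · rintro ⟨y, hy⟩
        obtain ⟨t0, t1, t2, t3, h⟩ := hY y hy
        rw [nf_conv] at h
        refine ⟨(t3, t0, t0 * t3 + t2, t0 ^ 2 * t3 + t1), ?_⟩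
        apply Subtype.ext
        apply Subtype.ext
        rw [h]
        simp only [f, Subgroup.coe_mul, Helper59.F4Suz.XG_val]
    rw [← Nat.card_congr (Equiv.ofBijective f hf), Nat.card_prod, Nat.card_prod, Nat.card_prod]
    ring
  · let g : K × K → ↥Z := fun p =>
      ⟨Helper59.F4Suz.XG 27 (p.1 ^ e) * Helper59.F4Suz.XG 25 p.1 *
        Helper59.F4Suz.XG 28 (p.1 ^ (e + 1) + p.2) * Helper59.F4Suz.XG 30 (p.2 ^ (2 * e)),
        (hZ _).2 ⟨mul_mem (mul_mem (mul_mem (hgen _).2.1 (hgen _).1) (hgen _).2.2.1) (hgen _).2.2.2,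
          Helper59.F4Suz.class_fixed FD α hα 27 25 28 30 (by decide) (by decide) (by decide)
            (fun s t => Helper59.F4Suz.rel_pos s t) (comm_pair 28 30 (by simp)) p.1 p.2⟩⟩
    have hg : Function.Bijective g := by
      constructor
      · rintro ⟨t, u⟩ ⟨t', u'⟩ h
        have h1 := congrArg (fun y : ↥Z => ((y : ↥(chevF4.group K)) : GL chevF4.Idx K)) h
        simp only [g, Subgroup.coe_mul, Helper59.F4Suz.XG_val] at h1
        rw [keyL, keyL] at h1
        obtain ⟨e1, e2, e3, e4⟩ := nf_unique h1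
        subst e1
        have e5 : u = u' := add_left_cancel (add_left_cancel e3)
        rw [e5]
      · rintro ⟨z, hz⟩
        obtain ⟨hzY, hfix⟩ := (hZ z).1 hz
        obtain ⟨t0, t1, t2, t3, h⟩ := hY z hzY
        obtain ⟨t, u, h'⟩ := fix_J2 FD α hα z t0 t1 t2 t3 h hfix
        refine ⟨(t, u), ?_⟩
        apply Subtype.ext
        apply Subtype.ext
        rw [h']
        simp only [g, Subgroup.coe_mul, Helper59.F4Suz.XG_val]
    rw [← Nat.card_congr (Equiv.ofBijective g hg), Nat.card_prod]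
    ring

/-- the orders of `X_{p₁} X_{p₄}` and of its `σ`-fixed points -/
theorem card_J1 (Y Z : Subgroup ↥(chevF4.group K))
    (hY : ∀ y ∈ Y, ∃ t0 t1 : K, (y : GL chevF4.Idx K) = xg 33 t0 * xg 24 t1)
    (hgen : ∀ t : K, Helper59.F4Suz.XG 33 t ∈ Y ∧ Helper59.F4Suz.XG 24 t ∈ Y)
    (hZ : ∀ y, y ∈ Z ↔ y ∈ Y ∧ Helper59.F4Suz.sigma FD α y = y) :
    Nat.card ↥Y = Nat.card K ^ 2 ∧ Nat.card ↥Z = Nat.card K := by
  constructor
  · let f : K × K → ↥Y := fun p =>
      ⟨Helper59.F4Suz.XG 24 p.1 * Helper59.F4Suz.XG 33 p.2, mul_mem (hgen _).2 (hgen _).1⟩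
    have hf : Function.Bijective f := by
      constructor
      · rintro ⟨a, b⟩ ⟨a', b'⟩ h
        have h1 := congrArg (fun y : ↥Y => ((y : ↥(chevF4.group K)) : GL chevF4.Idx K)) h
        simp only [f, Subgroup.coe_mul, Helper59.F4Suz.XG_val] at h1
        obtain ⟨e1, e2⟩ := nf1_unique h1
        rw [e1, e2]
      · rintro ⟨y, hy⟩
        obtain ⟨t0, t1, h⟩ := hY y hy
        rw [comm_pair 33 24 (by simp)] at h
        refine ⟨(t1, t0), ?_⟩
        apply Subtype.ext
        apply Subtype.ext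
        rw [h]
        simp only [f, Subgroup.coe_mul, Helper59.F4Suz.XG_val]
    rw [← Nat.card_congr (Equiv.ofBijective f hf), Nat.card_prod]
    ring
  · let g : K → ↥Z := fun t =>
      ⟨Helper59.F4Suz.XG 33 (t ^ e) * Helper59.F4Suz.XG 24 t,
        (hZ _).2 ⟨mul_mem (hgen _).1 (hgen _).2,
          Helper59.F4Suz.pair_fixed FD α hα 33 24 (by decide) (by decide) (by decide) (by decide)
            (by decide) (by decide) (comm_pair 33 24 (by simp)) t⟩⟩
    have hg : Function.Bijective g := by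
      constructor
      · intro t t' h
        have h1 := congrArg (fun y : ↥Z => ((y : ↥(chevF4.group K)) : GL chevF4.Idx K)) h
        simp only [g, Subgroup.coe_mul, Helper59.F4Suz.XG_val] at h1
        rw [comm_pair 33 24 (by simp), comm_pair 33 24 (by simp)] at h1
        exact (nf1_unique h1).1
      · rintro ⟨z, hz⟩
        obtain ⟨hzY, hfix⟩ := (hZ z).1 hz
        obtain ⟨t0, t1, h⟩ := hY z hzY
        obtain ⟨t, h'⟩ := fix_J1 FD α hα z t0 t1 h hfix
        refine ⟨t, ?_⟩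
        apply Subtype.ext
        apply Subtype.ext
        rw [h']
        simp only [g, Subgroup.coe_mul, Helper59.F4Suz.XG_val]
    rw [← Nat.card_congr (Equiv.ofBijective g hg)]

end

end Cfsg.Agent.Helper6.RF4F
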