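import Cfsg.Agent.Lib.Helper6.ChevWeylMap

/-!
# Twisted groups: fixed points of `σ = (conjugation by a signed permutation) ∘ (field endomorphism)`

For a ring endomorphism `φ` of the field and an element `Pg` of `GL` permuting the root elements,
`τ g = Pg * φ(g) * Pg⁻¹` is an endomorphism of `GL`.  Elements of the monomial group `N` fixed by `τ`
act on the root lines through an element of the Weyl group commuting with the permutation `Pm`
induced by `Pg`.
-/

set_option autoImplicit false
set_option linter.unusedSectionVars false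

namespace Cfsg.Agent.Helper6.Twist

open Cfsg.Lie Cfsg.Agent.Helper18 Cfsg.Agent.Helper6.Weyl Cfsg.Agent.Helper6.Chev

/-! ### entrywise ring homomorphisms and root elements -/

section Map

variable {F : Type*} [Field F] (φ : F →+* F) (D : ChevalleyDatum)

theorem xMat_map (r : Fin D.nroots) (t : F) :
    (D.xMat F r t).map φ = D.xMat F r (φ t) := by
  ext row col
  rw [Matrix.map_apply]
  rcases col with i | s
  · rcases row with i' | u
    · simp only [ChevalleyDatum.xMat, Matrix.of_apply]
      split_ifs <;> simp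
    · simp only [ChevalleyDatum.xMat, Matrix.of_apply]
      split_ifs <;> simp
  · simp only [ChevalleyDatum.xMat, Matrix.of_apply]
    by_cases h1 : s = r
    · rw [if_pos h1, if_pos h1]
      rcases row with i' | u
      · simp
      · simp only []
        split_ifs <;> simp
    · rw [if_neg h1, if_neg h1]
      by_cases h2 : s.val = D.negIdx.getD r.val 0
      · rw [if_pos h2, if_pos h2]
        rcases row with i' | u
        · simp
        · simp only []
          split_ifs <;> simp
      · rw [if_neg h2, if_neg h2]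
        rcases row with i' | u
        · simp
        · simp only []
          rw [map_add, map_list_sum, List.map_map]
          congr 1
          · split_ifs <;> simp
          · congr 1
            apply List.map_congr_left
            intro km _
            simp

theorem x_map (r : ℕ) (t : F) : (D.x F r t).map φ = D.x F r (φ t) := by
  unfold ChevalleyDatum.x
  split_ifs with h
  · exact xMat_map φ D ⟨r, h⟩ t
  · ext i j
    rw [Matrix.map_apply]
    by_cases hij : i = j
    · subst hij; simp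
    · simp [Matrix.one_apply_ne hij]

end Map

/-! ### the endomorphism `τ` -/

section Tau

variable {F : Type*} [Field F] {D : ChevalleyDatum} {η : ℕ → ℕ → ℤ} (h : NData F D η)
  (φ : F →+* F) (Pg : GL D.Idx F) (R : ℕ → ℕ) (ηs : ℕ → ℤ)

/-- the endomorphism `g ↦ Pg * φ(g) * Pg⁻¹` of `GL` -/
noncomputable def tau : GL D.Idx F →* GL D.Idx F :=
  (MulAut.conj Pg).toMonoidHom.comp (Matrix.GeneralLinearGroup.map φ)

theorem tau_apply (g : GL D.Idx F) :
    tau φ Pg g = Pg * Matrix.GeneralLinearGroup.map φ g * Pg⁻¹ := rfl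

/-- the subgroup of fixed points of `τ` -/
noncomputable def fixTau : Subgroup (GL D.Idx F) := (tau φ Pg).eqLocus (MonoidHom.id _)

theorem mem_fixTau (g : GL D.Idx F) : g ∈ fixTau φ Pg ↔ tau φ Pg g = g := Iff.rfl

include h in
theorem map_xg (r : ℕ) (t : F) :
    Matrix.GeneralLinearGroup.map φ (xg h r t) = xg h r (φ t) := by
  apply Units.ext
  change ((xg h r t : GL D.Idx F) : Matrix D.Idx D.Idx F).map φ = _
  rw [xg_val, xg_val, x_map]

variable (hconj : ∀ s < D.nroots, ∀ t : F, (Pg : Matrix D.Idx D.Idx F) * D.x F s t =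
      D.x F (R s) ((ηs s : F) * t) * (Pg : Matrix D.Idx D.Idx F))

include hconj in
theorem tau_xg (s : ℕ) (hs : s < D.nroots) (t : F) :
    tau φ Pg (xg h s t) = xg h (R s) ((ηs s : F) * φ t) := by
  rw [tau_apply, map_xg]
  rw [mul_inv_eq_iff_eq_mul]
  apply Units.ext
  rw [Units.val_mul, Units.val_mul, xg_val, xg_val]
  exact hconj s hs (φ t)

include hconj in
/-- a root element of a `σ`-stable root with fixed parameter is fixed -/
theorem fix_one (r : ℕ) (hr : r < D.nroots) (hR : R r = r) (hη : ηs r = 1) (t : F) (ht : φ t = t) :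
    xg h r t ∈ fixTau φ Pg := by
  rw [mem_fixTau, tau_xg h φ Pg R ηs hconj r hr, hR, hη, ht]
  simp

include hconj in
/-- the product over an orbit of length two -/
theorem fix_two (r1 r2 : ℕ) (h1 : r1 < D.nroots) (h2 : r2 < D.nroots)
    (hR1 : R r1 = r2) (hR2 : R r2 = r1) (hη1 : ηs r1 = 1) (hη2 : ηs r2 = 1)
    (hc : ∀ a b : F, xg h r1 a * xg h r2 b = xg h r2 b * xg h r1 a)
    (t : F) (ht : φ (φ t) = t) :
    xg h r1 t * xg h r2 (φ t) ∈ fixTau φ Pg := by
  rw [mem_fixTau, map_mul, tau_xg h φ Pg R ηs hconj r1 h1, tau_xg h φ Pg R ηs hconj r2 h2,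
    hR1, hR2, hη1, hη2, ht]
  simp only [Int.cast_one, one_mul]
  exact (hc _ _).symm

include hconj in
/-- the product over an orbit of length three -/
theorem fix_three (r1 r2 r3 : ℕ) (h1 : r1 < D.nroots) (h2 : r2 < D.nroots) (h3 : r3 < D.nroots)
    (hR1 : R r1 = r2) (hR2 : R r2 = r3) (hR3 : R r3 = r1)
    (hη1 : ηs r1 = 1) (hη2 : ηs r2 = 1) (hη3 : ηs r3 = 1)
    (hc12 : ∀ a b : F, xg h r1 a * xg h r2 b = xg h r2 b * xg h r1 a)
    (hc13 : ∀ a b : F, xg h r1 a * xg h r3 b = xg h r3 b * xg h r1 a)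
    (t : F) (ht : φ (φ (φ t)) = t) :
    xg h r1 t * xg h r2 (φ t) * xg h r3 (φ (φ t)) ∈ fixTau φ Pg := by
  rw [mem_fixTau, map_mul, map_mul, tau_xg h φ Pg R ηs hconj r1 h1, tau_xg h φ Pg R ηs hconj r2 h2,
    tau_xg h φ Pg R ηs hconj r3 h3, hR1, hR2, hR3, hη1, hη2, hη3, ht]
  simp only [Int.cast_one, one_mul]
  rw [mul_assoc, ← hc13, ← mul_assoc, ← hc12]

end Tau

/-! ### fixed elements of `N` act through the centraliser of the diagram symmetry -/

section Comm

variable {F : Type*} [Field F] {D : ChevalleyDatum} {η : ℕ → ℕ → ℤ} (h : NData F D η)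
  {l : ℕ} {V : VDatum l} {vec : ℕ → Vec l} (B : Bridge D V vec)
  (hsimp : ∀ j < D.rank, ∀ c : F, c ≠ 0 → D.hMat F (D.simple j) c =
    Matrix.diagonal (Sum.elim (fun _ => (1 : F)) (fun s : Fin D.nroots => c ^ (D.cartan j s))))
  (φ : F →+* F) (Pg : GL D.Idx F) (Pm : (Mat l)ˣ)
  (hPact : Act vec (Pg : Matrix D.Idx D.Idx F) Pm)

theorem act_map {g : GL D.Idx F} {u : (Mat l)ˣ} (hg : Act vec (g : Matrix D.Idx D.Idx F) u) :
    Act vec ((Matrix.GeneralLinearGroup.map φ g : GL D.Idx F) : Matrix D.Idx D.Idx F) u := by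
  intro s row hne
  apply hg s row
  intro h0
  apply hne
  change φ ((g : Matrix D.Idx D.Idx F) row (Sum.inr s)) = 0
  rw [h0, map_zero]

include h B hsimp hPact in
theorem theta_comm_of_fixed (g : ↥(D.monomialSubgroup F))
    (hfix : (g : GL D.Idx F) ∈ fixTau φ Pg) :
    ((thetaHom h B hsimp g : V.Wf) : (Mat l)ˣ) * Pm = Pm * ((thetaHom h B hsimp g : V.Wf) : (Mat l)ˣ) := by
  rw [mem_fixTau, tau_apply, mul_inv_eq_iff_eq_mul] at hfix
  have hw : Act vec ((g : GL D.Idx F) : Matrix D.Idx D.Idx F) ((thetaHom h B hsimp g : V.Wf) : (Mat l)ˣ) :=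
    (theta_spec h B hsimp g).1
  have act1 : Act vec ((Pg * Matrix.GeneralLinearGroup.map φ (g : GL D.Idx F) : GL D.Idx F) :
      Matrix D.Idx D.Idx F) (Pm * ((thetaHom h B hsimp g : V.Wf) : (Mat l)ˣ)) := by
    rw [Units.val_mul]
    exact act_mul vec hPact (act_map φ hw)
  have act2 : Act vec (((g : GL D.Idx F) * Pg : GL D.Idx F) : Matrix D.Idx D.Idx F)
      (((thetaHom h B hsimp g : V.Wf) : (Mat l)ˣ) * Pm) := by
    rw [Units.val_mul]
    exact act_mul vec hw hPact
  rw [hfix] at act1
  exact act_unique vec B h.simple_lt _ act2 act1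

end Comm

end Cfsg.Agent.Helper6.Twist
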