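import Cfsg.Agent.Lib.Helper6.WeylDatum

/-!
# Kernel-checkable certificates for root data: positive roots and orbits given by codes

Vectors with coordinates in `[-8, 7]` are encoded as natural numbers in base 16 (digit = coordinate + 8).
-/

set_option autoImplicit false
set_option linter.unusedSectionVars false

namespace Cfsg.Agent.Helper6.Weyl

open Matrix

variable {n : ℕ}

/-- decode a base-16 code into a vector -/
def decode (n : ℕ) (c : ℕ) : Vec n := fun j => ((c / 16 ^ (j : ℕ) % 16 : ℕ) : ℤ) - 8

theorem decode_inj : ∀ (n : ℕ) (c c' : ℕ), c < 16 ^ n → c' < 16 ^ n →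
    decode n c = decode n c' → c = c' := by
  intro n
  induction n with
  | zero =>
    intro c c' hc hc' _
    simp at hc hc'
    omega
  | succ n ih =>
    intro c c' hc hc' h
    have h0 := congrFun h 0
    simp only [decode, Fin.val_zero, pow_zero, Nat.div_one] at h0
    have h0' : c % 16 = c' % 16 := by omega
    have h1 : decode n (c / 16) = decode n (c' / 16) := by
      funext j
      have := congrFun h j.succ
      simp only [decode, Fin.val_succ, pow_succ] at this
      simp only [decode]
      rw [Nat.div_div_eq_div_mul, Nat.div_div_eq_div_mul, mul_comm 16]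
      exact this
    have h2 := ih (c / 16) (c' / 16)
      (by rw [pow_succ] at hc; omega) (by rw [pow_succ] at hc'; omega) h1
    omega

theorem dig_low (Q b i j : ℕ) (hj : j < i) :
    (Q * 16 ^ i + b) / 16 ^ j % 16 = b / 16 ^ j % 16 := by
  obtain ⟨k, rfl⟩ : ∃ k, i = j + 1 + k := ⟨i - (j + 1), by omega⟩
  have h : Q * 16 ^ (j + 1 + k) = 16 ^ j * (16 * (Q * 16 ^ k)) := by ring
  rw [h, Nat.mul_add_div (by positivity), Nat.mul_add_mod]

theorem dig_high (Q b i k : ℕ) (hb : b < 16 ^ i) :
    (Q * 16 ^ i + b) / 16 ^ (i + k) = Q / 16 ^ k := by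
  rw [pow_add, ← Nat.div_div_eq_div_mul, mul_comm Q, Nat.mul_add_div (by positivity),
    Nat.div_eq_of_lt hb, add_zero]

/-- adding `t * 16 ^ i` to a code changes only the digit `i`, as long as it stays in range -/
theorem decode_shift (n c : ℕ) (i : Fin n) (t : ℤ)
    (h0 : 0 ≤ ((c / 16 ^ (i : ℕ) % 16 : ℕ) : ℤ) + t)
    (h1 : ((c / 16 ^ (i : ℕ) % 16 : ℕ) : ℤ) + t ≤ 15) :
    decode n (Int.toNat ((c : ℤ) + t * 16 ^ (i : ℕ))) = decode n c + t • Pi.single i 1 := by
  set q := c / 16 ^ (i : ℕ) with hq
  set b := c % 16 ^ (i : ℕ) with hb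
  have hblt : b < 16 ^ (i : ℕ) := Nat.mod_lt _ (by positivity)
  have hc : c = q * 16 ^ (i : ℕ) + b := by
    rw [hq, hb, mul_comm]; exact (Nat.div_add_mod c _).symm
  obtain ⟨d', hd'⟩ : ∃ d' : ℕ, (d' : ℤ) = ((q % 16 : ℕ) : ℤ) + t :=
    ⟨Int.toNat _, Int.toNat_of_nonneg h0⟩
  have hd'15 : d' ≤ 15 := by omega
  have hq16 : q = 16 * (q / 16) + q % 16 := (Nat.div_add_mod q 16).symm
  set a := q / 16 with ha
  set d := q % 16 with hd
  have hc' : Int.toNat ((c : ℤ) + t * 16 ^ (i : ℕ)) = (16 * a + d') * 16 ^ (i : ℕ) + b := by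
    have : (c : ℤ) + t * 16 ^ (i : ℕ) = (((16 * a + d') * 16 ^ (i : ℕ) + b : ℕ) : ℤ) := by
      push_cast
      rw [hd']
      conv_lhs => rw [hc, hq16]
      push_cast
      ring
    rw [this, Int.toNat_natCast]
  rw [hc']
  funext j
  simp only [decode, Pi.add_apply, Pi.smul_apply, Pi.single_apply, smul_eq_mul]
  rcases lt_trichotomy (j : ℕ) (i : ℕ) with hji | hji | hji
  · have hne : j ≠ i := fun h => by rw [h] at hji; exact lt_irrefl _ hji
    rw [if_neg hne, mul_zero, add_zero, dig_low _ _ _ _ hji]
    conv_rhs => rw [hc, dig_low _ _ _ _ hji]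
  · have he : j = i := Fin.ext hji
    subst he
    rw [if_pos rfl, mul_one]
    have e1 := dig_high (16 * a + d') b (j : ℕ) 0 hblt
    have e2 := dig_high q b (j : ℕ) 0 hblt
    rw [add_zero, pow_zero, Nat.div_one] at e1 e2
    rw [e1, ← hc] at *
    rw [← hq]
    have : (16 * a + d') % 16 = d' := by omega
    rw [this, hd']
    ring
  · have hne : j ≠ i := fun h => by rw [h] at hji; exact lt_irrefl _ hji
    obtain ⟨k, hk⟩ : ∃ k, (j : ℕ) = (i : ℕ) + (k + 1) := ⟨(j : ℕ) - (i : ℕ) - 1, by omega⟩
    rw [if_neg hne, mul_zero, add_zero, hk, dig_high _ _ _ _ hblt]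
    conv_rhs => rw [hc, dig_high _ _ _ _ hblt]
    have e1 : (16 * a + d') / 16 ^ (k + 1) = a / 16 ^ k := by
      rw [pow_succ', ← Nat.div_div_eq_div_mul]
      congr 1
      omega
    have e2 : q / 16 ^ (k + 1) = a / 16 ^ k := by
      rw [pow_succ', ← Nat.div_div_eq_div_mul]
    rw [e1, e2]

/-- force the evaluation of a natural number before continuing (for kernel computations) -/
def forceNat {α : Type} (x : ℕ) (k : ℕ → α) : α := Nat.rec (k 0) (fun m _ => k (m + 1)) x

theorem forceNat_eq {α : Type} (x : ℕ) (k : ℕ → α) : forceNat x k = k x := by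
  cases x <;> rfl

/-- the code of the reflected vector -/
def reflCode (A : Mat n) (i : Fin n) (c : ℕ) : ℕ :=
  Int.toNat ((c : ℤ) - pair A i (decode n c) * 16 ^ (i : ℕ))

/-- the new digit stays in range -/
def inRange (A : Mat n) (i : Fin n) (c : ℕ) : Bool :=
  decide (0 ≤ ((c / 16 ^ (i : ℕ) % 16 : ℕ) : ℤ) - pair A i (decode n c)) &&
    decide (((c / 16 ^ (i : ℕ) % 16 : ℕ) : ℤ) - pair A i (decode n c) ≤ 15)

theorem reflCode_spec {A : Mat n} {i : Fin n} {c : ℕ} (h : inRange A i c = true) :
    decode n (reflCode A i c) = (refl A i).mulVec (decode n c) := by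
  unfold inRange at h
  rw [Bool.and_eq_true] at h
  have h0 := of_decide_eq_true h.1
  have h1 := of_decide_eq_true h.2
  have := decode_shift n c i (-pair A i (decode n c)) (by linarith) (by linarith)
  unfold reflCode
  rw [show (c : ℤ) - pair A i (decode n c) * 16 ^ (i : ℕ) =
    (c : ℤ) + -pair A i (decode n c) * 16 ^ (i : ℕ) by ring, this]
  funext m
  rw [refl_mulVec_apply]
  simp only [Pi.add_apply, Pi.smul_apply, Pi.single_apply, smul_eq_mul]
  split_ifs <;> ring

/-- one verified reflection step inside a list of codes -/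
def stepOK (A : Mat n) (codes : List ℕ) (i : Fin n) (c : ℕ) : Bool :=
  inRange A i c && forceNat (reflCode A i c) fun r => codes.contains r

theorem stepOK_spec {A : Mat n} {codes : List ℕ} {i : Fin n} {c : ℕ}
    (h : stepOK A codes i c = true) :
    reflCode A i c ∈ codes ∧ decode n (reflCode A i c) = (refl A i).mulVec (decode n c) := by
  unfold stepOK at h
  rw [Bool.and_eq_true, forceNat_eq] at h
  exact ⟨by simpa using h.2, reflCode_spec h.1⟩

/-- the code of the zero vector -/
def codeZ (n : ℕ) : ℕ := 8 * ((16 ^ n - 1) / 15)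

/-- the code of the `l`-th simple root -/
def codeE (n : ℕ) (l : Fin n) : ℕ := codeZ n + 16 ^ (l : ℕ)

/-- the codes of the simple roots decode correctly (to be checked by computation for each `n`) -/
def baseOK (n : ℕ) : Bool :=
  (List.finRange n).all fun l => decide (decode n (codeE n l) = Pi.single l 1)

theorem baseOK_spec (h : baseOK n = true) (l : Fin n) : decode n (codeE n l) = Pi.single l 1 := by
  unfold baseOK at h
  rw [List.all_eq_true] at h
  exact of_decide_eq_true (h l (List.mem_finRange l))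

/-- certificate that the decoded list is stable under reflections, except at the simple roots -/
def reflMemOK (A : Mat n) (codes : List ℕ) : Bool :=
  baseOK n && (List.finRange n).all fun i =>
    codes.all fun c => (c == codeE n i) || stepOK A codes i c

theorem reflMemOK_spec {A : Mat n} {codes : List ℕ} (h : reflMemOK A codes = true) :
    ∀ i, ∀ β ∈ codes.map (decode n), β ≠ Pi.single i 1 →
      (refl A i).mulVec β ∈ codes.map (decode n) := by
  intro i β hβ hne
  obtain ⟨c, hc, rfl⟩ := List.mem_map.1 hβ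
  unfold reflMemOK at h
  rw [Bool.and_eq_true, List.all_eq_true] at h
  obtain ⟨hb, h⟩ := h
  have h1 := h i (List.mem_finRange i)
  rw [List.all_eq_true] at h1
  have h2 := h1 c hc
  rw [Bool.or_eq_true] at h2
  rcases h2 with h2 | h2
  · have : c = codeE n i := by simpa using h2
    rw [this, baseOK_spec hb] at hne
    exact absurd rfl hne
  · obtain ⟨h3, h4⟩ := stepOK_spec h2
    exact List.mem_map.2 ⟨_, h3, h4⟩

variable (J : Fin n → Prop) [DecidablePred J]

/-- closedness certificate for an orbit list -/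
def closedOK (A : Mat n) (codes : List ℕ) : Bool :=
  (List.finRange n).all fun i => !decide (J i) || codes.all fun c => stepOK A codes i c

theorem closedOK_spec {A : Mat n} {codes : List ℕ} (h : closedOK J A codes = true) {i : Fin n}
    (hi : J i) {c : ℕ} (hc : c ∈ codes) :
    reflCode A i c ∈ codes ∧ decode n (reflCode A i c) = (refl A i).mulVec (decode n c) := by
  unfold closedOK at h
  rw [List.all_eq_true] at h
  have h1 := h i (List.mem_finRange i)
  rw [Bool.or_eq_true] at h1
  rcases h1 with h1 | h1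
  · simp [hi] at h1
  · rw [List.all_eq_true] at h1
    exact stepOK_spec (h1 c hc)

/-- reachability certificate -/
def reachOK (A : Mat n) : List ℕ → List ℕ → Bool
  | _, [] => true
  | seen, c :: rest =>
    ((List.finRange n).any fun i =>
        decide (J i) && forceNat (reflCode A i c) fun r => seen.contains r) &&
      reachOK A (c :: seen) rest

variable (D : VDatum n)

theorem reach_sound (lam : Vec n) (codes : List ℕ) (hcl : closedOK J D.A codes = true) :
    ∀ (rest seen : List ℕ),
      (∀ c ∈ seen, c ∈ codes ∧ ∃ w ∈ D.W J, w • lam = decode n c) →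
      (∀ c ∈ rest, c ∈ codes) → reachOK J D.A seen rest = true →
      ∀ c ∈ rest, ∃ w ∈ D.W J, w • lam = decode n c := by
  intro rest
  induction rest with
  | nil => intro _ _ _ _ c hc; simp at hc
  | cons c0 rest ih =>
    intro seen hseen hrest hr c hc
    unfold reachOK at hr
    rw [Bool.and_eq_true] at hr
    obtain ⟨hr1, hr2⟩ := hr
    have hc0 : ∃ w ∈ D.W J, w • lam = decode n c0 := by
      rw [List.any_eq_true] at hr1
      obtain ⟨i, _, hi⟩ := hr1
      rw [Bool.and_eq_true] at hi
      have hJi : J i := of_decide_eq_true hi.1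
      have hmem : reflCode D.A i c0 ∈ seen := by
        have := hi.2
        rw [forceNat_eq] at this
        simpa using this
      obtain ⟨_, w, hw, hwl⟩ := hseen _ hmem
      obtain ⟨_, h4⟩ := closedOK_spec J hcl hJi (hrest c0 (by simp))
      refine ⟨D.s i * w, (D.W J).mul_mem (D.s_mem_W J hJi) hw, ?_⟩
      rw [mul_smul, hwl, h4]
      change D.s i • (D.s i • decode n c0) = decode n c0
      rw [← mul_smul, VDatum.s_mul_s, one_smul]
    rcases List.mem_cons.1 hc with rfl | hc'
    · exact hc0
    · apply ih (c0 :: seen) ?_ (fun c hc => hrest c (List.mem_cons_of_mem _ hc)) hr2 c hc'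
      intro c1 hc1
      rcases List.mem_cons.1 hc1 with rfl | hc1
      · exact ⟨hrest _ (by simp), hc0⟩
      · exact hseen c1 hc1

theorem orbit_eq (c0 : ℕ) (rest : List ℕ) (hcl : closedOK J D.A (c0 :: rest) = true)
    (hr : reachOK J D.A [c0] rest = true) :
    MulAction.orbit (D.W J) (decode n c0) = {v | v ∈ (c0 :: rest).map (decode n)} := by
  ext v
  constructor
  · rintro ⟨⟨w, hw⟩, rfl⟩
    change w • decode n c0 ∈ _
    obtain ⟨L, hL, rfl⟩ := D.exists_word J hw
    induction L with
    | nil => simp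
    | cons i L ih =>
      have hL' : ∀ j ∈ L, J j := fun j hj => hL j (List.mem_cons_of_mem _ hj)
      have := ih hL' (D.wpM_mem_W J hL')
      rw [Set.mem_ofPred_eq] at this ⊢
      obtain ⟨c, hc, hcv⟩ := List.mem_map.1 this
      obtain ⟨h3, h4⟩ := closedOK_spec J hcl (hL i (by simp)) hc
      rw [VDatum.wpM_cons, mul_smul, ← hcv]
      exact List.mem_map.2 ⟨_, h3, h4⟩
  · intro hv
    rw [Set.mem_ofPred_eq] at hv
    obtain ⟨c, hc, rfl⟩ := List.mem_map.1 hv
    have h0 : ∃ w ∈ D.W J, w • decode n c0 = decode n c0 := ⟨1, (D.W J).one_mem, one_smul _ _⟩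
    have : ∃ w ∈ D.W J, w • decode n c0 = decode n c := by
      rcases List.mem_cons.1 hc with rfl | hc'
      · exact h0
      · apply reach_sound J D (decode n c0) (c0 :: rest) hcl rest [c0] ?_
          (fun c hc => List.mem_cons_of_mem _ hc) hr c hc'
        intro c1 hc1
        rw [List.mem_singleton] at hc1
        subst hc1
        exact ⟨by simp, h0⟩
    obtain ⟨w, hw, hwl⟩ := this
    exact ⟨⟨w, hw⟩, hwl⟩

theorem orbit_ncard (c0 : ℕ) (rest : List ℕ) (hcl : closedOK J D.A (c0 :: rest) = true)
    (hr : reachOK J D.A [c0] rest = true) (hnd : (c0 :: rest).Nodup)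
    (hlt : ∀ c ∈ c0 :: rest, c < 16 ^ n) :
    (MulAction.orbit (D.W J) (decode n c0)).ncard = rest.length + 1 := by
  rw [orbit_eq J D c0 rest hcl hr]
  have hnd' : ((c0 :: rest).map (decode n)).Nodup := by
    apply List.Nodup.map_on _ hnd
    intro a ha b hb hab
    exact decode_inj n a b (hlt a ha) (hlt b hb) hab
  have : {v | v ∈ (c0 :: rest).map (decode n)} = ↑((c0 :: rest).map (decode n)).toFinset := by
    ext v; simp
  rw [this, Set.ncard_coe_finset, List.toFinset_card_of_nodup hnd']
  simp

end Cfsg.Agent.Helper6.Weyl
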