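import Cfsg.Agent.Lib.Helper6.ChevWeylMap
import Cfsg.Agent.Lib.Helper6.WeylCert

/-!
# Bridge between a Chevalley datum and the integral model of its Weyl group, via vector codes
-/

set_option autoImplicit false

namespace Cfsg.Agent.Helper6.Chev

open Cfsg.Lie Cfsg.Agent.Helper18 Cfsg.Agent.Helper6.Weyl

/-- the vector attached to the root `s` by a list of codes -/
def codeVec (l : ℕ) (codes : List ℕ) (s : ℕ) : Vec l := decode l (lget codes s 0)

/-- kernel check of the bridge conditions -/
def bridgeCheck (D : ChevalleyDatum) {l : ℕ} (A : Mat l) (perm : ℕ → ℕ) (codes : List ℕ) : Bool :=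
  ((List.finRange l).all fun i => (List.range D.nroots).all fun s =>
      forceNat (lget codes s 0) fun c =>
        inRange A i c && (lget codes (dig (perm i) s) 0 == reflCode A i c)) &&
  ((List.finRange l).all fun i => decide (codeVec l codes (fSimple D i) = Pi.single i 1))

theorem bridge_of_check (D : ChevalleyDatum) {l : ℕ} (V : VDatum l) (perm : ℕ → ℕ) (codes : List ℕ)
    (hl : D.rank = l) (hperm : ∀ i < D.rank, permOK D i (perm i) = true)
    (hc : bridgeCheck D V.A perm codes = true) : Bridge D V (codeVec l codes) := by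
  rw [bridgeCheck, Bool.and_eq_true, List.all_eq_true, List.all_eq_true] at hc
  obtain ⟨h1, h2⟩ := hc
  refine ⟨hl, ?_, ?_⟩
  · intro i
    have := h2 i (List.mem_finRange i)
    rw [decide_eq_true_eq, fSimple_eq] at this
    exact this
  · intro i s hs
    have := h1 i (List.mem_finRange i)
    rw [List.all_eq_true] at this
    have := this s (List.mem_range.mpr hs)
    rw [forceNat_eq, Bool.and_eq_true, beq_iff_eq] at this
    obtain ⟨hr, he⟩ := this
    have hi : (i : ℕ) < D.rank := by rw [hl]; exact i.2
    rw [dig_of_permOK D (hperm i hi) hs] at he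
    rw [codeVec, he, reflCode_spec hr, VDatum.s_smul]
    rfl

end Cfsg.Agent.Helper6.Chev

namespace Cfsg.Agent.Helper6.Chev

/-- check that a function on naturals gives the entries of a Coxeter matrix -/
def mfCheck {l : ℕ} (M : CoxeterMatrix (Fin l)) (mf : ℕ → ℕ → ℕ) : Bool :=
  (List.finRange l).all fun i => (List.finRange l).all fun j => Nat.beq (M i j) (mf i j)

theorem mf_of_check {l : ℕ} (M : CoxeterMatrix (Fin l)) (mf : ℕ → ℕ → ℕ) (h : mfCheck M mf = true) :
    ∀ i j : Fin l, M i j = mf i j := by
  intro i j
  rw [mfCheck, List.all_eq_true] at h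
  have h1 := h i (List.mem_finRange i)
  rw [List.all_eq_true] at h1
  exact Nat.eq_of_beq_eq_true (h1 j (List.mem_finRange j))

end Cfsg.Agent.Helper6.Chev
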