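import Cfsg.Agent.Lib.Helper6.TwistFix
import Cfsg.Agent.Lib.Helper6.ChevBridge
import Cfsg.Agent.Lib.Helper18.ChevGraphAut
import Cfsg.Agent.Lib.Helper18.ChevComm

/-!
# Glue between the signed permutation matrices of `Helper18.ChevGraphAut` and `TwistFix`
-/

set_option autoImplicit false
set_option linter.unusedSectionVars false

namespace Cfsg.Agent.Helper6.Twist

open Cfsg.Lie Cfsg.Agent.Helper18 Cfsg.Agent.Helper6.Weyl Cfsg.Agent.Helper6.Chev Cfsg.Agent.S1043

section Sp

variable {F : Type*} [Field F] (D : ChevalleyDatum)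

/-- kernel check: the signed permutation maps the root line of `s` to that of a root whose coroot
vector is the image under `PmMat` -/
def actCheck (P : ℕ) {l : ℕ} (codes : List ℕ) (PmMat : Mat l) : Bool :=
  (List.range D.nroots).all fun s =>
    decide (D.rank ≤ dec8 P (D.rank + s)) && decide (dec8 P (D.rank + s) < D.rank + D.nroots) &&
      decide (codeVec l codes (dec8 P (D.rank + s) - D.rank) = PmMat.mulVec (codeVec l codes s))

theorem act_of_check (P : ℕ) (ε : ℕ → ℤ) {l : ℕ} (codes : List ℕ) (Pm : (Mat l)ˣ)
    (hc : actCheck D P codes (Pm : Mat l) = true) :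
    Act (codeVec l codes) (spMat (F := F) D (dec8 P) ε) Pm := by
  intro s row hne
  simp only [actCheck, List.all_eq_true, List.mem_range, Bool.and_eq_true, decide_eq_true_eq] at hc
  obtain ⟨⟨h1, h2⟩, h3⟩ := hc s.val s.2
  have hcode : dec8 P (code D (Sum.inr s)) = code D row := by
    by_contra hcon
    apply hne
    simp only [spMat, Matrix.of_apply, if_neg hcon]
  have hs : code D (Sum.inr s : D.Idx) = D.rank + s.val := rfl
  rw [hs] at hcode
  have hlt : dec8 P (D.rank + s.val) - D.rank < D.nroots := by omega
  refine ⟨⟨dec8 P (D.rank + s.val) - D.rank, hlt⟩, ?_, h3⟩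
  apply code_injective D
  rw [← hcode]
  change _ = D.rank + (dec8 P (D.rank + s.val) - D.rank)
  omega

/-- the conjugation formula for a checked signed permutation -/
theorem sp_conj (P S P' S' R : ℕ) (h1 : spInvCheck D P S P' S' = true)
    (h2 : ∀ s < D.nroots,
      conjCheck D (spCol (dec8 P) (etaOf S)) s (dec8 R s) (etaOf S (D.rank + s)) = true)
    (s : ℕ) (hs : s < D.nroots) (t : F) :
    ((spGL (F := F) D P S P' S' h1 : GL D.Idx F) : Matrix D.Idx D.Idx F) * D.x F s t =
      D.x F (dec8 R s) (((etaOf S (D.rank + s) : ℤ) : F) * t) *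
        ((spGL (F := F) D P S P' S' h1 : GL D.Idx F) : Matrix D.Idx D.Idx F) := by
  rw [spGL_val]
  exact conj_of_check D _ _ (fun a b row col => spMat_col D a b _ _ row col) s _ _ (h2 s hs) t

end Sp

section Gen

variable {F : Type*} [Field F] {D : ChevalleyDatum} {η : ℕ → ℕ → ℤ} (h : NData F D η)

include h in
/-- commuting root elements from the kernel-checked commutator formula with no terms -/
theorem xg_comm_of_check (r s : ℕ) (hc : commCheck D r s = true) (hnil : D.commTerms r s = [])
    (a b : F) : xg h r a * xg h s b = xg h s b * xg h r a := by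
  apply Units.ext
  rw [Units.val_mul, Units.val_mul, xg_val, xg_val]
  have := comm_of_check (F := F) D r s hc a b
  rw [ChevalleyDatum.commWord, hnil] at this
  simp only [List.map_nil, ChevalleyDatum.wordMat, List.prod_nil, mul_one] at this
  exact this.symm

include h in
theorem mem_gen_one (S : Set (List (ℕ × F))) (r : ℕ) (t : F) (hw : [(r, t)] ∈ S) :
    xg h r t ∈ D.genSubgroup F S := by
  apply Subgroup.subset_closure
  refine ⟨_, hw, ?_⟩
  simp [ChevalleyDatum.wordMat]

include h in
theorem mem_gen_two (S : Set (List (ℕ × F))) (r1 r2 : ℕ) (t1 t2 : F)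
    (hw : [(r1, t1), (r2, t2)] ∈ S) :
    xg h r1 t1 * xg h r2 t2 ∈ D.genSubgroup F S := by
  apply Subgroup.subset_closure
  refine ⟨_, hw, ?_⟩
  simp [ChevalleyDatum.wordMat]

include h in
theorem mem_gen_three (S : Set (List (ℕ × F))) (r1 r2 r3 : ℕ) (t1 t2 t3 : F)
    (hw : [(r1, t1), (r2, t2), (r3, t3)] ∈ S) :
    xg h r1 t1 * xg h r2 t2 * xg h r3 t3 ∈ D.genSubgroup F S := by
  apply Subgroup.subset_closure
  refine ⟨_, hw, ?_⟩
  simp [ChevalleyDatum.wordMat, mul_assoc]

include h in
/-- a subgroup generated by words lies in a subgroup containing the elements of the words -/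
theorem gen_le (S : Set (List (ℕ × F))) (K : Subgroup (GL D.Idx F))
    (hS : ∀ w ∈ S, ((w.map fun p => xg h p.1 p.2).prod : GL D.Idx F) ∈ K) :
    D.genSubgroup F S ≤ K := by
  rw [ChevalleyDatum.genSubgroup, Subgroup.closure_le]
  rintro g ⟨w, hw, hg⟩
  have : g = (w.map fun p => xg h p.1 p.2).prod := by
    apply Units.ext
    rw [hg, ChevalleyDatum.wordMat]
    clear hg hw
    induction w with
    | nil => simp
    | cons p w ih => simp [ih]
  rw [SetLike.mem_coe, this]
  exact hS w hw

end Gen

/-! ### rearranging products of commuting families -/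

section Rearr

variable {G : Type*} [Group G]

theorem rearr2 {a b c a' b' c' : G} (h1 : a' * b = b * a') (h2 : a' * c = c * a')
    (h3 : b' * c = c * b') :
    (a * a') * (b * b') * (c * c') = (a * b * c) * (a' * b' * c') := by
  calc (a * a') * (b * b') * (c * c') = a * (a' * b) * (b' * c) * c' := by simp only [mul_assoc]
    _ = a * (b * a') * (c * b') * c' := by rw [h1, h3]
    _ = a * b * (a' * c) * b' * c' := by simp only [mul_assoc]
    _ = a * b * (c * a') * b' * c' := by rw [h2]
    _ = (a * b * c) * (a' * b' * c') := by simp only [mul_assoc]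

end Rearr

end Cfsg.Agent.Helper6.Twist
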