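import Cfsg.Agent.Lib.Helper6.TwistCore
import Cfsg.Agent.Lib.Helper6.TwistSp
import Cfsg.Agent.Lib.Helper18.ChevComm

/-!
# Root elements as commutators in a subgroup generated by products of root elements

Tools for the perfectness of the twisted groups `³D₄(q)`, `²E₆(q)`:

* `torus_comm`: for a block `o` of pairwise strongly orthogonal nodes, the products
  `∏_{i ∈ o} x_{±p_i}(c_i)` are commutators with the torus elements `∏ h_{p_i}(λ_i)`;
* `long_comm`: `x_L(∑ M_j (-a_j) b_j)` as a commutator of `n_{i0} (∏ x_{s_j}(c_j)) n_{i0}⁻¹` and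
  `∏ x_{t_j}(b_j)`.
-/

set_option autoImplicit false
set_option linter.unusedSectionVars false

namespace Cfsg.Agent.Helper6.Twist

open Cfsg.Lie Cfsg.Agent.Helper18 Cfsg.Agent.Helper17 Cfsg.Agent.Helper6.Chev Cfsg.Agent.S1043
open scoped commutatorElement

section ListProd

variable {Γ : Type*} [Group Γ] {ι : Type*}

theorem list_prod_mul_prod (o : List ι) (f g : ι → Γ)
    (hc : o.Pairwise fun i j => g i * f j = f j * g i) :
    (o.map f).prod * (o.map g).prod = (o.map fun i => f i * g i).prod := by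
  induction o with
  | nil => simp
  | cons i o ih =>
    rw [List.pairwise_cons] at hc
    rw [List.map_cons, List.prod_cons, List.map_cons, List.prod_cons, List.map_cons, List.prod_cons,
      ← ih hc.2]
    have hcomm : (o.map f).prod * g i = g i * (o.map f).prod := by
      have : Commute (o.map f).prod (g i) := by
        apply Commute.list_prod_left
        intro x hx
        obtain ⟨j, hj, rfl⟩ := List.mem_map.1 hx
        exact (hc.1 j hj).symm
      exact this.eq
    calc f i * (o.map f).prod * (g i * (o.map g).prod)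
        = f i * ((o.map f).prod * g i) * (o.map g).prod := by group
      _ = f i * (g i * (o.map f).prod) * (o.map g).prod := by rw [hcomm]
      _ = _ := by group

end ListProd

section RG

variable {F : Type*} [Field F] {D : ChevalleyDatum} {η : ℕ → ℕ → ℤ} (h : NData F D η)

/-- the subgroup generated by the root subgroups of the roots of the list `R` -/
def RG (R : List ℕ) : Subgroup (GL D.Idx F) :=
  Subgroup.closure {g | ∃ r ∈ R, ∃ a : F, g = xg h r a}

theorem xg_mem_RG {R : List ℕ} {r : ℕ} (hr : r ∈ R) (a : F) : xg h r a ∈ RG h R :=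
  Subgroup.subset_closure ⟨r, hr, a, rfl⟩

/-- every root of `R` commutes with every root of `R'` (or is equal to it) -/
def CommOK (D : ChevalleyDatum) (R R' : List ℕ) : Prop :=
  ∀ r ∈ R, ∀ r' ∈ R', r = r' ∨ (commCheck D r r' = true ∧ D.commTerms r r' = [])

instance (D : ChevalleyDatum) (R R' : List ℕ) : Decidable (CommOK D R R') := by
  unfold CommOK; infer_instance

theorem RG_comm {R R' : List ℕ} (hc : CommOK D R R') :
    ∀ a ∈ RG h R, ∀ b ∈ RG h R', a * b = b * a := by
  have gens : ∀ r ∈ R, ∀ r' ∈ R', ∀ a b : F, xg h r a * xg h r' b = xg h r' b * xg h r a := by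
    intro r hr r' hr' a b
    rcases hc r hr r' hr' with rfl | ⟨h1, h2⟩
    · rw [xg_mul D h, xg_mul D h, add_comm]
    · exact xg_comm_of_check h r r' h1 h2 a b
  have hle : RG h R ≤ Subgroup.centralizer (RG h R' : Set (GL D.Idx F)) := by
    rw [RG, Subgroup.closure_le]
    rintro g ⟨r, hr, a, rfl⟩
    rw [SetLike.mem_coe, Subgroup.mem_centralizer_iff]
    intro b hb
    have hle' : RG h R' ≤ Subgroup.centralizer ({xg h r a} : Set (GL D.Idx F)) := by
      rw [RG, Subgroup.closure_le]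
      rintro g' ⟨r', hr', b, rfl⟩
      rw [SetLike.mem_coe, Subgroup.mem_centralizer_iff]
      intro x hx
      rw [Set.mem_singleton_iff.1 hx]
      exact gens r hr r' hr' a b
    exact (Subgroup.mem_centralizer_iff.1 (hle' hb) (xg h r a) rfl).symm
  intro a ha b hb
  exact (Subgroup.mem_centralizer_iff.1 (hle ha) b hb).symm

/-- products along a list of elements of pairwise commuting blocks -/
theorem blocks_prod_mul (B : ℕ → List ℕ) (o : List ℕ)
    (hpw : o.Pairwise fun i j => CommOK D (B i) (B j))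
    (f g : ℕ → GL D.Idx F) (hf : ∀ j ∈ o, f j ∈ RG h (B j)) (hg : ∀ j ∈ o, g j ∈ RG h (B j)) :
    (o.map f).prod * (o.map g).prod = (o.map fun i => f i * g i).prod := by
  apply list_prod_mul_prod
  exact List.Pairwise.imp_of_mem
    (fun {i j} hi hj hij => RG_comm h hij (g i) (hg i hi) (f j) (hf j hj)) hpw

/-- product of root elements along a list of nodes, for a choice of root per node -/
def PR (rt : ℕ → ℕ) (o : List ℕ) (c : ℕ → F) : GL D.Idx F :=
  (o.map fun j => xg h (rt j) (c j)).prod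

theorem prod_xg_same (L : ℕ) (o : List ℕ) (z : ℕ → F) :
    (o.map fun j => xg h L (z j)).prod = xg h L (o.map z).sum := by
  induction o with
  | nil =>
    apply Units.ext
    simp [x_zero]
  | cons j o ih =>
    rw [List.map_cons, List.prod_cons, ih, xg_mul D h, List.map_cons, List.sum_cons]

end RG

section PartA

variable {F : Type*} [Field F] (D : ChevalleyDatum) {tbl : List ℕ} (hT : TorusData D tbl)
  {η : ℕ → ℕ → ℤ} (h : NData F D η)

/-- the rank one block of a node -/
def blk (D : ChevalleyDatum) (i : ℕ) : List ℕ := [D.simple i, D.neg (D.simple i)]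

/-- the nodes of `o` are pairwise strongly orthogonal -/
def BlockOK (D : ChevalleyDatum) (o : List ℕ) : Prop :=
  o.Pairwise (fun i j => CommOK D (blk D i) (blk D j)) ∧
  ∀ i ∈ o, i < D.rank ∧ D.simple i < D.nroots ∧ D.neg (D.simple i) < D.nroots ∧
    D.cartan i (D.simple i) = 2 ∧ D.cartan i (D.neg (D.simple i)) = -2

instance (D : ChevalleyDatum) (o : List ℕ) : Decidable (BlockOK D o) := by
  unfold BlockOK; infer_instance

theorem PR_add (B : ℕ → List ℕ) (o : List ℕ) (hpw : o.Pairwise fun i j => CommOK D (B i) (B j))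
    (rt : ℕ → ℕ) (hrt : ∀ j ∈ o, rt j ∈ B j) (a b : ℕ → F) :
    PR h rt o a * PR h rt o b = PR h rt o (fun j => a j + b j) := by
  rw [PR, PR, blocks_prod_mul h B o hpw _ _ (fun j hj => xg_mem_RG h (hrt j hj) _)
    (fun j hj => xg_mem_RG h (hrt j hj) _), PR]
  congr 1
  apply List.map_congr_left
  intro j _
  rw [xg_mul D h]

theorem PR_zero (rt : ℕ → ℕ) (o : List ℕ) : PR h rt o (fun _ => (0 : F)) = 1 := by
  rw [PR]
  apply List.prod_eq_one
  intro x hx
  obtain ⟨j, _, rfl⟩ := List.mem_map.1 hx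
  apply Units.ext
  simp [x_zero]

theorem PR_sub (B : ℕ → List ℕ) (o : List ℕ) (hpw : o.Pairwise fun i j => CommOK D (B i) (B j))
    (rt : ℕ → ℕ) (hrt : ∀ j ∈ o, rt j ∈ B j) (a b : ℕ → F) :
    PR h rt o a * (PR h rt o b)⁻¹ = PR h rt o (fun j => a j - b j) := by
  rw [mul_inv_eq_iff_eq_mul, PR_add D h B o hpw rt hrt]
  congr 1
  funext j
  ring

include hT in
/-- root elements of a block of pairwise strongly orthogonal nodes as commutators with torus elements -/
theorem torus_comm (o : List ℕ) (hb : BlockOK D o) (G1 : Subgroup (GL D.Idx F))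
    (lam : ℕ → F) (hlam : ∀ i ∈ o, lam i ≠ 0)
    (hXl : PR h D.simple o lam ∈ G1)
    (hYl : PR h (fun i => D.neg (D.simple i)) o (fun i => -(lam i)⁻¹) ∈ G1)
    (hXm : PR h D.simple o (fun _ => (-1 : F)) ∈ G1)
    (hYm : PR h (fun i => D.neg (D.simple i)) o (fun _ => -(-1 : F)⁻¹) ∈ G1) (t : ℕ → F) :
    (PR h D.simple o t ∈ G1 → PR h D.simple o (fun i => (lam i ^ 2 - 1) * t i) ∈ ⁅G1, G1⁆) ∧
    (PR h (fun i => D.neg (D.simple i)) o t ∈ G1 →
      PR h (fun i => D.neg (D.simple i)) o (fun i => ((lam i ^ 2)⁻¹ - 1) * t i) ∈ ⁅G1, G1⁆) := by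
  obtain ⟨hpw, hin⟩ := hb
  have m1 : ∀ j ∈ o, D.simple j ∈ blk D j := fun j _ => by simp [blk]
  have m2 : ∀ j ∈ o, D.neg (D.simple j) ∈ blk D j := fun j _ => by simp [blk]
  have mx : ∀ (c : ℕ → F), ∀ j ∈ o, xg h (D.simple j) (c j) ∈ RG h (blk D j) :=
    fun c j hj => xg_mem_RG h (m1 j hj) _
  have my : ∀ (c : ℕ → F), ∀ j ∈ o, xg h (D.neg (D.simple j)) (c j) ∈ RG h (blk D j) :=
    fun c j hj => xg_mem_RG h (m2 j hj) _
  have mn : ∀ (c : ℕ → F), ∀ j ∈ o, ng h (D.simple j) (c j) ∈ RG h (blk D j) := by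
    intro c j hj
    rw [ng]
    exact mul_mem (mul_mem (mx c j hj) (xg_mem_RG h (m2 j hj) _)) (mx c j hj)
  have mh : ∀ (c : ℕ → F), ∀ j ∈ o, hg h (D.simple j) (c j) ∈ RG h (blk D j) := by
    intro c j hj
    rw [hg]
    exact mul_mem (mn c j hj) (mn (fun _ => -1) j hj)
  -- the products of the `n`
  have hN : ∀ c : ℕ → F, PR h D.simple o c * PR h (fun i => D.neg (D.simple i)) o (fun i => -(c i)⁻¹) *
      PR h D.simple o c = (o.map fun i => ng h (D.simple i) (c i)).prod := by
    intro c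
    rw [PR, PR, blocks_prod_mul h (blk D) o hpw _ _ (mx c) (my _),
      blocks_prod_mul h (blk D) o hpw _ _
        (fun j hj => mul_mem (mx c j hj) (my (fun i => -(c i)⁻¹) j hj)) (mx c)]
    rfl
  set HP : GL D.Idx F := (o.map fun i => hg h (D.simple i) (lam i)).prod with hHP
  have hHP' : HP = (PR h D.simple o lam * PR h (fun i => D.neg (D.simple i)) o (fun i => -(lam i)⁻¹) *
      PR h D.simple o lam) * (PR h D.simple o (fun _ => (-1 : F)) *
        PR h (fun i => D.neg (D.simple i)) o (fun _ => -(-1 : F)⁻¹) * PR h D.simple o (fun _ => (-1 : F))) := by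
    rw [hN lam, hN (fun _ => (-1 : F)), blocks_prod_mul h (blk D) o hpw _ _ (mn lam) (mn _)]
    rfl
  have hHPmem : HP ∈ G1 := by
    rw [hHP']
    exact mul_mem (mul_mem (mul_mem hXl hYl) hXl) (mul_mem (mul_mem hXm hYm) hXm)
  -- the action of `HP`
  have act : ∀ (rt : ℕ → ℕ) (e : ℕ → F), (∀ j ∈ o, rt j ∈ blk D j) →
      (∀ j ∈ o, ∀ u : F, hg h (D.simple j) (lam j) * xg h (rt j) u =
        xg h (rt j) (e j * u) * hg h (D.simple j) (lam j)) →
      ∀ t : ℕ → F, HP * PR h rt o t = PR h rt o (fun j => e j * t j) * HP := by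
    intro rt e hrt hact t
    rw [hHP, PR, PR, blocks_prod_mul h (blk D) o hpw _ _ (mh lam)
      (fun j hj => xg_mem_RG h (hrt j hj) _),
      blocks_prod_mul h (blk D) o hpw _ _ (fun j hj => xg_mem_RG h (hrt j hj) _) (mh lam)]
    congr 1
    apply List.map_congr_left
    intro j hj
    exact hact j hj (t j)
  have comm_mem : ∀ (rt : ℕ → ℕ) (e : ℕ → F), (∀ j ∈ o, rt j ∈ blk D j) →
      (∀ j ∈ o, ∀ u : F, hg h (D.simple j) (lam j) * xg h (rt j) u =
        xg h (rt j) (e j * u) * hg h (D.simple j) (lam j)) →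
      ∀ t : ℕ → F, PR h rt o t ∈ G1 → PR h rt o (fun j => (e j - 1) * t j) ∈ ⁅G1, G1⁆ := by
    intro rt e hrt hact t ht
    have e1 : ⁅HP, PR h rt o t⁆ = PR h rt o (fun j => e j * t j) * (PR h rt o t)⁻¹ := by
      rw [commutatorElement_def, act rt e hrt hact t]
      group
    have e2 : PR h rt o (fun j => (e j - 1) * t j) = ⁅HP, PR h rt o t⁆ := by
      rw [e1, PR_sub D h (blk D) o hpw rt hrt]
      congr 1
      funext j
      ring
    rw [e2]
    exact Subgroup.commutator_mem_commutator hHPmem ht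
  constructor
  · apply comm_mem D.simple (fun j => lam j ^ 2) m1
    intro j hj u
    obtain ⟨hj1, hj2, -, hj4, -⟩ := hin j hj
    have := hg_conj D hT h j hj1 (D.simple j) hj2 (lam j) (hlam j hj) u
    rw [mul_inv_eq_iff_eq_mul, hj4] at this
    rw [this]
    norm_cast
  · apply comm_mem (fun i => D.neg (D.simple i)) (fun j => (lam j ^ 2)⁻¹) m2
    intro j hj u
    obtain ⟨hj1, -, hj3, -, hj5⟩ := hin j hj
    have := hg_conj D hT h j hj1 (D.neg (D.simple j)) hj3 (lam j) (hlam j hj) u
    rw [mul_inv_eq_iff_eq_mul, hj5] at this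
    rw [this, zpow_neg]
    norm_cast

end PartA

section PartB

variable {F : Type*} [Field F] (D : ChevalleyDatum) {η : ℕ → ℕ → ℤ} (h : NData F D η)

/-- a root element of the root `L` as a commutator of a conjugate of a product of root elements and
a product of root elements -/
theorem long_comm (o : List ℕ) (i0 : ℕ) (hi0 : i0 < D.rank) (src tgt : ℕ → ℕ) (L : ℕ) (M : ℕ → ℤ)
    (hsrc : ∀ j ∈ o, src j < D.nroots)
    (hrel : ∀ j ∈ o, commCheck D (D.reflectRoot i0 (src j)) (tgt j) = true ∧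
      D.commTerms (D.reflectRoot i0 (src j)) (tgt j) = [(L, M j, 1, 1)])
    (hcross : o.Pairwise fun j k => CommOK D [D.reflectRoot i0 (src j), tgt j, L]
      [D.reflectRoot i0 (src k), tgt k, L])
    (G1 : Subgroup (GL D.Idx F)) (hN : Ni h i0 ∈ G1) (ca cb : ℕ → F)
    (hA : PR h src o ca ∈ G1) (hB : PR h tgt o cb ∈ G1) :
    xg h L ((o.map fun j => (M j : F) * (-((η i0 (src j) : F) * ca j)) * cb j).sum) ∈ ⁅G1, G1⁆ := by
  set rr : ℕ → ℕ := fun j => D.reflectRoot i0 (src j) with hrr
  set a : ℕ → F := fun j => (η i0 (src j) : F) * ca j with ha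
  set B : ℕ → List ℕ := fun j => [rr j, tgt j, L] with hBdef
  have hpw : o.Pairwise fun j k => CommOK D (B j) (B k) := hcross
  -- the conjugate
  have hA' : PR h rr o a ∈ G1 := by
    have e : PR h rr o a = Ni h i0 * PR h src o ca * (Ni h i0)⁻¹ := by
      rw [PR, PR, conj_list_prod]
      congr 1
      apply List.map_congr_left
      intro j hj
      rw [conj_xg h i0 hi0 (src j) (hsrc j hj)]
    rw [e]
    exact mul_mem (mul_mem hN hA) (inv_mem hN)
  have mA : ∀ j ∈ o, xg h (rr j) (a j) ∈ RG h (B j) :=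
    fun j _ => xg_mem_RG h (by simp [hBdef]) _
  have mB : ∀ j ∈ o, xg h (tgt j) (cb j) ∈ RG h (B j) :=
    fun j _ => xg_mem_RG h (by simp [hBdef]) _
  have mZ : ∀ (z : ℕ → F), ∀ j ∈ o, xg h L (z j) ∈ RG h (B j) :=
    fun z j _ => xg_mem_RG h (by simp [hBdef]) _
  set z : ℕ → F := fun j => (M j : F) * (-(a j)) * cb j with hz
  -- the basic relation
  have rel : ∀ j ∈ o, xg h (tgt j) (cb j) * xg h (rr j) (a j) =
      xg h (rr j) (a j) * xg h (tgt j) (cb j) * xg h L (z j) := by
    intro j hj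
    obtain ⟨h1, h2⟩ := hrel j hj
    apply Units.ext
    rw [Units.val_mul, Units.val_mul, Units.val_mul, xg_val, xg_val, xg_val]
    have := comm_of_check (F := F) D (rr j) (tgt j) h1 (a j) (cb j)
    rw [ChevalleyDatum.commWord, h2] at this
    simp only [List.map_cons, List.map_nil, ChevalleyDatum.wordMat, List.prod_cons, List.prod_nil,
      mul_one, pow_one] at this
    exact this
  have key : PR h tgt o cb * PR h rr o a =
      PR h rr o a * PR h tgt o cb * xg h L (o.map z).sum := by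
    rw [PR, PR, blocks_prod_mul h B o hpw _ _ mB mA,
      blocks_prod_mul h B o hpw _ _ mA mB, ← prod_xg_same h L o z,
      blocks_prod_mul h B o hpw _ _ (fun j hj => mul_mem (mA j hj) (mB j hj)) (mZ z)]
    congr 1
    apply List.map_congr_left
    intro j hj
    exact rel j hj
  have e : xg h L (o.map z).sum = ⁅(PR h tgt o cb)⁻¹, (PR h rr o a)⁻¹⁆ := by
    rw [commutatorElement_def, inv_inv, inv_inv, mul_assoc _ (PR h tgt o cb), key]
    group
  change xg h L (o.map z).sum ∈ _
  rw [e]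
  exact Subgroup.commutator_mem_commutator (inv_mem hB) (inv_mem hA')

end PartB

section Frob

variable {F : Type*} [Field F] (D : ChevalleyDatum) {tbl : List ℕ} (hT : TorusData D tbl)
  {η : ℕ → ℕ → ℤ} (h : NData F D η)

include hT in
/-- `torus_comm` for parameters twisted by powers of a field endomorphism -/
theorem torus_comm_frob (φ : F →+* F) (ex : ℕ → ℕ) (o : List ℕ) (hb : BlockOK D o)
    (G1 : Subgroup (GL D.Idx F))
    (hX : ∀ t : F, PR h D.simple o (fun j => φ^[ex j] t) ∈ G1)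
    (hY : ∀ t : F, PR h (fun i => D.neg (D.simple i)) o (fun j => φ^[ex j] t) ∈ G1)
    (lam : F) (hlam : lam ≠ 0) (hlam2 : lam ^ 2 ≠ 1) (t : F) :
    PR h D.simple o (fun j => φ^[ex j] t) ∈ ⁅G1, G1⁆ ∧
      PR h (fun i => D.neg (D.simple i)) o (fun j => φ^[ex j] t) ∈ ⁅G1, G1⁆ := by
  have hl : ∀ i ∈ o, (fun j => φ^[ex j] lam) i ≠ 0 := by
    intro i _
    change φ^[ex i] lam ≠ 0
    rw [← RingHom.coe_pow]
    exact (map_ne_zero _).2 hlam
  have hYl : PR h (fun i => D.neg (D.simple i)) o (fun i => -((fun j => φ^[ex j] lam) i)⁻¹) ∈ G1 := by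
    have := hY (-lam⁻¹)
    have e : (fun j => φ^[ex j] (-lam⁻¹)) = (fun i => -((fun j => φ^[ex j] lam) i)⁻¹) := by
      funext j
      change φ^[ex j] (-lam⁻¹) = -(φ^[ex j] lam)⁻¹
      rw [← RingHom.coe_pow, map_neg, map_inv₀]
    rwa [e] at this
  have hXm : PR h D.simple o (fun _ => (-1 : F)) ∈ G1 := by
    have := hX (-1)
    have e : (fun j => φ^[ex j] (-1 : F)) = (fun _ => (-1 : F)) := by
      funext j
      rw [← RingHom.coe_pow, map_neg, map_one]
    rwa [e] at this
  have hYm : PR h (fun i => D.neg (D.simple i)) o (fun _ => -(-1 : F)⁻¹) ∈ G1 := by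
    have := hY 1
    have e : (fun j => φ^[ex j] (1 : F)) = (fun _ => -(-1 : F)⁻¹) := by
      funext j
      rw [← RingHom.coe_pow, map_one, inv_neg, inv_one, neg_neg]
    rwa [e] at this
  have hne1 : lam ^ 2 - 1 ≠ 0 := sub_ne_zero.2 hlam2
  have hne2 : (lam ^ 2)⁻¹ - 1 ≠ 0 := by
    rw [sub_ne_zero]
    intro hc
    apply hlam2
    rw [← inv_inv (lam ^ 2), hc, inv_one]
  constructor
  · have := (torus_comm D hT h o hb G1 (fun j => φ^[ex j] lam) hl (hX lam) hYl hXm hYm
      (fun j => φ^[ex j] (t / (lam ^ 2 - 1)))).1 (hX _)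
    have e : (fun i => ((fun j => φ^[ex j] lam) i ^ 2 - 1) * (fun j => φ^[ex j] (t / (lam ^ 2 - 1))) i) =
        (fun j => φ^[ex j] t) := by
      funext j
      change (φ^[ex j] lam ^ 2 - 1) * φ^[ex j] (t / (lam ^ 2 - 1)) = φ^[ex j] t
      rw [← RingHom.coe_pow]
      have e0 : t = (lam ^ 2 - 1) * (t / (lam ^ 2 - 1)) := (mul_div_cancel₀ _ hne1).symm
      conv_rhs => rw [e0]
      simp only [map_mul, map_sub, map_pow, map_one]
    rwa [e] at this
  · have := (torus_comm D hT h o hb G1 (fun j => φ^[ex j] lam) hl (hX lam) hYl hXm hYm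
      (fun j => φ^[ex j] (t / ((lam ^ 2)⁻¹ - 1)))).2 (hY _)
    have e : (fun i => (((fun j => φ^[ex j] lam) i ^ 2)⁻¹ - 1) *
        (fun j => φ^[ex j] (t / ((lam ^ 2)⁻¹ - 1))) i) = (fun j => φ^[ex j] t) := by
      funext j
      change ((φ^[ex j] lam ^ 2)⁻¹ - 1) * φ^[ex j] (t / ((lam ^ 2)⁻¹ - 1)) = φ^[ex j] t
      rw [← RingHom.coe_pow]
      have e0 : t = ((lam ^ 2)⁻¹ - 1) * (t / ((lam ^ 2)⁻¹ - 1)) := (mul_div_cancel₀ _ hne2).symm
      conv_rhs => rw [e0]
      simp only [map_mul, map_sub, map_pow, map_one, map_inv₀]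
    rwa [e] at this

end Frob

/-- a subgroup contained in its own commutator subgroup is perfect -/
theorem commutator_eq_top_of_le {G : Type*} [Group G] (H : Subgroup G) (hle : H ≤ ⁅H, H⁆) :
    commutator ↥H = ⊤ := by
  apply Subgroup.map_injective H.subtype_injective
  rw [Subgroup.map_subtype_commutator, ← MonoidHom.range_eq_map, H.range_subtype]
  exact le_antisymm (Subgroup.commutator_le_self H) hle

end Cfsg.Agent.Helper6.Twist
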