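import Cfsg.Agent.Lib.Helper6.TwistCore
import Cfsg.Agent.Lib.Helper6.TwistFix
import Cfsg.Agent.Lib.Helper6.TwistPerf

/-!
# The torus of a Chevalley group as the image of `(Fˣ)^l`, and `τ`-fixed torus elements
-/

set_option autoImplicit false
set_option linter.unusedSectionVars false

namespace Cfsg.Agent.Helper6.Twist

open Cfsg.Lie Cfsg.Agent.Helper18 Cfsg.Agent.Helper17 Cfsg.Agent.Helper6.Chev Cfsg.Agent.S1043

section Torus

variable {F : Type*} [Field F] (D : ChevalleyDatum) (hD : Good D) {tbl : List ℕ}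
  (hT : TorusData D tbl) {η : ℕ → ℕ → ℤ} (h : NData F D η)

/-- the torus element with unit parameters, as a homomorphism -/
noncomputable def torHom : (ℕ → Fˣ) →* GL D.Idx F where
  toFun c := ⟨torMat D (fun i => (c i : F)), torMat D (fun i => ((c i)⁻¹ : Fˣ)), by
      rw [torMat_mul]
      simp only [Units.mul_inv]
      exact torMat_one D, by
      rw [torMat_mul]
      simp only [Units.inv_mul]
      exact torMat_one D⟩
  map_one' := by
    apply Units.ext
    change torMat D (fun i => (((1 : ℕ → Fˣ) i : Fˣ) : F)) = 1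
    simp only [Pi.one_apply, Units.val_one]
    exact torMat_one D
  map_mul' a b := by
    apply Units.ext
    change torMat D (fun i => (((a * b) i : Fˣ) : F)) = torMat D _ * torMat D _
    rw [torMat_mul]
    simp only [Pi.mul_apply, Units.val_mul]

theorem torHom_val (c : ℕ → Fˣ) :
    ((torHom D c : GL D.Idx F) : Matrix D.Idx D.Idx F) = torMat D (fun i => (c i : F)) := rfl

include hT h in
theorem torHom_eq_prod (c : ℕ → Fˣ) : torHom (F := F) D c =
    ((List.range D.rank).map fun i => hg h (D.simple i) (c i : F)).prod := by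
  apply Units.ext
  rw [torHom_val, ← torMat_eq_wordMat D hT.simp _ (fun i _ => (c i).ne_zero), wordMat_flatMap]
  have e1 : ((((List.range D.rank).map fun i => hg h (D.simple i) (c i : F)).prod : GL D.Idx F) :
      Matrix D.Idx D.Idx F) = (((List.range D.rank).map fun i => hg h (D.simple i) (c i : F)).map
        (Units.coeHom _)).prod := map_list_prod (Units.coeHom _) _
  rw [e1, List.map_map]
  congr 1
  apply List.map_congr_left
  intro i _
  exact (hg_val h _ _).symm

theorem torHom_congr (c c' : ℕ → Fˣ) (he : ∀ i < D.rank, c i = c' i) :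
    torHom (F := F) D c = torHom D c' := by
  apply Units.ext
  rw [torHom_val, torHom_val, torMat, torMat]
  congr 1
  funext i
  rcases i with i | s
  · rfl
  · simp only [Sum.elim_inr]
    congr 1
    apply List.map_congr_left
    intro i hi
    rw [he i (List.mem_range.1 hi)]

include h in
theorem hg_one (r : ℕ) : hg h r (1 : F) = 1 := by
  rw [hg, ← ng_inv h r 1, mul_inv_cancel]

include h in
/-- the product of the `h_{p_i}(λ_i)` over a block lies in a subgroup containing the products of
root elements over the block -/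
theorem HP_mem (o : List ℕ) (hb : BlockOK D o) (G1 : Subgroup (GL D.Idx F))
    (lam : ℕ → F)
    (hXl : PR h D.simple o lam ∈ G1)
    (hYl : PR h (fun i => D.neg (D.simple i)) o (fun i => -(lam i)⁻¹) ∈ G1)
    (hXm : PR h D.simple o (fun _ => (-1 : F)) ∈ G1)
    (hYm : PR h (fun i => D.neg (D.simple i)) o (fun _ => -(-1 : F)⁻¹) ∈ G1) :
    (o.map fun i => hg h (D.simple i) (lam i)).prod ∈ G1 := by
  obtain ⟨hpw, hin⟩ := hb
  have m1 : ∀ j ∈ o, D.simple j ∈ blk D j := fun j _ => by simp [blk]
  have m2 : ∀ j ∈ o, D.neg (D.simple j) ∈ blk D j := fun j _ => by simp [blk]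
  have mx : ∀ (c : ℕ → F), ∀ j ∈ o, xg h (D.simple j) (c j) ∈ RG h (blk D j) :=
    fun c j hj => xg_mem_RG h (m1 j hj) _
  have my : ∀ (c : ℕ → F), ∀ j ∈ o, xg h (D.neg (D.simple j)) (c j) ∈ RG h (blk D j) :=
    fun c j hj => xg_mem_RG h (m2 j hj) _
  have mn : ∀ (c : ℕ → F), ∀ j ∈ o, ng h (D.simple j) (c j) ∈ RG h (blk D j) := by
    intro c j hj
    rw [ng]
    exact mul_mem (mul_mem (mx c j hj) (xg_mem_RG h (m2 j hj) _)) (mx c j hj)
  have hN : ∀ c : ℕ → F, PR h D.simple o c * PR h (fun i => D.neg (D.simple i)) o (fun i => -(c i)⁻¹) *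
      PR h D.simple o c = (o.map fun i => ng h (D.simple i) (c i)).prod := by
    intro c
    rw [PR, PR, blocks_prod_mul h (blk D) o hpw _ _ (mx c) (my _),
      blocks_prod_mul h (blk D) o hpw _ _
        (fun j hj => mul_mem (mx c j hj) (my (fun i => -(c i)⁻¹) j hj)) (mx c)]
    rfl
  have hHP' : (o.map fun i => hg h (D.simple i) (lam i)).prod =
      (PR h D.simple o lam * PR h (fun i => D.neg (D.simple i)) o (fun i => -(lam i)⁻¹) *
      PR h D.simple o lam) * (PR h D.simple o (fun _ => (-1 : F)) *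
        PR h (fun i => D.neg (D.simple i)) o (fun _ => -(-1 : F)⁻¹) * PR h D.simple o (fun _ => (-1 : F))) := by
    rw [hN lam, hN (fun _ => (-1 : F)), blocks_prod_mul h (blk D) o hpw _ _ (mn lam) (mn _)]
    rfl
  rw [hHP']
  exact mul_mem (mul_mem (mul_mem hXl hYl) hXl) (mul_mem (mul_mem hXm hYm) hXm)

include hT h in
theorem torHom_mem_H (c : ℕ → Fˣ) : torHom (F := F) D c ∈ D.diagonalSubgroup F := by
  have e : torHom (F := F) D c =
      ((List.range D.rank).map fun i => hg h (D.simple i) (c i : F)).prod := by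
    apply Units.ext
    rw [torHom_val, ← torMat_eq_wordMat D hT.simp _ (fun i _ => (c i).ne_zero), wordMat_flatMap]
    have e1 : ((((List.range D.rank).map fun i => hg h (D.simple i) (c i : F)).prod : GL D.Idx F) :
        Matrix D.Idx D.Idx F) = (((List.range D.rank).map fun i => hg h (D.simple i) (c i : F)).map
          (Units.coeHom _)).prod := map_list_prod (Units.coeHom _) _
    rw [e1, List.map_map]
    congr 1
    apply List.map_congr_left
    intro i _
    exact (hg_val h _ _).symm
  rw [e]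
  apply Subgroup.list_prod_mem
  intro x hx
  obtain ⟨i, hi, rfl⟩ := List.mem_map.1 hx
  exact hg_mem h _ (h.simple_lt i (List.mem_range.1 hi)) _ (c i).ne_zero

include hT h in
theorem mem_H_iff (g : GL D.Idx F) :
    g ∈ D.diagonalSubgroup F ↔ ∃ c : ℕ → Fˣ, torHom D c = g := by
  constructor
  · intro hg'
    obtain ⟨c, hc, hgc⟩ := mem_diag_eq_torMat D hT g hg'
    refine ⟨fun i => Units.mk0 (c i) (hc i), ?_⟩
    apply Units.ext
    rw [torHom_val, hgc]
    rfl
  · rintro ⟨c, rfl⟩
    exact torHom_mem_H D hT h c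

include hT h in
theorem torHom_conj_xg (c : ℕ → Fˣ) (s : ℕ) (hs : s < D.nroots) (t : F) :
    torHom D c * xg h s t * (torHom D c)⁻¹ = xg h s (chi D (fun i => (c i : F)) s * t) := by
  rw [mul_inv_eq_iff_eq_mul]
  apply Units.ext
  rw [Units.val_mul, Units.val_mul, xg_val, xg_val, torHom_val]
  exact torMat_mul_x D s (fun i hi => hT.addOK D i hi s hs) _ (fun i => (c i).ne_zero) t

theorem chi_of_torHom_eq (c c' : ℕ → Fˣ) (he : torHom (F := F) D c = torHom D c') (s : ℕ)
    (hs : s < D.nroots) : chi D (fun i => (c i : F)) s = chi D (fun i => (c' i : F)) s := by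
  have := congrArg (fun g : GL D.Idx F => (g : Matrix D.Idx D.Idx F) (Sum.inr ⟨s, hs⟩) (Sum.inr ⟨s, hs⟩)) he
  simpa [torHom_val, torMat, chi] using this

include h in
/-- the character values on the fundamental roots determine the torus element -/
theorem torHom_eq_of_chi (hcart : ∀ i < D.rank, ∀ i' < D.rank, ∀ s < D.nroots,
      D.cartan i' (D.reflectRoot i s) = D.cartan i' s - D.cartan i s * D.cartan i' (D.simple i))
    (c c' : ℕ → Fˣ)
    (he : ∀ j < D.rank, chi D (fun i => (c i : F)) (D.simple j) = chi D (fun i => (c' i : F)) (D.simple j)) :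
    torHom (F := F) D c = torHom D c' := by
  have hall : ∀ s < D.nroots, chi D (fun i => (c i : F)) s = chi D (fun i => (c' i : F)) s := by
    have h1 : ∀ s < D.nroots, chi D (fun i => ((c * c'⁻¹) i : F)) s = 1 := by
      apply chi_eq_one D h hcart _ (fun i => ((c * c'⁻¹) i).ne_zero)
      intro j hj
      have := he j hj
      simp only [chi, Pi.mul_apply, Pi.inv_apply, Units.val_mul, mul_zpow] at this ⊢
      rw [List.prod_map_mul, this]
      rw [← List.prod_map_mul]
      apply List.prod_eq_one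
      intro x hx
      obtain ⟨i, _, rfl⟩ := List.mem_map.1 hx
      rw [← mul_zpow, ← Units.val_mul, mul_inv_cancel, Units.val_one, one_zpow]
    intro s hs
    have := h1 s hs
    simp only [chi, Pi.mul_apply, Pi.inv_apply, Units.val_mul, mul_zpow] at this ⊢
    rw [List.prod_map_mul] at this
    have h2 : ((List.range D.rank).map fun i => ((c' i)⁻¹ : Fˣ).val ^ D.cartan i s).prod *
        ((List.range D.rank).map fun i => (c' i : F) ^ D.cartan i s).prod = 1 := by
      rw [← List.prod_map_mul]
      apply List.prod_eq_one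
      intro x hx
      obtain ⟨i, _, rfl⟩ := List.mem_map.1 hx
      rw [← mul_zpow, ← Units.val_mul, inv_mul_cancel, Units.val_one, one_zpow]
    calc ((List.range D.rank).map fun i => (c i : F) ^ D.cartan i s).prod
        = ((List.range D.rank).map fun i => (c i : F) ^ D.cartan i s).prod *
          (((List.range D.rank).map fun i => ((c' i)⁻¹ : Fˣ).val ^ D.cartan i s).prod *
            ((List.range D.rank).map fun i => (c' i : F) ^ D.cartan i s).prod) := by rw [h2, mul_one]
      _ = _ := by rw [← mul_assoc, this, one_mul]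
  apply Units.ext
  rw [torHom_val, torHom_val, torMat, torMat]
  congr 1
  funext i
  rcases i with i | s
  · rfl
  · exact hall s.val s.2

include hD h in
theorem xg_inj {r : ℕ} (hr : r < D.nroots) (hn : D.neg r < D.nroots ∧ D.neg r ≠ r) {a b : F}
    (he : xg h r a = xg h r b) : a = b := by
  have : xg h r (a - b) = 1 := by
    have e : xg h r (a - b) = xg h r a * (xg h r b)⁻¹ := by
      rw [xg_inv, xg_mul D h, sub_eq_add_neg]
    rw [e, he, mul_inv_cancel]
  exact sub_eq_zero.1 (xg_eq_one D hD h hr hn this)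

include hD hT h in
/-- a `τ`-fixed torus element has `τ`-compatible character values -/
theorem chi_of_fixed (φ : F →+* F) (Pg : GL D.Idx F) (R : ℕ → ℕ) (ηs : ℕ → ℤ)
    (hconj : ∀ s < D.nroots, ∀ t : F, (Pg : Matrix D.Idx D.Idx F) * D.x F s t =
      D.x F (R s) ((ηs s : F) * t) * (Pg : Matrix D.Idx D.Idx F))
    (hneg : ∀ r < D.nroots, D.neg r < D.nroots ∧ D.neg r ≠ r)
    (c : ℕ → Fˣ) (hfix : tau φ Pg (torHom D c) = torHom D c) (s : ℕ) (hs : s < D.nroots)
    (hRs : R s < D.nroots) (hη : (ηs s : F) ≠ 0) :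
    chi D (fun i => (c i : F)) (R s) = φ (chi D (fun i => (c i : F)) s) := by
  have h1 := torHom_conj_xg D hT h c s hs 1
  have h2 := congrArg (tau φ Pg) h1
  rw [map_mul, map_mul, map_inv, hfix, tau_xg h φ Pg R ηs hconj s hs, tau_xg h φ Pg R ηs hconj s hs,
    torHom_conj_xg D hT h c (R s) hRs] at h2
  have h3 := xg_inj D hD h hRs (hneg _ hRs) h2
  rw [map_one, mul_one, mul_one, mul_comm] at h3
  exact mul_left_cancel₀ hη h3

include h in
/-- `τ` on a torus generator `h_r(λ)` -/
theorem tau_hg (φ : F →+* F) (Pg : GL D.Idx F) (R : ℕ → ℕ) (ηs : ℕ → ℤ)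
    (hconj : ∀ s < D.nroots, ∀ t : F, (Pg : Matrix D.Idx D.Idx F) * D.x F s t =
      D.x F (R s) ((ηs s : F) * t) * (Pg : Matrix D.Idx D.Idx F))
    (r r' : ℕ) (hr : r < D.nroots) (hnr : D.neg r < D.nroots) (hR : R r = r')
    (hR' : R (D.neg r) = D.neg r') (hη : ηs r = 1) (hη' : ηs (D.neg r) = 1) (lam : F) :
    tau φ Pg (hg h r lam) = hg h r' (φ lam) := by
  rw [hg, ng, ng]
  simp only [map_mul, tau_xg h φ Pg R ηs hconj r hr, tau_xg h φ Pg R ηs hconj (D.neg r) hnr, hR, hR',
    hη, hη', Int.cast_one, one_mul, map_neg, map_inv₀, map_one]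
  rw [hg, ng, ng]

include h in
/-- `HP_mem` for parameters twisted by powers of a field endomorphism -/
theorem HP_mem_frob (φ : F →+* F) (ex : ℕ → ℕ) (o : List ℕ) (hb : BlockOK D o)
    (G1 : Subgroup (GL D.Idx F))
    (hX : ∀ t : F, PR h D.simple o (fun j => φ^[ex j] t) ∈ G1)
    (hY : ∀ t : F, PR h (fun i => D.neg (D.simple i)) o (fun j => φ^[ex j] t) ∈ G1)
    (lam : F) :
    (o.map fun i => hg h (D.simple i) (φ^[ex i] lam)).prod ∈ G1 := by
  have hYl : PR h (fun i => D.neg (D.simple i)) o (fun i => -((fun j => φ^[ex j] lam) i)⁻¹) ∈ G1 := by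
    have := hY (-lam⁻¹)
    have e : (fun j => φ^[ex j] (-lam⁻¹)) = (fun i => -((fun j => φ^[ex j] lam) i)⁻¹) := by
      funext j
      change φ^[ex j] (-lam⁻¹) = -(φ^[ex j] lam)⁻¹
      rw [← RingHom.coe_pow, map_neg, map_inv₀]
    rwa [e] at this
  have hXm : PR h D.simple o (fun _ => (-1 : F)) ∈ G1 := by
    have := hX (-1)
    have e : (fun j => φ^[ex j] (-1 : F)) = (fun _ => (-1 : F)) := by
      funext j
      rw [← RingHom.coe_pow, map_neg, map_one]
    rwa [e] at this
  have hYm : PR h (fun i => D.neg (D.simple i)) o (fun _ => -(-1 : F)⁻¹) ∈ G1 := by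
    have := hY 1
    have e : (fun j => φ^[ex j] (1 : F)) = (fun _ => -(-1 : F)⁻¹) := by
      funext j
      rw [← RingHom.coe_pow, map_one, inv_neg, inv_one, neg_neg]
    rwa [e] at this
  exact HP_mem D h o hb G1 (fun j => φ^[ex j] lam) (hX lam) hYl hXm hYm

end Torus

end Cfsg.Agent.Helper6.Twist
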