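import Cfsg.Agent.Lib.Helper6.ReeC
import Cfsg.Agent.S1026

/-!
# `²G₂`: `U¹ = G¹ ∩ U` consists of the words `reeWordU` and has `q³` elements
-/

set_option autoImplicit false
set_option linter.unusedSectionVars false
set_option linter.unusedVariables false
set_option maxRecDepth 100000

namespace Cfsg.Agent.Helper6.ReeS

open Cfsg Cfsg.Lie Cfsg.Agent.Helper18 Cfsg.Agent.Helper15.Ree Cfsg.Agent.Helper6.ReeSix
open Cfsg.Agent.S1043 Cfsg.Agent.Helper6.G2C3

section

variable {K : Type*} [Field K]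

/-- the coefficient family of a canonical form -/
def tt (a b c d f g : K) : ℕ → K := fun r =>
  if r = 6 then a else if r = 7 then b else if r = 8 then c else if r = 9 then d else if r = 10 then f
  else if r = 11 then g else 0

theorem posRoots_G2 : chevG2.posRoots = [6, 7, 8, 9, 10, 11] := by decide +kernel

theorem isPos_G2 : ∀ r ∈ [6, 7, 8, 9, 10, 11], chevG2.IsPosRoot r := by decide +kernel

theorem tt_zero (a b c d f g : K) (r : ℕ) (hr : ¬ chevG2.IsPosRoot r) : tt a b c d f g r = 0 := by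
  have h : ∀ s ∈ [6, 7, 8, 9, 10, 11], r ≠ s := by
    intro s hs hrs
    exact hr (hrs ▸ isPos_G2 s hs)
  unfold tt
  rw [if_neg (h 6 (by simp)), if_neg (h 7 (by simp)), if_neg (h 8 (by simp)), if_neg (h 9 (by simp)),
    if_neg (h 10 (by simp)), if_neg (h 11 (by simp))]

theorem can_mat (a b c d f g : K) :
    ((can xp a b c d f g : GL chevG2.Idx K) : Matrix chevG2.Idx chevG2.Idx K) =
      chevG2.wordMat K (chevG2.posRoots.map fun r => (r, tt a b c d f g r)) := by
  rw [posRoots_G2]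
  simp only [can, u2, xp, rp, List.map_cons, List.map_nil, ChevalleyDatum.wordMat, List.prod_cons, List.prod_nil,
    Units.val_mul, xg_val, mul_one, mul_assoc]
  rfl

theorem xg_mem_pos (r : ℕ) (hr : r ∈ [6, 7, 8, 9, 10, 11]) (s : K) : xg r s ∈ chevG2.posUnipotent K :=
  Subgroup.subset_closure ⟨r, s, isPos_G2 r hr, rfl⟩

theorem can_mem (a b c d f g : K) : can xp a b c d f g ∈ chevG2.posUnipotent K := by
  unfold can u2
  exact mul_mem (mul_mem (xg_mem_pos 6 (by simp) a) (xg_mem_pos 7 (by simp) b))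
    (mul_mem (mul_mem (mul_mem (xg_mem_pos 8 (by simp) c) (xg_mem_pos 9 (by simp) d))
      (xg_mem_pos 10 (by simp) f)) (xg_mem_pos 11 (by simp) g))

theorem goodG2' : chevG2 ∈ [chevG2, chevB2, chevD4, chevF4, chevE6, chevE7, chevE8] := by simp

/-- uniqueness of the canonical form -/
theorem can_inj (a b c d f g a' b' c' d' f' g' : K)
    (h : can xp a b c d f g = can xp a' b' c' d' f' g') :
    a = a' ∧ b = b' ∧ c = c' ∧ d = d' ∧ f = f' ∧ g = g' := by
  obtain ⟨t0, _, huniq⟩ := (Cfsg.Agent.S1026.result (F := K) chevG2 goodG2').1 _ (can_mem a b c d f g)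
  have h1 := huniq (tt a b c d f g) ⟨tt_zero a b c d f g, can_mat a b c d f g⟩
  have h2 := huniq (tt a' b' c' d' f' g') ⟨tt_zero a' b' c' d' f' g', by rw [h]; exact can_mat a' b' c' d' f' g'⟩
  have h3 : tt a b c d f g = tt a' b' c' d' f' g' := h1.trans h2.symm
  refine ⟨?_, ?_, ?_, ?_, ?_, ?_⟩
  · simpa [tt] using congrFun h3 6
  · simpa [tt] using congrFun h3 7
  · simpa [tt] using congrFun h3 8
  · simpa [tt] using congrFun h3 9
  · simpa [tt] using congrFun h3 10
  · simpa [tt] using congrFun h3 11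

/-- every element of `U` has a canonical form -/
theorem exists_can (g : GL chevG2.Idx K) (hg : g ∈ chevG2.posUnipotent K) :
    ∃ a b c d f g', g = can xp a b c d f g' := by
  obtain ⟨t0, ⟨_, ht0⟩, _⟩ := (Cfsg.Agent.S1026.result (F := K) chevG2 goodG2').1 g hg
  refine ⟨t0 6, t0 7, t0 8, t0 9, t0 10, t0 11, ?_⟩
  apply Units.ext
  rw [ht0, posRoots_G2]
  simp only [can, u2, xp, rp, List.map_cons, List.map_nil, ChevalleyDatum.wordMat, List.prod_cons, List.prod_nil,
    Units.val_mul, xg_val, mul_one, mul_assoc]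
  rfl

theorem can_inj_lift (a b c d f g a' b' c' d' f' g' : K)
    (h : can (XP (K := K)) a b c d f g = can XP a' b' c' d' f' g') :
    a = a' ∧ b = b' ∧ c = c' ∧ d = d' ∧ f = f' ∧ g = g' := by
  apply can_inj
  rw [← can_val XP_val, ← can_val XP_val, h]

end

section

variable {K : Type*} [Field K] [CharP K 3] {e : ℕ} (FD : FieldData K e)
  (α : ↥(chevG2.group K) ≃* ↥(chevG2.group K))
  (hα : ∀ (r : Fin chevG2.nroots) (t : K),
      α (xG r.val t) = xG (sig r.val) (if isShort r.val then t ^ 3 else t))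

include FD hα

/-- `U ∩ G¹` consists of the words -/
theorem mem_iff (g : GL chevG2.Idx K) :
    g ∈ chevG2.posUnipotent K ⊓ twistedG2 K e ↔ ∃ t u v : K, g = wordG (reeWordU e t u v) := by
  constructor
  · rintro ⟨hU, hT⟩
    obtain ⟨a, b, c, d, f, g', rfl⟩ := exists_can g hU
    obtain ⟨hg, hfix⟩ := twisted_fixed FD α hα _ hT
    have e1 : (⟨can xp a b c d f g', hg⟩ : ↥(chevG2.group K)) = can XP a b c d f g' :=
      Subtype.ext (can_val XP_val a b c d f g').symm
    rw [e1] at hfix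
    obtain ⟨t, u, v, h⟩ := fixed_can (rel_lift XP_val (rel_pos FD.h3)) (sig_pos FD α hα)
      (fun a b c d f g a' b' c' d' f' g' h => by
        obtain ⟨h1, h2, h3, h4, _, _⟩ := can_inj_lift a b c d f g a' b' c' d' f' g' h
        exact ⟨h1, h2, h3, h4⟩) a b c d f g' hfix
    refine ⟨t, u, v, ?_⟩
    rw [wordU_eq FD, ← h, can_val XP_val]
  · rintro ⟨t, u, v, rfl⟩
    constructor
    · rw [wordU_eq FD, word_val XP_val, word_eq_can (rel_pos FD.h3) (by ring)]
      exact can_mem _ _ _ _ _ _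
    · apply Subgroup.subset_closure
      exact ⟨reeWordU e t u v, ⟨t, u, v, Or.inl rfl⟩, wordG_val _⟩

omit hα in
theorem wordU_injective : Function.Injective
    (fun p : K × K × K => wordG (reeWordU e p.1 p.2.1 p.2.2)) := by
  rintro ⟨t, u, v⟩ ⟨t', u', v'⟩ h
  simp only at h
  rw [wordU_eq FD, wordU_eq FD] at h
  have h' : word (XP (K := K)) 1 FD.phi t u v = word XP 1 FD.phi t' u' v' := Subtype.ext h
  obtain ⟨h1, h2, h3⟩ := word_injective (rel_lift XP_val (rel_pos FD.h3))
    (fun a b c d f g a' b' c' d' f' g' h => by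
      obtain ⟨h1, _, _, _, h5, h6⟩ := can_inj_lift a b c d f g a' b' c' d' f' g' h
      exact ⟨h1, h5, h6⟩) t u v t' u' v' h'
  rw [h1, h2, h3]

theorem card_U1 [Fintype K] :
    Nat.card ↥(chevG2.posUnipotent K ⊓ twistedG2 K e) = Fintype.card K ^ 3 := by
  have hset : ((chevG2.posUnipotent K ⊓ twistedG2 K e : Subgroup (GL chevG2.Idx K)) : Set (GL chevG2.Idx K)) =
      Set.range (fun p : K × K × K => wordG (reeWordU e p.1 p.2.1 p.2.2)) := by
    ext g
    rw [SetLike.mem_coe, mem_iff FD α hα]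
    constructor
    · rintro ⟨t, u, v, rfl⟩
      exact ⟨(t, u, v), rfl⟩
    · rintro ⟨⟨t, u, v⟩, rfl⟩
      exact ⟨t, u, v, rfl⟩
  have h1 : Nat.card ↥(chevG2.posUnipotent K ⊓ twistedG2 K e) =
      Nat.card (Set.range (fun p : K × K × K => wordG (reeWordU e p.1 p.2.1 p.2.2))) :=
    Nat.card_congr (Equiv.setCongr hset)
  rw [h1, Nat.card_range_of_injective (wordU_injective FD), Nat.card_prod, Nat.card_prod,
    Nat.card_eq_fintype_card]
  ring

end

end Cfsg.Agent.Helper6.ReeS
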