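import Cfsg.Agent.Lib.Helper6.ReeJ

/-!
# `²G₂`: `N¹ / H¹` has order two
-/

set_option autoImplicit false
set_option linter.unusedSectionVars false
set_option linter.unusedVariables false
set_option maxRecDepth 100000

namespace Cfsg.Agent.Helper6.ReeS

open Cfsg Cfsg.Lie Cfsg.Agent.Helper18 Cfsg.Agent.Helper15.Ree Cfsg.Agent.Helper6.ReeSix
open Cfsg.Agent.S1043 Cfsg.Agent.Helper6.G2C3 Cfsg.Agent.Helper6.Weyl

theorem sig_lt12 : ∀ s < 12, sig s < 12 := by decide

theorem simple_lt12 : ∀ i : Fin 2, chevG2.simple i < 12 := by decide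

theorem tbs_comm : ∀ a ∈ tbs, (∀ s < 12, T a (sig s) = sig (T a s)) →
    (∀ s < 12, T a s = s) ∨ (∀ s < 12, T a s = chevG2.neg s) := by decide

theorem compat_id {u : (Mat 2)ˣ} {p : ℕ → ℕ} (hc : Compat u p) (hp : ∀ s < 12, p s = s) : u = 1 := by
  apply Units.ext
  ext a i
  have hlt := simple_lt12 i
  have h1 := hc (chevG2.simple i) hlt
  rw [hp _ hlt, bridgeG2.simple i] at h1
  have h4 := congrFun h1 a
  change (Pi.single i (1 : ℤ) : Vec 2) a = ((u : Mat 2).mulVec (Pi.single i 1)) a at h4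
  rw [Matrix.mulVec_single_one] at h4
  change (Pi.single i (1 : ℤ) : Vec 2) a = (u : Mat 2) a i at h4
  rw [← h4, Units.val_one, Matrix.one_apply, Pi.single_apply]

section

variable {K : Type*} [Field K] [CharP K 3] {e : ℕ} (FD : FieldData K e)
  (α : ↥(chevG2.group K) ≃* ↥(chevG2.group K))
  (hα : ∀ (r : Fin chevG2.nroots) (t : K),
      α (xG r.val t) = xG (sig r.val) (if isShort r.val then t ^ 3 else t))

include FD hα

/-- the permutation attached to a `σ`-fixed element commutes with the graph symmetry -/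
theorem ca_comm {g : GL chevG2.Idx K} (hg : g ∈ twistedG2 K e) {p : ℕ → ℕ} (hp : CA g p) :
    ∀ s < 12, p (sig s) = sig (p s) := by
  intro s hs
  obtain ⟨hgG, hfix⟩ := twisted_fixed FD α hα g hg
  obtain ⟨hps, c, hc, h1⟩ := hp s hs
  obtain ⟨hps', c', hc', h2⟩ := hp (sig s) (sig_lt12 s hs)
  have e1 : (⟨g, hgG⟩ : ↥(chevG2.group K)) * xG s 1 * (⟨g, hgG⟩)⁻¹ = xG (p s) c := by
    apply Subtype.ext
    rw [Subgroup.coe_mul, Subgroup.coe_mul, Subgroup.coe_inv, xG_val', xG_val']
    have := h1 1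
    rwa [mul_one] at this
  have e2 := congrArg (sigma FD α) e1
  rw [map_mul, map_mul, map_inv, hfix, sigma_xG FD α hα s hs, sigma_xG FD α hα (p s) hps] at e2
  have e3 := congrArg (Subtype.val) e2
  rw [Subgroup.coe_mul, Subgroup.coe_mul, Subgroup.coe_inv, xG_val', xG_val'] at e3
  have hone : (if isShort s then (FD.phi 1) ^ 3 else FD.phi 1) = (1 : K) := by
    split_ifs <;> simp
  rw [hone, h2 1, mul_one] at e3
  exact xg_root_inj hps' (sig_lt12 _ hps) hc' e3

/-- an element of `N¹` lies in `H` or inverts all the roots -/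
theorem n1_cases {g : GL chevG2.Idx K} (hgN : g ∈ chevG2.monomialSubgroup K) (hg : g ∈ twistedG2 K e) :
    g ∈ chevG2.diagonalSubgroup K ∨ CA g chevG2.neg := by
  obtain ⟨u, a, b, ha, hb, hca, hcb, hact, hA, hB⟩ := qn_of_mem_N hgN
  rcases tbs_comm a ha (ca_comm FD α hα hg hA) with h | h
  · left
    have hu : u = 1 := compat_id hca h
    rw [hu] at hact
    exact mem_H_of_act hgN hact.1
  · right
    exact ca_congr hA h

omit FD hα in
theorem not_ca_neg_of_mem_H {g : GL chevG2.Idx K} (hg : g ∈ chevG2.diagonalSubgroup K) :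
    ¬ CA g chevG2.neg := by
  intro h
  have := ca_unique (ca_of_mem_H hg) h 0 (by norm_num)
  revert this
  decide

omit FD hα in
theorem neg_neg12 : ∀ s < 12, chevG2.neg (chevG2.neg s) = s := by decide

/-- the product of two elements of `N¹` outside `H` lies in `H` -/
theorem mul_mem_H {g g' : GL chevG2.Idx K} (hgN : g ∈ chevG2.monomialSubgroup K) (hg : g ∈ twistedG2 K e)
    (hgN' : g' ∈ chevG2.monomialSubgroup K) (hg' : g' ∈ twistedG2 K e)
    (h : g ∉ chevG2.diagonalSubgroup K) (h' : g' ∉ chevG2.diagonalSubgroup K) :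
    g * g' ∈ chevG2.diagonalSubgroup K := by
  have h1 := (n1_cases FD α hα hgN hg).resolve_left h
  have h2 := (n1_cases FD α hα hgN' hg').resolve_left h'
  rcases n1_cases FD α hα (mul_mem hgN hgN') (mul_mem hg hg') with h3 | h3
  · exact h3
  · exfalso
    have := ca_unique (ca_mul h1 h2) h3 0 (by norm_num)
    revert this
    decide

end

/-! ### the non-trivial element of `W¹` -/

/-- `n_{a+b}(1) n_{3a+b}(1)` as a word -/
def wN0 : List (ℕ × LP) := [(8, kk 1), (3, kk (-1)), (8, kk 1), (10, kk 1), (1, kk (-1)), (10, kk 1)]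

theorem chk_n0 : wordEqCheckP chevG2 3 wN0 (wU 0 1 0 ++ wV 0 1 0 ++ wU 0 1 0) = true := by decide +kernel

theorem chk_n0c : wordEqCheckP chevG2 3 (wN0 ++ [(8, kk 1)]) ([(3, kk (-1))] ++ wN0) = true := by
  decide +kernel

section

variable {K : Type*} [Field K] [CharP K 3] {e : ℕ} (FD : FieldData K e)

/-- the representative of the non-trivial element of `W¹` -/
noncomputable def n0 : GL chevG2.Idx K := wordG (evalWord (1 : Kˣ) 1 wN0)

theorem n0_eq : (n0 : GL chevG2.Idx K) =
    Chev.ng (Chev.nData_G2 (F := K)) 8 1 * Chev.ng (Chev.nData_G2 (F := K)) 10 1 := by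
  have h3 : chevG2.neg 8 = 3 := by decide
  have h1 : chevG2.neg 10 = 1 := by decide
  simp only [Chev.ng, h3, h1, xg_eq]
  simp [n0, evalWord, wN0, kk, LP.eval, LP.evalMono, wordG, mul_assoc]

theorem n0_mem_N : (n0 : GL chevG2.Idx K) ∈ chevG2.monomialSubgroup K := by
  rw [n0_eq]
  exact mul_mem (Chev.ng_one_mem _ 8 (by decide)) (Chev.ng_one_mem _ 10 (by decide))

include FD in
theorem n0_mem_twisted : (n0 : GL chevG2.Idx K) ∈ twistedG2 K e := by
  have h0 : (0 : K) ^ e = 0 := zero_pow FD.epos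
  have hc : wordG (evalWord (1 : Kˣ) 1 wN0) =
      wordG (evalWord (1 : Kˣ) 1 (wU 0 1 0 ++ wV 0 1 0 ++ wU 0 1 0)) :=
    Units.ext (by rw [wordG_val, wordG_val]; exact wordMat_eq_of_checkP chevG2 3 1 1 _ _ chk_n0)
  have e1 : evalWord (1 : Kˣ) 1 (wU 0 1 0) = reeWordU e (0 : K) 1 0 := by
    simp [evalWord, wU, kk, LP.eval, LP.evalMono, reeWordU, g2a, g2b, g2ab, g2aab, g2aaab, g2aaabb, h0]
  have e2 : evalWord (1 : Kˣ) 1 (wV 0 1 0) = reeWordV e (0 : K) 1 0 := by
    have h2 : (0 : K) ^ (e + 1) = 0 := zero_pow (by omega)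
    have h3 : (0 : K) ^ (2 * e + 1) = 0 := zero_pow (by omega)
    rw [reeWordV_eq]
    simp [evalWord, wV, kk, LP.eval, LP.evalMono, h0, h2, h3]
  rw [n0, hc, evalWord_append, evalWord_append, wordG_append, wordG_append, e1, e2]
  exact mul_mem (mul_mem (FieldData.wordU_mem _ _ _) (FieldData.wordV_mem _ _ _))
    (FieldData.wordU_mem _ _ _)

theorem n0_conj : (n0 : GL chevG2.Idx K) * xg 8 1 = xg 3 (-1) * n0 := by
  have hc : wordG (evalWord (1 : Kˣ) 1 (wN0 ++ [(8, kk 1)])) =
      wordG (evalWord (1 : Kˣ) 1 ([(3, kk (-1))] ++ wN0)) :=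
    Units.ext (by rw [wordG_val, wordG_val]; exact wordMat_eq_of_checkP chevG2 3 1 1 _ _ chk_n0c)
  rw [evalWord_append, evalWord_append, wordG_append, wordG_append] at hc
  have e1 : wordG (evalWord (1 : Kˣ) 1 [(8, kk 1)]) = xg 8 (1 : K) := by
    simp [evalWord, kk, LP.eval, LP.evalMono, wordG]
  have e2 : wordG (evalWord (1 : Kˣ) 1 [(3, kk (-1))]) = xg 3 (-1 : K) := by
    simp [evalWord, kk, LP.eval, LP.evalMono, wordG]
  rw [e1, e2] at hc
  exact hc

theorem n0_not_mem_H : (n0 : GL chevG2.Idx K) ∉ chevG2.diagonalSubgroup K := by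
  intro h
  obtain ⟨_, c, hc, h1⟩ := ca_of_mem_H h 8 (by norm_num)
  have h2 := h1 1
  rw [n0_conj, mul_inv_cancel_right] at h2
  have := xg_root_inj (K := K) (by norm_num : 3 < 12) (by norm_num : id 8 < 12)
    (neg_ne_zero.mpr one_ne_zero) h2
  revert this
  decide

end

section

variable {K : Type*} [Field K] [CharP K 3] {e : ℕ} (FD : FieldData K e)
  (α : ↥(chevG2.group K) ≃* ↥(chevG2.group K))
  (hα : ∀ (r : Fin chevG2.nroots) (t : K),
      α (xG r.val t) = xG (sig r.val) (if isShort r.val then t ^ 3 else t))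

include FD hα

/-- `N¹ / H¹` has order two -/
theorem exists_hom_N1 :
    ∃ φ : ↥(chevG2.monomialSubgroup K ⊓ twistedG2 K e) →* Multiplicative (ZMod 2),
      Function.Surjective φ ∧
      φ.ker = (chevG2.diagonalSubgroup K ⊓ twistedG2 K e).subgroupOf
        (chevG2.monomialSubgroup K ⊓ twistedG2 K e) := by
  classical
  let f : ↥(chevG2.monomialSubgroup K ⊓ twistedG2 K e) → Multiplicative (ZMod 2) :=
    fun g => if (g : GL chevG2.Idx K) ∈ chevG2.diagonalSubgroup K then 1 else Multiplicative.ofAdd 1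
  have hf1 : ∀ g : ↥(chevG2.monomialSubgroup K ⊓ twistedG2 K e),
      (g : GL chevG2.Idx K) ∈ chevG2.diagonalSubgroup K → f g = 1 := fun g hg => if_pos hg
  have hf2 : ∀ g : ↥(chevG2.monomialSubgroup K ⊓ twistedG2 K e),
      (g : GL chevG2.Idx K) ∉ chevG2.diagonalSubgroup K → f g = Multiplicative.ofAdd 1 :=
    fun g hg => if_neg hg
  have hne : (Multiplicative.ofAdd (1 : ZMod 2)) ≠ 1 := by decide
  have hsq : (Multiplicative.ofAdd (1 : ZMod 2)) * Multiplicative.ofAdd 1 = 1 := by decide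
  have hmul : ∀ a b, f (a * b) = f a * f b := by
    intro a b
    have haN := Subgroup.mem_inf.1 a.2
    have hbN := Subgroup.mem_inf.1 b.2
    by_cases ha : (a : GL chevG2.Idx K) ∈ chevG2.diagonalSubgroup K
    · by_cases hb : (b : GL chevG2.Idx K) ∈ chevG2.diagonalSubgroup K
      · rw [hf1 a ha, hf1 b hb, hf1 (a * b) (by rw [Subgroup.coe_mul]; exact mul_mem ha hb), one_mul]
      · have hab : ((a * b : ↥(chevG2.monomialSubgroup K ⊓ twistedG2 K e)) : GL chevG2.Idx K) ∉
            chevG2.diagonalSubgroup K := by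
          rw [Subgroup.coe_mul]
          intro h
          exact hb ((Subgroup.mul_mem_cancel_left _ ha).1 h)
        rw [hf1 a ha, hf2 b hb, hf2 _ hab, one_mul]
    · by_cases hb : (b : GL chevG2.Idx K) ∈ chevG2.diagonalSubgroup K
      · have hab : ((a * b : ↥(chevG2.monomialSubgroup K ⊓ twistedG2 K e)) : GL chevG2.Idx K) ∉
            chevG2.diagonalSubgroup K := by
          rw [Subgroup.coe_mul]
          intro h
          exact ha ((Subgroup.mul_mem_cancel_right _ hb).1 h)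
        rw [hf2 a ha, hf1 b hb, hf2 _ hab, mul_one]
      · have hab : ((a * b : ↥(chevG2.monomialSubgroup K ⊓ twistedG2 K e)) : GL chevG2.Idx K) ∈
            chevG2.diagonalSubgroup K := by
          rw [Subgroup.coe_mul]
          exact mul_mem_H FD α hα haN.1 haN.2 hbN.1 hbN.2 ha hb
        rw [hf2 a ha, hf2 b hb, hf1 _ hab, hsq]
  refine ⟨MonoidHom.mk' f hmul, ?_, ?_⟩
  · intro y
    have hy : ∀ y : Multiplicative (ZMod 2), y = 1 ∨ y = Multiplicative.ofAdd 1 := by decide
    rcases hy y with rfl | rfl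
    · exact ⟨1, map_one _⟩
    · exact ⟨⟨n0, Subgroup.mem_inf.2 ⟨n0_mem_N, n0_mem_twisted FD⟩⟩, hf2 _ n0_not_mem_H⟩
  · ext g
    rw [MonoidHom.mem_ker, Subgroup.mem_subgroupOf, Subgroup.mem_inf]
    change f g = 1 ↔ _
    constructor
    · intro h
      by_contra hcon
      have : (g : GL chevG2.Idx K) ∉ chevG2.diagonalSubgroup K :=
        fun hh => hcon ⟨hh, (Subgroup.mem_inf.1 g.2).2⟩
      rw [hf2 g this] at h
      exact hne h
    · intro h
      exact hf1 g h.1

end

end Cfsg.Agent.Helper6.ReeS
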