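import Mathlib
import Cfsg.Prelude.Def_LieExceptional

/-!
# A (B,N)-pair on a subgroup of fixed points of a group with a (B,N)-pair (abstract part)

`B, N, S` satisfy the exchange condition and the uniqueness of the Bruhat decomposition in `G`.
`G1 ≤ G` has the decomposition `G1 = B¹ N¹ B¹` (`B¹ = B ⊓ G1`, `N¹ = N ⊓ G1`) and contains the products
`(w j).prod` of words in `S` such that a subword product congruent mod `B` to an element of `N¹` is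
trivial or the whole product.  Then `(B¹, N¹, {(w j).prod})` is a (B,N)-pair of `G1`.
-/

set_option autoImplicit false

namespace Cfsg.Agent.Helper6.Twist

section Abstract

variable {G : Type*} [Group G] (B N : Subgroup G) (S : Set G)

/-- iterated exchange condition -/
theorem iter_T3 (hSN : S ⊆ N)
    (hT3 : ∀ s ∈ S, ∀ n ∈ N, ∀ b ∈ B, (∃ c1 ∈ B, ∃ c2 ∈ B, s * b * n = c1 * (s * n) * c2) ∨
      (∃ c1 ∈ B, ∃ c2 ∈ B, s * b * n = c1 * n * c2)) :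
    ∀ (L : List G), (∀ x ∈ L, x ∈ S) → ∀ n ∈ N, ∀ b ∈ B,
      ∃ L' : List G, L'.Sublist L ∧ ∃ b1 ∈ B, ∃ b2 ∈ B, L.prod * b * n = b1 * (L'.prod * n) * b2 := by
  intro L
  induction L with
  | nil =>
    intro _ n _ b hb
    exact ⟨[], List.Sublist.refl _, b, hb, 1, B.one_mem, by simp⟩
  | cons s L0 ih =>
    intro hL n hn b hb
    have hs : s ∈ S := hL s (by simp)
    have hL0 : ∀ x ∈ L0, x ∈ S := fun x hx => hL x (by simp [hx])
    obtain ⟨L0', hsub, b1, hb1, b2, hb2, e⟩ := ih hL0 n hn b hb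
    have hm : L0'.prod * n ∈ N := by
      refine N.mul_mem (Subgroup.list_prod_mem _ ?_) hn
      intro x hx
      exact hSN (hL0 x (hsub.subset hx))
    have e0 : (s :: L0).prod * b * n = s * b1 * (L0'.prod * n) * b2 := by
      rw [List.prod_cons, mul_assoc s, mul_assoc s, e]
      group
    rcases hT3 s hs _ hm b1 hb1 with ⟨c1, hc1, c2, hc2, e2⟩ | ⟨c1, hc1, c2, hc2, e2⟩
    · refine ⟨s :: L0', hsub.cons_cons s, c1, hc1, c2 * b2, B.mul_mem hc2 hb2, ?_⟩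
      rw [e0, e2, List.prod_cons]
      group
    · refine ⟨L0', hsub.cons s, c1, hc1, c2 * b2, B.mul_mem hc2 hb2, ?_⟩
      rw [e0, e2]
      group

variable (hSN : S ⊆ N)
  (hT3 : ∀ s ∈ S, ∀ n ∈ N, ∀ b ∈ B, (∃ c1 ∈ B, ∃ c2 ∈ B, s * b * n = c1 * (s * n) * c2) ∨
      (∃ c1 ∈ B, ∃ c2 ∈ B, s * b * n = c1 * n * c2))
  (huniq : ∀ n ∈ N, ∀ n' ∈ N, (∃ b ∈ B, ∃ b' ∈ B, n' = b * n * b') → n⁻¹ * n' ∈ B)
  (hconjT : ∀ n ∈ N, ∀ t ∈ B ⊓ N, n * t * n⁻¹ ∈ B)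
  (G1 : Subgroup G)
  (hnf : ∀ g ∈ G1, ∃ n ∈ N ⊓ G1, ∃ b ∈ B ⊓ G1, ∃ b' ∈ B ⊓ G1, g = b * n * b')
  {ι : Type*} (w : ι → List G) (hw : ∀ j, ∀ x ∈ w j, x ∈ S) (hwG : ∀ j, (w j).prod ∈ G1)
  (hfix : ∀ j, ∀ L' : List G, L'.Sublist (w j) → ∀ x ∈ N ⊓ G1, x⁻¹ * L'.prod ∈ B →
    L'.prod ∈ B ∨ ((w j).prod)⁻¹ * L'.prod ∈ B)

include hSN hT3 huniq hconjT hnf hw hwG hfix in
/-- the exchange condition in `G1` -/
theorem exchange_fixed (j : ι) (n : G) (hn : n ∈ N ⊓ G1) (b : G) (hb : b ∈ B ⊓ G1) :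
    (∃ c1 ∈ B ⊓ G1, ∃ c2 ∈ B ⊓ G1, (w j).prod * b * n = c1 * ((w j).prod * n) * c2) ∨
      (∃ c1 ∈ B ⊓ G1, ∃ c2 ∈ B ⊓ G1, (w j).prod * b * n = c1 * n * c2) := by
  set s := (w j).prod with hs
  have hsN : s ∈ N := Subgroup.list_prod_mem _ (fun x hx => hSN (hw j x hx))
  have hconjT' : ∀ n ∈ N, ∀ t ∈ B ⊓ N, n⁻¹ * t * n ∈ B ⊓ N := by
    intro n hn t ht
    have h1 := hconjT n⁻¹ (N.inv_mem hn) t ht
    rw [inv_inv] at h1
    exact ⟨h1, N.mul_mem (N.mul_mem (N.inv_mem hn) ht.2) hn⟩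
  have hconjT'' : ∀ n ∈ N, ∀ t ∈ B ⊓ N, n * t * n⁻¹ ∈ B ⊓ N := by
    intro n hn t ht
    exact ⟨hconjT n hn t ht, N.mul_mem (N.mul_mem hn ht.2) (N.inv_mem hn)⟩
  have hgG : s * b * n ∈ G1 := G1.mul_mem (G1.mul_mem (hwG j) hb.2) hn.2
  obtain ⟨L', hsub, c1, hc1, c2, hc2, e⟩ := iter_T3 B N S hSN hT3 (w j) (hw j) n hn.1 b hb.1
  obtain ⟨n1, hn1, b1, hb1, b1', hb1', e1⟩ := hnf _ hgG
  set m := L'.prod with hm
  have hmN : m ∈ N := Subgroup.list_prod_mem _ (fun x hx => hSN (hw j x (hsub.subset hx)))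
  have hmnN : m * n ∈ N := N.mul_mem hmN hn.1
  -- uniqueness of the Bruhat cell
  have hu : (m * n)⁻¹ * n1 ∈ B := by
    apply huniq (m * n) hmnN n1 hn1.1
    refine ⟨b1⁻¹ * c1, B.mul_mem (B.inv_mem hb1.1) hc1, c2 * b1'⁻¹, B.mul_mem hc2 (B.inv_mem hb1'.1), ?_⟩
    have : n1 = b1⁻¹ * (b1 * n1 * b1') * b1'⁻¹ := by group
    have e' : s * b * n = c1 * (m * n) * c2 := e
    rw [this, ← e1, e']
    group
  have huT : (m * n)⁻¹ * n1 ∈ B ⊓ N := ⟨hu, N.mul_mem (N.inv_mem hmnN) hn1.1⟩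
  -- `x = n1 * n⁻¹`
  have hx : n1 * n⁻¹ ∈ N ⊓ G1 := ⟨N.mul_mem hn1.1 (N.inv_mem hn.1), G1.mul_mem hn1.2 (G1.inv_mem hn.2)⟩
  have hxm : (n1 * n⁻¹)⁻¹ * m ∈ B := by
    have e2 : (n1 * n⁻¹)⁻¹ * m = n * ((m * n)⁻¹ * n1)⁻¹ * n⁻¹ := by group
    rw [e2]
    exact hconjT n hn.1 _ ((B ⊓ N).inv_mem huT)
  rcases hfix j L' hsub _ hx hxm with hmB | hmB
  · -- `m ∈ B`
    right
    have hmT : m ∈ B ⊓ N := ⟨hmB, hmN⟩
    have h1 : n⁻¹ * n1 ∈ B := by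
      have e2 : n⁻¹ * n1 = (n⁻¹ * m * n) * ((m * n)⁻¹ * n1) := by group
      rw [e2]
      exact B.mul_mem (hconjT' n hn.1 m hmT).1 hu
    refine ⟨b1, hb1, (n⁻¹ * n1) * b1', ⟨B.mul_mem h1 hb1'.1,
      G1.mul_mem (G1.mul_mem (G1.inv_mem hn.2) hn1.2) hb1'.2⟩, ?_⟩
    rw [e1]
    group
  · -- `s⁻¹ * m ∈ B`
    left
    have hmT : s⁻¹ * m ∈ B ⊓ N := ⟨hmB, N.mul_mem (N.inv_mem hsN) hmN⟩
    have h1 : (s * n)⁻¹ * n1 ∈ B := by
      have e2 : (s * n)⁻¹ * n1 = (n⁻¹ * (s⁻¹ * m) * n) * ((m * n)⁻¹ * n1) := by group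
      rw [e2]
      exact B.mul_mem (hconjT' n hn.1 _ hmT).1 hu
    refine ⟨b1, hb1, ((s * n)⁻¹ * n1) * b1', ⟨B.mul_mem h1 hb1'.1,
      G1.mul_mem (G1.mul_mem (G1.inv_mem (G1.mul_mem (hwG j) hn.2)) hn1.2) hb1'.2⟩, ?_⟩
    rw [e1]
    group

variable (hsq : ∀ j, (w j).prod * (w j).prod ∈ B)
  (hinj : ∀ j j', ((w j).prod)⁻¹ * (w j').prod ∈ B → j = j')
  (hgen : ∀ n ∈ N ⊓ G1, ∃ L : List ι, ((L.map fun j => (w j).prod).prod)⁻¹ * n ∈ B)
  (hne : ∀ j, ∃ b ∈ B ⊓ G1, (w j).prod * b * (w j).prod ∉ B)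

include hSN hT3 huniq hconjT hnf hw hwG hfix hsq hinj hgen hne in
/-- **the (B,N)-pair of the fixed points** -/
theorem exists_bnPair_fixed :
    ∃ P : Cfsg.BNPair ↥G1, P.B = (B ⊓ G1).subgroupOf G1 ∧ P.N = (N ⊓ G1).subgroupOf G1 ∧
      P.S = {s : ↥G1 | ∃ j, (s : G) = (w j).prod} := by
  have hsN : ∀ j, (w j).prod ∈ N := fun j => Subgroup.list_prod_mem _ (fun x hx => hSN (hw j x hx))
  have hsubset : {s : ↥G1 | ∃ j, (s : G) = (w j).prod} ⊆ (((N ⊓ G1).subgroupOf G1 : Subgroup ↥G1) : Set ↥G1) := by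
    rintro s ⟨j, hj⟩
    rw [SetLike.mem_coe, Subgroup.mem_subgroupOf, hj]
    exact ⟨hsN j, hwG j⟩
  refine ⟨{ B := (B ⊓ G1).subgroupOf G1
            N := (N ⊓ G1).subgroupOf G1
            S := {s : ↥G1 | ∃ j, (s : G) = (w j).prod}
            sup_eq_top := ?_
            conj_mem := ?_
            subset := hsubset
            sq_mem := ?_
            inj := ?_
            closure_sup := ?_
            mul_mem_union := ?_
            conj_ne := ?_ }, rfl, rfl, rfl⟩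
  · -- sup_eq_top
    rw [eq_top_iff]
    intro g _
    obtain ⟨n, hn, b, hb, b', hb', e⟩ := hnf g g.2
    have e' : g = (⟨b, hb.2⟩ : ↥G1) * ⟨n, hn.2⟩ * ⟨b', hb'.2⟩ := Subtype.ext e
    rw [e']
    refine Subgroup.mul_mem _ (Subgroup.mul_mem _ (Subgroup.mem_sup_left ?_) (Subgroup.mem_sup_right ?_))
      (Subgroup.mem_sup_left ?_)
    · rw [Subgroup.mem_subgroupOf]; exact hb
    · rw [Subgroup.mem_subgroupOf]; exact hn
    · rw [Subgroup.mem_subgroupOf]; exact hb'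
  · -- conj_mem
    intro n hn t ht
    rw [Subgroup.mem_subgroupOf] at hn
    have ht1 : (t : G) ∈ B ⊓ G1 := Subgroup.mem_subgroupOf.1 ht.1
    have ht2 : (t : G) ∈ N ⊓ G1 := Subgroup.mem_subgroupOf.1 ht.2
    rw [Subgroup.mem_subgroupOf]
    refine ⟨?_, (n * t * n⁻¹).2⟩
    rw [Subgroup.coe_mul, Subgroup.coe_mul, Subgroup.coe_inv]
    exact hconjT _ hn.1 _ ⟨ht1.1, ht2.1⟩
  · -- sq_mem
    rintro s ⟨j, hj⟩
    rw [Subgroup.mem_subgroupOf, Subgroup.coe_mul, hj]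
    exact ⟨hsq j, G1.mul_mem (hwG j) (hwG j)⟩
  · -- inj
    rintro s ⟨j, hj⟩ s' ⟨j', hj'⟩ h
    rw [Subgroup.mem_subgroupOf, Subgroup.coe_mul, Subgroup.coe_inv, hj, hj'] at h
    have := hinj j j' h.1
    subst this
    exact Subtype.ext (hj.trans hj'.symm)
  · -- closure_sup
    apply le_antisymm
    · exact sup_le ((Subgroup.closure_le _).2 hsubset) inf_le_right
    · intro n hn
      have hn' : (n : G) ∈ N ⊓ G1 := Subgroup.mem_subgroupOf.1 hn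
      obtain ⟨L, hL⟩ := hgen _ hn'
      set m : ↥G1 := (L.map fun j => (⟨(w j).prod, hwG j⟩ : ↥G1)).prod with hm
      have hmval : (m : G) = (L.map fun j => (w j).prod).prod := by
        rw [hm, ← Subgroup.coe_subtype, map_list_prod, List.map_map]
        rfl
      have hmcl : m ∈ Subgroup.closure {s : ↥G1 | ∃ j, (s : G) = (w j).prod} := by
        apply Subgroup.list_prod_mem
        intro x hx
        obtain ⟨j, _, rfl⟩ := List.mem_map.1 hx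
        exact Subgroup.subset_closure ⟨j, rfl⟩
      have hmN : m ∈ (N ⊓ G1).subgroupOf G1 := (Subgroup.closure_le _).2 hsubset hmcl
      have e : n = m * (m⁻¹ * n) := by group
      rw [e]
      refine Subgroup.mul_mem _ (Subgroup.mem_sup_left hmcl) (Subgroup.mem_sup_right ⟨?_, ?_⟩)
      · refine Subgroup.mem_subgroupOf.2 ?_
        rw [Subgroup.coe_mul, Subgroup.coe_inv, hmval]
        exact ⟨hL, G1.mul_mem (G1.inv_mem (by rw [← hmval]; exact m.2)) n.2⟩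
      · exact Subgroup.mul_mem _ (Subgroup.inv_mem _ hmN) hn
  · -- mul_mem_union
    rintro s ⟨j, hj⟩ n hn b hb
    have hn' : (n : G) ∈ N ⊓ G1 := Subgroup.mem_subgroupOf.1 hn
    have hb' : (b : G) ∈ B ⊓ G1 := Subgroup.mem_subgroupOf.1 hb
    rcases exchange_fixed B N S hSN hT3 huniq hconjT G1 hnf w hw hwG hfix j _ hn' _ hb' with
      ⟨c1, hc1, c2, hc2, e⟩ | ⟨c1, hc1, c2, hc2, e⟩
    · left
      rw [DoubleCoset.mem_doubleCoset]
      refine ⟨⟨c1, hc1.2⟩, Subgroup.mem_subgroupOf.2 hc1, ⟨c2, hc2.2⟩, Subgroup.mem_subgroupOf.2 hc2, ?_⟩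
      apply Subtype.ext
      simp only [Subgroup.coe_mul, hj]
      exact e
    · right
      rw [DoubleCoset.mem_doubleCoset]
      refine ⟨⟨c1, hc1.2⟩, Subgroup.mem_subgroupOf.2 hc1, ⟨c2, hc2.2⟩, Subgroup.mem_subgroupOf.2 hc2, ?_⟩
      apply Subtype.ext
      simp only [Subgroup.coe_mul, hj]
      exact e
  · -- conj_ne
    rintro s ⟨j, hj⟩ heq
    obtain ⟨b, hb, hnb⟩ := hne j
    have h1 : s * (⟨b, hb.2⟩ : ↥G1) * s ∈ (fun b : ↥G1 => s * b * s) ''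
        (((B ⊓ G1).subgroupOf G1 : Subgroup ↥G1) : Set ↥G1) :=
      ⟨⟨b, hb.2⟩, Subgroup.mem_subgroupOf.2 hb, rfl⟩
    rw [heq, SetLike.mem_coe, Subgroup.mem_subgroupOf] at h1
    apply hnb
    have := h1.1
    simp only [Subgroup.coe_mul, hj] at this
    exact this

end Abstract

end Cfsg.Agent.Helper6.Twist
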