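import Cfsg.Agent.Lib.Helper59.TwMain
import Cfsg.Agent.Lib.Helper6.TwistBN

/-!
# The (B,N)-pair of a twisted Chevalley group (generic part)

From the normal form of the fixed points (helper59, `Twist.nf1`), the exchange condition of the
ambient Chevalley group (helper18, `bn_mul_mem`) and the uniqueness of the Bruhat decomposition.
-/

set_option autoImplicit false
set_option linter.unusedSectionVars false
set_option linter.unusedVariables false

namespace Cfsg.Agent.Helper6.TwBN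

open Cfsg Cfsg.Lie Cfsg.Agent.S1043 Cfsg.Agent.Helper17 Cfsg.Agent.Helper18
open Cfsg.Agent.Helper6 Cfsg.Agent.Helper6.Weyl Cfsg.Agent.Helper6.Chev Cfsg.Agent.Helper6.ChevLen
open Cfsg.Agent.Helper6.Twist Cfsg.Agent.Helper59.TwFix

/-- an element of the closure of a family of involutions is a product along a list -/
theorem exists_list_of_mem_closure {G : Type*} [Group G] {ι : Type*} (g : ι → G)
    (hinv : ∀ j, g j * g j = 1) {x : G} (hx : x ∈ Subgroup.closure (Set.range g)) :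
    ∃ L : List ι, x = (L.map g).prod := by
  induction hx using Subgroup.closure_induction with
  | mem x hx =>
    obtain ⟨j, rfl⟩ := hx
    exact ⟨[j], by simp⟩
  | one => exact ⟨[], by simp⟩
  | mul x y _ _ ihx ihy =>
    obtain ⟨L1, rfl⟩ := ihx
    obtain ⟨L2, rfl⟩ := ihy
    exact ⟨L1 ++ L2, by rw [List.map_append, List.prod_append]⟩
  | inv x _ ih =>
    obtain ⟨L, rfl⟩ := ih
    refine ⟨L.reverse, ?_⟩
    rw [List.prod_inv_reverse, List.map_reverse, List.map_map]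
    congr 2
    apply List.map_congr_left
    intro j _
    exact (eq_inv_of_mul_eq_one_left (hinv j)).symm

section

variable {F : Type*} [Field F] [Fintype F] {D : ChevalleyDatum} (hD : Good D) {tbl : List ℕ}
  (CH : ChevHyp F D tbl)
  (φ : F →+* F) (hφ : Function.Surjective φ) (Pg : GL D.Idx F) (R : ℕ → ℕ) (ηs : ℕ → ℤ)
  (hconjP : ∀ s < D.nroots, ∀ t : F, (Pg : Matrix D.Idx D.Idx F) * D.x F s t =
      D.x F (R s) ((ηs s : F) * t) * (Pg : Matrix D.Idx D.Idx F))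
  (TF : TauFacts D R ηs)
  (G1 : Subgroup (GL D.Idx F)) (hG1 : G1 ≤ D.group F) (hfix : G1 ≤ fixTau φ Pg)
  {l' : ℕ} (orb : Fin l' → List ℕ)
  (horb : ∀ j, OrthList D (orb j))
  (hne : ∀ j, orb j ≠ [])
  (hcover : ∀ i < D.rank, ∃ j, i ∈ orb j)
  (π : ℕ → ℕ)
  (hπR : ∀ i < D.rank, R (D.simple i) = D.simple (π i))
  (hπη : ∀ i < D.rank, ηs (D.simple i) = 1)
  (hπorb : ∀ j, ∀ a ∈ orb j, π a ∈ orb j)
  (hπtrans : ∀ j, ∀ a ∈ orb j, ∀ b ∈ orb j, ∃ k : ℕ, π^[k] a = b)
  (hnJ : ∀ j, nWordGL D hD (orb j) ∈ G1)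
  (hfixX : ∀ j, ∀ x ∈ XJ hD (F := F) (orb j), tau φ Pg x = x → x ∈ G1)
  (q d : ℕ) (hd0 : d ≠ 0) (hFq : Fintype.card F = q ^ d)
  (hd : ∀ j, ∀ Y : Subgroup (GL D.Idx F),
    (∀ g, g ∈ Y ↔ g ∈ XJ hD (F := F) (orb j) ∧ tau φ Pg g = g) →
      Nat.card ↥Y ^ d = Nat.card ↥(XJ hD (F := F) (orb j)))
  {η : ℕ → ℕ → ℤ} (h : NData F D η)
  {l : ℕ} {V : VDatum l} {vec : ℕ → Vec l} (B : Bridge D V vec)
  (hsimp : ∀ j < D.rank, ∀ c : F, c ≠ 0 → D.hMat F (D.simple j) c =
    Matrix.diagonal (Sum.elim (fun _ => (1 : F)) (fun s : Fin D.nroots => c ^ (D.cartan j s))))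
  (M : CoxeterMatrix (Fin l)) (hM : ∀ i j, M i j = orderOf (V.s i * V.s j))
  (hrel : ∀ i j : Fin l, i < j → (Ni h i * Ni h j) ^ (M i j) ∈ D.diagonalSubgroup F)
  (Pm : (Mat l)ˣ) (hPact : Act vec (Pg : Matrix D.Idx D.Idx F) Pm)
  (πW : Fin l → Fin l)
  (hPsingle : ∀ i, Pm • (Pi.single i 1 : Vec l) = Pi.single (πW i) 1)
  (hPpos : ∀ β ∈ V.pos, Pm • β ∈ V.pos)
  (orbW : Fin l' → List (Fin l))
  (horb_cover : ∀ i : Fin l, ∃ j, i ∈ orbW j)
  (horb_trans : ∀ j, ∀ a ∈ orbW j, ∀ b ∈ orbW j, ∃ k : ℕ, πW^[k] a = b)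
  (horb_orth : ∀ j, (orbW j).Pairwise (Orth V))
  (hg_comm : ∀ j, Pm * V.wpM (orbW j) = V.wpM (orbW j) * Pm)
  (hgenW : ∀ j : Fin l', (((orbW j).map (NiN h B hsimp)).prod : GL D.Idx F) ∈ G1)
  (horbW : ∀ j, (orbW j).map (fun i : Fin l => (i : ℕ)) = orb j)
  (hsubW : ∀ j, ∀ L0 : List (Fin l), L0.Sublist (orbW j) → Pm * V.wpM L0 = V.wpM L0 * Pm →
    L0 = [] ∨ L0 = orbW j)
  (hinvW : ∀ j, V.wpM (orbW j) * V.wpM (orbW j) = 1)
  (hinjW : ∀ j j', V.wpM (orbW j) = V.wpM (orbW j') → j = j')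

include h in
theorem nGL_eq_Ni' (i : ℕ) : nGL (F := F) D hD i = Ni h i := by
  apply Units.ext
  rw [nGL_val, Ni, ng_val]

include h in
theorem nWordGL_map (L0 : List (Fin l)) :
    nWordGL (F := F) D hD (L0.map fun i : Fin l => (i : ℕ)) =
      (((L0.map (NiN h B hsimp)).prod : ↥(D.monomialSubgroup F)) : GL D.Idx F) := by
  induction L0 with
  | nil => simp [nWordGL]
  | cons i L ih =>
    rw [List.map_cons, nWordGL_cons, ih, List.map_cons, List.prod_cons, Subgroup.coe_mul, NiN_coe,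
      nGL_eq_Ni' hD h]

include hD CH in
theorem borel_inf_mono : D.borelSubgroup F ⊓ D.monomialSubgroup F = D.diagonalSubgroup F :=
  (borel_inf_monomial (F := F) D hD CH.hB CH.hT CH.hTri CH.hNeg CH.hconj CH.hS CH.hNH).2

include hD CH in
/-- uniqueness of the Bruhat cell in the ambient group -/
theorem huniq_chev (n : GL D.Idx F) (hn : n ∈ D.monomialSubgroup F) (n' : GL D.Idx F)
    (hn' : n' ∈ D.monomialSubgroup F)
    (he : ∃ b ∈ D.borelSubgroup F, ∃ b' ∈ D.borelSubgroup F, n' = b * n * b') :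
    n⁻¹ * n' ∈ D.borelSubgroup F := by
  obtain ⟨b, hb, b', hb', e⟩ := he
  have hBG : D.borelSubgroup F ≤ D.group F := borel_le D hD
  have hNG : D.monomialSubgroup F ≤ D.group F := monomial_le D hD
  obtain ⟨P, hPB, hPN, _⟩ := bnPair_exists D hD CH.hB CH.hU CH.hT CH.hTri CH.hNeg CH.hconj CH.hS CH.hNH
  have hmemB : ∀ x : GL D.Idx F, ∀ hx : x ∈ D.borelSubgroup F,
      (⟨x, hBG hx⟩ : ↥(D.group F)) ∈ P.B := by
    intro x hx
    rw [hPB, Subgroup.mem_subgroupOf]
    exact hx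
  have hmemN : ∀ x : GL D.Idx F, ∀ hx : x ∈ D.monomialSubgroup F,
      (⟨x, hNG hx⟩ : ↥(D.group F)) ∈ P.N := by
    intro x hx
    rw [hPN, Subgroup.mem_subgroupOf]
    exact hx
  have hC : Cfsg.Agent.Helper6.C P ⟨n, hNG hn⟩ = Cfsg.Agent.Helper6.C P ⟨n', hNG hn'⟩ := by
    apply Cfsg.Agent.Helper6.C_eq_of_mem_of_mem P (g := (⟨n', hNG hn'⟩ : ↥(D.group F)))
    · refine (Cfsg.Agent.Helper6.mem_C P).mpr ⟨_, hmemB b hb, _, hmemB b' hb', ?_⟩
      apply Subtype.ext
      exact e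
    · exact Cfsg.Agent.Helper6.self_mem_C P _
  have h1 := Cfsg.Agent.Helper6.bruhat_unique P (hmemN n hn) (hmemN n' hn') hC
  rw [hPB, Subgroup.mem_subgroupOf] at h1
  exact h1

include hD CH φ hφ Pg R ηs hconjP TF G1 hG1 hfix orb horb hne hcover π hπR hπη hπorb hπtrans hnJ hfixX
  hd0 hFq hd h B hsimp hM hrel hPact hPsingle hPpos horb_cover horb_trans horb_orth hg_comm hgenW
  horbW hsubW hinvW hinjW in
set_option maxHeartbeats 2000000 in
/-- **the (B,N)-pair of a twisted group** -/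
theorem exists_bnPair_twisted :
    ∃ P : Cfsg.BNPair ↥G1, P.B = (D.borelSubgroup F ⊓ G1).subgroupOf G1 ∧
      P.N = (D.monomialSubgroup F ⊓ G1).subgroupOf G1 ∧
      P.S = {s : ↥G1 | ∃ j, (s : GL D.Idx F) = nWordGL D hD (orb j)} := by
  classical
  have hBN := borel_inf_mono hD CH
  have hHB : D.diagonalSubgroup F ≤ D.borelSubgroup F := le_sup_right
  have hUB : D.posUnipotent F ≤ D.borelSubgroup F := le_sup_left
  set T := chevTwist hD CH φ hφ Pg R ηs hconjP TF G1 hG1 hfix with hT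
  set Rc := chevRec hD CH φ hφ Pg R ηs hconjP TF G1 hG1 hfix orb horb hne hcover π hπR hπη
    hπorb hπtrans hnJ hfixX with hRc
  have hfu : ∀ n ∈ D.monomialSubgroup F, n ∈ G1 → ∀ u ∈ Uw D n, tau φ Pg u = u → u ∈ G1 :=
    fun n hn hnG => (card_FixUw hD CH φ hφ Pg R ηs hconjP TF G1 hG1 hfix orb horb hne hcover π hπR hπη
      hπorb hπtrans hnJ hfixX q d hd0 hFq hd h B hsimp M hM hrel n hn hnG).1
  -- the words
  have hword : ∀ j, nWordGL (F := F) D hD (orb j) =
      (((((orbW j).map (NiN h B hsimp)).prod : ↥(D.monomialSubgroup F))) : GL D.Idx F) := by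
    intro j
    rw [← horbW j]
    exact nWordGL_map hD h B hsimp _
  have hθw : ∀ L0 : List (Fin l), ∀ g : ↥(D.monomialSubgroup F),
      (g : GL D.Idx F) = nWordGL D hD (L0.map fun i : Fin l => (i : ℕ)) →
      ((thetaHom h B hsimp g : V.Wf) : (Mat l)ˣ) = V.wpM L0 := by
    intro L0 g hg
    have : g = (L0.map (NiN h B hsimp)).prod := Subtype.ext (by rw [hg, nWordGL_map hD h B hsimp])
    rw [this, thetaHom_wordProd]
  have hθH : ∀ g : ↥(D.monomialSubgroup F), (g : GL D.Idx F) ∈ D.borelSubgroup F →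
      thetaHom h B hsimp g = 1 := by
    intro g hg
    apply thetaHom_of_mem_H
    rw [← hBN]
    exact ⟨hg, g.2⟩
  have hθH' : ∀ g : ↥(D.monomialSubgroup F), thetaHom h B hsimp g = 1 →
      (g : GL D.Idx F) ∈ D.borelSubgroup F :=
    fun g hg => hHB ((thetaHom_eq_one_iff h B hsimp M hM hrel g).1 hg)
  have hwN : ∀ L : List ℕ, (∀ i ∈ L, i < D.rank) → nWordGL (F := F) D hD L ∈ D.monomialSubgroup F :=
    fun L hL => nWordGL_mem D hD L (fun i hi => CH.hB.hsimp i (hL i hi))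
  have hsqJ : ∀ j, nWordGL (F := F) D hD (orb j) * nWordGL D hD (orb j) ∈ D.borelSubgroup F := by
    intro j
    have hN := hwN (orb j) (horb j).lt
    have := hθH' (⟨_, hN⟩ * ⟨_, hN⟩) (by
      apply Subtype.ext
      rw [map_mul, Subgroup.coe_mul, hθw (orbW j) ⟨_, hN⟩ (by rw [horbW j]), hinvW j]
      rfl)
    exact this
  apply exists_bnPair_fixed (D.borelSubgroup F) (D.monomialSubgroup F)
    {s : GL D.Idx F | ∃ i < D.rank, s = nGL D hD i}
    (ι := Fin l') (w := fun j => (orb j).map (nGL D hD))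
  · -- hSN
    rintro s ⟨i, hi, rfl⟩
    exact nGL_mem D hD i (CH.hB.hsimp i hi)
  · -- hT3
    rintro s ⟨i, hi, rfl⟩ n hn b hb
    exact bn_mul_mem D hD CH.hB CH.hU CH.hT CH.hconj CH.hS CH.hNH i hi n hn b hb
  · -- huniq
    exact huniq_chev hD CH
  · -- hconjT
    intro n hn t ht
    rw [hBN] at ht
    exact hHB ((Subgroup.mem_normalizer_iff.mp (CH.hNH hn) t).mp ht)
  · -- hnf
    intro g hg
    obtain ⟨n, hn, hnG, b, hb, hbG, u, hu, e⟩ := T.nf1 Rc.lift hfu g hg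
    have huU : u ∈ Uw D n := hu.1
    exact ⟨n, ⟨hn, hnG⟩, b, ⟨hb, hbG⟩, u, ⟨hUB (Uw_le_pos D n huU), hfu n hn hnG u huU hu.2⟩, e⟩
  · -- hw
    intro j x hx
    obtain ⟨i, hi, rfl⟩ := List.mem_map.1 hx
    exact ⟨i, (horb j).lt i hi, rfl⟩
  · -- hwG
    exact hnJ
  · -- hfix
    intro j L' hsub x hx hxL
    rw [← horbW j, List.map_map] at hsub
    obtain ⟨L0, hL0, rfl⟩ := List.sublist_map_iff.1 hsub
    have hprod : (L0.map ((nGL (F := F) D hD) ∘ fun i : Fin l => (i : ℕ))).prod =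
        nWordGL D hD (L0.map fun i : Fin l => (i : ℕ)) := by
      rw [nWordGL, List.map_map]
    have hL0lt : ∀ i ∈ L0.map (fun i : Fin l => (i : ℕ)), i < D.rank := by
      intro i hi
      apply (horb j).lt
      rw [← horbW j]
      exact (hL0.map _).subset hi
    have hmN := hwN _ hL0lt
    rw [hprod] at hxL ⊢
    -- θ(x) = wpM L0
    have h1 := hθH (⟨x, hx.1⟩⁻¹ * ⟨_, hmN⟩) hxL
    rw [map_mul, map_inv, inv_mul_eq_one] at h1
    have h2 := theta_comm_of_fixed h B hsimp φ Pg Pm hPact ⟨x, hx.1⟩ (hfix hx.2)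
    rw [h1, hθw L0 ⟨_, hmN⟩ rfl] at h2
    rcases hsubW j L0 hL0 h2.symm with rfl | rfl
    · left
      simp only [List.map_nil, nWordGL_nil]
      exact one_mem _
    · right
      have : ((orb j).map (nGL (F := F) D hD)).prod =
          nWordGL D hD ((orbW j).map fun i : Fin l => (i : ℕ)) := by
        rw [horbW j]
        rfl
      rw [this, inv_mul_cancel]
      exact one_mem _
  · -- hsq
    exact hsqJ
  · -- hinj
    intro j j' hjj
    apply hinjW
    have hN := hwN (orb j) (horb j).lt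
    have hN' := hwN (orb j') (horb j').lt
    have h1 := hθH (⟨_, hN⟩⁻¹ * ⟨_, hN'⟩) hjj
    rw [map_mul, map_inv, inv_mul_eq_one] at h1
    have h2 := congrArg Subtype.val h1
    rw [hθw (orbW j) ⟨_, hN⟩ (by rw [horbW j]), hθw (orbW j') ⟨_, hN'⟩ (by rw [horbW j'])] at h2
    exact h2
  · -- hgen
    intro n hn
    have hCW := theta1_mem_CW φ Pg G1 hfix h B hsimp Pm hPact ⟨n, hn⟩
    have hcl := CW_le_closure V Pm πW hPsingle hPpos orbW horb_cover horb_trans horb_orth hg_comm hCW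
    obtain ⟨L, hL⟩ := exists_list_of_mem_closure (fun j => V.wpM (orbW j)) hinvW hcl
    refine ⟨L, ?_⟩
    set mN : ↥(D.monomialSubgroup F) :=
      (L.map fun j => (⟨nWordGL D hD (orb j), hwN (orb j) (horb j).lt⟩ : ↥(D.monomialSubgroup F))).prod
      with hmN
    have hmval : (mN : GL D.Idx F) = (L.map fun j => ((orb j).map (nGL D hD)).prod).prod := by
      rw [hmN, ← Subgroup.coe_subtype, map_list_prod, List.map_map]
      rfl
    have hθm : ((thetaHom h B hsimp mN : V.Wf) : (Mat l)ˣ) = (L.map fun j => V.wpM (orbW j)).prod := by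
      rw [hmN, map_list_prod, ← Subgroup.coe_subtype, map_list_prod, List.map_map, List.map_map]
      congr 1
      apply List.map_congr_left
      intro j _
      exact hθw (orbW j) _ (by rw [horbW j])
    rw [← hmval]
    apply hθH' (mN⁻¹ * ⟨n, hn.1⟩)
    rw [map_mul, map_inv, inv_mul_eq_one]
    apply Subtype.ext
    rw [hθm, ← hL]
    rfl
  · -- hne
    intro j
    have h2 : 2 ≤ Nat.card ↥(XJ hD (F := F) (orb j)) := Rc.card_XJ_ge j
    have h3 := hd j (Rc.FixX j) (fun g => Iff.rfl)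
    have hnt : ∃ x ∈ Rc.FixX j, x ≠ 1 := by
      by_contra hcon
      have hbot : Rc.FixX j = ⊥ := by
        rw [eq_bot_iff]
        intro x hx
        by_contra hx1
        exact hcon ⟨x, hx, fun h1 => hx1 (Subgroup.mem_bot.2 h1)⟩
      rw [hbot, Subgroup.card_bot, one_pow] at h3
      omega
    obtain ⟨x, hx, hx1⟩ := hnt
    have hxX : x ∈ XJ hD (F := F) (orb j) := hx.1
    have hxτ : tau φ Pg x = x := hx.2
    have hxG : x ∈ G1 := hfixX j x hxX hxτ
    have hXU : XJ hD (F := F) (orb j) ≤ D.posUnipotent F := by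
      unfold XJ
      rw [Subgroup.closure_le]
      rintro g ⟨i, hi, t, rfl⟩
      exact Subgroup.subset_closure ⟨_, t, CH.hB.hsimpPos i ((horb j).lt i hi), rfl⟩
    refine ⟨x, ⟨hUB (hXU hxX), hxG⟩, ?_⟩
    intro hmem
    apply hx1
    have hs : ((orb j).map (nGL (F := F) D hD)).prod = nWordGL D hD (orb j) := rfl
    rw [hs] at hmem
    have h4 : nWordGL D hD (orb j) * x * (nWordGL D hD (orb j))⁻¹ ∈ D.borelSubgroup F := by
      have e : nWordGL D hD (orb j) * x * (nWordGL D hD (orb j))⁻¹ =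
          (nWordGL D hD (orb j) * x * nWordGL D hD (orb j)) *
            (nWordGL D hD (orb j) * nWordGL D hD (orb j))⁻¹ := by group
      rw [e]
      exact mul_mem hmem (inv_mem (hsqJ j))
    have h5 := orbit_conj_neg hD CH (horb j) x hxX
    have hbot := (borel_inf_neg (F := F) D CH.hT CH.hTri CH.hNeg).1
    have h6 : nWordGL D hD (orb j) * x * (nWordGL D hD (orb j))⁻¹ = 1 := by
      rw [← Subgroup.mem_bot, ← hbot]
      exact ⟨h4, h5⟩
    have : x = (nWordGL D hD (orb j))⁻¹ * (nWordGL D hD (orb j) * x * (nWordGL D hD (orb j))⁻¹) *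
        nWordGL D hD (orb j) := by group
    rw [this, h6]
    group

end

end Cfsg.Agent.Helper6.TwBN
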