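import Cfsg.Agent.Lib.Helper6.ChevBNLen
import Cfsg.Agent.S0319
import Cfsg.Agent.S1050

/-!
# Simplicity of a subgroup of a Chevalley group carrying a (B,N)-pair with `B = B ⊓ G1`

The final assembly for the twisted groups: Tits' criterion `S0319` from an irreducible (B,N)-pair on
`G1` whose `B` is `B ⊓ G1`, perfectness and triviality of the core.  Also: commutators of products of
the `n_i` along two words whose Weyl group elements do not commute do not lie in `B`.
-/

set_option autoImplicit false
set_option linter.unusedSectionVars false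

namespace Cfsg.Agent.Helper6.Twist

open Cfsg.Lie Cfsg.Agent.Helper18 Cfsg.Agent.Helper6.Weyl Cfsg.Agent.Helper6.Chev
open Cfsg.Agent.Helper6 Cfsg.Agent.Helper6.ChevLen

section Comm

variable {F : Type*} [Field F] {D : ChevalleyDatum} {η : ℕ → ℕ → ℤ} (h : NData F D η)
  {l : ℕ} {V : VDatum l} {vec : ℕ → Vec l} (B : Bridge D V vec)
  (hsimp : ∀ j < D.rank, ∀ c : F, c ≠ 0 → D.hMat F (D.simple j) c =
    Matrix.diagonal (Sum.elim (fun _ => (1 : F)) (fun s : Fin D.nroots => c ^ (D.cartan j s))))

include h B hsimp in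
/-- the commutator of the products of the `n_i` along two words whose Weyl group elements do not
commute does not lie in `B` -/
theorem comm_notin_borel
    (hBN : D.borelSubgroup F ⊓ D.monomialSubgroup F = D.diagonalSubgroup F)
    (L1 L2 : List (Fin l)) (hne : V.wpM (L1 ++ L2) ≠ V.wpM (L2 ++ L1)) :
    (((L1.map (NiN h B hsimp)).prod : ↥(D.monomialSubgroup F)) : GL D.Idx F) *
      (((L2.map (NiN h B hsimp)).prod : ↥(D.monomialSubgroup F)) : GL D.Idx F) *
      (((L1.map (NiN h B hsimp)).prod : ↥(D.monomialSubgroup F)) : GL D.Idx F)⁻¹ *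
      (((L2.map (NiN h B hsimp)).prod : ↥(D.monomialSubgroup F)) : GL D.Idx F)⁻¹ ∉
        D.borelSubgroup F := by
  intro hc
  set a : ↥(D.monomialSubgroup F) := (L1.map (NiN h B hsimp)).prod with ha
  set b : ↥(D.monomialSubgroup F) := (L2.map (NiN h B hsimp)).prod with hb
  have hmem : ((a * b * a⁻¹ * b⁻¹ : ↥(D.monomialSubgroup F)) : GL D.Idx F) ∈ D.diagonalSubgroup F := by
    rw [← hBN]
    exact ⟨hc, (a * b * a⁻¹ * b⁻¹).2⟩
  have h1 := thetaHom_of_mem_H h B hsimp _ hmem
  rw [map_mul, map_mul, map_mul, map_inv, map_inv] at h1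
  have h2 : thetaHom h B hsimp a * thetaHom h B hsimp b =
      thetaHom h B hsimp b * thetaHom h B hsimp a := by
    have : thetaHom h B hsimp a * thetaHom h B hsimp b =
        (thetaHom h B hsimp a * thetaHom h B hsimp b * (thetaHom h B hsimp a)⁻¹ *
          (thetaHom h B hsimp b)⁻¹) * (thetaHom h B hsimp b * thetaHom h B hsimp a) := by group
    rw [this, h1, one_mul]
  apply hne
  rw [VDatum.wpM_append, VDatum.wpM_append, ← thetaHom_wordProd h B hsimp L1,
    ← thetaHom_wordProd h B hsimp L2, ← Subgroup.coe_mul, ← Subgroup.coe_mul, h2]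

end Comm

/-- **simplicity from a (B,N)-pair with `B = B ⊓ G1`** -/
theorem simple_of_bnPair {F : Type*} [Field F] (D : ChevalleyDatum)
    (hD : D ∈ [chevG2, chevB2, chevD4, chevF4, chevE6, chevE7, chevE8])
    (G1 : Subgroup (GL D.Idx F)) [Nontrivial ↥G1] (P : Cfsg.BNPair ↥G1)
    (hPB : P.B = (D.borelSubgroup F ⊓ G1).subgroupOf G1) (hirr : P.Irreducible)
    (hperf : commutator ↥G1 = ⊤)
    (hcore : ((D.borelSubgroup F ⊓ G1).subgroupOf G1).normalCore = ⊥) :
    IsSimpleGroup ↥G1 ∧ ¬ IsMulCommutative ↥G1 := by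
  constructor
  · apply Cfsg.Agent.S0319.result P hirr
    · rw [hPB]
      have hsolv : Group.IsSolvable ↥(D.borelSubgroup F) := Cfsg.Agent.S1050.result D hD
      have h1 : Group.IsSolvable ↥(D.borelSubgroup F ⊓ G1) :=
        Group.isSolvable_of_isSolvable_injective (f := Subgroup.inclusion (inf_le_left : D.borelSubgroup F ⊓ G1 ≤ D.borelSubgroup F))
          (Subgroup.inclusion_injective _)
      exact Group.isSolvable_of_isSolvable_injective
        (f := (Subgroup.subgroupOfEquivOfLe (inf_le_right : D.borelSubgroup F ⊓ G1 ≤ G1)).toMonoidHom)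
        (Subgroup.subgroupOfEquivOfLe _).injective
    · exact hperf
    · rw [hPB]
      exact hcore
  · intro hcomm
    have hbot : commutator ↥G1 = ⊥ := by
      rw [commutator_def, eq_bot_iff, Subgroup.commutator_le]
      intro g1 _ g2 _
      rw [Subgroup.mem_bot, commutatorElement_def, hcomm.is_comm.comm g1 g2, mul_inv_cancel_right,
        mul_inv_cancel]
    rw [hbot] at hperf
    exact bot_ne_top hperf

end Cfsg.Agent.Helper6.Twist
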