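import Mathlib

/-!
# Counting lemmas for the tori of the twisted groups
-/

set_option autoImplicit false

namespace Cfsg.Agent.Helper6.Twist

/-- the solutions of `x ^ m = 1` in a finite field with `m ∣ |K| - 1` -/
theorem card_powKer {K : Type*} [Field K] [Fintype K] (m : ℕ) (hdvd : m ∣ Fintype.card K - 1) :
    Nat.card ↥((powMonoidHom m : Kˣ →* Kˣ).ker) = m := by
  rw [IsCyclic.card_powMonoidHom_ker, Nat.card_units, Nat.card_eq_fintype_card]
  exact Nat.gcd_eq_right hdvd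

theorem sub_one_dvd_pow_sub_one (q n : ℕ) : q - 1 ∣ q ^ n - 1 := by
  have := Nat.sub_dvd_pow_sub_pow q 1 n
  rwa [one_pow] at this

theorem cube_sub_one (q : ℕ) (hq : 1 ≤ q) : q ^ 3 - 1 = (q - 1) * (q ^ 2 + q + 1) := by
  obtain ⟨m, rfl⟩ := Nat.exists_eq_add_of_le hq
  apply Nat.sub_eq_of_eq_add
  rw [Nat.add_sub_cancel_left]
  ring

theorem sq_sub_one (q : ℕ) (hq : 1 ≤ q) : q ^ 2 - 1 = (q - 1) * (q + 1) := by
  obtain ⟨m, rfl⟩ := Nat.exists_eq_add_of_le hq
  apply Nat.sub_eq_of_eq_add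
  rw [Nat.add_sub_cancel_left]
  ring

end Cfsg.Agent.Helper6.Twist
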