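import Cfsg.Agent.Lib.Helper6.WeylChain
import Cfsg.Prelude.Def_ChevStructure

/-!
# Root datum and order certificates for the Weyl group of type D4

Generated data; all checks are kernel computations.
-/

set_option autoImplicit false
set_option maxRecDepth 100000

namespace Cfsg.Agent.Helper6.Weyl.D4

open Matrix

/-- Cartan matrix -/
def cartanA : Mat 4 := !![2, -1, 0, 0;
    -1, 2, -1, -1;
    0, -1, 2, 0;
    0, -1, 0, 2]

/-- Gram matrix -/
def gramG : Mat 4 := !![2, -1, 0, 0;
    -1, 2, -1, -1;
    0, -1, 2, 0;
    0, -1, 0, 2]

/-- codes of the positive roots -/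
def posCodes : List ℕ := [39048, 35208, 34968, 34953, 39064, 35224, 34969, 39320, 39065, 35225, 39321, 39337]

/-- the datum -/
def datum : Datum 4 := ⟨cartanA, gramG, posCodes.map (decode 4)⟩

theorem reflMem_ok : reflMemOK cartanA posCodes = true := by decide +kernel

theorem valid : datum.Valid where
  diag := by decide +kernel
  gram := by decide +kernel
  gpos := by decide +kernel
  sq := by decide +kernel
  isom := by decide +kernel
  simple_mem := by decide +kernel
  nonneg := by decide +kernel
  refl_mem := reflMemOK_spec reflMem_ok

/-- the valid datum -/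
def vd : VDatum 4 := ⟨datum, valid⟩

/-- orbit certificate for step 0 -/
def cert0 : List ℕ := [34953, 34951]

/-- orbit certificate for step 1 -/
def cert1 : List ℕ := [34985, 34937, 34934]

/-- orbit certificate for step 2 -/
def cert2 : List ℕ := [35753, 34729, 34665, 34661]

/-- orbit certificate for step 3 -/
def cert3 : List ℕ := [43433, 35241, 35209, 35207, 34697, 34695, 34663, 26471]

theorem step0_ok : stepCertOK cartanA 0 cert0 = true := by decide +kernel

theorem step1_ok : stepCertOK cartanA 1 cert1 = true := by decide +kernel

theorem step2_ok : stepCertOK cartanA 2 cert2 = true := by decide +kernel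

theorem step3_ok : stepCertOK cartanA 3 cert3 = true := by decide +kernel

theorem chain_ok : chainOK cartanA 0 [cert0, cert1, cert2, cert3] = true :=
  chainOK_cons step0_ok (chainOK_cons step1_ok (chainOK_cons step2_ok (chainOK_cons step3_ok (chainOK_nil _ _))))

theorem orders_ok : ordersOK cartanA (Cfsg.Lie.coxeterD4) = true := by decide +kernel

theorem card_eq : Nat.card (Cfsg.Lie.coxeterD4).Group = 192 := by
  rw [card_group vd (Cfsg.Lie.coxeterD4) orders_ok [cert0, cert1, cert2, cert3] rfl chain_ok]
  decide +kernel

theorem cox_ok : ordOK cartanA (List.finRange 4) 6 = true := by decide +kernel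

theorem coxeter_order : orderOf ((List.finRange 4).map (Cfsg.Lie.coxeterD4).simple).prod = 6 :=
  orderOf_coxeter vd (Cfsg.Lie.coxeterD4) orders_ok 6 cox_ok

end Cfsg.Agent.Helper6.Weyl.D4
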