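import Cfsg.Agent.Lib.Helper6.WeylChain

/-!
# Root datum and order certificates for the Weyl group of type E6

Generated data; all checks are kernel computations.
-/

set_option autoImplicit false
set_option maxRecDepth 100000

namespace Cfsg.Agent.Helper6.Weyl.E6

open Matrix

/-- Cartan matrix -/
def cartanA : Mat 6 := !![2, 0, -1, 0, 0, 0;
    0, 2, 0, -1, 0, 0;
    -1, 0, 2, -1, 0, 0;
    0, -1, -1, 2, -1, 0;
    0, 0, 0, -1, 2, -1;
    0, 0, 0, 0, -1, 2]

/-- Gram matrix -/
def gramG : Mat 6 := !![2, 0, -1, 0, 0, 0;
    0, 2, 0, -1, 0, 0;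
    -1, 0, 2, -1, 0, 0;
    0, -1, -1, 2, -1, 0;
    0, 0, 0, -1, 2, -1;
    0, 0, 0, 0, -1, 2]

/-- codes of the positive roots -/
def posCodes : List ℕ := [9996424, 9013384, 8951944, 8948104, 8947864, 8947849, 10061960, 9017480, 8952200, 8951960, 8948105, 10066056, 9017736, 9017496, 8952216, 8952201, 10066312, 10066072, 9017752, 9017737, 8952217, 10066328, 9021848, 10066313, 9017753, 10070424, 10066329, 9021849, 10135960, 10070425, 9022105, 10135961, 10070681, 10136217, 10140313, 10140329]

/-- the datum -/
def datum : Datum 6 := ⟨cartanA, gramG, posCodes.map (decode 6)⟩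

theorem reflMem_ok : reflMemOK cartanA posCodes = true := by decide +kernel

theorem valid : datum.Valid where
  diag := by decide +kernel
  gram := by decide +kernel
  gpos := by decide +kernel
  sq := by decide +kernel
  isom := by decide +kernel
  simple_mem := by decide +kernel
  nonneg := by decide +kernel
  refl_mem := reflMemOK_spec reflMem_ok

/-- the valid datum -/
def vd : VDatum 6 := ⟨datum, valid⟩

/-- orbit certificate for step 0 -/
def cert0 : List ℕ := [8947849, 8947847]

/-- orbit certificate for step 1 -/
def cert1 : List ℕ := [8947864, 8947832]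

/-- orbit certificate for step 2 -/
def cert2 : List ℕ := [8948361, 8947593, 8947590]

/-- orbit certificate for step 3 -/
def cert3 : List ℕ := [8973498, 8953018, 8952938, 8951738, 8951658, 8951733, 8951653, 8931178, 8931173, 8929893]

/-- orbit certificate for step 4 -/
def cert4 : List ℕ := [9301178, 9039034, 9022650, 9022586, 9021626, 9021562, 9021622, 9021558, 9005178, 9005174, 8743034, 9004150, 8743030, 8742006, 8725622, 8725558]

/-- orbit certificate for step 5 -/
def cert5 : List ℕ := [13495482, 10349754, 10153146, 10140858, 10140810, 10140090, 10140042, 10140087, 10140039, 10127754, 10127751, 9931146, 10126983, 9931143, 6785418, 9930375, 6785415, 9918087, 6784647, 9918039, 6772359, 6772311, 6575751, 6575703, 6563415, 6562647, 6562644]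

theorem step0_ok : stepCertOK cartanA 0 cert0 = true := by decide +kernel

theorem step1_ok : stepCertOK cartanA 1 cert1 = true := by decide +kernel

theorem step2_ok : stepCertOK cartanA 2 cert2 = true := by decide +kernel

theorem step3_ok : stepCertOK cartanA 3 cert3 = true := by decide +kernel

theorem step4_ok : stepCertOK cartanA 4 cert4 = true := by decide +kernel

theorem step5_ok : stepCertOK cartanA 5 cert5 = true := by decide +kernel

theorem chain_ok : chainOK cartanA 0 [cert0, cert1, cert2, cert3, cert4, cert5] = true :=
  chainOK_cons step0_ok (chainOK_cons step1_ok (chainOK_cons step2_ok (chainOK_cons step3_ok (chainOK_cons step4_ok (chainOK_cons step5_ok (chainOK_nil _ _))))))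

theorem orders_ok : ordersOK cartanA (CoxeterMatrix.E₆) = true := by decide +kernel

theorem card_eq : Nat.card (CoxeterMatrix.E₆).Group = 51840 := by
  rw [card_group vd (CoxeterMatrix.E₆) orders_ok [cert0, cert1, cert2, cert3, cert4, cert5] rfl chain_ok]
  decide +kernel

theorem cox_ok : ordOK cartanA (List.finRange 6) 12 = true := by decide +kernel

theorem coxeter_order : orderOf ((List.finRange 6).map (CoxeterMatrix.E₆).simple).prod = 12 :=
  orderOf_coxeter vd (CoxeterMatrix.E₆) orders_ok 12 cox_ok

end Cfsg.Agent.Helper6.Weyl.E6
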