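import Cfsg.Agent.Lib.Helper6.BraidSmall
import Cfsg.Agent.Lib.Helper6.ChevBridge
import Cfsg.Agent.Lib.Helper6.ChevFactsS18
import Cfsg.Agent.Lib.Helper6.WeylDataD4
import Cfsg.Agent.Lib.Helper6.WeylDataE6

/-! Light copy (types `D4`, `E6` only) of the bridge / relation data of `ChevWeylData`, in its own
namespace, so that statements on these two types do not depend on the `E7`, `E8` tables. -/

set_option autoImplicit false
set_option maxRecDepth 100000

namespace Cfsg.Agent.Helper6.ChevS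

open Cfsg.Lie Cfsg.Agent.Helper18 Cfsg.Agent.Helper6.Weyl Cfsg.Agent.Helper6.Chev

/-- codes of the coroot vectors of `D4` -/
def corootCodesD4 : List ℕ := [30567, 30583, 34679, 30839, 34935, 34951, 30584, 34680, 30840, 34936, 34696, 30856, 39048, 35208, 34968, 39064, 35224, 39320, 34953, 34969, 39065, 35225, 39321, 39337]

theorem bridgeOK_D4 : bridgeCheck chevD4 D4.vd.A permD4 corootCodesD4 = true := by decide +kernel

theorem bridge_D4 : Bridge chevD4 D4.vd (codeVec 4 corootCodesD4) :=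
  bridge_of_check chevD4 D4.vd permD4 corootCodesD4 rfl (fun i hi => permOK_D4 i hi) bridgeOK_D4

/-- the Coxeter integers of `D4` -/
def mfD4 (i j : ℕ) : ℕ := lget (lget [[1, 3, 2, 2], [3, 1, 3, 3], [2, 3, 1, 2], [2, 3, 2, 1]] i []) j 0

theorem mf_D4 : ∀ i j : Fin 4, (Cfsg.Lie.coxeterD4) i j = mfD4 i j :=
  mf_of_check _ _ (by decide +kernel)

theorem hrel_D4 {F : Type*} [Field F] (h : NData F chevD4 etaD4) (i j : ℕ) (hij : i < j) (hj : j < 4) :
    (Ni h i * Ni h j) ^ (mfD4 i j) ∈ chevD4.diagonalSubgroup F := by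
  interval_cases j <;> interval_cases i
  · exact rel_of_check h 0 1 3 [] (by decide) rel_D4_0_1
  · exact rel_of_comm h 0 2 (by decide) (by decide) comm_D4_0_2
  · exact rel_of_check h 1 2 3 [] (by decide) rel_D4_1_2
  · exact rel_of_comm h 0 3 (by decide) (by decide) comm_D4_0_3
  · exact rel_of_check h 1 3 3 [] (by decide) rel_D4_1_3
  · exact rel_of_comm h 2 3 (by decide) (by decide) comm_D4_2_3

/-- `N / H ≅ W` for `D4` -/
theorem phi_D4 {F : Type*} [Field F]
    (hsimp : ∀ j < chevD4.rank, ∀ c : F, c ≠ 0 → chevD4.hMat F (chevD4.simple j) c =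
      Matrix.diagonal (Sum.elim (fun _ => (1 : F)) (fun s : Fin chevD4.nroots => c ^ (chevD4.cartan j s)))) :
    ∃ φ : ↥(chevD4.monomialSubgroup F) →* (Cfsg.Lie.coxeterD4).Group, Function.Surjective φ ∧
      φ.ker = (chevD4.diagonalSubgroup F).subgroupOf (chevD4.monomialSubgroup F) ∧
      ∀ (i : Fin 4) (g : ↥(chevD4.monomialSubgroup F)),
        ((g : GL chevD4.Idx F) : Matrix chevD4.Idx chevD4.Idx F) = chevD4.nMat F (chevD4.simple i) 1 →
          φ g = (Cfsg.Lie.coxeterD4).simple i :=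
  exists_phi' nData_D4 bridge_D4 hsimp (Cfsg.Lie.coxeterD4) (ordersOK_spec D4.vd (Cfsg.Lie.coxeterD4) D4.orders_ok)
    mfD4 mf_D4 (hrel_D4 nData_D4)

/-- codes of the coroot vectors of `E6` -/
def corootCodesE6 : List ℕ := [7755367, 7755383, 7759479, 7825015, 8873591, 7759735, 7825271, 8873847, 7829367, 8877943, 8943479, 7829383, 8877959, 8943495, 8947591, 8947847, 7759736, 7825272, 8873848, 7829368, 8877944, 8943480, 7829624, 8878200, 8943736, 8947832, 7829384, 8877960, 8943496, 8947592, 7829640, 8878216, 8943752, 7833736, 8882312, 7899272, 9996424, 9013384, 10061960, 8951944, 9017480, 10066056, 8948104, 8952200, 9017736, 10066312, 8947864, 8951960, 9017496, 10066072, 8952216, 9017752, 10066328, 9021848, 10070424, 10135960, 8947849, 8948105, 8952201, 9017737, 10066313, 8952217, 9017753, 10066329, 9021849, 10070425, 10135961, 9022105, 10070681, 10136217, 10140313, 10140329]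

theorem bridgeOK_E6 : bridgeCheck chevE6 E6.vd.A permE6 corootCodesE6 = true := by decide +kernel

theorem bridge_E6 : Bridge chevE6 E6.vd (codeVec 6 corootCodesE6) :=
  bridge_of_check chevE6 E6.vd permE6 corootCodesE6 rfl (fun i hi => permOK_E6 i hi) bridgeOK_E6

/-- the Coxeter integers of `E6` -/
def mfE6 (i j : ℕ) : ℕ := lget (lget [[1, 2, 3, 2, 2, 2], [2, 1, 2, 3, 2, 2], [3, 2, 1, 3, 2, 2], [2, 3, 3, 1, 3, 2], [2, 2, 2, 3, 1, 3], [2, 2, 2, 2, 3, 1]] i []) j 0

theorem mf_E6 : ∀ i j : Fin 6, (CoxeterMatrix.E₆) i j = mfE6 i j :=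
  mf_of_check _ _ (by decide +kernel)

theorem hrel_E6 {F : Type*} [Field F] (h : NData F chevE6 etaE6) (i j : ℕ) (hij : i < j) (hj : j < 6) :
    (Ni h i * Ni h j) ^ (mfE6 i j) ∈ chevE6.diagonalSubgroup F := by
  interval_cases j <;> interval_cases i
  · exact rel_of_comm h 0 1 (by decide) (by decide) comm_E6_0_1
  · exact rel_of_check h 0 2 3 [] (by decide) rel_E6_0_2
  · exact rel_of_comm h 1 2 (by decide) (by decide) comm_E6_1_2
  · exact rel_of_comm h 0 3 (by decide) (by decide) comm_E6_0_3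
  · exact rel_of_check h 1 3 3 [] (by decide) rel_E6_1_3
  · exact rel_of_check h 2 3 3 [] (by decide) rel_E6_2_3
  · exact rel_of_comm h 0 4 (by decide) (by decide) comm_E6_0_4
  · exact rel_of_comm h 1 4 (by decide) (by decide) comm_E6_1_4
  · exact rel_of_comm h 2 4 (by decide) (by decide) comm_E6_2_4
  · exact rel_of_check h 3 4 3 [] (by decide) rel_E6_3_4
  · exact rel_of_comm h 0 5 (by decide) (by decide) comm_E6_0_5
  · exact rel_of_comm h 1 5 (by decide) (by decide) comm_E6_1_5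
  · exact rel_of_comm h 2 5 (by decide) (by decide) comm_E6_2_5
  · exact rel_of_comm h 3 5 (by decide) (by decide) comm_E6_3_5
  · exact rel_of_check h 4 5 3 [] (by decide) rel_E6_4_5

/-- `N / H ≅ W` for `E6` -/
theorem phi_E6 {F : Type*} [Field F]
    (hsimp : ∀ j < chevE6.rank, ∀ c : F, c ≠ 0 → chevE6.hMat F (chevE6.simple j) c =
      Matrix.diagonal (Sum.elim (fun _ => (1 : F)) (fun s : Fin chevE6.nroots => c ^ (chevE6.cartan j s)))) :
    ∃ φ : ↥(chevE6.monomialSubgroup F) →* (CoxeterMatrix.E₆).Group, Function.Surjective φ ∧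
      φ.ker = (chevE6.diagonalSubgroup F).subgroupOf (chevE6.monomialSubgroup F) ∧
      ∀ (i : Fin 6) (g : ↥(chevE6.monomialSubgroup F)),
        ((g : GL chevE6.Idx F) : Matrix chevE6.Idx chevE6.Idx F) = chevE6.nMat F (chevE6.simple i) 1 →
          φ g = (CoxeterMatrix.E₆).simple i :=
  exists_phi' nData_E6 bridge_E6 hsimp (CoxeterMatrix.E₆) (ordersOK_spec E6.vd (CoxeterMatrix.E₆) E6.orders_ok)
    mfE6 mf_E6 (hrel_E6 nData_E6)

end Cfsg.Agent.Helper6.ChevS
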