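import Cfsg.Agent.Lib.Helper6.TwistWeyl
import Cfsg.Agent.Lib.Helper6.WeylDataD4
import Cfsg.Agent.Lib.Helper6.WeylDataG2

/-! Generated: the centraliser of the diagram symmetry in the Weyl group of type D4: model data. -/

set_option autoImplicit false
set_option maxRecDepth 100000

namespace Cfsg.Agent.Helper6.Twist.D4

open Cfsg.Agent.Helper6.Weyl Matrix

/-- the diagram symmetry -/
def piFun : Fin 4 → Fin 4 := ![2, 1, 3, 0]

/-- its permutation matrix -/
def PmMat : Mat 4 := !![0, 0, 0, 1;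
    0, 1, 0, 0;
    1, 0, 0, 0;
    0, 0, 1, 0]

/-- the inverse permutation matrix -/
def PmInv : Mat 4 := !![0, 0, 1, 0;
    0, 1, 0, 0;
    0, 0, 0, 1;
    1, 0, 0, 0]

/-- the permutation matrix as a unit -/
def Pm : (Mat 4)ˣ := ⟨PmMat, PmInv, by decide +kernel, by decide +kernel⟩

theorem hPsingle : ∀ i, Pm • (Pi.single i 1 : Vec 4) = Pi.single (piFun i) 1 := by decide +kernel

theorem hPpos : ∀ β ∈ (Weyl.D4.vd).pos, Pm • β ∈ (Weyl.D4.vd).pos := by decide +kernel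

/-- the orbits of the symmetry on the nodes -/
def orb : Fin 2 → List (Fin 4) := ![[1], [0, 2, 3]]

theorem horb_cover : ∀ i : Fin 4, ∃ j, i ∈ orb j := by decide +kernel

theorem horb_trans : ∀ j, ∀ a ∈ orb j, ∀ b ∈ orb j, ∃ k : ℕ, piFun^[k] a = b := by
  have h : ∀ j, ∀ a ∈ orb j, ∀ b ∈ orb j, ∃ k ∈ List.range 3, piFun^[k] a = b := by decide +kernel
  intro j a ha b hb
  obtain ⟨k, _, hk⟩ := h j a ha b hb
  exact ⟨k, hk⟩

theorem horb_orth : ∀ j, (orb j).Pairwise (Orth (Weyl.D4.vd)) := by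
  have h : ∀ j, (orb j).Pairwise (fun a b => (Weyl.D4.vd).A b a = 0) := by decide +kernel
  exact h

theorem hg_comm : ∀ j, Pm * (Weyl.D4.vd).wpM (orb j) = (Weyl.D4.vd).wpM (orb j) * Pm := by
  have h : ∀ j, ((Pm * (Weyl.D4.vd).wpM (orb j) : (Mat 4)ˣ) : Mat 4) =
      (((Weyl.D4.vd).wpM (orb j) * Pm : (Mat 4)ˣ) : Mat 4) := by decide +kernel
  exact fun j => Units.ext (h j)

/-- inclusion of the fixed sublattice -/
def Q : Matrix (Fin 4) (Fin 2) ℤ := !![0, 1;
    1, 0;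
    0, 1;
    0, 1]

/-- coordinates on the fixed sublattice -/
def Rr : Matrix (Fin 2) (Fin 4) ℤ := !![0, 1, 0, 0;
    1, 0, 0, 0]

/-- certificate for `1 - Q R = Z (1 - P)` -/
def Z : Mat 4 := !![0, 0, 0, 0;
    0, 0, 0, 0;
    0, 0, 1, 0;
    0, 0, 1, 1]

theorem hRQ : Rr * Q = 1 := by decide +kernel

theorem hPQ : (Pm : Mat 4) * Q = Q := by decide +kernel

theorem hZ : 1 - Q * Rr = Z * (1 - (Pm : Mat 4)) := by decide +kernel

theorem hrg : ∀ j, rMat Q Rr (((Weyl.D4.vd).wpM (orb j) : (Mat 4)ˣ) : Mat 4) = (Weyl.G2.vd).S j := by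
  decide +kernel

/-- a regular dominant fixed vector -/
def lam : Vec 4 := ![3, 5, 3, 3]

/-- its coordinates on the fixed sublattice -/
def y0 : Fin 2 → ℤ := ![5, 3]

theorem hlam : lam = Q.mulVec y0 := by decide +kernel

theorem hreg : ∀ i, 0 < pair (Weyl.D4.vd).A i lam := by decide +kernel

end Cfsg.Agent.Helper6.Twist.D4
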