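import Cfsg.Agent.Lib.Helper6.TwistMain
import Cfsg.Agent.Lib.Helper6.TwistSp
import Cfsg.Agent.Lib.Helper6.TwistModelD4
import Cfsg.Agent.Lib.Helper6.ChevWeylDataS
import Cfsg.Agent.Lib.Helper18.GraphD4a
import Cfsg.Agent.Lib.Helper18.HSmall
import Cfsg.Prelude.Def_LieTwisted

/-!
# `N¹ / H¹ ≅ W(G₂)` for the twisted groups `³D₄(q)`
-/

set_option autoImplicit false
set_option maxRecDepth 100000

namespace Cfsg.Agent.Helper6.Twist.D4

open Cfsg.Lie Cfsg.Agent.Helper18 Cfsg.Agent.Helper6.Weyl Cfsg.Agent.Helper6.Chev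
open Cfsg.Agent.Helper6.ChevS Cfsg.Agent.Helper6.ChevLen Cfsg.Agent.S1043 Matrix

/-! ### table facts -/

theorem actOK : actCheck chevD4 gPD4a corootCodesD4 (Pm : Mat 4) = true := by decide +kernel

/-- the pairs of commuting root subgroups used -/
def commPairs : List (ℕ × ℕ) :=
  [(18, 13), (18, 10), (5, 13), (5, 10), (18, 12), (18, 11), (5, 12), (5, 11), (13, 12), (13, 11),
    (10, 12), (10, 11)]

theorem commOK : ∀ p ∈ commPairs, Cfsg.Agent.Helper18.commCheck chevD4 p.1 p.2 = true ∧ chevD4.commTerms p.1 p.2 = [] := by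
  decide +kernel

theorem tableOK :
    (dec8 gRD4a 18 = 13 ∧ dec8 gRD4a 13 = 12 ∧ dec8 gRD4a 12 = 18 ∧ dec8 gRD4a 14 = 14) ∧
    (dec8 gRD4a 5 = 10 ∧ dec8 gRD4a 10 = 11 ∧ dec8 gRD4a 11 = 5 ∧ dec8 gRD4a 9 = 9) ∧
    (∀ r ∈ [18, 13, 12, 14, 5, 10, 11, 9], etaOf gSD4a (chevD4.rank + r) = 1) ∧
    (chevD4.simple 0 = 18 ∧ chevD4.simple 1 = 14 ∧ chevD4.simple 2 = 13 ∧ chevD4.simple 3 = 12) ∧
    (chevD4.neg 18 = 5 ∧ chevD4.neg 14 = 9 ∧ chevD4.neg 13 = 10 ∧ chevD4.neg 12 = 11) ∧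
    chevD4.nroots = 24 := by
  decide +kernel

section

variable {K : Type*} [Field K]

theorem hsimpD4 : ∀ j < chevD4.rank, ∀ c : K, c ≠ 0 → chevD4.hMat K (chevD4.simple j) c =
    Matrix.diagonal (Sum.elim (fun _ => (1 : K)) (fun s : Fin chevD4.nroots => c ^ (chevD4.cartan j s))) :=
  fun j hj c hc => hMat_simple_of_check chevD4 j (hSimpleD4 j (Nat.zero_le _) hj) c hc

/-- the signed permutation matrix of the graph automorphism -/
noncomputable def Pg : GL chevD4.Idx K := spGL chevD4 gPD4a gSD4a gP'D4a gS'D4a gInvD4a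

theorem hPact : Act (codeVec 4 corootCodesD4) ((Pg : GL chevD4.Idx K) : Matrix chevD4.Idx chevD4.Idx K) Pm := by
  rw [Pg, spGL_val]
  exact act_of_check chevD4 gPD4a _ corootCodesD4 Pm actOK

theorem hconj (s : ℕ) (hs : s < chevD4.nroots) (t : K) :
    ((Pg : GL chevD4.Idx K) : Matrix chevD4.Idx chevD4.Idx K) * chevD4.x K s t =
      chevD4.x K (dec8 gRD4a s) (((etaOf gSD4a (chevD4.rank + s) : ℤ) : K) * t) *
        ((Pg : GL chevD4.Idx K) : Matrix chevD4.Idx chevD4.Idx K) :=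
  sp_conj chevD4 gPD4a gSD4a gP'D4a gS'D4a gRD4a gInvD4a gConjD4a s hs t

theorem xcomm (r s : ℕ) (hrs : (r, s) ∈ commPairs) (a b : K) :
    xg (nData_D4 (F := K)) r a * xg nData_D4 s b = xg nData_D4 s b * xg nData_D4 r a :=
  xg_comm_of_check nData_D4 r s (commOK (r, s) hrs).1 (commOK (r, s) hrs).2 a b

/-! ### the Frobenius endomorphism and the twisted group -/

variable (p k : ℕ) [ExpChar K p]

/-- `t ↦ t ^ (p ^ k)` -/
noncomputable def frob : K →+* K := iterateFrobenius K p k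

theorem frob_apply (t : K) : frob (K := K) p k t = t ^ (p ^ k) := iterateFrobenius_def p k t

theorem frob2 (t : K) : frob (K := K) p k (frob p k t) = t ^ ((p ^ k) ^ 2) := by
  rw [frob_apply, frob_apply, ← pow_mul, sq]

/-- the generators of `³D₄` are fixed by `τ` -/
theorem twisted_le_fix [Fintype K] (hK : Fintype.card K = (p ^ k) ^ 3) :
    twistedD4 K (p ^ k) ≤ fixTau (frob (K := K) p k) Pg := by
  obtain ⟨⟨hR1, hR2, hR3, hR4⟩, ⟨hR5, hR6, hR7, hR8⟩, hη, -, -, hn⟩ := tableOK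
  have hφ3 : ∀ t : K, frob (K := K) p k (frob p k (frob p k t)) = t := by
    intro t
    rw [frob2, frob_apply, ← pow_mul, ← pow_succ', ← hK, FiniteField.pow_card]
  apply gen_le (nData_D4 (F := K))
  intro w hw
  rcases hw with ⟨t, ht, r, hr, rfl⟩ | ⟨t, rs, hrs, rfl⟩
  · have ht' : frob (K := K) p k t = t := by rw [frob_apply]; exact ht
    simp only [d4p2, d4m2, List.mem_cons, List.not_mem_nil, or_false] at hr
    simp only [List.map_cons, List.map_nil, List.prod_cons, List.prod_nil, mul_one]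
    rcases hr with rfl | rfl
    · exact fix_one nData_D4 _ Pg _ _ hconj 14 (by rw [hn]; norm_num) hR4 (hη 14 (by simp)) t ht'
    · exact fix_one nData_D4 _ Pg _ _ hconj 9 (by rw [hn]; norm_num) hR8 (hη 9 (by simp)) t ht'
  · simp only [d4p1, d4p3, d4p4, d4m1, d4m3, d4m4, List.mem_cons, List.not_mem_nil, or_false] at hrs
    simp only [List.map_cons, List.map_nil, List.prod_cons, List.prod_nil, mul_one]
    rw [← frob_apply (K := K) p k t, ← frob2 (K := K) p k t, ← mul_assoc]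
    rcases hrs with rfl | rfl
    · exact fix_three nData_D4 _ Pg _ _ hconj 18 13 12 (by rw [hn]; norm_num) (by rw [hn]; norm_num)
        (by rw [hn]; norm_num) hR1 hR2 hR3 (hη 18 (by simp)) (hη 13 (by simp)) (hη 12 (by simp))
        (xcomm 18 13 (by simp [commPairs])) (xcomm 18 12 (by simp [commPairs])) t (hφ3 t)
    · exact fix_three nData_D4 _ Pg _ _ hconj 5 10 11 (by rw [hn]; norm_num) (by rw [hn]; norm_num)
        (by rw [hn]; norm_num) hR5 hR6 hR7 (hη 5 (by simp)) (hη 10 (by simp)) (hη 11 (by simp))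
        (xcomm 5 10 (by simp [commPairs])) (xcomm 5 11 (by simp [commPairs])) t (hφ3 t)

theorem comm_prod {G : Type*} [Group G] {a b c : G} (h1 : c * a = a * c) (h2 : c * b = b * c) :
    (a * b) * c = c * (a * b) := by
  rw [mul_assoc, ← h2, ← mul_assoc, ← h1, mul_assoc]

theorem Ni_eq (i r r' : ℕ) (hs : chevD4.simple i = r) (hn : chevD4.neg r = r') :
    Ni (nData_D4 (F := K)) i = xg nData_D4 r 1 * xg nData_D4 r' (-1) * xg nData_D4 r 1 := by
  rw [Ni, ng, hs, hn, inv_one]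

/-- the orbit products of the `n_i` lie in `³D₄` -/
theorem hgen (j : Fin 2) :
    (((orb j).map (NiN (nData_D4 (F := K)) bridge_D4 hsimpD4)).prod : GL chevD4.Idx K) ∈
      twistedD4 K (p ^ k) := by
  obtain ⟨-, -, -, ⟨hs0, hs1, hs2, hs3⟩, ⟨hn0, hn1, hn2, hn3⟩, -⟩ := tableOK
  have hone : frob (K := K) p k 1 = 1 := map_one _
  have hneg : frob (K := K) p k (-1) = -1 := by rw [map_neg, map_one]
  have hone' : (1 : K) ^ (p ^ k) = 1 := one_pow _
  have hneg' : (-1 : K) ^ (p ^ k) = -1 := by rw [← frob_apply]; exact hneg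
  have hone2 : (1 : K) ^ ((p ^ k) ^ 2) = 1 := one_pow _
  have hneg2 : (-1 : K) ^ ((p ^ k) ^ 2) = -1 := by rw [← frob2, hneg, hneg]
  fin_cases j
  · -- the central node
    change ((([1] : List (Fin 4)).map (NiN (nData_D4 (F := K)) bridge_D4 hsimpD4)).prod : GL chevD4.Idx K) ∈ _
    simp only [List.map_cons, List.map_nil, List.prod_cons, List.prod_nil, mul_one, NiN_coe]
    change Ni (nData_D4 (F := K)) 1 ∈ _
    rw [Ni_eq 1 14 9 hs1 hn1]
    have h1 : xg (nData_D4 (F := K)) 14 1 ∈ twistedD4 K (p ^ k) :=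
      mem_gen_one nData_D4 _ 14 1 (Or.inl ⟨1, hone', 14, by simp [d4p2], rfl⟩)
    have h2 : xg (nData_D4 (F := K)) 9 (-1) ∈ twistedD4 K (p ^ k) :=
      mem_gen_one nData_D4 _ 9 (-1) (Or.inl ⟨-1, hneg', 9, by simp [d4m2], rfl⟩)
    exact mul_mem (mul_mem h1 h2) h1
  · -- the outer nodes
    change ((([0, 2, 3] : List (Fin 4)).map (NiN (nData_D4 (F := K)) bridge_D4 hsimpD4)).prod :
      GL chevD4.Idx K) ∈ _
    simp only [List.map_cons, List.map_nil, List.prod_cons, List.prod_nil, mul_one, Subgroup.coe_mul,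
      NiN_coe]
    change Ni (nData_D4 (F := K)) 0 * (Ni nData_D4 2 * Ni nData_D4 3) ∈ _
    rw [Ni_eq 0 18 5 hs0 hn0, Ni_eq 2 13 10 hs2 hn2, Ni_eq 3 12 11 hs3 hn3]
    have hX : xg (nData_D4 (F := K)) 18 1 * xg nData_D4 13 1 * xg nData_D4 12 1 ∈ twistedD4 K (p ^ k) := by
      have := mem_gen_three (nData_D4 (F := K)) (d4Words K (p ^ k)) 18 13 12 1 (1 ^ (p ^ k)) (1 ^ ((p ^ k) ^ 2))
        (Or.inr ⟨1, (18, 13, 12), by simp [d4p1, d4p3, d4p4], rfl⟩)
      rwa [hone', hone2] at this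
    have hY : xg (nData_D4 (F := K)) 5 (-1) * xg nData_D4 10 (-1) * xg nData_D4 11 (-1) ∈ twistedD4 K (p ^ k) := by
      have := mem_gen_three (nData_D4 (F := K)) (d4Words K (p ^ k)) 5 10 11 (-1) ((-1) ^ (p ^ k)) ((-1) ^ ((p ^ k) ^ 2))
        (Or.inr ⟨-1, (5, 10, 11), by simp [d4m1, d4m3, d4m4], rfl⟩)
      rwa [hneg', hneg2] at this
    have hXYX := mul_mem (mul_mem hX hY) hX
    -- rearrange
    set x1 : GL chevD4.Idx K := xg (nData_D4 (F := K)) 18 1 with hx1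
    set x3 : GL chevD4.Idx K := xg (nData_D4 (F := K)) 13 1 with hx3
    set x4 : GL chevD4.Idx K := xg (nData_D4 (F := K)) 12 1 with hx4
    set y1 : GL chevD4.Idx K := xg (nData_D4 (F := K)) 5 (-1) with hy1
    set y3 : GL chevD4.Idx K := xg (nData_D4 (F := K)) 10 (-1) with hy3
    set y4 : GL chevD4.Idx K := xg (nData_D4 (F := K)) 11 (-1) with hy4
    have c1 : x1 * x3 = x3 * x1 := xcomm (K := K) 18 13 (by simp [commPairs]) _ _
    have c2 : x1 * y3 = y3 * x1 := xcomm (K := K) 18 10 (by simp [commPairs]) _ _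
    have c3 : y1 * x3 = x3 * y1 := xcomm (K := K) 5 13 (by simp [commPairs]) _ _
    have c5 : x1 * x4 = x4 * x1 := xcomm (K := K) 18 12 (by simp [commPairs]) _ _
    have c6 : x1 * y4 = y4 * x1 := xcomm (K := K) 18 11 (by simp [commPairs]) _ _
    have c7 : y1 * x4 = x4 * y1 := xcomm (K := K) 5 12 (by simp [commPairs]) _ _
    have c9 : x3 * x4 = x4 * x3 := xcomm (K := K) 13 12 (by simp [commPairs]) _ _
    have c10 : x3 * y4 = y4 * x3 := xcomm (K := K) 13 11 (by simp [commPairs]) _ _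
    have c11 : y3 * x4 = x4 * y3 := xcomm (K := K) 10 12 (by simp [commPairs]) _ _
    have e1 : (x1 * x3 * x4) * (y1 * y3 * y4) * (x1 * x3 * x4) =
        (x1 * y1 * x1) * ((x3 * y3 * x3) * (x4 * y4 * x4)) := by
      rw [mul_assoc x1 x3 x4, mul_assoc y1 y3 y4,
        rearr2 (a := x1) (a' := x3 * x4) (b := y1) (b' := y3 * y4) (c := x1) (c' := x3 * x4)
          (comm_prod c3 c7) (comm_prod c1 c5) (comm_prod c2 c6)]
      congr 1
      exact rearr2 c11.symm c9.symm c10.symm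
    rw [← e1]
    exact hXYX

/-- **`N¹ / H¹ ≅ W(G₂)` for `³D₄(p^k)`** -/
theorem weyl_twistedD4 [Fintype K] (hK : Fintype.card K = (p ^ k) ^ 3) :
    ∃ φ : ↥(chevD4.monomialSubgroup K ⊓ twistedD4 K (p ^ k)) →* (CoxeterMatrix.G₂).Group,
      Function.Surjective φ ∧
      φ.ker = (chevD4.diagonalSubgroup K ⊓ twistedD4 K (p ^ k)).subgroupOf
        (chevD4.monomialSubgroup K ⊓ twistedD4 K (p ^ k)) :=
  exists_phi_twisted (nData_D4 (F := K)) bridge_D4 hsimpD4 Cfsg.Lie.coxeterD4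
    (ordersOK_spec Weyl.D4.vd Cfsg.Lie.coxeterD4 Weyl.D4.orders_ok)
    (fun i j hij => by rw [mf_D4]; exact hrel_D4 nData_D4 i j hij j.2)
    (frob (K := K) p k) Pg Pm hPact (twistedD4 K (p ^ k)) (twisted_le_fix p k hK)
    piFun hPsingle hPpos orb horb_cover horb_trans horb_orth hg_comm Q Rr Z hRQ hPQ hZ
    Weyl.G2.vd hrg lam y0 hlam hreg (CoxeterMatrix.G₂)
    (ordersOK_spec Weyl.G2.vd (CoxeterMatrix.G₂) Weyl.G2.orders_ok) (hgen p k)

end

end Cfsg.Agent.Helper6.Twist.D4
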