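import Cfsg.Agent.Lib.Helper6.TwistCore
import Cfsg.Agent.Lib.Helper6.TwistD4
import Cfsg.Agent.Lib.Helper18.HAllSmall
import Cfsg.Agent.Lib.Helper18.SConjSmall
import Cfsg.Agent.Lib.Helper18.LinSmall
import Cfsg.Agent.Lib.Helper17.ChevTriGen
import Cfsg.Agent.Lib.Helper18.ChevLongest

/-!
# The normal core of `B¹` in `³D₄(q)` is trivial
-/

set_option autoImplicit false
set_option maxRecDepth 100000

namespace Cfsg.Agent.Helper6.Twist.D4

open Cfsg.Lie Cfsg.Agent.Helper18 Cfsg.Agent.Helper17 Cfsg.Agent.Helper6.Weyl Cfsg.Agent.Helper6.Chev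
open Cfsg.Agent.Helper6.ChevS Cfsg.Agent.Helper6.ChevLen Cfsg.Agent.S1043 Matrix

theorem goodD4 : Good chevD4 := by simp [Good]

theorem torusD4 : TorusData chevD4 expD4 :=
  ⟨fun r hr => hAllD4_0' r (Nat.zero_le _) hr, fun i hi => hSimpleD4 i (Nat.zero_le _) hi,
    fun i hi => sConjD4 i (Nat.zero_le _) hi, fun r hr => linD4_0' r (Nat.zero_le _) hr⟩

/-- a reduced word of the longest element in terms of the orbit products -/
def longWord : List ℕ := [1, 0, 2, 3, 1, 0, 2, 3, 1, 0, 2, 3]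

theorem coreTable :
    (∀ r < chevD4.nroots, chevD4.neg r < chevD4.nroots ∧ chevD4.neg r ≠ r) ∧
    (∀ i < chevD4.rank, chevD4.IsPosRoot (chevD4.simple i)) ∧
    (∀ i < chevD4.rank, ∀ i' < chevD4.rank, ∀ s < chevD4.nroots,
      chevD4.cartan i' (chevD4.reflectRoot i s) =
        chevD4.cartan i' s - chevD4.cartan i s * chevD4.cartan i' (chevD4.simple i)) ∧
    (∀ i ∈ longWord, i < chevD4.rank) ∧
    (∀ s < chevD4.nroots, chevD4.IsPosRoot s → chevD4.IsNegRoot (permW chevD4 longWord s)) ∧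
    (∀ r < chevD4.nroots, chevD4.IsNegRoot r → chevD4.IsPosRoot (permW chevD4 longWord r) ∧
      permW chevD4 longWord (permW chevD4 longWord r) = r) ∧
    (∀ j < chevD4.rank, ∃ o ∈ ([[1], [0, 2, 3]] : List (List ℕ)), j ∈ o) ∧
    (∀ o ∈ ([[1], [0, 2, 3]] : List (List ℕ)),
      o.Pairwise (fun a b => chevD4.cartan a (chevD4.simple b) = 0)) ∧
    (∀ o ∈ ([[1], [0, 2, 3]] : List (List ℕ)), ∀ i ∈ o,
      i < chevD4.rank ∧ chevD4.cartan i (chevD4.simple i) = 2) := by
  decide +kernel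

section

variable {K : Type*} [Field K]

theorem hconj' : ∀ i < chevD4.rank, ∀ s < chevD4.nroots, ConjGoal' K chevD4 i s := by
  intro i hi s hs
  refine ⟨etaD4 i s, (nData_D4 (F := K)).eta_pm i hi s hs, fun t => ?_⟩
  rw [(nData_D4 (F := K)).mono i hi]
  exact (nData_D4 (F := K)).conj i hi s hs t

theorem nGL_eq_Ni (i : ℕ) : nGL (F := K) chevD4 goodD4 i = Ni (nData_D4 (F := K)) i := by
  apply Units.ext
  rw [nGL_val, Ni, ng_val]

/-- the representative of the longest element -/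
noncomputable def n0 : GL chevD4.Idx K := nWordGL chevD4 goodD4 longWord

theorem n0_mem_N : (n0 : GL chevD4.Idx K) ∈ chevD4.monomialSubgroup K := by
  obtain ⟨-, -, -, hl, -⟩ := coreTable
  exact nWordGL_mem chevD4 goodD4 longWord
    fun i hi => (nData_D4 (F := K)).simple_lt i (hl i hi)

theorem n0_conj : (chevD4.posUnipotent K).map (MulAut.conj (n0 : GL chevD4.Idx K)).toMonoidHom =
    chevD4.negUnipotent K := by
  obtain ⟨-, -, -, hl, hpn, hnp, -⟩ := coreTable
  exact longest_conj chevD4 goodD4 (nData_D4 (F := K)).refl_lt hconj' longWord hl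
    (fun s hs => hpn s hs.1 hs) (fun r hr => hnp r hr.1 hr)

variable (p k : ℕ) [ExpChar K p]

theorem n0_mem_G : (n0 : GL chevD4.Idx K) ∈ twistedD4 K (p ^ k) := by
  have hA : Ni (nData_D4 (F := K)) 1 ∈ twistedD4 K (p ^ k) := by
    have := hgen (K := K) p k 0
    change ((([1] : List (Fin 4)).map (NiN (nData_D4 (F := K)) bridge_D4 hsimpD4)).prod :
      GL chevD4.Idx K) ∈ _ at this
    simp only [List.map_cons, List.map_nil, List.prod_cons, List.prod_nil, mul_one, NiN_coe] at this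
    exact this
  have hB : Ni (nData_D4 (F := K)) 0 * (Ni nData_D4 2 * Ni nData_D4 3) ∈ twistedD4 K (p ^ k) := by
    have := hgen (K := K) p k 1
    change ((([0, 2, 3] : List (Fin 4)).map (NiN (nData_D4 (F := K)) bridge_D4 hsimpD4)).prod :
      GL chevD4.Idx K) ∈ _ at this
    simp only [List.map_cons, List.map_nil, List.prod_cons, List.prod_nil, mul_one, Subgroup.coe_mul,
      NiN_coe] at this
    exact this
  have e : (n0 : GL chevD4.Idx K) =
      Ni (nData_D4 (F := K)) 1 * ((Ni (nData_D4 (F := K)) 0 * (Ni nData_D4 2 * Ni nData_D4 3)) *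
      (Ni (nData_D4 (F := K)) 1 * ((Ni (nData_D4 (F := K)) 0 * (Ni nData_D4 2 * Ni nData_D4 3)) *
      (Ni (nData_D4 (F := K)) 1 * (Ni (nData_D4 (F := K)) 0 * (Ni nData_D4 2 * Ni nData_D4 3)))))) := by
    simp only [n0, nWordGL, longWord, List.map_cons, List.map_nil, List.prod_cons, List.prod_nil,
      mul_one, nGL_eq_Ni, mul_assoc]
  rw [e]
  exact mul_mem hA (mul_mem hB (mul_mem hA (mul_mem hB (mul_mem hA hB))))

theorem hgenX : ∀ o ∈ ([[1], [0, 2, 3]] : List (List ℕ)),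
    (o.map fun i => xg (nData_D4 (F := K)) (chevD4.simple i) (1 : K)).prod ∈ twistedD4 K (p ^ k) := by
  obtain ⟨-, -, -, ⟨hs0, hs1, hs2, hs3⟩, -, -⟩ := tableOK
  have hone' : (1 : K) ^ (p ^ k) = 1 := one_pow _
  have hone2 : (1 : K) ^ ((p ^ k) ^ 2) = 1 := one_pow _
  intro o ho
  simp only [List.mem_cons, List.not_mem_nil, or_false] at ho
  rcases ho with rfl | rfl
  · simp only [List.map_cons, List.map_nil, List.prod_cons, List.prod_nil, mul_one, hs1]
    exact mem_gen_one nData_D4 _ 14 1 (Or.inl ⟨1, hone', 14, by simp [d4p2], rfl⟩)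
  · simp only [List.map_cons, List.map_nil, List.prod_cons, List.prod_nil, mul_one, hs0, hs2, hs3]
    have := mem_gen_three (nData_D4 (F := K)) (d4Words K (p ^ k)) 18 13 12 1 (1 ^ (p ^ k))
      (1 ^ ((p ^ k) ^ 2)) (Or.inr ⟨1, (18, 13, 12), by simp [d4p1, d4p3, d4p4], rfl⟩)
    rw [hone', hone2, mul_assoc] at this
    exact this

/-- **the normal core of `B¹` in `³D₄(q)` is trivial** -/
theorem core_twistedD4 [Fintype K] (hk : 0 < k) (hp : p.Prime) (hK : Fintype.card K = (p ^ k) ^ 3) :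
    ((chevD4.borelSubgroup K ⊓ twistedD4 K (p ^ k)).subgroupOf (twistedD4 K (p ^ k))).normalCore = ⊥ := by
  obtain ⟨hneg, hsp, hcart, -, -, -, hcover, horth, hin⟩ := coreTable
  have hcard : 3 < Fintype.card K := by
    rw [hK]
    have h2 : 2 ≤ p ^ k := by
      calc 2 ≤ p := hp.two_le
        _ = p ^ 1 := (pow_one p).symm
        _ ≤ p ^ k := Nat.pow_le_pow_right hp.pos hk
    calc 3 < 2 ^ 3 := by norm_num
      _ ≤ (p ^ k) ^ 3 := Nat.pow_le_pow_left h2 3
  obtain ⟨lam, hlam, hlam2⟩ := exists_lam hcard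
  exact core_trivial chevD4 goodD4 torusD4 (nData_D4 (F := K)) triOK_D4 negTriOK_D4 hneg hsp hcart
    (twistedD4 K (p ^ k)) n0 n0_mem_N (n0_mem_G p k) n0_conj [[1], [0, 2, 3]] hcover horth hin
    (hgenX p k) lam hlam hlam2

end

end Cfsg.Agent.Helper6.Twist.D4
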