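import Mathlib

/-!
# Surjectivity of the trace of a finite field onto the fixed field of a Frobenius power
-/

set_option autoImplicit false

namespace Cfsg.Agent.Helper6.Twist

open Polynomial in
theorem exists_trace_ne_zero {K : Type*} [Field K] [Fintype K] (q n : ℕ) (hq : 2 ≤ q) (hn : 0 < n)
    (hK : Fintype.card K = q ^ n) : ∃ t0 : K, ∑ e ∈ Finset.range n, t0 ^ (q ^ e) ≠ 0 := by
  classical
  by_contra hcon
  push Not at hcon
  set P : K[X] := ∑ e ∈ Finset.range n, (X : K[X]) ^ (q ^ e) with hP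
  have hdeg : P.natDegree ≤ q ^ (n - 1) := by
    apply Polynomial.natDegree_sum_le_of_forall_le
    intro e he
    rw [Polynomial.natDegree_X_pow]
    exact Nat.pow_le_pow_right (by omega) (by have := Finset.mem_range.1 he; omega)
  have hlt : q ^ (n - 1) < q ^ n := Nat.pow_lt_pow_right (by omega) (by omega)
  have hzero : P = 0 := by
    apply Polynomial.eq_zero_of_natDegree_lt_card_of_eval_eq_zero' P Finset.univ
    · intro t _
      rw [hP, Polynomial.eval_finsetSum]
      simpa using hcon t
    · rw [Finset.card_univ, hK]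
      omega
  have hcoeff : P.coeff 1 = 1 := by
    rw [hP, Polynomial.finsetSum_coeff]
    rw [Finset.sum_eq_single 0]
    · simp
    · intro e _ he
      rw [Polynomial.coeff_X_pow]
      have : 1 < q ^ e := Nat.one_lt_pow he (by omega)
      rw [if_neg (by omega)]
    · intro h0
      exact absurd (Finset.mem_range.2 hn) h0
  rw [hzero] at hcoeff
  simp at hcoeff

theorem iterate_eq_pow {K : Type*} [Field K] (φ : K →+* K) (q : ℕ) (hφq : ∀ t, φ t = t ^ q) (e : ℕ)
    (t : K) : φ^[e] t = t ^ (q ^ e) := by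
  induction e with
  | zero => simp
  | succ e ih => rw [Function.iterate_succ_apply', ih, hφq, ← pow_mul, pow_succ]

/-- abstract form: if some trace is non-zero, then the trace is onto the fixed field -/
theorem trace_surj {K : Type*} [Field K] (φ : K →+* K) (n : ℕ) (hφ : ∀ t, φ^[n] t = t)
    (t0 : K) (h0 : ∑ e ∈ Finset.range n, φ^[e] t0 ≠ 0) (s : K) (hs : φ s = s) :
    ∃ t : K, ∑ e ∈ Finset.range n, φ^[e] t = s := by
  set c := ∑ e ∈ Finset.range n, φ^[e] t0 with hc
  have hcfix : φ c = c := by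
    rw [hc, map_sum]
    have h1 : ∀ e, φ (φ^[e] t0) = φ^[e + 1] t0 := fun e => (Function.iterate_succ_apply' φ e t0).symm
    simp only [h1]
    have h2 := Finset.sum_range_succ' (fun e => φ^[e] t0) n
    have h3 := Finset.sum_range_succ (fun e => φ^[e] t0) n
    rw [h3] at h2
    simp only [Function.iterate_zero, id_eq, hφ t0] at h2
    exact (add_right_cancel h2).symm
  have hfix : φ (s * c⁻¹) = s * c⁻¹ := by rw [map_mul, map_inv₀, hs, hcfix]
  refine ⟨s * c⁻¹ * t0, ?_⟩
  have h4 : ∀ e, φ^[e] (s * c⁻¹ * t0) = s * c⁻¹ * φ^[e] t0 := by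
    intro e
    rw [← RingHom.coe_pow, map_mul, RingHom.coe_pow, Function.iterate_fixed hfix]
  simp only [h4]
  rw [← Finset.mul_sum, ← hc, mul_assoc, inv_mul_cancel₀ h0, mul_one]

/-- the trace of a finite field of order `q ^ n` is onto the fixed field of `t ↦ t ^ q` -/
theorem exists_trace_eq {K : Type*} [Field K] [Fintype K] (φ : K →+* K) (q n : ℕ)
    (hφq : ∀ t, φ t = t ^ q) (hq : 2 ≤ q) (hn : 0 < n) (hK : Fintype.card K = q ^ n)
    (s : K) (hs : φ s = s) : ∃ t : K, ∑ e ∈ Finset.range n, φ^[e] t = s := by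
  obtain ⟨t0, ht0⟩ := exists_trace_ne_zero (K := K) q n hq hn hK
  have hφ : ∀ t, φ^[n] t = t := by
    intro t
    rw [iterate_eq_pow φ q hφq, ← hK, FiniteField.pow_card]
  apply trace_surj φ n hφ t0 _ s hs
  simpa only [iterate_eq_pow φ q hφq] using ht0

end Cfsg.Agent.Helper6.Twist
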