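import Cfsg.Agent.Lib.Helper6.TwistPerf
import Cfsg.Agent.Lib.Helper6.TwistTrace
import Cfsg.Agent.Lib.Helper6.TwistCoreD4

/-!
# `³D₄(q)` is perfect
-/

set_option autoImplicit false
set_option maxRecDepth 100000

namespace Cfsg.Agent.Helper6.Twist.D4

open Cfsg.Lie Cfsg.Agent.Helper18 Cfsg.Agent.Helper17 Cfsg.Agent.Helper6.Weyl Cfsg.Agent.Helper6.Chev
open Cfsg.Agent.Helper6.ChevS Cfsg.Agent.Helper6.ChevLen Cfsg.Agent.S1043 Matrix

/-- the Frobenius exponents of the nodes -/
def ex : ℕ → ℕ := fun j => if j = 2 then 1 else if j = 3 then 2 else 0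

/-- the structure constants in the commutator relations used -/
def Mp : ℕ → ℤ := fun j => if j = 0 then 1 else -1
def Mm : ℕ → ℤ := fun j => if j = 0 then -1 else 1

theorem perfTable :
    BlockOK chevD4 [0, 2, 3] ∧
    -- positive central root
    (∀ j ∈ [0, 2, 3], chevD4.simple j < chevD4.nroots ∧ chevD4.neg (chevD4.simple j) < chevD4.nroots) ∧
    (∀ j ∈ [0, 2, 3], Cfsg.Agent.Helper18.commCheck chevD4 (chevD4.reflectRoot 1 (chevD4.simple j)) (chevD4.neg (chevD4.simple j)) = true ∧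
      chevD4.commTerms (chevD4.reflectRoot 1 (chevD4.simple j)) (chevD4.neg (chevD4.simple j)) =
        [(14, Mp j, 1, 1)]) ∧
    ([0, 2, 3].Pairwise fun j k =>
      CommOK chevD4 [chevD4.reflectRoot 1 (chevD4.simple j), chevD4.neg (chevD4.simple j), 14]
        [chevD4.reflectRoot 1 (chevD4.simple k), chevD4.neg (chevD4.simple k), 14]) ∧
    (∀ j ∈ [0, 2, 3], Cfsg.Agent.Helper18.commCheck chevD4 (chevD4.reflectRoot 1 (chevD4.neg (chevD4.simple j))) (chevD4.simple j) = true ∧
      chevD4.commTerms (chevD4.reflectRoot 1 (chevD4.neg (chevD4.simple j))) (chevD4.simple j) =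
        [(9, Mm j, 1, 1)]) ∧
    ([0, 2, 3].Pairwise fun j k =>
      CommOK chevD4 [chevD4.reflectRoot 1 (chevD4.neg (chevD4.simple j)), chevD4.simple j, 9]
        [chevD4.reflectRoot 1 (chevD4.neg (chevD4.simple k)), chevD4.simple k, 9]) ∧
    (etaD4 1 18 = 1 ∧ etaD4 1 13 = -1 ∧ etaD4 1 12 = -1 ∧ etaD4 1 5 = 1 ∧ etaD4 1 10 = -1 ∧
      etaD4 1 11 = -1) := by
  decide +kernel

section

variable {K : Type*} [Field K] (p k : ℕ) [ExpChar K p]

theorem hXmem (t : K) : PR (nData_D4 (F := K)) chevD4.simple [0, 2, 3]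
    (fun j => (frob (K := K) p k)^[ex j] t) ∈ twistedD4 K (p ^ k) := by
  obtain ⟨-, -, -, ⟨hs0, hs1, hs2, hs3⟩, -, -⟩ := tableOK
  have := mem_gen_three (nData_D4 (F := K)) (d4Words K (p ^ k)) 18 13 12 t (t ^ (p ^ k))
    (t ^ ((p ^ k) ^ 2)) (Or.inr ⟨t, (18, 13, 12), by simp [d4p1, d4p3, d4p4], rfl⟩)
  rw [mul_assoc] at this
  have e0 : (frob (K := K) p k)^[ex 0] t = t := rfl
  have e2 : (frob (K := K) p k)^[ex 2] t = t ^ (p ^ k) := frob_apply p k t
  have e3 : (frob (K := K) p k)^[ex 3] t = t ^ ((p ^ k) ^ 2) := frob2 p k t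
  simp only [PR, List.map_cons, List.map_nil, List.prod_cons, List.prod_nil, mul_one, hs0, hs2, hs3,
    e0, e2, e3]
  exact this

theorem hYmem (t : K) : PR (nData_D4 (F := K)) (fun i => chevD4.neg (chevD4.simple i)) [0, 2, 3]
    (fun j => (frob (K := K) p k)^[ex j] t) ∈ twistedD4 K (p ^ k) := by
  obtain ⟨-, -, -, ⟨hs0, hs1, hs2, hs3⟩, ⟨hn0, hn1, hn2, hn3⟩, -⟩ := tableOK
  have := mem_gen_three (nData_D4 (F := K)) (d4Words K (p ^ k)) 5 10 11 t (t ^ (p ^ k))
    (t ^ ((p ^ k) ^ 2)) (Or.inr ⟨t, (5, 10, 11), by simp [d4m1, d4m3, d4m4], rfl⟩)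
  rw [mul_assoc] at this
  have e0 : (frob (K := K) p k)^[ex 0] t = t := rfl
  have e2 : (frob (K := K) p k)^[ex 2] t = t ^ (p ^ k) := frob_apply p k t
  have e3 : (frob (K := K) p k)^[ex 3] t = t ^ ((p ^ k) ^ 2) := frob2 p k t
  simp only [PR, List.map_cons, List.map_nil, List.prod_cons, List.prod_nil, mul_one, hs0, hs2, hs3,
    hn0, hn2, hn3, e0, e2, e3]
  exact this

theorem Ni1_mem : Ni (nData_D4 (F := K)) 1 ∈ twistedD4 K (p ^ k) := by
  have := hgen (K := K) p k 0
  change ((([1] : List (Fin 4)).map (NiN (nData_D4 (F := K)) bridge_D4 hsimpD4)).prod :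
    GL chevD4.Idx K) ∈ _ at this
  simp only [List.map_cons, List.map_nil, List.prod_cons, List.prod_nil, mul_one, NiN_coe] at this
  exact this

/-- the short generators are commutators -/
theorem short_mem [Fintype K] (hk : 0 < k) (hp : p.Prime) (hK : Fintype.card K = (p ^ k) ^ 3) (t : K) :
    PR (nData_D4 (F := K)) chevD4.simple [0, 2, 3] (fun j => (frob (K := K) p k)^[ex j] t) ∈
      ⁅twistedD4 K (p ^ k), twistedD4 K (p ^ k)⁆ ∧
    PR (nData_D4 (F := K)) (fun i => chevD4.neg (chevD4.simple i)) [0, 2, 3]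
      (fun j => (frob (K := K) p k)^[ex j] t) ∈ ⁅twistedD4 K (p ^ k), twistedD4 K (p ^ k)⁆ := by
  have hcard : 3 < Fintype.card K := by
    rw [hK]
    have h2 : 2 ≤ p ^ k := by
      calc 2 ≤ p := hp.two_le
        _ = p ^ 1 := (pow_one p).symm
        _ ≤ p ^ k := Nat.pow_le_pow_right hp.pos hk
    calc 3 < 2 ^ 3 := by norm_num
      _ ≤ (p ^ k) ^ 3 := Nat.pow_le_pow_left h2 3
  obtain ⟨lam, hlam, hlam2⟩ := exists_lam hcard
  exact torus_comm_frob chevD4 torusD4 (nData_D4 (F := K)) (frob (K := K) p k) ex [0, 2, 3]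
    perfTable.1 (twistedD4 K (p ^ k)) (hXmem p k) (hYmem p k) lam hlam hlam2 t

/-- the long generators are commutators -/
theorem long_mem [Fintype K] (hk : 0 < k) (hp : p.Prime) (hK : Fintype.card K = (p ^ k) ^ 3) (s : K)
    (hs : s ^ (p ^ k) = s) :
    xg (nData_D4 (F := K)) 14 s ∈ ⁅twistedD4 K (p ^ k), twistedD4 K (p ^ k)⁆ ∧
    xg (nData_D4 (F := K)) 9 s ∈ ⁅twistedD4 K (p ^ k), twistedD4 K (p ^ k)⁆ := by
  obtain ⟨-, hlt, hrelp, hcrossp, hrelm, hcrossm, e18, e13, e12, e5, e10, e11⟩ := perfTable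
  obtain ⟨-, -, -, ⟨hs0, hs1, hs2, hs3⟩, ⟨hn0, hn1, hn2, hn3⟩, -⟩ := tableOK
  have h2 : 2 ≤ p ^ k := by
    calc 2 ≤ p := hp.two_le
      _ = p ^ 1 := (pow_one p).symm
      _ ≤ p ^ k := Nat.pow_le_pow_right hp.pos hk
  have hfix : frob (K := K) p k s = s := by rw [frob_apply, hs]
  have hone : ∀ j, (frob (K := K) p k)^[ex j] (1 : K) = 1 := by
    intro j
    rw [← RingHom.coe_pow, map_one]
  constructor
  · obtain ⟨T, hT⟩ := exists_trace_eq (frob (K := K) p k) (p ^ k) 3 (frob_apply p k) h2 (by norm_num) hK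
      (-s) (by rw [map_neg, hfix])
    have hT' : T + frob (K := K) p k T + frob (K := K) p k (frob (K := K) p k T) = -s := by
      simpa [Finset.sum_range_succ] using hT
    have := long_comm chevD4 (nData_D4 (F := K)) [0, 2, 3] 1 (by decide) chevD4.simple
      (fun j => chevD4.neg (chevD4.simple j)) 14 Mp (fun j hj => (hlt j hj).1) hrelp hcrossp
      (twistedD4 K (p ^ k)) (Ni1_mem p k) (fun j => (frob (K := K) p k)^[ex j] T)
      (fun j => (frob (K := K) p k)^[ex j] 1) (hXmem p k T) (hYmem p k 1)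
    have e : ([0, 2, 3].map fun j => ((Mp j : ℤ) : K) * (-(((etaD4 1 (chevD4.simple j) : ℤ) : K) *
        (frob (K := K) p k)^[ex j] T)) * (frob (K := K) p k)^[ex j] 1).sum = s := by
      have e0 : (frob (K := K) p k)^[ex 0] T = T := rfl
      have e2 : (frob (K := K) p k)^[ex 2] T = frob (K := K) p k T := rfl
      have e3 : (frob (K := K) p k)^[ex 3] T = frob (K := K) p k (frob (K := K) p k T) := rfl
      simp only [List.map_cons, List.map_nil, List.sum_cons, List.sum_nil, hone, hs0, hs2, hs3, e18,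
        e13, e12, e0, e2, e3, Mp]
      have : s = -(T + frob (K := K) p k T + frob (K := K) p k (frob (K := K) p k T)) := by
        rw [hT', neg_neg]
      rw [this]
      push_cast
      simp
      ring
    rwa [e] at this
  · obtain ⟨T, hT⟩ := exists_trace_eq (frob (K := K) p k) (p ^ k) 3 (frob_apply p k) h2 (by norm_num) hK
      s hfix
    have hT' : T + frob (K := K) p k T + frob (K := K) p k (frob (K := K) p k T) = s := by
      simpa [Finset.sum_range_succ] using hT
    have := long_comm chevD4 (nData_D4 (F := K)) [0, 2, 3] 1 (by decide)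
      (fun j => chevD4.neg (chevD4.simple j)) chevD4.simple 9 Mm (fun j hj => (hlt j hj).2) hrelm hcrossm
      (twistedD4 K (p ^ k)) (Ni1_mem p k) (fun j => (frob (K := K) p k)^[ex j] T)
      (fun j => (frob (K := K) p k)^[ex j] 1) (hYmem p k T) (hXmem p k 1)
    have e : ([0, 2, 3].map fun j => ((Mm j : ℤ) : K) *
        (-(((etaD4 1 (chevD4.neg (chevD4.simple j)) : ℤ) : K) *
        (frob (K := K) p k)^[ex j] T)) * (frob (K := K) p k)^[ex j] 1).sum = s := by
      have e0 : (frob (K := K) p k)^[ex 0] T = T := rfl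
      have e2 : (frob (K := K) p k)^[ex 2] T = frob (K := K) p k T := rfl
      have e3 : (frob (K := K) p k)^[ex 3] T = frob (K := K) p k (frob (K := K) p k T) := rfl
      simp only [List.map_cons, List.map_nil, List.sum_cons, List.sum_nil, hone, hs0, hs2, hs3, hn0,
        hn2, hn3, e5, e10, e11, e0, e2, e3, Mm]
      rw [← hT']
      push_cast
      simp
      ring
    rwa [e] at this

/-- **`³D₄(q)` is perfect** -/
theorem perfect_twistedD4 [Fintype K] (hk : 0 < k) (hp : p.Prime)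
    (hK : Fintype.card K = (p ^ k) ^ 3) : commutator ↥(twistedD4 K (p ^ k)) = ⊤ := by
  apply commutator_eq_top_of_le
  conv_lhs => rw [twistedD4]
  apply gen_le (nData_D4 (F := K))
  obtain ⟨-, -, -, ⟨hs0, hs1, hs2, hs3⟩, ⟨hn0, hn1, hn2, hn3⟩, -⟩ := tableOK
  intro w hw
  rcases hw with ⟨t, ht, r, hr, rfl⟩ | ⟨t, rs, hrs, rfl⟩
  · simp only [d4p2, d4m2, List.mem_cons, List.not_mem_nil, or_false] at hr
    simp only [List.map_cons, List.map_nil, List.prod_cons, List.prod_nil, mul_one]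
    rcases hr with rfl | rfl
    · exact (long_mem p k hk hp hK t ht).1
    · exact (long_mem p k hk hp hK t ht).2
  · simp only [d4p1, d4p3, d4p4, d4m1, d4m3, d4m4, List.mem_cons, List.not_mem_nil, or_false] at hrs
    have e0 : (frob (K := K) p k)^[ex 0] t = t := rfl
    have e2 : (frob (K := K) p k)^[ex 2] t = t ^ (p ^ k) := frob_apply p k t
    have e3 : (frob (K := K) p k)^[ex 3] t = t ^ ((p ^ k) ^ 2) := frob2 p k t
    rcases hrs with rfl | rfl
    · have := (short_mem p k hk hp hK t).1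
      simp only [PR, List.map_cons, List.map_nil, List.prod_cons, List.prod_nil, mul_one, hs0, hs2,
        hs3, e0, e2, e3] at this
      simpa only [List.map_cons, List.map_nil, List.prod_cons, List.prod_nil, mul_one] using this
    · have := (short_mem p k hk hp hK t).2
      simp only [PR, List.map_cons, List.map_nil, List.prod_cons, List.prod_nil, mul_one, hs0, hs2,
        hs3, hn0, hn2, hn3, e0, e2, e3] at this
      simpa only [List.map_cons, List.map_nil, List.prod_cons, List.prod_nil, mul_one] using this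

end

end Cfsg.Agent.Helper6.Twist.D4
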