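import Cfsg.Agent.Lib.Helper6.TwistTorus
import Cfsg.Agent.Lib.Helper6.TwistPerfD4
import Cfsg.Agent.Lib.Helper6.TwistCount

/-!
# `|H ∩ ³D₄(q)| = (q - 1)² (q² + q + 1)`
-/

set_option autoImplicit false
set_option maxRecDepth 100000

namespace Cfsg.Agent.Helper6.Twist.D4

open Cfsg.Lie Cfsg.Agent.Helper18 Cfsg.Agent.Helper17 Cfsg.Agent.Helper6.Weyl Cfsg.Agent.Helper6.Chev
open Cfsg.Agent.Helper6.ChevS Cfsg.Agent.Helper6.ChevLen Cfsg.Agent.S1043 Matrix

theorem cartanTable :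
    (chevD4.cartan 0 18 = 2 ∧ chevD4.cartan 1 18 = -1 ∧ chevD4.cartan 2 18 = 0 ∧ chevD4.cartan 3 18 = 0) ∧
    (chevD4.cartan 0 14 = -1 ∧ chevD4.cartan 1 14 = 2 ∧ chevD4.cartan 2 14 = -1 ∧ chevD4.cartan 3 14 = -1) ∧
    (chevD4.cartan 0 13 = 0 ∧ chevD4.cartan 1 13 = -1 ∧ chevD4.cartan 2 13 = 2 ∧ chevD4.cartan 3 13 = 0) ∧
    (chevD4.cartan 0 12 = 0 ∧ chevD4.cartan 1 12 = -1 ∧ chevD4.cartan 2 12 = 0 ∧ chevD4.cartan 3 12 = 2) ∧
    chevD4.rank = 4 := by
  decide +kernel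

section

variable {K : Type*} [Field K]

/-- a parameter function from four units -/
def mk4 (a b c d : Kˣ) : ℕ → Kˣ := fun i =>
  if i = 0 then a else if i = 1 then b else if i = 2 then c else if i = 3 then d else 1

theorem mk4_mul (a b c d a' b' c' d' : Kˣ) :
    mk4 a b c d * mk4 a' b' c' d' = mk4 (a * a') (b * b') (c * c') (d * d') := by
  funext i
  simp only [Pi.mul_apply, mk4]
  split_ifs <;> simp

theorem chi_mk4 (a b c d : Kˣ) :
    chi chevD4 (fun i => ((mk4 a b c d i : Kˣ) : K)) 18 = ((a ^ 2 * b⁻¹ : Kˣ) : K) ∧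
    chi chevD4 (fun i => ((mk4 a b c d i : Kˣ) : K)) 14 = ((b ^ 2 * (a * c * d)⁻¹ : Kˣ) : K) ∧
    chi chevD4 (fun i => ((mk4 a b c d i : Kˣ) : K)) 13 = ((c ^ 2 * b⁻¹ : Kˣ) : K) ∧
    chi chevD4 (fun i => ((mk4 a b c d i : Kˣ) : K)) 12 = ((d ^ 2 * b⁻¹ : Kˣ) : K) := by
  obtain ⟨⟨h00, h10, h20, h30⟩, ⟨h01, h11, h21, h31⟩, ⟨h02, h12, h22, h32⟩, ⟨h03, h13, h23, h33⟩, hr⟩ :=
    cartanTable
  refine ⟨?_, ?_, ?_, ?_⟩
  · simp [chi, hr, List.range_succ, mk4, h00, h10, h20, h30, _root_.zpow_neg]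
  · simp [chi, hr, List.range_succ, mk4, h01, h11, h21, h31, _root_.zpow_neg]
    ring
  · simp [chi, hr, List.range_succ, mk4, h02, h12, h22, h32, _root_.zpow_neg]
    ring
  · simp [chi, hr, List.range_succ, mk4, h03, h13, h23, h33, _root_.zpow_neg]
    ring

theorem mk4_inv (a b c d : Kˣ) : (mk4 a b c d)⁻¹ = mk4 a⁻¹ b⁻¹ c⁻¹ d⁻¹ := by
  funext i
  simp only [Pi.inv_apply, mk4]
  split_ifs <;> simp

theorem chi_one (s : ℕ) : chi chevD4 (fun i => (((1 : ℕ → Kˣ) i : Kˣ) : K)) s = 1 := by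
  simp [chi]

/-- the kernel of the torus parametrisation -/
theorem ker_mk4 (x y z w : Kˣ) (h1 : torHom (F := K) chevD4 (mk4 x y z w) = 1) :
    x ^ 2 = 1 ∧ y = 1 ∧ z ^ 2 = 1 ∧ w ^ 2 = 1 ∧ x * z * w = 1 := by
  have h1' : torHom (F := K) chevD4 (mk4 x y z w) = torHom chevD4 1 := by rw [h1, map_one]
  obtain ⟨c18, c14, c13, c12⟩ := chi_mk4 x y z w
  have e18 := chi_of_torHom_eq chevD4 _ _ h1' 18 (by decide)
  have e14 := chi_of_torHom_eq chevD4 _ _ h1' 14 (by decide)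
  have e13 := chi_of_torHom_eq chevD4 _ _ h1' 13 (by decide)
  have e12 := chi_of_torHom_eq chevD4 _ _ h1' 12 (by decide)
  rw [chi_one, c18, Units.val_eq_one, mul_inv_eq_one] at e18
  rw [chi_one, c14, Units.val_eq_one, mul_inv_eq_one] at e14
  rw [chi_one, c13, Units.val_eq_one, mul_inv_eq_one] at e13
  rw [chi_one, c12, Units.val_eq_one, mul_inv_eq_one] at e12
  have hy : y = 1 := by
    have h4 : y ^ 3 * y = y ^ 3 * 1 := by
      calc y ^ 3 * y = (y ^ 2) ^ 2 := by rw [← pow_succ, ← pow_mul]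
        _ = (x * z * w) ^ 2 := by rw [e14]
        _ = x ^ 2 * z ^ 2 * w ^ 2 := by rw [mul_pow, mul_pow]
        _ = y * y * y := by rw [e18, e13, e12]
        _ = y ^ 3 * 1 := by rw [mul_one, pow_succ, pow_two]
    exact mul_left_cancel h4
  rw [hy] at e18 e13 e12 e14
  rw [one_pow] at e14
  exact ⟨e18, hy, e13, e12, e14.symm⟩

variable (p k : ℕ) [ExpChar K p]

/-- the Frobenius on units -/
noncomputable def frobU : Kˣ →* Kˣ := Units.map (frob (K := K) p k : K →* K)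

theorem frobU_val (u : Kˣ) : ((frobU p k u : Kˣ) : K) = frob (K := K) p k (u : K) := rfl

/-- a `τ`-fixed torus element is also given by the `τ`-twisted parameters -/
theorem tau_rep (a b c d : Kˣ)
    (hfix : tau (frob (K := K) p k) Pg (torHom chevD4 (mk4 a b c d)) = torHom chevD4 (mk4 a b c d)) :
    torHom (F := K) chevD4 (mk4 (frobU p k d) (frobU p k b) (frobU p k a) (frobU p k c)) =
      torHom chevD4 (mk4 a b c d) := by
  obtain ⟨hneg, -, hcart, -⟩ := coreTable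
  obtain ⟨⟨hR1, hR2, hR3, hR4⟩, -, hη, ⟨hs0, hs1, hs2, hs3⟩, -, -⟩ := tableOK
  have hr : chevD4.rank = 4 := rfl
  have fx : ∀ s < chevD4.nroots, dec8 gRD4a s < chevD4.nroots → s ∈ [18, 13, 12, 14] →
      chi chevD4 (fun i => ((mk4 a b c d i : Kˣ) : K)) (dec8 gRD4a s) =
        frob (K := K) p k (chi chevD4 (fun i => ((mk4 a b c d i : Kˣ) : K)) s) := by
    intro s hs hRs hmem
    apply chi_of_fixed chevD4 goodD4 torusD4 (nData_D4 (F := K)) (frob (K := K) p k) Pg (dec8 gRD4a)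
      (fun s => etaOf gSD4a (chevD4.rank + s)) hconj hneg (mk4 a b c d) hfix s hs hRs
    have : etaOf gSD4a (chevD4.rank + s) = 1 := by
      apply hη
      simp only [List.mem_cons, List.not_mem_nil, or_false] at hmem ⊢
      rcases hmem with rfl | rfl | rfl | rfl <;> simp
    rw [this]
    simp
  have f18 := fx 18 (by decide) (by rw [hR1]; decide) (by simp)
  have f13 := fx 13 (by decide) (by rw [hR2]; decide) (by simp)
  have f12 := fx 12 (by decide) (by rw [hR3]; decide) (by simp)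
  have f14 := fx 14 (by decide) (by rw [hR4]; decide) (by simp)
  rw [hR1] at f18
  rw [hR2] at f13
  rw [hR3] at f12
  rw [hR4] at f14
  obtain ⟨c18, c14, c13, c12⟩ := chi_mk4 a b c d
  obtain ⟨t18, t14, t13, t12⟩ := chi_mk4 (frobU p k d) (frobU p k b) (frobU p k a) (frobU p k c)
  apply torHom_eq_of_chi chevD4 (nData_D4 (F := K)) hcart
  intro j hj
  rw [hr] at hj
  interval_cases j
  · rw [hs0, t18, f12, c12, ← frobU_val, map_mul, map_pow, map_inv]
  · rw [hs1, t14, f14, c14, ← frobU_val, map_mul, map_pow, map_inv, map_mul, map_mul]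
    congr 3
    exact mul_rotate _ _ _
  · rw [hs2, t13, f18, c18, ← frobU_val, map_mul, map_pow, map_inv]
  · rw [hs3, t12, f13, c13, ← frobU_val, map_mul, map_pow, map_inv]

end

section Main

variable {K : Type*} [Field K] (p k : ℕ) [ExpChar K p]

/-- the units fixed by the Frobenius -/
abbrev Fqx : Subgroup Kˣ := (powMonoidHom (p ^ k - 1) : Kˣ →* Kˣ).ker

theorem frobU_eq_pow (u : Kˣ) : frobU p k u = u ^ (p ^ k) :=
  Units.ext (by rw [frobU_val, frob_apply, Units.val_pow_eq_pow_val])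

theorem mem_Fqx_iff (hq : 1 ≤ p ^ k) (u : Kˣ) : u ∈ Fqx (K := K) p k ↔ frobU p k u = u := by
  rw [MonoidHom.mem_ker, powMonoidHom_apply, frobU_eq_pow]
  constructor
  · intro h
    calc u ^ (p ^ k) = u ^ (p ^ k - 1 + 1) := by rw [Nat.sub_add_cancel hq]
      _ = u ^ (p ^ k - 1) * u := pow_succ _ _
      _ = u := by rw [h, one_mul]
  · intro h
    have : u ^ (p ^ k - 1) * u = 1 * u := by rw [← pow_succ, Nat.sub_add_cancel hq, h, one_mul]
    exact mul_right_cancel this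

/-- the parameters of the `τ`-fixed torus -/
noncomputable def emb : Kˣ × ↥(Fqx (K := K) p k) →* (ℕ → Kˣ) where
  toFun x := mk4 x.1 x.2 (frobU p k x.1) (frobU p k (frobU p k x.1))
  map_one' := by
    funext i
    simp only [Prod.fst_one, Prod.snd_one, OneMemClass.coe_one, map_one, mk4, Pi.one_apply]
    split_ifs <;> rfl
  map_mul' x y := by
    rw [mk4_mul]
    simp only [Prod.fst_mul, Prod.snd_mul, Subgroup.coe_mul, map_mul]

/-- the parametrisation of `H ∩ ³D₄(q)` -/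
noncomputable def Psi : Kˣ × ↥(Fqx (K := K) p k) →* GL chevD4.Idx K := (torHom chevD4).comp (emb p k)

theorem Psi_apply (x : Kˣ × ↥(Fqx (K := K) p k)) :
    Psi p k x = torHom chevD4 (mk4 x.1 x.2 (frobU p k x.1) (frobU p k (frobU p k x.1))) := rfl

theorem Psi_mk (lam mu : Kˣ) (hmu : mu ∈ Fqx (K := K) p k) :
    Psi p k (lam, ⟨mu, hmu⟩) =
      torHom chevD4 (mk4 lam mu (frobU p k lam) (frobU p k (frobU p k lam))) := rfl

theorem torHom_mk4 (a b c d : Kˣ) : torHom (F := K) chevD4 (mk4 a b c d) =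
    hg (nData_D4 (F := K)) 18 (a : K) * (hg nData_D4 14 (b : K) * (hg nData_D4 13 (c : K) *
      hg nData_D4 12 (d : K))) := by
  obtain ⟨-, -, -, ⟨hs0, hs1, hs2, hs3⟩, -, -⟩ := tableOK
  have hr : List.range chevD4.rank = [0, 1, 2, 3] := rfl
  rw [torHom_eq_prod chevD4 torusD4 (nData_D4 (F := K)), hr]
  simp only [List.map_cons, List.map_nil, List.prod_cons, List.prod_nil, mul_one, hs0, hs1, hs2, hs3]
  rfl

theorem Psi_mem (hq : 1 ≤ p ^ k) (x : Kˣ × ↥(Fqx (K := K) p k)) :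
    Psi p k x ∈ chevD4.diagonalSubgroup K ⊓ twistedD4 K (p ^ k) := by
  refine ⟨torHom_mem_H chevD4 torusD4 (nData_D4 (F := K)) _, ?_⟩
  obtain ⟨-, -, -, ⟨hs0, hs1, hs2, hs3⟩, ⟨hn0, hn1, hn2, hn3⟩, -⟩ := tableOK
  obtain ⟨lam, mu, hmu⟩ := x
  have hmu' : frobU p k mu = mu := (mem_Fqx_iff p k hq mu).1 hmu
  have hmuK : (mu : K) ^ (p ^ k) = (mu : K) := by
    rw [← frob_apply, ← frobU_val, hmu']
  have e : mk4 lam mu (frobU p k lam) (frobU p k (frobU p k lam)) =
      mk4 lam 1 (frobU p k lam) (frobU p k (frobU p k lam)) * mk4 1 mu 1 1 := by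
    rw [mk4_mul]
    simp
  rw [Psi_apply]
  change torHom chevD4 (mk4 lam mu (frobU p k lam) (frobU p k (frobU p k lam))) ∈ _
  rw [e, map_mul, torHom_mk4, torHom_mk4]
  simp only [Units.val_one, hg_one, one_mul, mul_one]
  apply mul_mem
  · have := HP_mem_frob chevD4 (nData_D4 (F := K)) (frob (K := K) p k) ex [0, 2, 3] perfTable.1
      (twistedD4 K (p ^ k)) (hXmem p k) (hYmem p k) (lam : K)
    have e0 : (frob (K := K) p k)^[ex 0] (lam : K) = (lam : K) := rfl
    have e2 : (frob (K := K) p k)^[ex 2] (lam : K) = ((frobU p k lam : Kˣ) : K) := rfl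
    have e3 : (frob (K := K) p k)^[ex 3] (lam : K) = ((frobU p k (frobU p k lam) : Kˣ) : K) := rfl
    simp only [List.map_cons, List.map_nil, List.prod_cons, List.prod_nil, mul_one, hs0, hs2, hs3,
      e0, e2, e3] at this
    exact this
  · have hfr : ∀ t : K, frob (K := K) p k t = t → t ^ (p ^ k) = t := fun t ht => by
      rw [← frob_apply, ht]
    have hmuf : frob (K := K) p k (mu : K) = (mu : K) := by rw [frob_apply, hmuK]
    have g1 : ∀ t : K, frob (K := K) p k t = t → xg (nData_D4 (F := K)) 14 t ∈ twistedD4 K (p ^ k) :=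
      fun t ht => mem_gen_one nData_D4 _ 14 t (Or.inl ⟨t, hfr t ht, 14, by simp [d4p2], rfl⟩)
    have g2 : ∀ t : K, frob (K := K) p k t = t → xg (nData_D4 (F := K)) 9 t ∈ twistedD4 K (p ^ k) :=
      fun t ht => mem_gen_one nData_D4 _ 9 t (Or.inl ⟨t, hfr t ht, 9, by simp [d4m2], rfl⟩)
    rw [hg, ng, ng, hn1]
    have f1 : frob (K := K) p k (-(mu : K)⁻¹) = -(mu : K)⁻¹ := by rw [map_neg, map_inv₀, hmuf]
    have f2 : frob (K := K) p k (-1 : K) = -1 := by rw [map_neg, map_one]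
    have f3 : frob (K := K) p k (-(-1 : K)⁻¹) = -(-1 : K)⁻¹ := by rw [map_neg, map_inv₀, f2]
    exact mul_mem (mul_mem (mul_mem (g1 _ hmuf) (g2 _ f1)) (g1 _ hmuf))
      (mul_mem (mul_mem (g1 _ f2) (g2 _ f3)) (g1 _ f2))

theorem frobU3 [Fintype K] (hK : Fintype.card K = (p ^ k) ^ 3) (u : Kˣ) :
    frobU p k (frobU p k (frobU p k u)) = u := by
  apply Units.ext
  rw [frobU_val, frobU_val, frobU_val, frob2, frob_apply, ← pow_mul, ← pow_succ', ← hK,
    FiniteField.pow_card]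

/-- every element of `H ∩ ³D₄(q)` is in the image of the parametrisation -/
theorem le_range [Fintype K] (hq : 1 ≤ p ^ k) (hK : Fintype.card K = (p ^ k) ^ 3) :
    chevD4.diagonalSubgroup K ⊓ twistedD4 K (p ^ k) ≤ (Psi (K := K) p k).range := by
  rintro g ⟨hgH, hgG⟩
  obtain ⟨c0, rfl⟩ := (mem_H_iff chevD4 torusD4 (nData_D4 (F := K)) g).1 hgH
  have hr : chevD4.rank = 4 := rfl
  have e0 : torHom (F := K) chevD4 c0 = torHom chevD4 (mk4 (c0 0) (c0 1) (c0 2) (c0 3)) := by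
    apply torHom_congr
    intro i hi
    rw [hr] at hi
    interval_cases i <;> simp [mk4]
  generalize c0 0 = a at e0
  generalize c0 1 = b at e0
  generalize c0 2 = c at e0
  generalize c0 3 = d at e0
  have hfix : tau (frob (K := K) p k) Pg (torHom chevD4 (mk4 a b c d)) = torHom chevD4 (mk4 a b c d) := by
    rw [← e0]
    exact (mem_fixTau _ _ _).1 (twisted_le_fix p k hK hgG)
  have e1 := tau_rep p k a b c d hfix
  have hfix1 : tau (frob (K := K) p k) Pg (torHom chevD4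
      (mk4 (frobU p k d) (frobU p k b) (frobU p k a) (frobU p k c))) =
      torHom chevD4 (mk4 (frobU p k d) (frobU p k b) (frobU p k a) (frobU p k c)) := by rw [e1, hfix]
  have e2 := tau_rep p k (frobU p k d) (frobU p k b) (frobU p k a) (frobU p k c) hfix1
  -- the kernel element
  have hker : torHom (F := K) chevD4 (mk4 (a * (frobU p k d)⁻¹) (b * (frobU p k b)⁻¹)
      (c * (frobU p k a)⁻¹) (d * (frobU p k c)⁻¹)) = 1 := by
    rw [← mk4_mul, ← mk4_inv, map_mul, map_inv, e1, mul_inv_cancel]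
  obtain ⟨ka, kb, kc, kd, -⟩ := ker_mk4 _ _ _ _ hker
  have hb : frobU p k b = b := (mul_inv_eq_one.1 kb).symm
  have sq : ∀ x y : Kˣ, (x * y⁻¹) ^ 2 = 1 → x ^ 2 = y ^ 2 := by
    intro x y hxy
    rw [mul_pow, inv_pow, mul_inv_eq_one] at hxy
    exact hxy
  have hc2 := sq _ _ kc
  have hd2 := sq _ _ kd
  have h3 := frobU3 p k hK
  -- the cube
  have hg3 : torHom (F := K) chevD4 (mk4 a b c d) ^ 3 ∈ (Psi (K := K) p k).range := by
    have hmu : b * frobU p k b * frobU p k (frobU p k b) ∈ Fqx (K := K) p k := by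
      rw [mem_Fqx_iff p k hq]
      simp only [map_mul, hb]
    have hc' : frobU p k (a * frobU p k d * frobU p k (frobU p k c)) =
        c * frobU p k a * frobU p k (frobU p k d) := by
      simp only [map_mul, h3]
      simp only [mul_comm, mul_left_comm]
    have hd' : frobU p k (frobU p k (a * frobU p k d * frobU p k (frobU p k c))) =
        d * frobU p k c * frobU p k (frobU p k a) := by
      simp only [map_mul, h3]
      simp only [mul_comm, mul_left_comm]
    refine ⟨(a * frobU p k d * frobU p k (frobU p k c),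
      ⟨b * frobU p k b * frobU p k (frobU p k b), hmu⟩), ?_⟩
    have e3 : torHom (F := K) chevD4 (mk4 a b c d) ^ 3 =
        torHom chevD4 (mk4 a b c d) *
          torHom chevD4 (mk4 (frobU p k d) (frobU p k b) (frobU p k a) (frobU p k c)) *
          torHom chevD4 (mk4 (frobU p k (frobU p k c)) (frobU p k (frobU p k b))
            (frobU p k (frobU p k d)) (frobU p k (frobU p k a))) := by
      rw [e2, e1, pow_succ, pow_two]
    rw [Psi_mk, e3, ← map_mul, ← map_mul, mk4_mul, mk4_mul, hd', hc']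
  -- the square
  have hg2 : torHom (F := K) chevD4 (mk4 a b c d) ^ 2 ∈ (Psi (K := K) p k).range := by
    have hmu : b ^ 2 ∈ Fqx (K := K) p k := by
      rw [mem_Fqx_iff p k hq, map_pow, hb]
    have hc' : frobU p k (a ^ 2) = c ^ 2 := by rw [map_pow, hc2]
    have hd' : frobU p k (frobU p k (a ^ 2)) = d ^ 2 := by rw [hc', map_pow, hd2]
    have e3 : torHom (F := K) chevD4 (mk4 a b c d) ^ 2 =
        torHom chevD4 (mk4 (a ^ 2) (b ^ 2) (c ^ 2) (d ^ 2)) := by
      rw [pow_two, ← map_mul, mk4_mul, ← pow_two, ← pow_two, ← pow_two, ← pow_two]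
    refine ⟨(a ^ 2, ⟨b ^ 2, hmu⟩), ?_⟩
    rw [Psi_mk, e3, hd', hc']
  have : torHom (F := K) chevD4 c0 = torHom chevD4 (mk4 a b c d) ^ 3 *
      (torHom chevD4 (mk4 a b c d) ^ 2)⁻¹ := by
    rw [e0]
    group
  rw [this]
  exact mul_mem hg3 (inv_mem hg2)

theorem Psi_injective : Function.Injective (Psi (K := K) p k) := by
  rw [injective_iff_map_eq_one]
  rintro ⟨lam, mu, hmu⟩ h1
  rw [Psi_apply] at h1
  obtain ⟨k1, k2, -, -, k5⟩ := ker_mk4 _ _ _ _ h1
  have hlam : frobU p k lam = lam := by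
    have : (lam : K) ^ 2 = 1 := by
      rw [← Units.val_pow_eq_pow_val, k1, Units.val_one]
    apply Units.ext
    rw [frobU_val]
    rcases sq_eq_one_iff.1 this with h | h
    · rw [h, map_one]
    · rw [h, map_neg, map_one]
  have h3 : lam ^ 3 = 1 := by
    rw [hlam, hlam] at k5
    rw [pow_succ, pow_two]
    exact k5
  have hl1 : lam = 1 := by
    have : lam ^ 2 * lam = lam ^ 2 * 1 := by rw [← pow_succ, h3, k1, mul_one]
    exact mul_left_cancel this
  subst hl1
  subst k2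
  rfl

/-- `|H ∩ ³D₄(q)| = (q - 1)² (q² + q + 1)` -/
theorem card_H1 [Fintype K] (hk : 0 < k) (hp : p.Prime) (hK : Fintype.card K = (p ^ k) ^ 3) :
    Nat.card ↥(chevD4.diagonalSubgroup K ⊓ twistedD4 K (p ^ k)) =
      (p ^ k - 1) ^ 2 * ((p ^ k) ^ 2 + p ^ k + 1) := by
  have hq : 1 ≤ p ^ k := Nat.one_le_pow _ _ hp.pos
  have heq : chevD4.diagonalSubgroup K ⊓ twistedD4 K (p ^ k) = (Psi (K := K) p k).range := by
    apply le_antisymm (le_range p k hq hK)
    rintro _ ⟨x, rfl⟩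
    exact Psi_mem p k hq x
  have hdvd : p ^ k - 1 ∣ Fintype.card K - 1 := by
    rw [hK]
    exact sub_one_dvd_pow_sub_one _ _
  rw [heq, ← Nat.card_congr (MonoidHom.ofInjective (Psi_injective p k)).toEquiv, Nat.card_prod,
    Nat.card_units, Nat.card_eq_fintype_card, card_powKer _ hdvd, hK, cube_sub_one _ hq]
  ring

end Main

end Cfsg.Agent.Helper6.Twist.D4
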