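import Cfsg.Agent.Lib.Helper6.ChevGraphGen

/-!
# Exceptional graph automorphisms of Chevalley groups in characteristic `p` (group level, generic)
-/

set_option autoImplicit false
set_option linter.unusedSectionVars false
set_option linter.unusedVariables false
set_option maxRecDepth 100000

namespace Cfsg.Agent.Helper6.ChevGraph

open Cfsg Cfsg.Lie Cfsg.Agent.Helper18 Cfsg.Agent.Helper6.BlockHom Cfsg.Agent.S1043
open Cfsg.Agent.Helper6.GraphIso Cfsg.Agent.Helper6.G2C3

/-- the generating set -/
def genSet (D : ChevalleyDatum) (K : Type*) [Field K] : Set (GL D.Idx K) :=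
  {g | ∃ (r : Fin D.nroots) (t : K), (g : Matrix D.Idx D.Idx K) = D.xMat K r t}

theorem group_eq (D : ChevalleyDatum) (K : Type*) [Field K] :
    D.group K = Subgroup.closure (genSet D K) := rfl

theorem x_eq_xMat (D : ChevalleyDatum) {K : Type*} [Field K] (r : Fin D.nroots) (t : K) :
    D.x K r.val t = D.xMat K r t := by
  rw [ChevalleyDatum.x, dif_pos r.2]

section

variable {D : ChevalleyDatum} (hD : Good D) {K : Type*} [Field K]

include hD

theorem gen_eq_xU (g : GL D.Idx K) (r : Fin D.nroots) (t : K)
    (h : (g : Matrix D.Idx D.Idx K) = D.xMat K r t) : g = xU D hD r.val t := by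
  apply Units.ext
  rw [h, xU_val, x_eq_xMat]

theorem genSet_inv : ∀ g ∈ genSet D K, g⁻¹ ∈ genSet D K := by
  rintro g ⟨r, t, h⟩
  refine ⟨r, -t, ?_⟩
  rw [gen_eq_xU hD g r t h, xU_inv, xU_val, x_eq_xMat]

/-- root elements as elements of the group -/
noncomputable def xG (r : ℕ) (t : K) : ↥(D.group K) :=
  ⟨xU D hD r t, xU_mem_group D hD r t⟩

theorem xG_val (r : ℕ) (t : K) :
    (((xG hD r t : ↥(D.group K)) : GL D.Idx K) : Matrix D.Idx D.Idx K) = D.x K r t := rfl

/-- the set of the root elements in the group -/
def Sg (K : Type*) [Field K] : Set ↥(D.group K) := {g | ∃ (r : Fin D.nroots) (t : K), g = xG hD r.val t}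

theorem closure_Sg : Subgroup.closure (Sg hD K) = ⊤ := by
  rw [eq_top_iff]
  rintro ⟨g, hg⟩ _
  have key : ∀ x (hx : x ∈ Subgroup.closure (genSet D K)),
      (⟨x, hx⟩ : ↥(D.group K)) ∈ Subgroup.closure (Sg hD K) := by
    intro x hx
    induction hx using Subgroup.closure_induction with
    | mem y hy =>
      obtain ⟨r, t, h⟩ := hy
      apply Subgroup.subset_closure
      refine ⟨r, t, ?_⟩
      apply Subtype.ext
      exact gen_eq_xU hD y r t h
    | one => exact Subgroup.one_mem _
    | mul y z hy hz ihy ihz => exact Subgroup.mul_mem _ ihy ihz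
    | inv y hy ihy => exact Subgroup.inv_mem _ ihy
  exact key g hg

end

section

variable {D : ChevalleyDatum} {p m : ℕ} (dat : Data D p m) (hD : Good D) (hp : p ≠ 0)
  {K : Type*} [Field K] [CharP K p]

include hD hp

theorem b21_group : ∀ g ∈ D.group K, b21 dat.e (g : Matrix D.Idx D.Idx K) = 0 := by
  rw [group_eq]
  apply b21_eq_zero_of_mem_closure dat.e (genSet D K) (genSet_inv hD)
  rintro g ⟨r, t, h⟩
  rw [h]
  exact (blk_x dat hp r t).1

/-- the action on the ideal -/
def phi1 : ↥(D.group K) →* Matrix (Fin m) (Fin m) K := hom11 dat.e _ (b21_group dat hD hp)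
/-- the action on the quotient -/
def phi2 : ↥(D.group K) →* Matrix (Fin m) (Fin m) K := hom22 dat.e _ (b21_group dat hD hp)

theorem phi1_apply (g : ↥(D.group K)) :
    phi1 dat hD hp g = b11 dat.e ((g : GL D.Idx K) : Matrix D.Idx D.Idx K) := rfl

theorem phi2_apply (g : ↥(D.group K)) :
    phi2 dat hD hp g = b22 dat.e ((g : GL D.Idx K) : Matrix D.Idx D.Idx K) := rfl

theorem phi2_xG (r : Fin D.nroots) (t : K) :
    phi2 dat hD hp (xG hD r.val t) =
      phi1 dat hD hp (xG hD (dat.sig r.val) (if dat.short r.val then t ^ p else t)) := by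
  change b22 dat.e (D.x K r.val t) = b11 dat.e (D.x K (dat.sig r.val) _)
  rw [x_eq_xMat D r t, x_eq_xMat D ⟨dat.sig r.val, dat.sig_lt r⟩]
  exact (blk_x dat hp r t).2

/-- **the graph automorphism**, given the injectivity of the two constituents -/
theorem exists_graph_aut (h1 : Function.Injective (phi1 dat hD hp (K := K)))
    (h2 : Function.Injective (phi2 dat hD hp (K := K)))
    (hperf : ∀ x : K, ∃ y : K, y ^ p = x) :
    ∃ α : ↥(D.group K) ≃* ↥(D.group K), ∀ (r : Fin D.nroots) (t : K),
      α (xG hD r.val t) = xG hD (dat.sig r.val) (if dat.short r.val then t ^ p else t) := by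
  obtain ⟨α, hα⟩ := exists_mulEquiv_of_graph' (phi1 dat hD hp (K := K)) (phi2 dat hD hp) h1 h2
    (Sg hD K) (Sg hD K) (closure_Sg hD) (closure_Sg hD)
    (by
      rintro s ⟨r, t, rfl⟩
      exact ⟨_, phi2_xG dat hD hp r t⟩)
    (by
      rintro s ⟨r, t, rfl⟩
      have hr : dat.sig r.val < D.nroots := dat.sig_lt r
      by_cases hs : dat.short (dat.sig r.val) = true
      · obtain ⟨y, hy⟩ := hperf t
        refine ⟨xG hD (dat.sig r.val) y, ?_⟩
        have := phi2_xG dat hD hp (K := K) ⟨dat.sig r.val, hr⟩ y
        change phi2 dat hD hp (xG hD (dat.sig r.val) y) = phi1 dat hD hp (xG hD (dat.sig (dat.sig r.val))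
          (if dat.short (dat.sig r.val) then y ^ p else y)) at this
        rw [this, dat.sig_sig r, if_pos hs, hy]
      · refine ⟨xG hD (dat.sig r.val) t, ?_⟩
        have := phi2_xG dat hD hp (K := K) ⟨dat.sig r.val, hr⟩ t
        change phi2 dat hD hp (xG hD (dat.sig r.val) t) = phi1 dat hD hp (xG hD (dat.sig (dat.sig r.val))
          (if dat.short (dat.sig r.val) then t ^ p else t)) at this
        rw [this, dat.sig_sig r, if_neg hs])
  refine ⟨α, fun r t => ?_⟩
  apply h1
  rw [← hα, phi2_xG]

/-- the value of the automorphism on a root element given as a matrix -/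
theorem aut_apply
    (α : ↥(D.group K) ≃* ↥(D.group K))
    (hα : ∀ (r : Fin D.nroots) (t : K),
      α (xG hD r.val t) = xG hD (dat.sig r.val) (if dat.short r.val then t ^ p else t))
    (r : ℕ) (hr : r < D.nroots) (r' : ℕ) (u : K → K) (hr' : dat.sig r = r')
    (hu : ∀ t : K, (if dat.short r then t ^ p else t) = u t)
    (g : ↥(D.group K)) (t : K)
    (h : ((g : GL D.Idx K) : Matrix D.Idx D.Idx K) = D.x K r t) :
    ((α g : GL D.Idx K) : Matrix D.Idx D.Idx K) = D.x K r' (u t) := by
  have hg : g = xG hD r t := Subtype.ext (Units.ext h)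
  rw [hg, hα ⟨r, hr⟩ t]
  change D.x K (dat.sig r) (if dat.short r then t ^ p else t) = _
  rw [hr', hu]

end

/-! ### change of the field -/

section

variable {D : ChevalleyDatum} {K L : Type*} [Field K] [Field L] (f : K →+* L)

theorem xMat_map (r : Fin D.nroots) (t : K) : (D.xMat K r t).map f = D.xMat L r (f t) := by
  ext row col
  rw [Matrix.map_apply]
  rcases col with i | s
  · rcases row with i' | u
    · simp only [ChevalleyDatum.xMat, Matrix.of_apply]
      split_ifs <;> simp
    · simp only [ChevalleyDatum.xMat, Matrix.of_apply]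
      split_ifs <;> simp
  · rcases row with i' | u
    · simp only [ChevalleyDatum.xMat, Matrix.of_apply]
      split_ifs <;> simp
    · simp only [ChevalleyDatum.xMat, Matrix.of_apply]
      split_ifs <;> simp [map_list_sum, List.map_map, Function.comp_def]

/-- the map of general linear groups induced by a homomorphism of fields -/
def glMap : GL D.Idx K →* GL D.Idx L := Units.map (RingHom.mapMatrix f).toMonoidHom

theorem glMap_val (g : GL D.Idx K) :
    ((glMap (D := D) f g : GL D.Idx L) : Matrix D.Idx D.Idx L) = (g : Matrix D.Idx D.Idx K).map f := rfl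

theorem glMap_injective : Function.Injective (glMap (D := D) f) := by
  intro g h hgh
  apply Units.ext
  have := congrArg (fun x : GL D.Idx L => (x : Matrix D.Idx D.Idx L)) hgh
  simp only [glMap_val] at this
  ext i j
  have h2 := congrFun (congrFun this i) j
  rw [Matrix.map_apply, Matrix.map_apply] at h2
  exact f.injective h2

theorem glMap_mem : ∀ g ∈ D.group K, glMap (D := D) f g ∈ D.group L := by
  have : D.group K ≤ (D.group L).comap (glMap (D := D) f) := by
    rw [group_eq D K, Subgroup.closure_le]
    rintro g ⟨r, t, h⟩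
    change glMap f g ∈ D.group L
    apply Subgroup.subset_closure
    refine ⟨r, f t, ?_⟩
    rw [glMap_val, h, xMat_map]
  exact fun g hg => this hg

/-- the embedding of the Chevalley groups -/
def iota : ↥(D.group K) →* ↥(D.group L) :=
  ((glMap (D := D) f).comp (D.group K).subtype).codRestrict (D.group L)
    (fun g => glMap_mem (D := D) f g.1 g.2)

theorem iota_val (g : ↥(D.group K)) :
    (((iota f g : ↥(D.group L)) : GL D.Idx L) : Matrix D.Idx D.Idx L) =
      ((g : GL D.Idx K) : Matrix D.Idx D.Idx K).map f := rfl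

theorem iota_injective : Function.Injective (iota (D := D) f) := by
  intro g h hgh
  apply Subtype.ext
  apply glMap_injective f
  exact congrArg Subtype.val hgh

end

section

variable {D : ChevalleyDatum} {p m : ℕ} (dat : Data D p m) (hD : Good D) (hp : p ≠ 0)
  {K L : Type*} [Field K] [CharP K p] [Field L] [CharP L p] (f : K →+* L)

theorem phi1_iota (g : ↥(D.group K)) :
    phi1 dat hD hp (iota f g) = (phi1 dat hD hp g).map f := rfl

theorem phi2_iota (g : ↥(D.group K)) :
    phi2 dat hD hp (iota f g) = (phi2 dat hD hp g).map f := rfl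

theorem injective_of_hom {G M : Type*} [Group G] [Monoid M] (φ : G →* M)
    (h : ∀ g, φ g = 1 → g = 1) : Function.Injective φ := by
  intro a b hab
  have h1 : φ (a * b⁻¹) = 1 := by
    have h2 : φ (a * b⁻¹) = φ (b * b⁻¹) := by rw [map_mul, map_mul, hab]
    rw [h2, mul_inv_cancel, map_one]
  exact mul_inv_eq_one.1 (h _ h1)

include f in
theorem phi1_inj_of_ext (h : Function.Injective (phi1 dat hD hp (K := L))) :
    Function.Injective (phi1 dat hD hp (K := K)) := by
  apply injective_of_hom
  intro g hg
  apply iota_injective f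
  apply h
  rw [phi1_iota, hg, map_one, map_one]
  ext i j
  rw [Matrix.map_apply]
  by_cases hij : i = j
  · subst hij; simp
  · rw [Matrix.one_apply_ne hij, Matrix.one_apply_ne hij, map_zero]

include f in
theorem phi2_inj_of_ext (h : Function.Injective (phi2 dat hD hp (K := L))) :
    Function.Injective (phi2 dat hD hp (K := K)) := by
  apply injective_of_hom
  intro g hg
  apply iota_injective f
  apply h
  rw [phi2_iota, hg, map_one, map_one]
  ext i j
  rw [Matrix.map_apply]
  by_cases hij : i = j
  · subst hij; simp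
  · rw [Matrix.one_apply_ne hij, Matrix.one_apply_ne hij, map_zero]

end

end Cfsg.Agent.Helper6.ChevGraph
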