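import Mathlib

/-!
# An isomorphism from two injective homomorphisms agreeing on generators

If `f₁ f₂ : G →* M` are injective, `S` generates `G`, `τ '' S` generates `G` and `f₂ s = f₁ (τ s)` on `S`,
then there is an automorphism `α` of `G` with `α s = τ s` on `S`.
-/

set_option autoImplicit false

namespace Cfsg.Agent.Helper6.GraphIso

variable {G M : Type*} [Group G] [Monoid M]

theorem injective_of_simple [IsSimpleGroup G] (f : G →* M) (h : ∃ g, f g ≠ 1) :
    Function.Injective f := by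
  have hk : f.ker = ⊥ := by
    rcases (f.normal_ker).eq_bot_or_eq_top with e | e
    · exact e
    · exfalso
      obtain ⟨g, hg⟩ := h
      apply hg
      have : g ∈ f.ker := by rw [e]; exact Subgroup.mem_top g
      exact (MonoidHom.mem_ker).1 this
  intro a b hab
  have h1 : f (a * b⁻¹) = 1 := by
    have h2 : f (a * b⁻¹) = f (b * b⁻¹) := by rw [map_mul, map_mul, hab]
    rw [h2, mul_inv_cancel, map_one]
  have h3 : a * b⁻¹ ∈ f.ker := (MonoidHom.mem_ker).2 h1
  rw [hk, Subgroup.mem_bot] at h3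
  exact mul_inv_eq_one.1 h3

/-- the graph relation is a subgroup of the product -/
def graphSub (f₁ f₂ : G →* M) : Subgroup (G × G) where
  carrier := {p | f₂ p.1 = f₁ p.2}
  mul_mem' := by
    intro p q hp hq
    change f₂ (p.1 * q.1) = f₁ (p.2 * q.2)
    rw [map_mul, map_mul, hp, hq]
  one_mem' := by
    change f₂ 1 = f₁ 1
    rw [map_one, map_one]
  inv_mem' := by
    intro p hp
    change f₂ p.1⁻¹ = f₁ p.2⁻¹
    have hp' : f₂ p.1 = f₁ p.2 := hp
    calc f₂ p.1⁻¹ = f₂ p.1⁻¹ * (f₁ p.2 * f₁ p.2⁻¹) := by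
          rw [← map_mul, mul_inv_cancel, map_one, mul_one]
      _ = (f₂ p.1⁻¹ * f₂ p.1) * f₁ p.2⁻¹ := by rw [hp', mul_assoc]
      _ = f₁ p.2⁻¹ := by rw [← map_mul, inv_mul_cancel, map_one, one_mul]

theorem mem_graphSub (f₁ f₂ : G →* M) (p : G × G) : p ∈ graphSub f₁ f₂ ↔ f₂ p.1 = f₁ p.2 := Iff.rfl

theorem exists_mulEquiv_of_graph (f₁ f₂ : G →* M)
    (h₁ : Function.Injective f₁) (h₂ : Function.Injective f₂)
    (S : Set G) (τ : G → G) (hS : Subgroup.closure S = ⊤) (hτS : Subgroup.closure (τ '' S) = ⊤)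
    (hτ : ∀ s ∈ S, f₂ s = f₁ (τ s)) :
    ∃ α : G ≃* G, ∀ s ∈ S, α s = τ s := by
  classical
  have hex1 : ∀ g : G, ∃ g', f₂ g = f₁ g' := by
    intro g
    have hg : g ∈ Subgroup.closure S := by rw [hS]; exact Subgroup.mem_top g
    induction hg using Subgroup.closure_induction with
    | mem x hx => exact ⟨τ x, hτ x hx⟩
    | one => exact ⟨1, by rw [map_one, map_one]⟩
    | mul x y _ _ ihx ihy =>
      obtain ⟨x', hx'⟩ := ihx
      obtain ⟨y', hy'⟩ := ihy
      exact ⟨x' * y', by rw [map_mul, map_mul, hx', hy']⟩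
    | inv x _ ihx =>
      obtain ⟨x', hx'⟩ := ihx
      exact ⟨x'⁻¹, (graphSub f₁ f₂).inv_mem (show (x, x') ∈ graphSub f₁ f₂ from hx')⟩
  have hex2 : ∀ g' : G, ∃ g, f₂ g = f₁ g' := by
    intro g'
    have hg : g' ∈ Subgroup.closure (τ '' S) := by rw [hτS]; exact Subgroup.mem_top g'
    induction hg using Subgroup.closure_induction with
    | mem x hx =>
      obtain ⟨s, hs, rfl⟩ := hx
      exact ⟨s, hτ s hs⟩
    | one => exact ⟨1, by rw [map_one, map_one]⟩
    | mul x y _ _ ihx ihy =>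
      obtain ⟨x', hx'⟩ := ihx
      obtain ⟨y', hy'⟩ := ihy
      exact ⟨x' * y', by rw [map_mul, map_mul, hx', hy']⟩
    | inv x _ ihx =>
      obtain ⟨x', hx'⟩ := ihx
      exact ⟨x'⁻¹, (graphSub f₁ f₂).inv_mem (show (x', x) ∈ graphSub f₁ f₂ from hx')⟩
  choose a ha using hex1
  have hmul : ∀ x y, a (x * y) = a x * a y := by
    intro x y
    apply h₁
    rw [← ha, map_mul, map_mul, ha x, ha y]
  let αh : G →* G := MonoidHom.mk' a hmul
  have hinj : Function.Injective αh := by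
    intro x y hxy
    apply h₂
    have hxy' : a x = a y := hxy
    rw [ha x, ha y, hxy']
  have hsurj : Function.Surjective αh := by
    intro g'
    obtain ⟨g, hg⟩ := hex2 g'
    refine ⟨g, ?_⟩
    apply h₁
    change f₁ (a g) = f₁ g'
    rw [← ha, hg]
  refine ⟨MulEquiv.ofBijective αh ⟨hinj, hsurj⟩, ?_⟩
  intro s hs
  apply h₁
  change f₁ (a s) = f₁ (τ s)
  rw [← ha, hτ s hs]

/-- variant: the generators only need partners, and the conclusion is the graph property -/
theorem exists_mulEquiv_of_graph' (f₁ f₂ : G →* M)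
    (h₁ : Function.Injective f₁) (h₂ : Function.Injective f₂)
    (S S' : Set G) (hS : Subgroup.closure S = ⊤) (hS' : Subgroup.closure S' = ⊤)
    (hτ : ∀ s ∈ S, ∃ s', f₂ s = f₁ s') (hτ' : ∀ s' ∈ S', ∃ s, f₂ s = f₁ s') :
    ∃ α : G ≃* G, ∀ g, f₂ g = f₁ (α g) := by
  classical
  have hex1 : ∀ g : G, ∃ g', f₂ g = f₁ g' := by
    intro g
    have hg : g ∈ Subgroup.closure S := by rw [hS]; exact Subgroup.mem_top g
    induction hg using Subgroup.closure_induction with
    | mem x hx => exact hτ x hx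
    | one => exact ⟨1, by rw [map_one, map_one]⟩
    | mul x y _ _ ihx ihy =>
      obtain ⟨x', hx'⟩ := ihx
      obtain ⟨y', hy'⟩ := ihy
      exact ⟨x' * y', by rw [map_mul, map_mul, hx', hy']⟩
    | inv x _ ihx =>
      obtain ⟨x', hx'⟩ := ihx
      exact ⟨x'⁻¹, (graphSub f₁ f₂).inv_mem (show (x, x') ∈ graphSub f₁ f₂ from hx')⟩
  have hex2 : ∀ g' : G, ∃ g, f₂ g = f₁ g' := by
    intro g'
    have hg : g' ∈ Subgroup.closure S' := by rw [hS']; exact Subgroup.mem_top g'
    induction hg using Subgroup.closure_induction with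
    | mem x hx => exact hτ' x hx
    | one => exact ⟨1, by rw [map_one, map_one]⟩
    | mul x y _ _ ihx ihy =>
      obtain ⟨x', hx'⟩ := ihx
      obtain ⟨y', hy'⟩ := ihy
      exact ⟨x' * y', by rw [map_mul, map_mul, hx', hy']⟩
    | inv x _ ihx =>
      obtain ⟨x', hx'⟩ := ihx
      exact ⟨x'⁻¹, (graphSub f₁ f₂).inv_mem (show (x', x) ∈ graphSub f₁ f₂ from hx')⟩
  choose a ha using hex1
  have hmul : ∀ x y, a (x * y) = a x * a y := by
    intro x y
    apply h₁
    rw [← ha, map_mul, map_mul, ha x, ha y]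
  let αh : G →* G := MonoidHom.mk' a hmul
  have hinj : Function.Injective αh := by
    intro x y hxy
    apply h₂
    have hxy' : a x = a y := hxy
    rw [ha x, ha y, hxy']
  have hsurj : Function.Surjective αh := by
    intro g'
    obtain ⟨g, hg⟩ := hex2 g'
    refine ⟨g, ?_⟩
    apply h₁
    change f₁ (a g) = f₁ g'
    rw [← ha, hg]
  exact ⟨MulEquiv.ofBijective αh ⟨hinj, hsurj⟩, fun g => ha g⟩

end Cfsg.Agent.Helper6.GraphIso
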