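import Cfsg.Agent.Lib.Helper6.G2Char3B
import Cfsg.Agent.Lib.Helper6.GraphIso
import Cfsg.Agent.S1055

/-!
# `G₂` in characteristic 3: the graph automorphism
-/

set_option autoImplicit false
set_option linter.unusedSectionVars false
set_option linter.unusedVariables false
set_option maxRecDepth 100000

namespace Cfsg.Agent.Helper6.G2C3

open Cfsg Cfsg.Lie Cfsg.Agent.Helper18 Cfsg.Agent.Helper6.BlockHom Cfsg.Agent.S1043
open Cfsg.Agent.Helper6.GraphIso

theorem goodG2 : Good chevG2 := by simp [Good]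

section

variable {K : Type*} [Field K] [CharP K 3]

/-- the generating set -/
def genSet (K : Type*) [Field K] : Set (GL chevG2.Idx K) :=
  {g | ∃ (r : Fin chevG2.nroots) (t : K), (g : Matrix chevG2.Idx chevG2.Idx K) = chevG2.xMat K r t}

theorem group_eq : chevG2.group K = Subgroup.closure (genSet K) := rfl

theorem x_eq_xMat (r : Fin chevG2.nroots) (t : K) : chevG2.x K r.val t = chevG2.xMat K r t := by
  rw [ChevalleyDatum.x, dif_pos r.2]

theorem gen_eq_xU (g : GL chevG2.Idx K) (r : Fin chevG2.nroots) (t : K)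
    (h : (g : Matrix chevG2.Idx chevG2.Idx K) = chevG2.xMat K r t) : g = xU chevG2 goodG2 r.val t := by
  apply Units.ext
  rw [h, xU_val, x_eq_xMat]

theorem genSet_inv : ∀ g ∈ genSet K, g⁻¹ ∈ genSet K := by
  rintro g ⟨r, t, h⟩
  refine ⟨r, -t, ?_⟩
  rw [gen_eq_xU g r t h, xU_inv, xU_val, x_eq_xMat]

theorem b21_group : ∀ g ∈ chevG2.group K, b21 eIdx (g : Matrix chevG2.Idx chevG2.Idx K) = 0 := by
  rw [group_eq]
  apply b21_eq_zero_of_mem_closure eIdx (genSet K) genSet_inv
  rintro g ⟨r, t, h⟩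
  rw [h]
  exact (blk_x r t).1

/-- the action on the ideal -/
def phi1 : ↥(chevG2.group K) →* Matrix (Fin 7) (Fin 7) K := hom11 eIdx _ b21_group
/-- the action on the quotient -/
def phi2 : ↥(chevG2.group K) →* Matrix (Fin 7) (Fin 7) K := hom22 eIdx _ b21_group

/-- root elements as elements of the group -/
noncomputable def xG (r : ℕ) (t : K) : ↥(chevG2.group K) :=
  ⟨xU chevG2 goodG2 r t, xU_mem_group chevG2 goodG2 r t⟩

theorem phi2_xG (r : Fin chevG2.nroots) (t : K) :
    phi2 (xG r.val t) = phi1 (xG (sig r.val) (if isShort r.val then t ^ 3 else t)) := by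
  change b22 eIdx (chevG2.x K r.val t) = b11 eIdx (chevG2.x K (sig r.val) _)
  rw [x_eq_xMat r t, x_eq_xMat ⟨sig r.val, sig_lt r⟩]
  exact (blk_x r t).2

/-- the set of the root elements in the group -/
def Sg (K : Type*) [Field K] : Set ↥(chevG2.group K) := {g | ∃ (r : Fin chevG2.nroots) (t : K), g = xG r.val t}

theorem closure_Sg : Subgroup.closure (Sg K) = ⊤ := by
  rw [eq_top_iff]
  rintro ⟨g, hg⟩ _
  have key : ∀ x (hx : x ∈ Subgroup.closure (genSet K)),
      (⟨x, hx⟩ : ↥(chevG2.group K)) ∈ Subgroup.closure (Sg K) := by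
    intro x hx
    induction hx using Subgroup.closure_induction with
    | mem y hy =>
      obtain ⟨r, t, h⟩ := hy
      apply Subgroup.subset_closure
      refine ⟨r, t, ?_⟩
      apply Subtype.ext
      exact gen_eq_xU y r t h
    | one => exact Subgroup.one_mem _
    | mul y z hy hz ihy ihz => exact Subgroup.mul_mem _ ihy ihz
    | inv y hy ihy => exact Subgroup.inv_mem _ ihy
  exact key g hg

theorem hF3 : ∃ a : K, a ≠ 0 ∧ a ≠ 1 := by
  refine ⟨-1, neg_ne_zero.2 one_ne_zero, ?_⟩
  intro h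
  have h2 : (2 : K) = 0 := by
    have : (1 : K) + 1 = 0 := by
      nth_rewrite 1 [← h]
      exact neg_add_cancel 1
    rw [← this]; norm_num
  have h3 : ((2 : ℕ) : K) = 0 := by exact_mod_cast h2
  have := (CharP.cast_eq_zero_iff K 3 2).1 h3
  omega

theorem simpleG2 : IsSimpleGroup ↥(chevG2.group K) := (Cfsg.Agent.S1055.result hF3).1

theorem phi1_ne : phi1 (xG 7 (1 : K)) ≠ 1 := by
  intro h
  have h1 := congrFun (congrFun h 4) 0
  change chevG2.x K 7 1 (i1 4) (i1 0) = (1 : Matrix (Fin 7) (Fin 7) K) 4 0 at h1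
  rw [x_eq_xMat ⟨7, by decide⟩ 1, Matrix.one_apply_ne (by decide)] at h1
  have h2 : chevG2.xMat K ⟨7, by decide⟩ 1 (i1 4) (i1 0) = -2 := by
    have e1 : (1 : K) = LP.eval (1 : Kˣ) 1 tA := by rw [eval_tA]; rfl
    have e2 : svlp (xColSpec chevG2 7 tA (c1 0)) (c1 4) = [(-2, 1, 0)] := by decide +kernel
    rw [e1, entry_unit, code_i1, code_i1, e2]
    simp [LP.eval, LP.evalMono]
  rw [h2] at h1
  have h3 : ((2 : ℕ) : K) = 0 := by
    have : (2 : K) = 0 := by linear_combination -h1
    exact_mod_cast this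
  have := (CharP.cast_eq_zero_iff K 3 2).1 h3
  omega

theorem phi1_inj : Function.Injective (phi1 (K := K)) :=
  haveI := simpleG2 (K := K)
  injective_of_simple (M := Matrix (Fin 7) (Fin 7) K) phi1 ⟨_, phi1_ne⟩

theorem phi2_inj : Function.Injective (phi2 (K := K)) := by
  haveI := simpleG2 (K := K)
  apply injective_of_simple (M := Matrix (Fin 7) (Fin 7) K) phi2
  refine ⟨xG 6 1, ?_⟩
  have := phi2_xG (K := K) ⟨6, by decide⟩ 1
  have e : (if isShort 6 then (1 : K) ^ 3 else 1) = 1 := by simp [isShort]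
  change phi2 (xG 6 1) = phi1 (xG (sig 6) (if isShort 6 then (1 : K) ^ 3 else 1)) at this
  rw [this, e]
  exact phi1_ne

theorem sig_sig : ∀ r : Fin 12, sig (sig r.val) = r.val := by decide

/-- **the graph automorphism of `G₂` in characteristic 3** -/
theorem exists_graph_aut (hperf : ∀ x : K, ∃ y : K, y ^ 3 = x) :
    ∃ α : ↥(chevG2.group K) ≃* ↥(chevG2.group K), ∀ (r : Fin chevG2.nroots) (t : K),
      α (xG r.val t) = xG (sig r.val) (if isShort r.val then t ^ 3 else t) := by
  obtain ⟨α, hα⟩ := exists_mulEquiv_of_graph' (phi1 (K := K)) phi2 phi1_inj phi2_inj (Sg K) (Sg K)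
    closure_Sg closure_Sg
    (by
      rintro s ⟨r, t, rfl⟩
      exact ⟨_, phi2_xG r t⟩)
    (by
      rintro s ⟨r, t, rfl⟩
      have hr : sig r.val < 12 := sig_lt r
      by_cases hs : isShort (sig r.val) = true
      · obtain ⟨y, hy⟩ := hperf t
        refine ⟨xG (sig r.val) y, ?_⟩
        have := phi2_xG (K := K) ⟨sig r.val, hr⟩ y
        change phi2 (xG (sig r.val) y) = phi1 (xG (sig (sig r.val)) (if isShort (sig r.val) then y ^ 3 else y)) at this
        rw [this, sig_sig r, if_pos hs, hy]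
      · refine ⟨xG (sig r.val) t, ?_⟩
        have := phi2_xG (K := K) ⟨sig r.val, hr⟩ t
        change phi2 (xG (sig r.val) t) = phi1 (xG (sig (sig r.val)) (if isShort (sig r.val) then t ^ 3 else t)) at this
        rw [this, sig_sig r, if_neg hs])
  refine ⟨α, fun r t => ?_⟩
  apply phi1_inj
  rw [← hα, phi2_xG]

end

end Cfsg.Agent.Helper6.G2C3

namespace Cfsg.Agent.Helper6.G2C3

open Cfsg Cfsg.Lie Cfsg.Agent.S1043

/-- the value of the automorphism on a root element given as a matrix -/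
theorem aut_apply {K : Type*} [Field K] [CharP K 3]
    (α : ↥(chevG2.group K) ≃* ↥(chevG2.group K))
    (hα : ∀ (r : Fin chevG2.nroots) (t : K),
      α (xG r.val t) = xG (sig r.val) (if isShort r.val then t ^ 3 else t))
    (r : ℕ) (hr : r < 12) (r' : ℕ) (u : K → K) (hr' : sig r = r')
    (hu : ∀ t : K, (if isShort r then t ^ 3 else t) = u t)
    (g : ↥(chevG2.group K)) (t : K)
    (h : ((g : GL chevG2.Idx K) : Matrix chevG2.Idx chevG2.Idx K) = chevG2.x K r t) :
    ((α g : GL chevG2.Idx K) : Matrix chevG2.Idx chevG2.Idx K) = chevG2.x K r' (u t) := by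
  have hg : g = xG r t := Subtype.ext (Units.ext h)
  rw [hg, hα ⟨r, hr⟩ t]
  change chevG2.x K (sig r) (if isShort r then t ^ 3 else t) = _
  rw [hr', hu]

end Cfsg.Agent.Helper6.G2C3
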