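import Cfsg.Agent.Lib.Helper6.SzOvoid

set_option autoImplicit false

namespace Cfsg.Agent.Helper6

open Cfsg

variable {F : Type*} [Field F] {e : ℕ}

/-- linear core: two proportional nonzero affine directions coincide -/
theorem SzHyp.coreLin (h : SzHyp F e) {u1 v1 u2 v2 g1 g2 : F} (hne1 : ¬ (u1 = 0 ∧ v1 = 0))
    (hne2 : ¬ (u2 = 0 ∧ v2 = 0)) (hne : ¬ (u1 = u2 ∧ v1 = v2))
    (hu : g1 * u1 + g2 * u2 = 0) (hv : g1 * v1 + g2 * v2 = 0)
    (hf : g1 * szf e u1 v1 + g2 * szf e u2 v2 = 0) : g1 = 0 ∧ g2 = 0 := by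
  by_cases hg2 : g2 = 0
  · subst hg2
    simp only [zero_mul, add_zero] at hu hv
    refine ⟨?_, rfl⟩
    by_contra hg1
    exact hne1 ⟨(mul_eq_zero.1 hu).resolve_left hg1, (mul_eq_zero.1 hv).resolve_left hg1⟩
  · exfalso
    set l := -g1 / g2 with hl
    have hu2 : u2 = l * u1 := by
      rw [hl]; field_simp; linear_combination hu
    have hv2 : v2 = l * v1 := by
      rw [hl]; field_simp; linear_combination hv
    have hf2 : szf e u2 v2 = l * szf e u1 v1 := by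
      rw [hl]; field_simp; linear_combination hf
    have hl0 : l ≠ 0 := by
      intro h0
      rw [h0, zero_mul] at hu2 hv2
      exact hne2 ⟨hu2, hv2⟩
    rw [hu2, hv2] at hf2
    have := h.core hne1 hl0 hf2
    rw [this, one_mul] at hu2 hv2
    exact hne ⟨hu2.symm, hv2.symm⟩

/-- affine ovoid vector -/
def ovec (e : ℕ) (x y : F) : Fin 4 → F := ![szf e x y, y, x, 1]

/-- the vector of the point at infinity -/
def oinf : Fin 4 → F := ![1, 0, 0, 0]

/-- linear independence of three vectors, in symmetric form -/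
def LI3 (a b c : Fin 4 → F) : Prop :=
  ∀ g0 g1 g2 : F, g0 • a + g1 • b + g2 • c = 0 → g0 = 0 ∧ g1 = 0 ∧ g2 = 0

theorem LI3.swap01 {a b c : Fin 4 → F} (h : LI3 a b c) : LI3 b a c := by
  intro g0 g1 g2 hs
  have := h g1 g0 g2 (by rw [← hs]; abel)
  exact ⟨this.2.1, this.1, this.2.2⟩

theorem LI3.swap12 {a b c : Fin 4 → F} (h : LI3 a b c) : LI3 a c b := by
  intro g0 g1 g2 hs
  have := h g0 g2 g1 (by rw [← hs]; abel)
  exact ⟨this.1, this.2.2, this.2.1⟩

theorem SzHyp.li_inf (h : SzHyp F e) {x1 y1 x2 y2 : F} (h12 : ¬ (x1 = x2 ∧ y1 = y2)) :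
    LI3 (oinf : Fin 4 → F) (ovec e x1 y1) (ovec e x2 y2) := by
  intro g0 g1 g2 hs
  have c0 := congrFun hs 0
  have c1 := congrFun hs 1
  have c2 := congrFun hs 2
  have c3 := congrFun hs 3
  simp [oinf, ovec] at c0 c1 c2 c3
  have hg : g2 = g1 := (h.eq_of_add_eq_zero c3).symm
  subst hg
  by_cases hg1 : g2 = 0
  · subst hg1
    simp only [zero_mul, add_zero] at c0
    exact ⟨c0, rfl, rfl⟩
  · exfalso
    apply h12
    have hx : g2 * (x1 + x2) = 0 := by linear_combination c2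
    have hy : g2 * (y1 + y2) = 0 := by linear_combination c1
    exact ⟨h.eq_of_add_eq_zero ((mul_eq_zero.1 hx).resolve_left hg1),
      h.eq_of_add_eq_zero ((mul_eq_zero.1 hy).resolve_left hg1)⟩

theorem SzHyp.li_aff (h : SzHyp F e) {x1 y1 x2 y2 x3 y3 : F} (h12 : ¬ (x1 = x2 ∧ y1 = y2))
    (h13 : ¬ (x1 = x3 ∧ y1 = y3)) (h23 : ¬ (x2 = x3 ∧ y2 = y3)) :
    LI3 (ovec e x1 y1) (ovec e x2 y2) (ovec e x3 y3) := by
  intro g1 g2 g3 hs
  have c0 := congrFun hs 0
  have c1 := congrFun hs 1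
  have c2 := congrFun hs 2
  have c3 := congrFun hs 3
  simp [ovec] at c0 c1 c2 c3
  have h2 := h.two
  have e1 : x3 + (x1 + x3) = x1 := by linear_combination x3 * h2
  have e2 : x3 + (x2 + x3) = x2 := by linear_combination x3 * h2
  have e3 : y3 + (y1 + y3) = y1 := by linear_combination y3 * h2
  have e4 : y3 + (y2 + y3) = y2 := by linear_combination y3 * h2
  have T1 := h.translate x3 y3 (x1 + x3) (y1 + y3)
  have T2 := h.translate x3 y3 (x2 + x3) (y2 + y3)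
  rw [e1, e3] at T1
  rw [e2, e4] at T2
  have hu : g1 * (x1 + x3) + g2 * (x2 + x3) = 0 := by
    linear_combination c2 + x3 * c3 - (g3 * x3) * h2
  have hv0 : g1 * (y1 + y3) + g2 * (y2 + y3) = 0 := by
    linear_combination c1 + y3 * c3 - (g3 * y3) * h2
  have hv : g1 * (y1 + y3 + x3 ^ e * (x1 + x3)) + g2 * (y2 + y3 + x3 ^ e * (x2 + x3)) = 0 := by
    linear_combination hv0 + x3 ^ e * hu
  have hf : g1 * szf e (x1 + x3) (y1 + y3 + x3 ^ e * (x1 + x3)) +
      g2 * szf e (x2 + x3) (y2 + y3 + x3 ^ e * (x2 + x3)) = 0 := by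
    linear_combination c0 + (szf e x3 y3) * c3 - (g3 * szf e x3 y3) * h2 - x3 * hv -
      (x3 ^ e * x3 + y3) * hu - g1 * T1 - g2 * T2
  have hne1 : ¬ (x1 + x3 = 0 ∧ y1 + y3 + x3 ^ e * (x1 + x3) = 0) := by
    rintro ⟨ha, hb⟩
    rw [ha, mul_zero, add_zero] at hb
    exact h13 ⟨h.eq_of_add_eq_zero ha, h.eq_of_add_eq_zero hb⟩
  have hne2 : ¬ (x2 + x3 = 0 ∧ y2 + y3 + x3 ^ e * (x2 + x3) = 0) := by
    rintro ⟨ha, hb⟩
    rw [ha, mul_zero, add_zero] at hb
    exact h23 ⟨h.eq_of_add_eq_zero ha, h.eq_of_add_eq_zero hb⟩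
  have hne : ¬ (x1 + x3 = x2 + x3 ∧
      y1 + y3 + x3 ^ e * (x1 + x3) = y2 + y3 + x3 ^ e * (x2 + x3)) := by
    rintro ⟨ha, hb⟩
    rw [ha] at hb
    exact h12 ⟨add_right_cancel ha, add_right_cancel (add_right_cancel hb)⟩
  obtain ⟨hg1, hg2⟩ := h.coreLin hne1 hne2 hne hu hv hf
  refine ⟨hg1, hg2, ?_⟩
  rw [hg1, hg2] at c3
  simpa using c3

/-- the hypotheses hold for fields of order `2^(2m+1)` with `e = 2^(m+1)` -/
theorem szHyp_of_card [Fintype F] {m : ℕ} (hF : Fintype.card F = 2 ^ (2 * m + 1)) :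
    SzHyp F (2 ^ (m + 1)) := by
  have : Fact (Nat.Prime 2) := ⟨Nat.prime_two⟩
  have : CharP F 2 := charP_of_card_eq_prime_pow hF
  refine ⟨?_, ?_, ?_, ?_⟩
  · exact CharP.cast_eq_zero F 2 |> fun h => by simpa using h
  · intro x y
    exact add_pow_char_pow x y 2 (m + 1)
  · intro x
    rw [← pow_mul]
    have : 2 ^ (m + 1) * 2 ^ (m + 1) = Fintype.card F * 2 := by
      rw [hF]; ring
    rw [this, pow_mul, FiniteField.pow_card]
  · positivity

end Cfsg.Agent.Helper6
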