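import Cfsg.Agent.Lib.Helper6.WeylChain

/-!
# Root datum and order certificates for the Weyl group of type B2

Generated data; all checks are kernel computations.
-/

set_option autoImplicit false
set_option maxRecDepth 100000

namespace Cfsg.Agent.Helper6.Weyl.B2

open Matrix

/-- Cartan matrix -/
def cartanA : Mat 2 := !![2, -1;
    -2, 2]

/-- Gram matrix -/
def gramG : Mat 2 := !![2, -2;
    -2, 4]

/-- codes of the positive roots -/
def posCodes : List ℕ := [152, 137, 153, 154]

/-- the datum -/
def datum : Datum 2 := ⟨cartanA, gramG, posCodes.map (decode 2)⟩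

theorem reflMem_ok : reflMemOK cartanA posCodes = true := by decide +kernel

theorem valid : datum.Valid where
  diag := by decide +kernel
  gram := by decide +kernel
  gpos := by decide +kernel
  sq := by decide +kernel
  isom := by decide +kernel
  simple_mem := by decide +kernel
  nonneg := by decide +kernel
  refl_mem := reflMemOK_spec reflMem_ok

/-- the valid datum -/
def vd : VDatum 2 := ⟨datum, valid⟩

/-- orbit certificate for step 0 -/
def cert0 : List ℕ := [137, 135]

/-- orbit certificate for step 1 -/
def cert1 : List ℕ := [153, 137, 135, 119]

theorem step0_ok : stepCertOK cartanA 0 cert0 = true := by decide +kernel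

theorem step1_ok : stepCertOK cartanA 1 cert1 = true := by decide +kernel

theorem chain_ok : chainOK cartanA 0 [cert0, cert1] = true :=
  chainOK_cons step0_ok (chainOK_cons step1_ok (chainOK_nil _ _))

theorem orders_ok : ordersOK cartanA (CoxeterMatrix.B 2) = true := by decide +kernel

theorem card_eq : Nat.card (CoxeterMatrix.B 2).Group = 8 := by
  rw [card_group vd (CoxeterMatrix.B 2) orders_ok [cert0, cert1] rfl chain_ok]
  decide +kernel

theorem cox_ok : ordOK cartanA (List.finRange 2) 4 = true := by decide +kernel

theorem coxeter_order : orderOf ((List.finRange 2).map (CoxeterMatrix.B 2).simple).prod = 4 :=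
  orderOf_coxeter vd (CoxeterMatrix.B 2) orders_ok 4 cox_ok

end Cfsg.Agent.Helper6.Weyl.B2
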