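import Cfsg.Agent.Lib.Helper6.WeylChain

/-!
# Root datum and order certificates for the Weyl group of type E7

Generated data; all checks are kernel computations.
-/

set_option autoImplicit false
set_option maxRecDepth 100000

namespace Cfsg.Agent.Helper6.Weyl.E7

open Matrix

/-- Cartan matrix -/
def cartanA : Mat 7 := !![2, 0, -1, 0, 0, 0, 0;
    0, 2, 0, -1, 0, 0, 0;
    -1, 0, 2, -1, 0, 0, 0;
    0, -1, -1, 2, -1, 0, 0;
    0, 0, 0, -1, 2, -1, 0;
    0, 0, 0, 0, -1, 2, -1;
    0, 0, 0, 0, 0, -1, 2]

/-- Gram matrix -/
def gramG : Mat 7 := !![2, 0, -1, 0, 0, 0, 0;
    0, 2, 0, -1, 0, 0, 0;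
    -1, 0, 2, -1, 0, 0, 0;
    0, -1, -1, 2, -1, 0, 0;
    0, 0, 0, -1, 2, -1, 0;
    0, 0, 0, 0, -1, 2, -1;
    0, 0, 0, 0, 0, -1, 2]

/-- codes of the positive roots -/
def posCodes : List ℕ := [159942792, 144214152, 143231112, 143169672, 143165832, 143165592, 143165577, 160991368, 144279688, 143235208, 143169928, 143169688, 143165833, 161056904, 144283784, 143235464, 143235224, 143169944, 143169929, 161061000, 144284040, 144283800, 143235480, 143235465, 143169945, 161061256, 161061016, 144284056, 143239576, 144284041, 143235481, 161061272, 144288152, 161061257, 144284057, 143239577, 161065368, 144353688, 161061273, 144288153, 143239833, 161130904, 161065369, 144353689, 144288409, 162179480, 161130905, 161065625, 144353945, 162179481, 161131161, 144358041, 162179737, 161135257, 144358057, 162183833, 161135273, 162249369, 162183849, 162249385, 162253481, 162253737, 162253738]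

/-- the datum -/
def datum : Datum 7 := ⟨cartanA, gramG, posCodes.map (decode 7)⟩

theorem reflMem_ok : reflMemOK cartanA posCodes = true := by decide +kernel

theorem valid : datum.Valid where
  diag := by decide +kernel
  gram := by decide +kernel
  gpos := by decide +kernel
  sq := by decide +kernel
  isom := by decide +kernel
  simple_mem := by decide +kernel
  nonneg := by decide +kernel
  refl_mem := reflMemOK_spec reflMem_ok

/-- the valid datum -/
def vd : VDatum 7 := ⟨datum, valid⟩

/-- orbit certificate for step 0 -/
def cert0 : List ℕ := [143165577, 143165575]

/-- orbit certificate for step 1 -/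
def cert1 : List ℕ := [143165592, 143165560]

/-- orbit certificate for step 2 -/
def cert2 : List ℕ := [143166089, 143165321, 143165318]

/-- orbit certificate for step 3 -/
def cert3 : List ℕ := [143191226, 143170746, 143170666, 143169466, 143169386, 143169461, 143169381, 143148906, 143148901, 143147621]

/-- orbit certificate for step 4 -/
def cert4 : List ℕ := [143518906, 143256762, 143240378, 143240314, 143239354, 143239290, 143239350, 143239286, 143222906, 143222902, 142960762, 143221878, 142960758, 142959734, 142943350, 142943286]

/-- orbit certificate for step 5 -/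
def cert5 : List ℕ := [147713210, 144567482, 144370874, 144358586, 144358538, 144357818, 144357770, 144357815, 144357767, 144345482, 144345479, 144148874, 144344711, 144148871, 141003146, 144148103, 141003143, 144135815, 141002375, 144135767, 140990087, 140990039, 140793479, 140793431, 140781143, 140780375, 140780372]

/-- orbit certificate for step 6 -/
def cert6 : List ℕ := [198044858, 164490426, 162393274, 162262202, 162254010, 162253978, 162253498, 162253466, 162253496, 162253464, 162245274, 162245272, 162114202, 162244760, 162114200, 160017050, 162113688, 160017048, 126462618, 162105496, 160016536, 126462616, 162105464, 160008344, 126462104, 160008312, 159877272, 126453912, 159877240, 126453880, 126322840, 159869048, 126322808, 124225688, 159868536, 126314616, 124225656, 159868534, 126314104, 124217464, 126314102, 124216952, 124086392, 124216950, 124085880, 124085878, 124077688, 124077686, 124077656, 124077654, 124077174, 124077142, 124068950, 123937878, 121840726, 88286294]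

theorem step0_ok : stepCertOK cartanA 0 cert0 = true := by decide +kernel

theorem step1_ok : stepCertOK cartanA 1 cert1 = true := by decide +kernel

theorem step2_ok : stepCertOK cartanA 2 cert2 = true := by decide +kernel

theorem step3_ok : stepCertOK cartanA 3 cert3 = true := by decide +kernel

theorem step4_ok : stepCertOK cartanA 4 cert4 = true := by decide +kernel

theorem step5_ok : stepCertOK cartanA 5 cert5 = true := by decide +kernel

theorem step6_ok : stepCertOK cartanA 6 cert6 = true := by decide +kernel

theorem chain_ok : chainOK cartanA 0 [cert0, cert1, cert2, cert3, cert4, cert5, cert6] = true :=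
  chainOK_cons step0_ok (chainOK_cons step1_ok (chainOK_cons step2_ok (chainOK_cons step3_ok (chainOK_cons step4_ok (chainOK_cons step5_ok (chainOK_cons step6_ok (chainOK_nil _ _)))))))

theorem orders_ok : ordersOK cartanA (CoxeterMatrix.E₇) = true := by decide +kernel

theorem card_eq : Nat.card (CoxeterMatrix.E₇).Group = 2903040 := by
  rw [card_group vd (CoxeterMatrix.E₇) orders_ok [cert0, cert1, cert2, cert3, cert4, cert5, cert6] rfl chain_ok]
  decide +kernel

theorem cox_ok : ordOK cartanA (List.finRange 7) 18 = true := by decide +kernel

theorem coxeter_order : orderOf ((List.finRange 7).map (CoxeterMatrix.E₇).simple).prod = 18 :=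
  orderOf_coxeter vd (CoxeterMatrix.E₇) orders_ok 18 cox_ok

end Cfsg.Agent.Helper6.Weyl.E7
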