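import Cfsg.Agent.Lib.Helper6.ChevGraphGrp

/-!
# Exceptional graph automorphisms: nontriviality and injectivity of the two constituents (generic)
-/

set_option autoImplicit false
set_option linter.unusedSectionVars false
set_option linter.unusedVariables false
set_option maxRecDepth 100000

namespace Cfsg.Agent.Helper6.ChevGraph

open Cfsg Cfsg.Lie Cfsg.Agent.Helper18 Cfsg.Agent.Helper6.BlockHom Cfsg.Agent.S1043
open Cfsg.Agent.Helper6.GraphIso Cfsg.Agent.Helper6.G2C3

section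

variable {D : ChevalleyDatum} {p m : ℕ} (dat : Data D p m) (hD : Good D) (hp : p ≠ 0)
  {K : Type*} [Field K] [CharP K p]

theorem phi1_ne_of_entry (r : Fin D.nroots) (i j : Fin m) (hij : i ≠ j) (c : ℤ)
    (hc : svlp (xColSpec D r.val tA (dat.c1 j)) (dat.c1 i) = [(c, 1, 0)]) (hc' : ((c : ℤ) : K) ≠ 0) :
    phi1 dat hD hp (xG hD r.val (1 : K)) ≠ 1 := by
  intro h
  have h1 := congrFun (congrFun h i) j
  change D.x K r.val 1 (dat.e (Sum.inl i)) (dat.e (Sum.inl j)) = (1 : Matrix (Fin m) (Fin m) K) i j at h1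
  rw [x_eq_xMat D r 1, Matrix.one_apply_ne hij] at h1
  have e1 : (1 : K) = LP.eval (1 : Kˣ) 1 tA := by rw [eval_tA']; rfl
  rw [e1, entry_unit, dat.code1, dat.code1, hc] at h1
  apply hc'
  simpa [LP.eval, LP.evalMono] using h1

theorem phi2_ne_of_phi1_ne (r : Fin D.nroots) (h : phi1 dat hD hp (xG hD r.val (1 : K)) ≠ 1) :
    phi2 dat hD hp (xG hD (dat.sig r.val) (1 : K)) ≠ 1 := by
  have h2 := phi2_xG dat hD hp (K := K) ⟨dat.sig r.val, dat.sig_lt r⟩ 1
  have e : (if dat.short (dat.sig r.val) then (1 : K) ^ p else 1) = 1 := by split_ifs <;> simp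
  change phi2 dat hD hp (xG hD (dat.sig r.val) 1) = phi1 dat hD hp (xG hD (dat.sig (dat.sig r.val))
    (if dat.short (dat.sig r.val) then (1 : K) ^ p else 1)) at h2
  rw [h2, e, dat.sig_sig r]
  exact h

theorem inj_of_simple [IsSimpleGroup ↥(D.group K)] (r : Fin D.nroots)
    (h : phi1 dat hD hp (xG hD r.val (1 : K)) ≠ 1) :
    Function.Injective (phi1 dat hD hp (K := K)) ∧ Function.Injective (phi2 dat hD hp (K := K)) :=
  ⟨injective_of_simple (M := Matrix (Fin m) (Fin m) K) _ ⟨_, h⟩,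
   injective_of_simple (M := Matrix (Fin m) (Fin m) K) _ ⟨_, phi2_ne_of_phi1_ne dat hD hp r h⟩⟩

end

end Cfsg.Agent.Helper6.ChevGraph
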