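import Cfsg.Agent.Lib.Helper6.ChevGraphF4B
import Cfsg.Agent.Lib.Helper6.ChevGraphInj
import Cfsg.Agent.S1054

/-!
# The graph automorphism of `F₄` in characteristic 2
-/

set_option autoImplicit false
set_option linter.unusedSectionVars false
set_option linter.unusedVariables false
set_option maxRecDepth 100000

namespace Cfsg.Agent.Helper6.ChevGraph.F4

open Cfsg Cfsg.Lie Cfsg.Agent.Helper18 Cfsg.Agent.Helper6.BlockHom Cfsg.Agent.S1043
open Cfsg.Agent.Helper6.G2C3 Cfsg.Agent.Helper6.ChevGraph

theorem goodF4 : Good chevF4 := by simp [Good]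

theorem two_ne : (2 : ℕ) ≠ 0 := by decide

section

variable {K : Type*} [Field K] [CharP K 2]

theorem phi1_ne : phi1 dat goodF4 two_ne (xG goodF4 33 (1 : K)) ≠ 1 := by
  apply phi1_ne_of_entry dat goodF4 two_ne (K := K) ⟨33, by decide⟩ 0 10 (by decide) 1
  · decide +kernel
  · simp

theorem inj_both : Function.Injective (phi1 dat goodF4 two_ne (K := K)) ∧
      Function.Injective (phi2 dat goodF4 two_ne (K := K)) := by
  have : IsSimpleGroup ↥(chevF4.group K) := (Cfsg.Agent.S1054.result chevF4 (by simp)).1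
  exact inj_of_simple dat goodF4 two_ne ⟨33, by decide⟩ phi1_ne

/-- **the graph automorphism of `F₄` in characteristic 2** -/
theorem exists_aut (hperf : ∀ x : K, ∃ y : K, y ^ 2 = x) :
    ∃ α : ↥(chevF4.group K) ≃* ↥(chevF4.group K), ∀ (r : Fin chevF4.nroots) (t : K),
      α (xG goodF4 r.val t) = xG goodF4 (sig r.val) (if isShort r.val then t ^ 2 else t) :=
  exists_graph_aut dat goodF4 two_ne inj_both.1 inj_both.2 hperf

end

end Cfsg.Agent.Helper6.ChevGraph.F4
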