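import Cfsg.Agent.Lib.Helper6.BNBasic

set_option autoImplicit false

namespace Cfsg.Agent.Helper6

open Cfsg

variable {G : Type*} [Group G] (P : Cfsg.BNPair G)

/-! ### the relation `n⁻¹ * n' ∈ B` on `N` -/

theorem eqv_symm {n n' : G} (h : n⁻¹ * n' ∈ P.B) : n'⁻¹ * n ∈ P.B := by
  have : n'⁻¹ * n = (n⁻¹ * n')⁻¹ := by group
  rw [this]; exact P.B.inv_mem h

theorem eqv_trans {n n' n'' : G} (h : n⁻¹ * n' ∈ P.B) (h' : n'⁻¹ * n'' ∈ P.B) :
    n⁻¹ * n'' ∈ P.B := by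
  have : n⁻¹ * n'' = (n⁻¹ * n') * (n'⁻¹ * n'') := by group
  rw [this]; exact P.B.mul_mem h h'

theorem eqv_mul_left {n n' : G} (m : G) (h : n⁻¹ * n' ∈ P.B) : (m * n)⁻¹ * (m * n') ∈ P.B := by
  have : (m * n)⁻¹ * (m * n') = n⁻¹ * n' := by group
  rw [this]; exact h

theorem eqv_mul_right {n n' m : G} (hn : n ∈ P.N) (hn' : n' ∈ P.N) (hm : m ∈ P.N)
    (h : n⁻¹ * n' ∈ P.B) : (n * m)⁻¹ * (n' * m) ∈ P.B := by
  have : (n * m)⁻¹ * (n' * m) = m⁻¹ * (n⁻¹ * n') * m := by group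
  rw [this]
  exact (conj_mem_T' P hm ⟨h, P.N.mul_mem (P.N.inv_mem hn) hn'⟩).1

theorem eqv_inv {n n' : G} (hn : n ∈ P.N) (hn' : n' ∈ P.N)
    (h : n⁻¹ * n' ∈ P.B) : (n⁻¹)⁻¹ * n'⁻¹ ∈ P.B := by
  have : (n⁻¹)⁻¹ * n'⁻¹ = n * (n'⁻¹ * n) * n⁻¹ := by group
  rw [this]
  exact (conj_mem_T P hn ⟨eqv_symm P h, P.N.mul_mem (P.N.inv_mem hn') hn⟩).1

theorem eqv_SS_mul {s n : G} (hs : s ∈ P.S) (hn : n ∈ P.N) : (s * (s * n))⁻¹ * n ∈ P.B := by
  have : (s * (s * n))⁻¹ * n = n⁻¹ * (s * s)⁻¹ * n := by group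
  rw [this]
  exact (conj_mem_T' P hn ((P.B ⊓ P.N).inv_mem (sq_mem_T P hs))).1

theorem eqv_Sinv_mul {s n : G} (hs : s ∈ P.S) (hn : n ∈ P.N) : (s⁻¹ * n)⁻¹ * (s * n) ∈ P.B := by
  have : (s⁻¹ * n)⁻¹ * (s * n) = n⁻¹ * (s * s) * n := by group
  rw [this]
  exact (conj_mem_T' P hn (sq_mem_T P hs)).1

theorem eqv_mul_Sinv {s n : G} (hs : s ∈ P.S) : (n * s⁻¹)⁻¹ * (n * s) ∈ P.B := by
  have : (n * s⁻¹)⁻¹ * (n * s) = s * s := by group
  rw [this]
  exact P.sq_mem s hs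

theorem eqv_mul_SS {s n : G} (hs : s ∈ P.S) : (n * s * s)⁻¹ * n ∈ P.B := by
  have : (n * s * s)⁻¹ * n = (s * s)⁻¹ := by group
  rw [this]
  exact P.B.inv_mem (P.sq_mem s hs)

/-- if `n⁻¹ s n ∈ B` with `n ∈ N` then contradiction -/
theorem not_conj_S_mem_B {s n : G} (hs : s ∈ P.S) (hn : n ∈ P.N) : n⁻¹ * s * n ∉ P.B := by
  intro h
  apply S_not_mem_B P hs
  have h2 := conj_mem_T P hn ⟨h, P.N.mul_mem (P.N.mul_mem (P.N.inv_mem hn) (P.subset hs)) hn⟩
  have : n * (n⁻¹ * s * n) * n⁻¹ = s := by group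
  rw [this] at h2
  exact h2.1

theorem not_S_mul_eqv {s n : G} (hs : s ∈ P.S) (hn : n ∈ P.N) : ¬ (s * n)⁻¹ * n ∈ P.B := by
  intro h
  apply not_conj_S_mem_B P hs hn
  have : n⁻¹ * s * n = ((s * n)⁻¹ * n)⁻¹ := by group
  rw [this]
  exact P.B.inv_mem h

/-! ### words -/

theorem list_prod_mem_N {L : List G} (hL : ∀ x ∈ L, x ∈ P.S) : L.prod ∈ P.N :=
  Subgroup.list_prod_mem _ (fun x hx => P.subset (hL x hx))

/-- `L` is a word in `S` representing the coset `n B` -/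
def Rep (L : List G) (n : G) : Prop := (∀ x ∈ L, x ∈ P.S) ∧ L.prod⁻¹ * n ∈ P.B

theorem Rep.congr {L : List G} {n n' : G} (h : Rep P L n) (hnn : n⁻¹ * n' ∈ P.B) : Rep P L n' :=
  ⟨h.1, eqv_trans P h.2 hnn⟩

theorem Rep.cons {L : List G} {n s : G} (hs : s ∈ P.S) (h : Rep P L n) : Rep P (s :: L) (s * n) := by
  refine ⟨?_, ?_⟩
  · intro x hx
    rcases List.mem_cons.1 hx with rfl | hx
    · exact hs
    · exact h.1 x hx
  · rw [List.prod_cons]
    exact eqv_mul_left P s h.2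

theorem Rep.tail {L : List G} {n s : G} (h : Rep P (s :: L) n) : Rep P L (s⁻¹ * n) := by
  refine ⟨fun x hx => h.1 x (List.mem_cons_of_mem _ hx), ?_⟩
  have h2 := h.2
  rw [List.prod_cons] at h2
  have : L.prod⁻¹ * (s⁻¹ * n) = (s * L.prod)⁻¹ * n := by group
  rw [this]; exact h2

theorem Rep.prod {L : List G} (hL : ∀ x ∈ L, x ∈ P.S) : Rep P L L.prod :=
  ⟨hL, by simp [P.B.one_mem]⟩

theorem Rep.T_mul {L : List G} {n t : G} (ht : t ∈ P.B ⊓ P.N) (h : Rep P L n) : Rep P L (t * n) := by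
  refine ⟨h.1, ?_⟩
  have : L.prod⁻¹ * (t * n) = (L.prod⁻¹ * t * L.prod) * (L.prod⁻¹ * n) := by group
  rw [this]
  exact P.B.mul_mem (conj_mem_T' P (list_prod_mem_N P h.1) ht).1 h.2

theorem Rep.mem_N {L : List G} {n : G} (h : Rep P L n) (hn : n ∈ P.N) :
    L.prod⁻¹ * n ∈ P.B ⊓ P.N :=
  ⟨h.2, P.N.mul_mem (P.N.inv_mem (list_prod_mem_N P h.1)) hn⟩

/-- words in `J` for elements of `closure (J ∪ T)` -/
theorem exists_word_of_mem_closure {J : Set G} (hJ : J ⊆ P.S) {n : G}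
    (hn : n ∈ Subgroup.closure (J ∪ ((P.B ⊓ P.N : Subgroup G) : Set G))) :
    ∃ L : List G, (∀ x ∈ L, x ∈ J) ∧ L.prod⁻¹ * n ∈ P.B := by
  induction hn using Subgroup.closure_induction_left with
  | one => exact ⟨[], by simp, by simp [P.B.one_mem]⟩
  | mul_left x hx y _ ih =>
    obtain ⟨L, hL, hy⟩ := ih
    have hR : Rep P L y := ⟨fun z hz => hJ (hL z hz), hy⟩
    rcases hx with hx | hx
    · refine ⟨x :: L, ?_, (hR.cons P (hJ hx)).2⟩
      intro z hz
      rcases List.mem_cons.1 hz with rfl | hz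
      · exact hx
      · exact hL z hz
    · exact ⟨L, hL, (hR.T_mul P hx).2⟩
  | inv_mul_cancel x hx y _ ih =>
    obtain ⟨L, hL, hy⟩ := ih
    have hR : Rep P L y := ⟨fun z hz => hJ (hL z hz), hy⟩
    rcases hx with hx | hx
    · refine ⟨x :: L, ?_, ?_⟩
      · intro z hz
        rcases List.mem_cons.1 hz with rfl | hz
        · exact hx
        · exact hL z hz
      · have h1 := (hR.cons P (hJ hx)).T_mul P ((P.B ⊓ P.N).inv_mem (sq_mem_T P (hJ hx)))
        have : (x * x)⁻¹ * (x * y) = x⁻¹ * y := by group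
        rw [this] at h1
        exact h1.2
    · exact ⟨L, hL, (hR.T_mul P ((P.B ⊓ P.N).inv_mem hx)).2⟩

theorem exists_word_of_mem_closure' {J : Set G} (hJ : J ⊆ P.S) {n : G}
    (hn : n ∈ Subgroup.closure J) :
    ∃ L : List G, (∀ x ∈ L, x ∈ J) ∧ L.prod⁻¹ * n ∈ P.B :=
  exists_word_of_mem_closure P hJ (Subgroup.closure_mono Set.subset_union_left hn)

theorem exists_rep {n : G} (hn : n ∈ P.N) : ∃ L, Rep P L n := by
  have h : n ∈ Subgroup.closure (P.S ∪ ((P.B ⊓ P.N : Subgroup G) : Set G)) := by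
    rw [Subgroup.closure_union, Subgroup.closure_eq, P.closure_sup]; exact hn
  obtain ⟨L, hL, h⟩ := exists_word_of_mem_closure P (le_refl _) h
  exact ⟨L, hL, h⟩

/-! ### length -/

/-- the length of (the coset of) `n` with respect to `S` -/
noncomputable def len (n : G) : ℕ := sInf {k | ∃ L, Rep P L n ∧ L.length = k}

theorem len_le_of_rep {L : List G} {n : G} (h : Rep P L n) : len P n ≤ L.length :=
  Nat.sInf_le ⟨L, h, rfl⟩

theorem exists_rep_len {n : G} (hn : n ∈ P.N) : ∃ L, Rep P L n ∧ L.length = len P n := by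
  obtain ⟨L, hL⟩ := exists_rep P hn
  have hne : {k | ∃ L, Rep P L n ∧ L.length = k}.Nonempty := ⟨L.length, L, hL, rfl⟩
  exact Nat.sInf_mem hne

theorem len_congr {n n' : G} (h : n⁻¹ * n' ∈ P.B) : len P n = len P n' := by
  unfold len
  congr 1
  ext k
  constructor
  · rintro ⟨L, hL, rfl⟩; exact ⟨L, hL.congr P h, rfl⟩
  · rintro ⟨L, hL, rfl⟩; exact ⟨L, hL.congr P (eqv_symm P h), rfl⟩

theorem len_eq_zero_iff {n : G} (hn : n ∈ P.N) : len P n = 0 ↔ n ∈ P.B := by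
  constructor
  · intro h
    obtain ⟨L, hL, hlen⟩ := exists_rep_len P hn
    rw [h, List.length_eq_zero_iff] at hlen
    subst hlen
    simpa using hL.2
  · intro h
    have : Rep P [] n := ⟨by simp, by simpa using h⟩
    have := len_le_of_rep P this
    simpa using this

theorem len_S_mul_le {s n : G} (hs : s ∈ P.S) (hn : n ∈ P.N) : len P (s * n) ≤ len P n + 1 := by
  obtain ⟨L, hL, hlen⟩ := exists_rep_len P hn
  have := len_le_of_rep P (hL.cons P hs)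
  rw [List.length_cons, hlen] at this
  exact this

theorem len_le_len_S_mul {s n : G} (hs : s ∈ P.S) (hn : n ∈ P.N) :
    len P n ≤ len P (s * n) + 1 := by
  have h1 := len_S_mul_le P hs (P.N.mul_mem (P.subset hs) hn)
  rw [len_congr P (eqv_SS_mul P hs hn)] at h1
  exact h1

theorem len_Sinv_mul {s n : G} (hs : s ∈ P.S) (hn : n ∈ P.N) : len P (s⁻¹ * n) = len P (s * n) :=
  len_congr P (eqv_Sinv_mul P hs hn)

theorem len_S {s : G} (hs : s ∈ P.S) : len P s = 1 := by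
  apply le_antisymm
  · have : Rep P [s] s := ⟨by simpa using hs, by simp [P.B.one_mem]⟩
    simpa using len_le_of_rep P this
  · rw [Nat.one_le_iff_ne_zero]
    intro h
    exact S_not_mem_B P hs ((len_eq_zero_iff P (P.subset hs)).1 h)

/-- peel a generator on the left -/
theorem exists_peel_left {n : G} {k : ℕ} (hn : n ∈ P.N) (h : len P n = k + 1) :
    ∃ s ∈ P.S, len P (s⁻¹ * n) = k := by
  obtain ⟨L, hL, hlen⟩ := exists_rep_len P hn
  rw [h] at hlen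
  match L, hL, hlen with
  | s :: L', hL, hlen =>
    have hs : s ∈ P.S := hL.1 s (by simp)
    refine ⟨s, hs, ?_⟩
    have h1 : len P (s⁻¹ * n) ≤ k := by
      have := len_le_of_rep P hL.tail
      simp only [List.length_cons, Nat.add_right_cancel_iff] at hlen
      omega
    have h2 := len_le_len_S_mul P hs (P.N.mul_mem (P.N.inv_mem (P.subset hs)) hn)
    have e : s * (s⁻¹ * n) = n := by group
    have h3 : len P (s * (s⁻¹ * n)) = len P n := by rw [e]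
    have h4 := len_Sinv_mul P hs (P.N.mul_mem (P.N.inv_mem (P.subset hs)) hn)
    have h5 := len_S_mul_le P hs (P.N.mul_mem (P.N.inv_mem (P.subset hs)) hn)
    omega

/-- reversal -/
theorem Rep.reverse_inv {L : List G} {n : G} (h : Rep P L n) (hn : n ∈ P.N) :
    Rep P L.reverse n⁻¹ := by
  induction L generalizing n with
  | nil =>
    refine ⟨by simp, ?_⟩
    have := h.2
    simp only [List.prod_nil, inv_one, one_mul] at this
    simpa using P.B.inv_mem this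
  | cons s L ih =>
    have hs : s ∈ P.S := h.1 s (by simp)
    have hsn : s⁻¹ * n ∈ P.N := P.N.mul_mem (P.N.inv_mem (P.subset hs)) hn
    have ih' := ih h.tail hsn
    refine ⟨fun x hx => h.1 x (List.mem_reverse.1 hx), ?_⟩
    rw [List.reverse_cons, List.prod_append, List.prod_singleton]
    -- u := L.reverse.prod⁻¹ * n⁻¹ ; u * s ∈ T
    have hu : L.reverse.prod⁻¹ * (s⁻¹ * n)⁻¹ ∈ P.B ⊓ P.N := ih'.mem_N P (P.N.inv_mem hsn)
    have e : (L.reverse.prod * s)⁻¹ * n⁻¹ =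
        (s⁻¹ * (L.reverse.prod⁻¹ * (s⁻¹ * n)⁻¹) * s⁻¹⁻¹) * (s * s)⁻¹ := by
      group
    rw [e]
    exact P.B.mul_mem (conj_mem_T P (P.N.inv_mem (P.subset hs)) hu).1
      (P.B.inv_mem (P.sq_mem s hs))

theorem len_inv {n : G} (hn : n ∈ P.N) : len P n⁻¹ = len P n := by
  apply le_antisymm
  · obtain ⟨L, hL, hlen⟩ := exists_rep_len P hn
    have := len_le_of_rep P (hL.reverse_inv P hn)
    rw [List.length_reverse, hlen] at this
    exact this
  · obtain ⟨L, hL, hlen⟩ := exists_rep_len P (P.N.inv_mem hn)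
    have := len_le_of_rep P (hL.reverse_inv P (P.N.inv_mem hn))
    rw [List.length_reverse, hlen, inv_inv] at this
    exact this

theorem len_mul_S_eq {s n : G} (hs : s ∈ P.S) (hn : n ∈ P.N) :
    len P (n * s) = len P (s * n⁻¹) := by
  rw [← len_inv P (P.N.mul_mem hn (P.subset hs))]
  have : (n * s)⁻¹ = s⁻¹ * n⁻¹ := by group
  rw [this, len_Sinv_mul P hs (P.N.inv_mem hn)]

theorem len_mul_S_le {s n : G} (hs : s ∈ P.S) (hn : n ∈ P.N) : len P (n * s) ≤ len P n + 1 := by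
  rw [len_mul_S_eq P hs hn, ← len_inv P hn]
  exact len_S_mul_le P hs (P.N.inv_mem hn)

theorem len_le_len_mul_S {s n : G} (hs : s ∈ P.S) (hn : n ∈ P.N) :
    len P n ≤ len P (n * s) + 1 := by
  rw [len_mul_S_eq P hs hn, ← len_inv P hn]
  exact len_le_len_S_mul P hs (P.N.inv_mem hn)

theorem len_mul_Sinv {s n : G} (hs : s ∈ P.S) : len P (n * s⁻¹) = len P (n * s) :=
  len_congr P (eqv_mul_Sinv P hs)

/-- peel a generator on the right -/
theorem exists_peel_right {n : G} {k : ℕ} (hn : n ∈ P.N) (h : len P n = k + 1) :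
    ∃ s ∈ P.S, len P (n * s⁻¹) = k := by
  have h' : len P n⁻¹ = k + 1 := by rw [len_inv P hn, h]
  obtain ⟨s, hs, hk⟩ := exists_peel_left P (P.N.inv_mem hn) h'
  refine ⟨s, hs, ?_⟩
  have hsn : s⁻¹ * n⁻¹ ∈ P.N := P.N.mul_mem (P.N.inv_mem (P.subset hs)) (P.N.inv_mem hn)
  rw [← len_inv P hsn] at hk
  have e : (s⁻¹ * n⁻¹)⁻¹ = n * s := by group
  rw [e] at hk
  rw [len_mul_Sinv P hs, hk]

end Cfsg.Agent.Helper6
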