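import Cfsg.Agent.Lib.Helper6.ChevWeylMap
import Cfsg.Agent.Lib.Helper6.BNLength

/-!
# BN length on `N` = number of inversions in the integral model of the Weyl group

For a (B,N)-pair `P` on (a subgroup `K` of `GL` containing) the Chevalley group, with
`P.B = B`, `P.N = N`, `P.S = {n_i}`, the BN length `len P n` of `n ∈ N` equals
`V.nJ allJ (θ n)`, where `θ = thetaHom : N →* Wf` is the action on the root lines.
We also produce a transversal `ν : Wf → K` of `H` in `N` with `len P (ν w) = nJ w`.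
-/

set_option autoImplicit false
set_option linter.unusedSectionVars false

namespace Cfsg.Agent.Helper6.ChevLen

open Cfsg.Lie Cfsg.Agent.Helper18 Cfsg.Agent.Helper6.Weyl Cfsg.Agent.Helper6.Chev
open Cfsg.Agent.Helper6

section Main

variable {F : Type*} [Field F] {D : ChevalleyDatum} {η : ℕ → ℕ → ℤ} (h : NData F D η)
  {l : ℕ} {V : VDatum l} {vec : ℕ → Vec l} (B : Bridge D V vec)
  (hsimp : ∀ j < D.rank, ∀ c : F, c ≠ 0 → D.hMat F (D.simple j) c =
    Matrix.diagonal (Sum.elim (fun _ => (1 : F)) (fun s : Fin D.nroots => c ^ (D.cartan j s))))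

include h B hsimp

/-- `N_i` as an element of `N` -/
noncomputable def NiN (i : Fin l) : ↥(D.monomialSubgroup F) := ⟨Ni h i, Ni_mem h B hsimp i⟩

theorem NiN_coe (i : Fin l) : ((NiN h B hsimp i : ↥(D.monomialSubgroup F)) : GL D.Idx F) = Ni h i := rfl

/-- `θ` of a product of the `N_i` along a word -/
theorem thetaHom_wordProd (L : List (Fin l)) :
    ((thetaHom h B hsimp ((L.map (NiN h B hsimp)).prod) : V.Wf) : (Mat l)ˣ) = V.wpM L := by
  induction L with
  | nil => simp
  | cons i L ih =>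
    rw [List.map_cons, List.prod_cons, map_mul, Subgroup.coe_mul, ih, VDatum.wpM_cons]
    congr 1
    have := thetaHom_Ni h B hsimp i
    rw [NiN, this]
    rfl

theorem thetaHom_surjective : Function.Surjective (thetaHom (F := F) h B hsimp) := by
  intro w
  obtain ⟨L, _, hL⟩ := V.exists_word VDatum.allJ w.2
  refine ⟨(L.map (NiN h B hsimp)).prod, ?_⟩
  apply Subtype.ext
  rw [thetaHom_wordProd, hL]

variable {K : Subgroup (GL D.Idx F)} (P : Cfsg.BNPair ↥K)
  (hPB : P.B = (D.borelSubgroup F).subgroupOf K)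
  (hPN : P.N = (D.monomialSubgroup F).subgroupOf K)
  (hPS : P.S = {n : ↥K | ∃ i < D.rank,
    ((n : GL D.Idx F) : Matrix D.Idx D.Idx F) = D.nMat F (D.simple i) 1})
  (hBN : D.borelSubgroup F ⊓ D.monomialSubgroup F = D.diagonalSubgroup F)
  (M : CoxeterMatrix (Fin l)) (hM : ∀ i j, M i j = orderOf (V.s i * V.s j))
  (hrel : ∀ i j : Fin l, i < j → (Ni h i * Ni h j) ^ (M i j) ∈ D.diagonalSubgroup F)

include hPS in
/-- elements of `P.S` are the `N_i` -/
theorem mem_S_iff (s : ↥K) : s ∈ P.S ↔ ∃ i : Fin l, (s : GL D.Idx F) = Ni h i := by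
  rw [hPS]
  constructor
  · rintro ⟨i, hi, e⟩
    have hil : i < l := by rw [← B.rank_eq]; exact hi
    exact ⟨⟨i, hil⟩, eq_ng_of_val h e⟩
  · rintro ⟨i, e⟩
    refine ⟨i, lt_rank h B i, ?_⟩
    rw [e, Ni, ng_val]

include hPN in
theorem mem_N_iff (n : ↥K) : n ∈ P.N ↔ (n : GL D.Idx F) ∈ D.monomialSubgroup F := by
  rw [hPN, Subgroup.mem_subgroupOf]

include hPB in
theorem mem_B_iff (n : ↥K) : n ∈ P.B ↔ (n : GL D.Idx F) ∈ D.borelSubgroup F := by
  rw [hPB, Subgroup.mem_subgroupOf]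

include hPS in
/-- a word in `P.S` is the image of a word of indices -/
theorem exists_index_word (L : List ↥K) (hL : ∀ x ∈ L, x ∈ P.S) :
    ∃ L' : List (Fin l), L'.length = L.length ∧
      ((L.prod : ↥K) : GL D.Idx F) = (((L'.map (NiN h B hsimp)).prod : ↥(D.monomialSubgroup F)) : GL D.Idx F) := by
  induction L with
  | nil => exact ⟨[], rfl, by simp⟩
  | cons x L ih =>
    obtain ⟨L', h1, h2⟩ := ih (fun y hy => hL y (List.mem_cons_of_mem _ hy))
    obtain ⟨i, hi⟩ := (mem_S_iff h B hsimp P hPS x).1 (hL x List.mem_cons_self)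
    refine ⟨i :: L', by simp [h1], ?_⟩
    rw [List.prod_cons, Subgroup.coe_mul, h2, hi, List.map_cons, List.prod_cons, Subgroup.coe_mul,
      NiN_coe]

include hPS in
/-- `θ` of the product of a word in `P.S` has at most `length` inversions -/
theorem nJ_theta_list_le (L : List ↥K) (hL : ∀ x ∈ L, x ∈ P.S)
    (hLN : ((L.prod : ↥K) : GL D.Idx F) ∈ D.monomialSubgroup F) :
    V.nJ VDatum.allJ ((thetaHom h B hsimp ⟨_, hLN⟩ : V.Wf) : (Mat l)ˣ) ≤ L.length := by
  obtain ⟨L', h1, h2⟩ := exists_index_word h B hsimp P hPS L hL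
  have e : (⟨_, hLN⟩ : ↥(D.monomialSubgroup F)) = (L'.map (NiN h B hsimp)).prod := Subtype.ext h2
  rw [e, thetaHom_wordProd, ← h1]
  exact V.nJ_wpM_le VDatum.allJ (fun _ _ => trivial)

include hPS in
/-- every index word lifts to a word in `P.S` -/
theorem exists_S_word (hK : D.monomialSubgroup F ≤ K) (L' : List (Fin l)) :
    ∃ L : List ↥K, (∀ x ∈ L, x ∈ P.S) ∧ L.length = L'.length ∧
      ((L.prod : ↥K) : GL D.Idx F) = (((L'.map (NiN h B hsimp)).prod : ↥(D.monomialSubgroup F)) : GL D.Idx F) := by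
  induction L' with
  | nil => exact ⟨[], by simp, rfl, by simp⟩
  | cons i L' ih =>
    obtain ⟨L, h1, h2, h3⟩ := ih
    let x : ↥K := ⟨Ni h i, hK (Ni_mem h B hsimp i)⟩
    have hx : x ∈ P.S := (mem_S_iff h B hsimp P hPS x).2 ⟨i, rfl⟩
    refine ⟨x :: L, ?_, by simp [h2], ?_⟩
    · intro y hy
      rcases List.mem_cons.1 hy with rfl | hy
      · exact hx
      · exact h1 y hy
    · rw [List.prod_cons, Subgroup.coe_mul, h3, List.map_cons, List.prod_cons, Subgroup.coe_mul,
        NiN_coe]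

include hPB hPS hM hrel hBN in
/-- a representing word of length `nJ` -/
theorem exists_rep (hK : D.monomialSubgroup F ≤ K) (n : ↥K)
    (hn : (n : GL D.Idx F) ∈ D.monomialSubgroup F) :
    ∃ L : List ↥K, Rep P L n ∧
      L.length = V.nJ VDatum.allJ ((thetaHom h B hsimp ⟨n, hn⟩ : V.Wf) : (Mat l)ˣ) := by
  have hHB : D.diagonalSubgroup F ≤ D.borelSubgroup F := by rw [← hBN]; exact inf_le_left
  obtain ⟨L', _, hw, hlen⟩ := V.exists_word_length_eq_nJ VDatum.allJ
    (thetaHom h B hsimp ⟨n, hn⟩ : V.Wf).2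
  obtain ⟨L, h1, h2, h3⟩ := exists_S_word h B hsimp P hPS hK L'
  refine ⟨L, ⟨h1, ?_⟩, by rw [h2, hlen]⟩
  rw [mem_B_iff h B hsimp P hPB, Subgroup.coe_mul, Subgroup.coe_inv, h3]
  apply hHB
  set m : ↥(D.monomialSubgroup F) := (L'.map (NiN h B hsimp)).prod with hm
  have hmem : ((m⁻¹ * ⟨n, hn⟩ : ↥(D.monomialSubgroup F)) : GL D.Idx F) ∈ D.diagonalSubgroup F := by
    rw [← thetaHom_eq_one_iff h B hsimp M hM hrel, map_mul, map_inv, inv_mul_eq_one]
    apply Subtype.ext
    rw [thetaHom_wordProd, hw]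
  exact hmem

include hPB hPN hPS hBN hM hrel in
/-- **the BN length is the number of inversions** -/
theorem len_eq_nJ (hK : D.monomialSubgroup F ≤ K) (n : ↥K)
    (hn : (n : GL D.Idx F) ∈ D.monomialSubgroup F) :
    len P n = V.nJ VDatum.allJ ((thetaHom h B hsimp ⟨n, hn⟩ : V.Wf) : (Mat l)ˣ) := by
  obtain ⟨L0, hrep0, hlen0⟩ := exists_rep h B hsimp P hPB hPS hBN M hM hrel hK n hn
  apply le_antisymm
  · rw [← hlen0]
    exact len_le_of_rep P hrep0
  · -- any representing word is at least as long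
    have hne : {k | ∃ L, Rep P L n ∧ L.length = k}.Nonempty := ⟨_, L0, hrep0, rfl⟩
    obtain ⟨L, ⟨hL, hLB⟩, hlen⟩ := Nat.sInf_mem hne
    have hlen' : len P n = L.length := hlen.symm
    rw [hlen']
    have hLN : ((L.prod : ↥K) : GL D.Idx F) ∈ D.monomialSubgroup F := by
      rw [← mem_N_iff h B hsimp P hPN]
      exact list_prod_mem_N P hL
    have hle := nJ_theta_list_le h B hsimp P hPS L hL hLN
    have hHmem : (((⟨_, hLN⟩ : ↥(D.monomialSubgroup F))⁻¹ * ⟨n, hn⟩ : ↥(D.monomialSubgroup F)) :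
        GL D.Idx F) ∈ D.diagonalSubgroup F := by
      rw [← hBN]
      refine ⟨?_, (_ : ↥(D.monomialSubgroup F)).2⟩
      rw [mem_B_iff h B hsimp P hPB] at hLB
      exact hLB
    rw [← thetaHom_eq_one_iff h B hsimp M hM hrel, map_mul, map_inv, inv_mul_eq_one] at hHmem
    rw [← hHmem]
    exact hle

include hPB hPN hPS hBN hM hrel in
/-- **a transversal of `H` in `N` indexed by the model Weyl group, with `len = nJ`**
(the input of `Helper59.BNCount.card_eq`) -/
theorem exists_transversal (hK : D.monomialSubgroup F ≤ K) :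
    ∃ ν : ↥V.Wf → ↥K, (∀ w, ν w ∈ P.N) ∧ (∀ n ∈ P.N, ∃! w, (ν w)⁻¹ * n ∈ P.B) ∧
      ∀ w, len P (ν w) = V.nJ VDatum.allJ (w : (Mat l)ˣ) := by
  have hsurj := thetaHom_surjective (F := F) h B hsimp
  choose g hg using hsurj
  have hHB : D.diagonalSubgroup F ≤ D.borelSubgroup F := by rw [← hBN]; exact inf_le_left
  refine ⟨fun w => ⟨(g w : GL D.Idx F), hK (g w).2⟩, ?_, ?_, ?_⟩
  · intro w
    rw [mem_N_iff h B hsimp P hPN]
    exact (g w).2
  · intro n hn
    rw [mem_N_iff h B hsimp P hPN] at hn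
    -- membership criterion
    have crit : ∀ w : ↥V.Wf, ((⟨(g w : GL D.Idx F), hK (g w).2⟩ : ↥K)⁻¹ * n ∈ P.B) ↔
        w = thetaHom h B hsimp ⟨n, hn⟩ := by
      intro w
      rw [mem_B_iff h B hsimp P hPB, Subgroup.coe_mul, Subgroup.coe_inv]
      have hN : (((g w)⁻¹ * ⟨n, hn⟩ : ↥(D.monomialSubgroup F)) : GL D.Idx F) ∈
          D.monomialSubgroup F := (_ : ↥(D.monomialSubgroup F)).2
      have e1 : ((g w : GL D.Idx F))⁻¹ * (n : GL D.Idx F) =
          (((g w)⁻¹ * ⟨n, hn⟩ : ↥(D.monomialSubgroup F)) : GL D.Idx F) := rfl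
      rw [e1]
      constructor
      · intro hB'
        have hH : (((g w)⁻¹ * ⟨n, hn⟩ : ↥(D.monomialSubgroup F)) : GL D.Idx F) ∈
            D.diagonalSubgroup F := by
          rw [← hBN]; exact ⟨hB', hN⟩
        rw [← thetaHom_eq_one_iff h B hsimp M hM hrel, map_mul, map_inv, inv_mul_eq_one, hg] at hH
        exact hH
      · intro hw
        apply hHB
        rw [← thetaHom_eq_one_iff h B hsimp M hM hrel, map_mul, map_inv, inv_mul_eq_one, hg]
        exact hw
    refine ⟨thetaHom h B hsimp ⟨n, hn⟩, (crit _).2 rfl, ?_⟩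
    intro w hw
    exact (crit w).1 hw
  · intro w
    rw [len_eq_nJ h B hsimp P hPB hPN hPS hBN M hM hrel hK _ (g w).2]
    have : (⟨((⟨(g w : GL D.Idx F), hK (g w).2⟩ : ↥K) : GL D.Idx F), (g w).2⟩ :
        ↥(D.monomialSubgroup F)) = g w := rfl
    rw [this, hg]

end Main

end Cfsg.Agent.Helper6.ChevLen
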