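import Cfsg.Agent.Lib.Helper6.WeylDatum

/-!
# The centraliser of a diagram symmetry in a Weyl group (integral model)

`V` is a valid root datum, `Pm` the permutation matrix of a diagram symmetry `π`.  The centraliser of
`Pm` in the Weyl group is generated by the products `g_J` of the simple reflections over the
`π`-orbits `J` (which consist of pairwise orthogonal nodes), and restriction to the fixed sublattice
maps it isomorphically to the Weyl group of the folded datum `V'`.
-/

set_option autoImplicit false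
set_option linter.unusedSectionVars false

namespace Cfsg.Agent.Helper6.Twist

open Cfsg.Agent.Helper6.Weyl Matrix

section Model

variable {l : ℕ} (V : VDatum l)

/-- a non-trivial element of the Weyl group makes some simple root negative -/
theorem exists_neg_simple {w : (Mat l)ˣ} (hw : w ∈ V.Wf) (hne : V.nJ VDatum.allJ w ≠ 0) :
    ∃ t : Fin l, -(w • (Pi.single t 1 : Vec l)) ∈ V.posJ VDatum.allJ := by
  obtain ⟨L, hL, hLw, hlen⟩ := V.exists_word_length_eq_nJ VDatum.allJ hw
  rcases List.eq_nil_or_concat' L with rfl | ⟨L0, t, rfl⟩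
  · exfalso; apply hne; rw [← hlen]; rfl
  refine ⟨t, ?_⟩
  have hL0 : ∀ j ∈ L0, VDatum.allJ j := fun _ _ => trivial
  have ht : VDatum.allJ t := trivial
  set w0 := V.wpM L0 with hw0
  have hww0 : w = w0 * V.s t := by
    rw [← hLw, VDatum.wpM_append, VDatum.wpM_cons, VDatum.wpM_nil, mul_one]
  have hle0 : V.nJ VDatum.allJ w0 ≤ L0.length := V.nJ_wpM_le VDatum.allJ hL0
  rw [List.length_append, List.length_singleton] at hlen
  have hpos : w0 • (Pi.single t 1 : Vec l) ∈ V.posJ VDatum.allJ := by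
    rcases V.isRoot_wpM_single VDatum.allJ hL0 ht with h | h
    · exact h
    · exfalso
      have := V.nJ_mul_s_of_neg VDatum.allJ w0 ht h
      rw [← hww0] at this
      omega
  rw [hww0, mul_smul, VDatum.s_smul_single, VDatum.smul_neg', neg_neg]
  exact hpos

/-- orthogonality of two nodes -/
def Orth (a b : Fin l) : Prop := V.A b a = 0

theorem s_smul_single_of_orth {a b : Fin l} (h : Orth V a b) :
    V.s a • (Pi.single b 1 : Vec l) = Pi.single b 1 := by
  rw [VDatum.s_smul_eq, pair_single, h, zero_smul, sub_zero]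

/-- multiplying by the product of pairwise orthogonal simple reflections whose roots are all made
negative lowers the length by the number of factors -/
theorem nJ_mul_orth : ∀ (L : List (Fin l)) (w : (Mat l)ˣ), L.Pairwise (Orth V) →
    (∀ t ∈ L, -(w • (Pi.single t 1 : Vec l)) ∈ V.posJ VDatum.allJ) →
    V.nJ VDatum.allJ (w * V.wpM L) + L.length = V.nJ VDatum.allJ w := by
  intro L
  induction L with
  | nil => intro w _ _; simp
  | cons t L ih =>
    intro w hpw hneg
    rw [List.pairwise_cons] at hpw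
    have h1 := V.nJ_mul_s_of_neg VDatum.allJ w (i := t) trivial (hneg t List.mem_cons_self)
    have h2 := ih (w * V.s t) hpw.2 (by
      intro t' ht'
      rw [mul_smul, s_smul_single_of_orth V (hpw.1 t' ht')]
      exact hneg t' (List.mem_cons_of_mem _ ht'))
    rw [VDatum.wpM_cons, ← mul_assoc, List.length_cons]
    omega

variable (Pm : (Mat l)ˣ) (π : Fin l → Fin l)
  (hPsingle : ∀ i, Pm • (Pi.single i 1 : Vec l) = Pi.single (π i) 1)
  (hPpos : ∀ β ∈ V.pos, Pm • β ∈ V.pos)

/-- the centraliser of the symmetry in the Weyl group -/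
def CW : Subgroup (Mat l)ˣ := V.Wf ⊓ Subgroup.centralizer {Pm}

theorem mem_CW {w : (Mat l)ˣ} : w ∈ CW V Pm ↔ w ∈ V.Wf ∧ Pm * w = w * Pm := by
  rw [CW, Subgroup.mem_inf, Subgroup.mem_centralizer_iff]
  simp

include hPsingle hPpos in
theorem neg_perm {w : (Mat l)ˣ} (hw : Pm * w = w * Pm) {t : Fin l}
    (h : -(w • (Pi.single t 1 : Vec l)) ∈ V.posJ VDatum.allJ) :
    -(w • (Pi.single (π t) 1 : Vec l)) ∈ V.posJ VDatum.allJ := by
  rw [← hPsingle, ← mul_smul, ← hw, mul_smul, ← VDatum.smul_neg']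
  rw [VDatum.mem_posJ] at h ⊢
  exact ⟨hPpos _ h.1, fun j hj => absurd trivial hj⟩

include hPsingle hPpos in
theorem neg_perm_iter {w : (Mat l)ˣ} (hw : Pm * w = w * Pm) {t : Fin l}
    (h : -(w • (Pi.single t 1 : Vec l)) ∈ V.posJ VDatum.allJ) (k : ℕ) :
    -(w • (Pi.single (π^[k] t) 1 : Vec l)) ∈ V.posJ VDatum.allJ := by
  induction k with
  | zero => exact h
  | succ k ih =>
    rw [Function.iterate_succ_apply']
    exact neg_perm V Pm π hPsingle hPpos hw ih

variable {l' : ℕ} (orb : Fin l' → List (Fin l))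
  (horb_cover : ∀ i : Fin l, ∃ j, i ∈ orb j)
  (horb_trans : ∀ j, ∀ a ∈ orb j, ∀ b ∈ orb j, ∃ k : ℕ, π^[k] a = b)
  (horb_orth : ∀ j, (orb j).Pairwise (Orth V))
  (hg_comm : ∀ j, Pm * V.wpM (orb j) = V.wpM (orb j) * Pm)

include hPsingle hPpos horb_cover horb_trans horb_orth hg_comm in
/-- the centraliser is generated by the orbit products -/
theorem CW_le_closure : CW V Pm ≤ Subgroup.closure (Set.range fun j => V.wpM (orb j)) := by
  intro w hw
  rw [mem_CW] at hw
  obtain ⟨hwW, hwP⟩ := hw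
  -- strong induction on the length
  suffices H : ∀ (k : ℕ) (w : (Mat l)ˣ), V.nJ VDatum.allJ w = k → w ∈ V.Wf → Pm * w = w * Pm →
      w ∈ Subgroup.closure (Set.range fun j => V.wpM (orb j)) from H _ w rfl hwW hwP
  intro k
  induction k using Nat.strong_induction_on with
  | _ k ih =>
    intro w hk hwW hwP
    by_cases h0 : V.nJ VDatum.allJ w = 0
    · rw [V.eq_one_of_nJ_eq_zero VDatum.allJ hwW h0]
      exact Subgroup.one_mem _
    · obtain ⟨t, ht⟩ := exists_neg_simple V hwW h0
      obtain ⟨j, hj⟩ := horb_cover t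
      have hall : ∀ t' ∈ orb j, -(w • (Pi.single t' 1 : Vec l)) ∈ V.posJ VDatum.allJ := by
        intro t' ht'
        obtain ⟨k', hk'⟩ := horb_trans j t hj t' ht'
        rw [← hk']
        exact neg_perm_iter V Pm π hPsingle hPpos hwP ht k'
      have hlen := nJ_mul_orth V (orb j) w (horb_orth j) hall
      have hpos : 0 < (orb j).length := List.length_pos_of_mem hj
      have hmem : w * V.wpM (orb j) ∈ Subgroup.closure (Set.range fun j => V.wpM (orb j)) := by
        apply ih (V.nJ VDatum.allJ (w * V.wpM (orb j))) (by omega) _ rfl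
        · exact mul_mem hwW (V.wpM_mem_W VDatum.allJ (fun _ _ => trivial))
        · rw [← mul_assoc, hwP, mul_assoc, hg_comm j, mul_assoc]
      have hgen : V.wpM (orb j) ∈ Subgroup.closure (Set.range fun j => V.wpM (orb j)) :=
        Subgroup.subset_closure ⟨j, rfl⟩
      have : w = (w * V.wpM (orb j)) * (V.wpM (orb j))⁻¹ := by group
      rw [this]
      exact mul_mem hmem (inv_mem hgen)

/-! ### restriction to the fixed sublattice -/

variable (Q : Matrix (Fin l) (Fin l') ℤ) (Rr : Matrix (Fin l') (Fin l) ℤ) (Z : Mat l)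
  (hRQ : Rr * Q = 1) (hPQ : (Pm : Mat l) * Q = Q)
  (hZ : 1 - Q * Rr = Z * (1 - (Pm : Mat l)))

include hPQ hZ in
theorem QR_mul {w : (Mat l)ˣ} (hw : Pm * w = w * Pm) :
    Q * (Rr * (w : Mat l) * Q) = (w : Mat l) * Q := by
  have hw' : (Pm : Mat l) * (w : Mat l) = (w : Mat l) * (Pm : Mat l) := by
    rw [← Units.val_mul, hw, Units.val_mul]
  have h1 : (1 - Q * Rr) * ((w : Mat l) * Q) = 0 := by
    rw [hZ, Matrix.mul_assoc, Matrix.sub_mul, Matrix.one_mul, ← Matrix.mul_assoc (Pm : Mat l), hw',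
      Matrix.mul_assoc (w : Mat l), hPQ, sub_self, Matrix.mul_zero]
  rw [Matrix.sub_mul, Matrix.one_mul, sub_eq_zero] at h1
  rw [Matrix.mul_assoc Rr, ← Matrix.mul_assoc Q]
  exact h1.symm

/-- the restriction of `w` to the fixed sublattice -/
def rMat (w : Mat l) : Mat l' := Rr * w * Q

include hPQ hZ in
theorem rMat_mul (w : Mat l) {w' : (Mat l)ˣ} (hw' : Pm * w' = w' * Pm) :
    rMat Q Rr (w * (w' : Mat l)) = rMat Q Rr w * rMat Q Rr (w' : Mat l) := by
  unfold rMat
  rw [Matrix.mul_assoc (Rr * w) Q, QR_mul Pm Q Rr Z hPQ hZ hw']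
  simp only [Matrix.mul_assoc]

include hRQ in
theorem rMat_one : rMat Q Rr (1 : Mat l) = 1 := by
  unfold rMat
  rw [Matrix.mul_one, hRQ]

include hRQ hPQ hZ in
/-- restriction as a homomorphism on the centraliser of `Pm` -/
noncomputable def rHom : ↥(Subgroup.centralizer ({Pm} : Set (Mat l)ˣ)) →* (Mat l')ˣ :=
  have hc : ∀ w : ↥(Subgroup.centralizer ({Pm} : Set (Mat l)ˣ)), Pm * (w : (Mat l)ˣ) = w * Pm := by
    intro w
    exact (Subgroup.mem_centralizer_iff.mp w.2) Pm rfl
  MonoidHom.mk' (fun w => ⟨rMat Q Rr ((w : (Mat l)ˣ) : Mat l), rMat Q Rr (((w⁻¹ : _) : (Mat l)ˣ) : Mat l),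
      by
        rw [← rMat_mul Pm Q Rr Z hPQ hZ _ (hc w⁻¹), ← Units.val_mul, ← Subgroup.coe_mul,
          mul_inv_cancel, Subgroup.coe_one, Units.val_one, rMat_one Q Rr hRQ],
      by
        rw [← rMat_mul Pm Q Rr Z hPQ hZ _ (hc w), ← Units.val_mul, ← Subgroup.coe_mul,
          inv_mul_cancel, Subgroup.coe_one, Units.val_one, rMat_one Q Rr hRQ]⟩)
    (by
      intro a b
      apply Units.ext
      change rMat Q Rr (((a * b : ↥(Subgroup.centralizer ({Pm} : Set (Mat l)ˣ))) : (Mat l)ˣ) : Mat l) = _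
      rw [Subgroup.coe_mul, Units.val_mul, rMat_mul Pm Q Rr Z hPQ hZ _ (hc b)]
      rfl)

theorem rHom_val (w : ↥(Subgroup.centralizer ({Pm} : Set (Mat l)ˣ))) :
    ((rHom Pm Q Rr Z hRQ hPQ hZ w : (Mat l')ˣ) : Mat l') = rMat Q Rr ((w : (Mat l)ˣ) : Mat l) := rfl

/-! ### the folded datum -/

variable (V' : VDatum l')
  (hrg : ∀ j, rMat Q Rr ((V.wpM (orb j) : (Mat l)ˣ) : Mat l) = V'.S j)

include hg_comm in
theorem closure_le_centralizer :
    Subgroup.closure (Set.range fun j => V.wpM (orb j)) ≤ Subgroup.centralizer ({Pm} : Set (Mat l)ˣ) := by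
  rw [Subgroup.closure_le]
  rintro _ ⟨j, rfl⟩
  rw [SetLike.mem_coe, Subgroup.mem_centralizer_iff]
  intro x hx
  rw [Set.mem_singleton_iff] at hx
  subst hx
  exact hg_comm j

include hPsingle hPpos horb_cover horb_trans horb_orth hg_comm hrg in
/-- restriction maps the centraliser into the Weyl group of the folded datum -/
theorem rHom_mem_Wf {w : (Mat l)ˣ} (hw : w ∈ CW V Pm) :
    rHom Pm Q Rr Z hRQ hPQ hZ ⟨w, hw.2⟩ ∈ V'.Wf := by
  have hcl := CW_le_closure V Pm π hPsingle hPpos orb horb_cover horb_trans horb_orth hg_comm hw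
  have hle := closure_le_centralizer V Pm orb hg_comm
  suffices H : ∀ x ∈ Subgroup.closure (Set.range fun j => V.wpM (orb j)),
      ∀ hc : x ∈ Subgroup.centralizer ({Pm} : Set (Mat l)ˣ),
        rHom Pm Q Rr Z hRQ hPQ hZ ⟨x, hc⟩ ∈ V'.Wf from H w hcl hw.2
  intro x hx
  induction hx using Subgroup.closure_induction with
  | mem y hy =>
    intro hc
    obtain ⟨j, rfl⟩ := hy
    have : rHom Pm Q Rr Z hRQ hPQ hZ ⟨V.wpM (orb j), hc⟩ = V'.s j := by
      apply Units.ext
      rw [rHom_val, VDatum.s_val]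
      exact hrg j
    rw [this]
    exact V'.s_mem_W VDatum.allJ trivial
  | one =>
    intro hc
    have : (⟨1, hc⟩ : ↥(Subgroup.centralizer ({Pm} : Set (Mat l)ˣ))) = 1 := rfl
    rw [this, map_one]
    exact one_mem _
  | mul y z hy hz ihy ihz =>
    intro hc
    have : (⟨y * z, hc⟩ : ↥(Subgroup.centralizer ({Pm} : Set (Mat l)ˣ))) =
        ⟨y, hle hy⟩ * ⟨z, hle hz⟩ := rfl
    rw [this, map_mul]
    exact mul_mem (ihy _) (ihz _)
  | inv y hy ihy =>
    intro hc
    have : (⟨y⁻¹, hc⟩ : ↥(Subgroup.centralizer ({Pm} : Set (Mat l)ˣ))) = (⟨y, hle hy⟩)⁻¹ := rfl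
    rw [this, map_inv]
    exact inv_mem (ihy _)

include hPQ hZ in
/-- restriction is injective on the centraliser in the Weyl group -/
theorem eq_one_of_rMat (lam : Vec l) (y0 : Fin l' → ℤ) (hlam : lam = Q.mulVec y0)
    (hreg : ∀ i, 0 < pair V.A i lam) {w : (Mat l)ˣ} (hw : w ∈ CW V Pm)
    (h1 : rMat Q Rr (w : Mat l) = 1) : w = 1 := by
  rw [mem_CW] at hw
  obtain ⟨hwW, hwP⟩ := hw
  have hQ : (w : Mat l) * Q = Q := by
    have := QR_mul Pm Q Rr Z hPQ hZ hwP
    unfold rMat at h1
    rw [h1, Matrix.mul_one] at this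
    exact this.symm
  have hfix : w • lam = lam := by
    change (w : Mat l).mulVec lam = lam
    rw [hlam, Matrix.mulVec_mulVec, hQ]
  have hmem := V.mem_W_of_fix VDatum.allJ (fun _ => False) lam (fun i _ => (hreg i).le)
    (fun i => ⟨False.elim, fun h => absurd h.2 (hreg i).ne'⟩) _ w rfl hwW hfix
  have hbot : V.W (fun _ => False) = ⊥ := by
    rw [VDatum.W, eq_bot_iff, Subgroup.closure_le]
    rintro g ⟨i, hi, _⟩
    exact hi.elim
  rw [hbot, Subgroup.mem_bot] at hmem
  exact hmem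

end Model

end Cfsg.Agent.Helper6.Twist
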