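import Cfsg.Agent.Lib.Helper6.TwistFix
import Cfsg.Agent.Lib.Helper6.TwistWeyl
import Cfsg.Agent.Lib.Helper6.ChevBNLen

/-!
# `N¹ / H¹ ≅ W¹` for a subgroup of the fixed points of `σ`

General assembly: if `G1 ≤ Fix(τ)` contains the orbit products `n_J` of the `n_i`, then
`N ⊓ G1` maps onto the Coxeter group of the folded datum with kernel `H ⊓ G1`.
-/

set_option autoImplicit false
set_option linter.unusedSectionVars false

namespace Cfsg.Agent.Helper6.Twist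

open Cfsg.Lie Cfsg.Agent.Helper18 Cfsg.Agent.Helper6.Weyl Cfsg.Agent.Helper6.Chev
open Cfsg.Agent.Helper6.ChevLen Matrix

section Main

variable {F : Type*} [Field F] {D : ChevalleyDatum} {η : ℕ → ℕ → ℤ} (h : NData F D η)
  {l : ℕ} {V : VDatum l} {vec : ℕ → Vec l} (B : Bridge D V vec)
  (hsimp : ∀ j < D.rank, ∀ c : F, c ≠ 0 → D.hMat F (D.simple j) c =
    Matrix.diagonal (Sum.elim (fun _ => (1 : F)) (fun s : Fin D.nroots => c ^ (D.cartan j s))))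
  (M : CoxeterMatrix (Fin l)) (hM : ∀ i j, M i j = orderOf (V.s i * V.s j))
  (hrel : ∀ i j : Fin l, i < j → (Ni h i * Ni h j) ^ (M i j) ∈ D.diagonalSubgroup F)
  (φ : F →+* F) (Pg : GL D.Idx F) (Pm : (Mat l)ˣ)
  (hPact : Act vec (Pg : Matrix D.Idx D.Idx F) Pm)
  (G1 : Subgroup (GL D.Idx F)) (hG1 : G1 ≤ fixTau φ Pg)
  (π : Fin l → Fin l)
  (hPsingle : ∀ i, Pm • (Pi.single i 1 : Vec l) = Pi.single (π i) 1)
  (hPpos : ∀ β ∈ V.pos, Pm • β ∈ V.pos)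
  {l' : ℕ} (orb : Fin l' → List (Fin l))
  (horb_cover : ∀ i : Fin l, ∃ j, i ∈ orb j)
  (horb_trans : ∀ j, ∀ a ∈ orb j, ∀ b ∈ orb j, ∃ k : ℕ, π^[k] a = b)
  (horb_orth : ∀ j, (orb j).Pairwise (Orth V))
  (hg_comm : ∀ j, Pm * V.wpM (orb j) = V.wpM (orb j) * Pm)
  (Q : Matrix (Fin l) (Fin l') ℤ) (Rr : Matrix (Fin l') (Fin l) ℤ) (Z : Mat l)
  (hRQ : Rr * Q = 1) (hPQ : (Pm : Mat l) * Q = Q)
  (hZ : 1 - Q * Rr = Z * (1 - (Pm : Mat l)))
  (V' : VDatum l')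
  (hrg : ∀ j, rMat Q Rr ((V.wpM (orb j) : (Mat l)ˣ) : Mat l) = V'.S j)
  (lam : Vec l) (y0 : Fin l' → ℤ) (hlam : lam = Q.mulVec y0)
  (hreg : ∀ i, 0 < pair V.A i lam)
  (M' : CoxeterMatrix (Fin l')) (hM' : ∀ i j, M' i j = orderOf (V'.s i * V'.s j))
  (hgen : ∀ j : Fin l', (((orb j).map (NiN h B hsimp)).prod : GL D.Idx F) ∈ G1)

include hM hrel hPact hG1 hPsingle hPpos horb_cover horb_trans horb_orth hg_comm hRQ hPQ hZ hrg
  hlam hreg hM' hgen in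
/-- **`N¹ / H¹ ≅ W¹`** -/
theorem exists_phi_twisted :
    ∃ φ' : ↥(D.monomialSubgroup F ⊓ G1) →* M'.Group, Function.Surjective φ' ∧
      φ'.ker = (D.diagonalSubgroup F ⊓ G1).subgroupOf (D.monomialSubgroup F ⊓ G1) := by
  -- the map to the centraliser
  let θ1 : ↥(D.monomialSubgroup F ⊓ G1) →* (Mat l)ˣ :=
    (Subgroup.subtype V.Wf).comp ((thetaHom h B hsimp).comp (Subgroup.inclusion inf_le_left))
  have hθ1 : ∀ n : ↥(D.monomialSubgroup F ⊓ G1),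
      θ1 n = ((thetaHom h B hsimp ⟨(n : GL D.Idx F), n.2.1⟩ : V.Wf) : (Mat l)ˣ) := fun n => rfl
  have hθ1W : ∀ n, θ1 n ∈ V.Wf := fun n => (thetaHom h B hsimp ⟨(n : GL D.Idx F), n.2.1⟩ : V.Wf).2
  have hθ1P : ∀ n, Pm * θ1 n = θ1 n * Pm := by
    intro n
    rw [hθ1]
    exact (theta_comm_of_fixed h B hsimp φ Pg Pm hPact ⟨(n : GL D.Idx F), n.2.1⟩ (hG1 n.2.2)).symm
  have hθ1C : ∀ n, θ1 n ∈ Subgroup.centralizer ({Pm} : Set (Mat l)ˣ) := by
    intro n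
    rw [Subgroup.mem_centralizer_iff]
    intro x hx
    rw [Set.mem_singleton_iff] at hx
    subst hx
    exact hθ1P n
  have hθ1CW : ∀ n, θ1 n ∈ CW V Pm := fun n => (mem_CW V Pm).2 ⟨hθ1W n, hθ1P n⟩
  let ψ : ↥(D.monomialSubgroup F ⊓ G1) →* ↥(Subgroup.centralizer ({Pm} : Set (Mat l)ˣ)) :=
    θ1.codRestrict _ hθ1C
  let ρ : ↥(D.monomialSubgroup F ⊓ G1) →* (Mat l')ˣ := (rHom Pm Q Rr Z hRQ hPQ hZ).comp ψ
  have hρval : ∀ n, ((ρ n : (Mat l')ˣ) : Mat l') = rMat Q Rr ((θ1 n : (Mat l)ˣ) : Mat l) := fun n => rfl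
  have hρW : ∀ n, ρ n ∈ V'.Wf := by
    intro n
    exact rHom_mem_Wf V Pm π hPsingle hPpos orb horb_cover horb_trans horb_orth hg_comm Q Rr Z hRQ hPQ hZ
      V' hrg (hθ1CW n)
  let ρ' : ↥(D.monomialSubgroup F ⊓ G1) →* ↥V'.Wf := ρ.codRestrict _ hρW
  obtain ⟨e', he'⟩ := V'.exists_mulEquiv M' hM'
  let φ' : ↥(D.monomialSubgroup F ⊓ G1) →* M'.Group := e'.symm.toMonoidHom.comp ρ'
  have hφ' : ∀ n, φ' n = e'.symm (ρ' n) := fun n => rfl
  refine ⟨φ', ?_, ?_⟩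
  · -- surjectivity
    rw [← MonoidHom.range_eq_top, eq_top_iff, ← M'.toCoxeterSystem.subgroup_closure_range_simple,
      Subgroup.closure_le]
    rintro _ ⟨j, rfl⟩
    have hN : (((orb j).map (NiN h B hsimp)).prod : GL D.Idx F) ∈ D.monomialSubgroup F :=
      (((orb j).map (NiN h B hsimp)).prod : ↥(D.monomialSubgroup F)).2
    have key : φ' ⟨_, Subgroup.mem_inf.2 ⟨hN, hgen j⟩⟩ = M'.simple j := by
      rw [hφ', MulEquiv.symm_apply_eq, he' j]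
      apply Subtype.ext
      apply Units.ext
      change ((ρ _ : (Mat l')ˣ) : Mat l') = _
      rw [hρval, hθ1]
      have e1 : (⟨(((orb j).map (NiN h B hsimp)).prod : GL D.Idx F), hN⟩ : ↥(D.monomialSubgroup F)) =
          ((orb j).map (NiN h B hsimp)).prod := rfl
      rw [e1, thetaHom_wordProd, hrg j]
      rfl
    exact ⟨_, key⟩
  · -- kernel
    ext n
    rw [MonoidHom.mem_ker, Subgroup.mem_subgroupOf, hφ', MulEquiv.symm_apply_eq, map_one]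
    constructor
    · intro h1
      have h2 : ((ρ n : (Mat l')ˣ) : Mat l') = 1 := by
        have := congrArg (fun x : ↥V'.Wf => ((x : (Mat l')ˣ) : Mat l')) h1
        exact this
      rw [hρval] at h2
      have h3 := eq_one_of_rMat V Pm Q Rr Z hPQ hZ lam y0 hlam hreg (hθ1CW n) h2
      rw [hθ1] at h3
      have h4 : thetaHom h B hsimp ⟨(n : GL D.Idx F), n.2.1⟩ = 1 := Subtype.ext h3
      exact ⟨(thetaHom_eq_one_iff h B hsimp M hM hrel _).1 h4, n.2.2⟩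
    · intro hn
      have h4 : thetaHom h B hsimp ⟨(n : GL D.Idx F), n.2.1⟩ = 1 :=
        (thetaHom_eq_one_iff h B hsimp M hM hrel _).2 hn.1
      apply Subtype.ext
      apply Units.ext
      change ((ρ n : (Mat l')ˣ) : Mat l') = 1
      rw [hρval, hθ1, h4]
      change rMat Q Rr (1 : Mat l) = 1
      exact rMat_one Q Rr hRQ

end Main

end Cfsg.Agent.Helper6.Twist
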