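import Cfsg.Agent.Lib.Helper6.TwistMain
import Cfsg.Agent.Lib.Helper6.TwistSp
import Cfsg.Agent.Lib.Helper6.TwistModelE6
import Cfsg.Agent.Lib.Helper6.ChevWeylDataS
import Cfsg.Agent.Lib.Helper18.GraphE6a
import Cfsg.Agent.Lib.Helper18.HSmall
import Cfsg.Prelude.Def_LieTwisted

/-!
# `N¹ / H¹ ≅ W(F₄)` for the twisted groups `²E₆(q)`
-/

set_option autoImplicit false
set_option maxRecDepth 100000

namespace Cfsg.Agent.Helper6.Twist.E6

open Cfsg.Lie Cfsg.Agent.Helper18 Cfsg.Agent.Helper6.Weyl Cfsg.Agent.Helper6.Chev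
open Cfsg.Agent.Helper6.ChevS Cfsg.Agent.Helper6.ChevLen Cfsg.Agent.S1043 Matrix

/-! ### table facts -/

theorem actOK : actCheck chevE6 gPE6a corootCodesE6 (Pm : Mat 6) = true := by decide +kernel

/-- the pairs of commuting root subgroups used -/
def commPairs : List (ℕ × ℕ) :=
  [(56, 36), (56, 35), (15, 36), (15, 35), (42, 37), (42, 34), (29, 37), (29, 34)]

theorem commOK_0 : Cfsg.Agent.Helper18.commCheck chevE6 56 36 = true ∧ chevE6.commTerms 56 36 = [] := by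
  decide +kernel
theorem commOK_1 : Cfsg.Agent.Helper18.commCheck chevE6 56 35 = true ∧ chevE6.commTerms 56 35 = [] := by
  decide +kernel
theorem commOK_2 : Cfsg.Agent.Helper18.commCheck chevE6 15 36 = true ∧ chevE6.commTerms 15 36 = [] := by
  decide +kernel
theorem commOK_3 : Cfsg.Agent.Helper18.commCheck chevE6 15 35 = true ∧ chevE6.commTerms 15 35 = [] := by
  decide +kernel
theorem commOK_4 : Cfsg.Agent.Helper18.commCheck chevE6 42 37 = true ∧ chevE6.commTerms 42 37 = [] := by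
  decide +kernel
theorem commOK_5 : Cfsg.Agent.Helper18.commCheck chevE6 42 34 = true ∧ chevE6.commTerms 42 34 = [] := by
  decide +kernel
theorem commOK_6 : Cfsg.Agent.Helper18.commCheck chevE6 29 37 = true ∧ chevE6.commTerms 29 37 = [] := by
  decide +kernel
theorem commOK_7 : Cfsg.Agent.Helper18.commCheck chevE6 29 34 = true ∧ chevE6.commTerms 29 34 = [] := by
  decide +kernel

theorem commOK : ∀ p ∈ commPairs,
    Cfsg.Agent.Helper18.commCheck chevE6 p.1 p.2 = true ∧ chevE6.commTerms p.1 p.2 = [] := by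
  intro p hp
  simp only [commPairs, List.mem_cons, List.not_mem_nil, or_false] at hp
  rcases hp with rfl | rfl | rfl | rfl | rfl | rfl | rfl | rfl
  exacts [commOK_0, commOK_1, commOK_2, commOK_3, commOK_4, commOK_5, commOK_6, commOK_7]

theorem tableOK :
    (dec8 gRE6a 56 = 36 ∧ dec8 gRE6a 36 = 56 ∧ dec8 gRE6a 42 = 37 ∧ dec8 gRE6a 37 = 42 ∧
      dec8 gRE6a 46 = 46 ∧ dec8 gRE6a 39 = 39) ∧
    (dec8 gRE6a 15 = 35 ∧ dec8 gRE6a 35 = 15 ∧ dec8 gRE6a 29 = 34 ∧ dec8 gRE6a 34 = 29 ∧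
      dec8 gRE6a 25 = 25 ∧ dec8 gRE6a 32 = 32) ∧
    (∀ r ∈ [56, 46, 42, 39, 37, 36, 15, 25, 29, 32, 34, 35], etaOf gSE6a (chevE6.rank + r) = 1) ∧
    (chevE6.simple 0 = 56 ∧ chevE6.simple 1 = 46 ∧ chevE6.simple 2 = 42 ∧ chevE6.simple 3 = 39 ∧
      chevE6.simple 4 = 37 ∧ chevE6.simple 5 = 36) ∧
    (chevE6.neg 56 = 15 ∧ chevE6.neg 46 = 25 ∧ chevE6.neg 42 = 29 ∧ chevE6.neg 39 = 32 ∧
      chevE6.neg 37 = 34 ∧ chevE6.neg 36 = 35) ∧
    chevE6.nroots = 72 := by
  decide +kernel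

section

variable {K : Type*} [Field K]

theorem hsimpE6 : ∀ j < chevE6.rank, ∀ c : K, c ≠ 0 → chevE6.hMat K (chevE6.simple j) c =
    Matrix.diagonal (Sum.elim (fun _ => (1 : K)) (fun s : Fin chevE6.nroots => c ^ (chevE6.cartan j s))) :=
  fun j hj c hc => hMat_simple_of_check chevE6 j (hSimpleE6 j (Nat.zero_le _) hj) c hc

/-- the signed permutation matrix of the graph automorphism -/
noncomputable def Pg : GL chevE6.Idx K := spGL chevE6 gPE6a gSE6a gP'E6a gS'E6a gInvE6a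

theorem hPact : Act (codeVec 6 corootCodesE6) ((Pg : GL chevE6.Idx K) : Matrix chevE6.Idx chevE6.Idx K) Pm := by
  rw [Pg, spGL_val]
  exact act_of_check chevE6 gPE6a _ corootCodesE6 Pm actOK

theorem hconj (s : ℕ) (hs : s < chevE6.nroots) (t : K) :
    ((Pg : GL chevE6.Idx K) : Matrix chevE6.Idx chevE6.Idx K) * chevE6.x K s t =
      chevE6.x K (dec8 gRE6a s) (((etaOf gSE6a (chevE6.rank + s) : ℤ) : K) * t) *
        ((Pg : GL chevE6.Idx K) : Matrix chevE6.Idx chevE6.Idx K) :=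
  sp_conj chevE6 gPE6a gSE6a gP'E6a gS'E6a gRE6a gInvE6a gConjE6a s hs t

theorem xcomm (r s : ℕ) (hrs : (r, s) ∈ commPairs) (a b : K) :
    xg (nData_E6 (F := K)) r a * xg nData_E6 s b = xg nData_E6 s b * xg nData_E6 r a :=
  xg_comm_of_check nData_E6 r s (commOK (r, s) hrs).1 (commOK (r, s) hrs).2 a b

/-! ### the Frobenius endomorphism and the twisted group -/

variable (p k : ℕ) [ExpChar K p]

/-- `t ↦ t ^ (p ^ k)` -/
noncomputable def frob : K →+* K := iterateFrobenius K p k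

theorem frob_apply (t : K) : frob (K := K) p k t = t ^ (p ^ k) := iterateFrobenius_def p k t

/-- the generators of `²E₆` are fixed by `τ` -/
theorem twisted_le_fix [Fintype K] (hK : Fintype.card K = (p ^ k) ^ 2) :
    twistedE6 K (p ^ k) ≤ fixTau (frob (K := K) p k) Pg := by
  obtain ⟨⟨hR1, hR2, hR3, hR4, hR5, hR6⟩, ⟨hR7, hR8, hR9, hR10, hR11, hR12⟩, hη, -, -, hn⟩ := tableOK
  have hφ2 : ∀ t : K, frob (K := K) p k (frob p k t) = t := by
    intro t
    rw [frob_apply, frob_apply, ← pow_mul, ← sq, ← hK, FiniteField.pow_card]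
  apply gen_le (nData_E6 (F := K))
  intro w hw
  rcases hw with ⟨t, ht, r, hr, rfl⟩ | ⟨t, rs, hrs, rfl⟩
  · have ht' : frob (K := K) p k t = t := by rw [frob_apply]; exact ht
    simp only [e6p2, e6m2, e6p4, e6m4, List.mem_cons, List.not_mem_nil, or_false] at hr
    simp only [List.map_cons, List.map_nil, List.prod_cons, List.prod_nil, mul_one]
    rcases hr with rfl | rfl | rfl | rfl
    · exact fix_one nData_E6 _ Pg _ _ hconj 46 (by rw [hn]; norm_num) hR5 (hη 46 (by simp)) t ht'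
    · exact fix_one nData_E6 _ Pg _ _ hconj 25 (by rw [hn]; norm_num) hR11 (hη 25 (by simp)) t ht'
    · exact fix_one nData_E6 _ Pg _ _ hconj 39 (by rw [hn]; norm_num) hR6 (hη 39 (by simp)) t ht'
    · exact fix_one nData_E6 _ Pg _ _ hconj 32 (by rw [hn]; norm_num) hR12 (hη 32 (by simp)) t ht'
  · simp only [e6p1, e6p6, e6m1, e6m6, e6p3, e6p5, e6m3, e6m5, List.mem_cons, List.not_mem_nil,
      or_false] at hrs
    simp only [List.map_cons, List.map_nil, List.prod_cons, List.prod_nil, mul_one]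
    rw [← frob_apply (K := K) p k t]
    rcases hrs with rfl | rfl | rfl | rfl
    · exact fix_two nData_E6 _ Pg _ _ hconj 56 36 (by rw [hn]; norm_num) (by rw [hn]; norm_num)
        hR1 hR2 (hη 56 (by simp)) (hη 36 (by simp)) (xcomm 56 36 (by simp [commPairs])) t (hφ2 t)
    · exact fix_two nData_E6 _ Pg _ _ hconj 15 35 (by rw [hn]; norm_num) (by rw [hn]; norm_num)
        hR7 hR8 (hη 15 (by simp)) (hη 35 (by simp)) (xcomm 15 35 (by simp [commPairs])) t (hφ2 t)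
    · exact fix_two nData_E6 _ Pg _ _ hconj 42 37 (by rw [hn]; norm_num) (by rw [hn]; norm_num)
        hR3 hR4 (hη 42 (by simp)) (hη 37 (by simp)) (xcomm 42 37 (by simp [commPairs])) t (hφ2 t)
    · exact fix_two nData_E6 _ Pg _ _ hconj 29 34 (by rw [hn]; norm_num) (by rw [hn]; norm_num)
        hR9 hR10 (hη 29 (by simp)) (hη 34 (by simp)) (xcomm 29 34 (by simp [commPairs])) t (hφ2 t)

theorem Ni_eq (i r r' : ℕ) (hs : chevE6.simple i = r) (hn : chevE6.neg r = r') :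
    Ni (nData_E6 (F := K)) i = xg nData_E6 r 1 * xg nData_E6 r' (-1) * xg nData_E6 r 1 := by
  rw [Ni, ng, hs, hn, inv_one]

/-- the product of two `n_i` over an orbit of length two lies in the twisted group -/
theorem pair_mem (r1 r1' r2 r2' : ℕ)
    (hw1 : (r1, r2) ∈ [(e6p1, e6p6), (e6m1, e6m6), (e6p3, e6p5), (e6m3, e6m5)])
    (hw2 : (r1', r2') ∈ [(e6p1, e6p6), (e6m1, e6m6), (e6p3, e6p5), (e6m3, e6m5)])
    (c1 : ∀ a b : K, xg (nData_E6 (F := K)) r1 a * xg nData_E6 r2 b = xg nData_E6 r2 b * xg nData_E6 r1 a)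
    (c2 : ∀ a b : K, xg (nData_E6 (F := K)) r1 a * xg nData_E6 r2' b = xg nData_E6 r2' b * xg nData_E6 r1 a)
    (c3 : ∀ a b : K, xg (nData_E6 (F := K)) r1' a * xg nData_E6 r2 b = xg nData_E6 r2 b * xg nData_E6 r1' a) :
    (xg (nData_E6 (F := K)) r1 1 * xg nData_E6 r1' (-1) * xg nData_E6 r1 1) *
      (xg nData_E6 r2 1 * xg nData_E6 r2' (-1) * xg nData_E6 r2 1) ∈ twistedE6 K (p ^ k) := by
  have hone' : (1 : K) ^ (p ^ k) = 1 := one_pow _
  have hneg' : (-1 : K) ^ (p ^ k) = -1 := by rw [← frob_apply, map_neg, map_one]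
  have hX : xg (nData_E6 (F := K)) r1 1 * xg nData_E6 r2 1 ∈ twistedE6 K (p ^ k) := by
    have := mem_gen_two (nData_E6 (F := K)) (e6Words K (p ^ k)) r1 r2 1 (1 ^ (p ^ k))
      (Or.inr ⟨1, (r1, r2), hw1, rfl⟩)
    rwa [hone'] at this
  have hY : xg (nData_E6 (F := K)) r1' (-1) * xg nData_E6 r2' (-1) ∈ twistedE6 K (p ^ k) := by
    have := mem_gen_two (nData_E6 (F := K)) (e6Words K (p ^ k)) r1' r2' (-1) ((-1) ^ (p ^ k))
      (Or.inr ⟨-1, (r1', r2'), hw2, rfl⟩)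
    rwa [hneg'] at this
  have hXYX := mul_mem (mul_mem hX hY) hX
  rw [rearr2 (c3 _ _).symm (c1 _ _).symm (c2 _ _).symm] at hXYX
  exact hXYX

/-- a single `n_i` of a fixed node lies in the twisted group -/
theorem single_mem (r r' : ℕ) (h1 : r ∈ [e6p2, e6m2, e6p4, e6m4]) (h2 : r' ∈ [e6p2, e6m2, e6p4, e6m4]) :
    xg (nData_E6 (F := K)) r 1 * xg nData_E6 r' (-1) * xg nData_E6 r 1 ∈ twistedE6 K (p ^ k) := by
  have hone' : (1 : K) ^ (p ^ k) = 1 := one_pow _
  have hneg' : (-1 : K) ^ (p ^ k) = -1 := by rw [← frob_apply, map_neg, map_one]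
  have h1' : xg (nData_E6 (F := K)) r 1 ∈ twistedE6 K (p ^ k) :=
    mem_gen_one nData_E6 _ r 1 (Or.inl ⟨1, hone', r, h1, rfl⟩)
  have h2' : xg (nData_E6 (F := K)) r' (-1) ∈ twistedE6 K (p ^ k) :=
    mem_gen_one nData_E6 _ r' (-1) (Or.inl ⟨-1, hneg', r', h2, rfl⟩)
  exact mul_mem (mul_mem h1' h2') h1'

/-- the orbit products of the `n_i` lie in `²E₆` -/
theorem hgen (j : Fin 4) :
    (((orb j).map (NiN (nData_E6 (F := K)) bridge_E6 hsimpE6)).prod : GL chevE6.Idx K) ∈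
      twistedE6 K (p ^ k) := by
  obtain ⟨-, -, -, ⟨hs0, hs1, hs2, hs3, hs4, hs5⟩, ⟨hn0, hn1, hn2, hn3, hn4, hn5⟩, -⟩ := tableOK
  fin_cases j
  · change ((([0, 5] : List (Fin 6)).map (NiN (nData_E6 (F := K)) bridge_E6 hsimpE6)).prod :
      GL chevE6.Idx K) ∈ _
    simp only [List.map_cons, List.map_nil, List.prod_cons, List.prod_nil, mul_one, Subgroup.coe_mul,
      NiN_coe]
    change Ni (nData_E6 (F := K)) 0 * Ni nData_E6 5 ∈ _
    rw [Ni_eq 0 56 15 hs0 hn0, Ni_eq 5 36 35 hs5 hn5]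
    exact pair_mem p k 56 15 36 35 (by simp [e6p1, e6p6]) (by simp [e6m1, e6m6])
      (xcomm 56 36 (by simp [commPairs])) (xcomm 56 35 (by simp [commPairs]))
      (xcomm 15 36 (by simp [commPairs]))
  · change ((([2, 4] : List (Fin 6)).map (NiN (nData_E6 (F := K)) bridge_E6 hsimpE6)).prod :
      GL chevE6.Idx K) ∈ _
    simp only [List.map_cons, List.map_nil, List.prod_cons, List.prod_nil, mul_one, Subgroup.coe_mul,
      NiN_coe]
    change Ni (nData_E6 (F := K)) 2 * Ni nData_E6 4 ∈ _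
    rw [Ni_eq 2 42 29 hs2 hn2, Ni_eq 4 37 34 hs4 hn4]
    exact pair_mem p k 42 29 37 34 (by simp [e6p3, e6p5]) (by simp [e6m3, e6m5])
      (xcomm 42 37 (by simp [commPairs])) (xcomm 42 34 (by simp [commPairs]))
      (xcomm 29 37 (by simp [commPairs]))
  · change ((([3] : List (Fin 6)).map (NiN (nData_E6 (F := K)) bridge_E6 hsimpE6)).prod :
      GL chevE6.Idx K) ∈ _
    simp only [List.map_cons, List.map_nil, List.prod_cons, List.prod_nil, mul_one, NiN_coe]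
    change Ni (nData_E6 (F := K)) 3 ∈ _
    rw [Ni_eq 3 39 32 hs3 hn3]
    exact single_mem p k 39 32 (by simp [e6p4]) (by simp [e6m4])
  · change ((([1] : List (Fin 6)).map (NiN (nData_E6 (F := K)) bridge_E6 hsimpE6)).prod :
      GL chevE6.Idx K) ∈ _
    simp only [List.map_cons, List.map_nil, List.prod_cons, List.prod_nil, mul_one, NiN_coe]
    change Ni (nData_E6 (F := K)) 1 ∈ _
    rw [Ni_eq 1 46 25 hs1 hn1]
    exact single_mem p k 46 25 (by simp [e6p2]) (by simp [e6m2])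

/-- **`N¹ / H¹ ≅ W(F₄)` for `²E₆(p^k)`** -/
theorem weyl_twistedE6 [Fintype K] (hK : Fintype.card K = (p ^ k) ^ 2) :
    ∃ φ : ↥(chevE6.monomialSubgroup K ⊓ twistedE6 K (p ^ k)) →* (CoxeterMatrix.F₄).Group,
      Function.Surjective φ ∧
      φ.ker = (chevE6.diagonalSubgroup K ⊓ twistedE6 K (p ^ k)).subgroupOf
        (chevE6.monomialSubgroup K ⊓ twistedE6 K (p ^ k)) :=
  exists_phi_twisted (nData_E6 (F := K)) bridge_E6 hsimpE6 (CoxeterMatrix.E₆)
    (ordersOK_spec Weyl.E6.vd (CoxeterMatrix.E₆) Weyl.E6.orders_ok)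
    (fun i j hij => by rw [mf_E6]; exact hrel_E6 nData_E6 i j hij j.2)
    (frob (K := K) p k) Pg Pm hPact (twistedE6 K (p ^ k)) (twisted_le_fix p k hK)
    piFun hPsingle hPpos orb horb_cover horb_trans horb_orth hg_comm Q Rr Z hRQ hPQ hZ
    Weyl.F4.vd hrg lam y0 hlam hreg (CoxeterMatrix.F₄)
    (ordersOK_spec Weyl.F4.vd (CoxeterMatrix.F₄) Weyl.F4.orders_ok) (hgen p k)

end

end Cfsg.Agent.Helper6.Twist.E6
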