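import Cfsg.Agent.Lib.Helper6.TwistCore
import Cfsg.Agent.Lib.Helper6.TwistE6
import Cfsg.Agent.Lib.Helper18.HAllE6
import Cfsg.Agent.Lib.Helper18.SConjE6
import Cfsg.Agent.Lib.Helper18.LinE6
import Cfsg.Agent.Lib.Helper17.ChevTriGen
import Cfsg.Agent.Lib.Helper18.ChevLongest

/-!
# The normal core of `B¹` in `²E₆(q)` is trivial
-/

set_option autoImplicit false
set_option maxRecDepth 100000

namespace Cfsg.Agent.Helper6.Twist.E6

open Cfsg.Lie Cfsg.Agent.Helper18 Cfsg.Agent.Helper17 Cfsg.Agent.Helper6.Weyl Cfsg.Agent.Helper6.Chev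
open Cfsg.Agent.Helper6.ChevS Cfsg.Agent.Helper6.ChevLen Cfsg.Agent.S1043 Matrix

theorem goodE6 : Good chevE6 := by simp [Good]

theorem torusE6 : TorusData chevE6 expE6 :=
  ⟨fun r hr => if h : r < 36 then hAllE6_0' r (Nat.zero_le _) h else hAllE6_36' r (not_lt.mp h) hr,
    fun i hi => hSimpleE6 i (Nat.zero_le _) hi,
    fun i hi => sConjE6 i (Nat.zero_le _) hi,
    fun r hr => if h : r < 36 then linE6_0' r (Nat.zero_le _) h else linE6_36' r (not_lt.mp h) hr⟩

/-- a reduced word of the longest element in terms of the orbit products -/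
def longWord : List ℕ := [0, 5, 2, 4, 3, 1, 0, 5, 2, 4, 3, 1, 0, 5, 2, 4, 3, 1, 0, 5, 2, 4, 3, 1, 0, 5, 2, 4, 3, 1, 0, 5, 2, 4, 3, 1]

theorem coreTable1 :
    (∀ r < chevE6.nroots, chevE6.neg r < chevE6.nroots ∧ chevE6.neg r ≠ r) ∧
    (∀ i < chevE6.rank, chevE6.IsPosRoot (chevE6.simple i)) ∧
    (∀ i ∈ longWord, i < chevE6.rank) ∧
    (∀ j < chevE6.rank, ∃ o ∈ ([[0, 5], [2, 4], [3], [1]] : List (List ℕ)), j ∈ o) ∧
    (∀ o ∈ ([[0, 5], [2, 4], [3], [1]] : List (List ℕ)),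
      o.Pairwise (fun a b => chevE6.cartan a (chevE6.simple b) = 0)) ∧
    (∀ o ∈ ([[0, 5], [2, 4], [3], [1]] : List (List ℕ)), ∀ i ∈ o,
      i < chevE6.rank ∧ chevE6.cartan i (chevE6.simple i) = 2) := by
  decide +kernel

theorem coreTable2 :
    (∀ i < chevE6.rank, ∀ i' < chevE6.rank, ∀ s < chevE6.nroots,
      chevE6.cartan i' (chevE6.reflectRoot i s) =
        chevE6.cartan i' s - chevE6.cartan i s * chevE6.cartan i' (chevE6.simple i)) := by
  decide +kernel

theorem coreTable3 :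
    (∀ s < chevE6.nroots, chevE6.IsPosRoot s → chevE6.IsNegRoot (permW chevE6 longWord s)) ∧
    (∀ r < chevE6.nroots, chevE6.IsNegRoot r → chevE6.IsPosRoot (permW chevE6 longWord r) ∧
      permW chevE6 longWord (permW chevE6 longWord r) = r) := by
  decide +kernel

section

variable {K : Type*} [Field K]

theorem hconj' : ∀ i < chevE6.rank, ∀ s < chevE6.nroots, ConjGoal' K chevE6 i s := by
  intro i hi s hs
  refine ⟨etaE6 i s, (nData_E6 (F := K)).eta_pm i hi s hs, fun t => ?_⟩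
  rw [(nData_E6 (F := K)).mono i hi]
  exact (nData_E6 (F := K)).conj i hi s hs t

theorem nGL_eq_Ni (i : ℕ) : nGL (F := K) chevE6 goodE6 i = Ni (nData_E6 (F := K)) i := by
  apply Units.ext
  rw [nGL_val, Ni, ng_val]

/-- the representative of the longest element -/
noncomputable def n0 : GL chevE6.Idx K := nWordGL chevE6 goodE6 longWord

theorem n0_mem_N : (n0 : GL chevE6.Idx K) ∈ chevE6.monomialSubgroup K := by
  obtain ⟨-, -, hl, -⟩ := coreTable1
  exact nWordGL_mem chevE6 goodE6 longWord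
    fun i hi => (nData_E6 (F := K)).simple_lt i (hl i hi)

theorem n0_conj : (chevE6.posUnipotent K).map (MulAut.conj (n0 : GL chevE6.Idx K)).toMonoidHom =
    chevE6.negUnipotent K := by
  obtain ⟨-, -, hl, -⟩ := coreTable1
  obtain ⟨hpn, hnp⟩ := coreTable3
  exact longest_conj chevE6 goodE6 (nData_E6 (F := K)).refl_lt hconj' longWord hl
    (fun s hs => hpn s hs.1 hs) (fun r hr => hnp r hr.1 hr)

variable (p k : ℕ) [ExpChar K p]

theorem n0_mem_G : (n0 : GL chevE6.Idx K) ∈ twistedE6 K (p ^ k) := by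
  have hA : Ni (nData_E6 (F := K)) 0 * Ni nData_E6 5 ∈ twistedE6 K (p ^ k) := by
    have := hgen (K := K) p k 0
    change ((([0, 5] : List (Fin 6)).map (NiN (nData_E6 (F := K)) bridge_E6 hsimpE6)).prod :
      GL chevE6.Idx K) ∈ _ at this
    simp only [List.map_cons, List.map_nil, List.prod_cons, List.prod_nil, mul_one, Subgroup.coe_mul,
      NiN_coe] at this
    exact this
  have hB : Ni (nData_E6 (F := K)) 2 * Ni nData_E6 4 ∈ twistedE6 K (p ^ k) := by
    have := hgen (K := K) p k 1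
    change ((([2, 4] : List (Fin 6)).map (NiN (nData_E6 (F := K)) bridge_E6 hsimpE6)).prod :
      GL chevE6.Idx K) ∈ _ at this
    simp only [List.map_cons, List.map_nil, List.prod_cons, List.prod_nil, mul_one, Subgroup.coe_mul,
      NiN_coe] at this
    exact this
  have hC : Ni (nData_E6 (F := K)) 3 ∈ twistedE6 K (p ^ k) := by
    have := hgen (K := K) p k 2
    change ((([3] : List (Fin 6)).map (NiN (nData_E6 (F := K)) bridge_E6 hsimpE6)).prod :
      GL chevE6.Idx K) ∈ _ at this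
    simp only [List.map_cons, List.map_nil, List.prod_cons, List.prod_nil, mul_one, NiN_coe] at this
    exact this
  have hD : Ni (nData_E6 (F := K)) 1 ∈ twistedE6 K (p ^ k) := by
    have := hgen (K := K) p k 3
    change ((([1] : List (Fin 6)).map (NiN (nData_E6 (F := K)) bridge_E6 hsimpE6)).prod :
      GL chevE6.Idx K) ∈ _ at this
    simp only [List.map_cons, List.map_nil, List.prod_cons, List.prod_nil, mul_one, NiN_coe] at this
    exact this
  have e : (n0 : GL chevE6.Idx K) =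
      (Ni (nData_E6 (F := K)) 0 * Ni nData_E6 5) * ((Ni (nData_E6 (F := K)) 2 * Ni nData_E6 4) * (Ni (nData_E6 (F := K)) 3 * (Ni (nData_E6 (F := K)) 1 *
      ((Ni (nData_E6 (F := K)) 0 * Ni nData_E6 5) * ((Ni (nData_E6 (F := K)) 2 * Ni nData_E6 4) * (Ni (nData_E6 (F := K)) 3 * (Ni (nData_E6 (F := K)) 1 *
      ((Ni (nData_E6 (F := K)) 0 * Ni nData_E6 5) * ((Ni (nData_E6 (F := K)) 2 * Ni nData_E6 4) * (Ni (nData_E6 (F := K)) 3 * (Ni (nData_E6 (F := K)) 1 *
      ((Ni (nData_E6 (F := K)) 0 * Ni nData_E6 5) * ((Ni (nData_E6 (F := K)) 2 * Ni nData_E6 4) * (Ni (nData_E6 (F := K)) 3 * (Ni (nData_E6 (F := K)) 1 *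
      ((Ni (nData_E6 (F := K)) 0 * Ni nData_E6 5) * ((Ni (nData_E6 (F := K)) 2 * Ni nData_E6 4) * (Ni (nData_E6 (F := K)) 3 * (Ni (nData_E6 (F := K)) 1 *
      ((Ni (nData_E6 (F := K)) 0 * Ni nData_E6 5) * ((Ni (nData_E6 (F := K)) 2 * Ni nData_E6 4) * (Ni (nData_E6 (F := K)) 3 * Ni (nData_E6 (F := K)) 1)))))))))))))))))))))) := by
    simp only [n0, nWordGL, longWord, List.map_cons, List.map_nil, List.prod_cons, List.prod_nil,
      mul_one, nGL_eq_Ni, mul_assoc]
  rw [e]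
  exact mul_mem hA (mul_mem hB (mul_mem hC (mul_mem hD (mul_mem hA (mul_mem hB (mul_mem hC (mul_mem hD (mul_mem hA (mul_mem hB (mul_mem hC (mul_mem hD (mul_mem hA (mul_mem hB (mul_mem hC (mul_mem hD (mul_mem hA (mul_mem hB (mul_mem hC (mul_mem hD (mul_mem hA (mul_mem hB (mul_mem hC hD))))))))))))))))))))))

theorem hgenX : ∀ o ∈ ([[0, 5], [2, 4], [3], [1]] : List (List ℕ)),
    (o.map fun i => xg (nData_E6 (F := K)) (chevE6.simple i) (1 : K)).prod ∈ twistedE6 K (p ^ k) := by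
  obtain ⟨-, -, -, ⟨hs0, hs1, hs2, hs3, hs4, hs5⟩, -, -⟩ := tableOK
  have hone' : (1 : K) ^ (p ^ k) = 1 := one_pow _
  intro o ho
  simp only [List.mem_cons, List.not_mem_nil, or_false] at ho
  rcases ho with rfl | rfl | rfl | rfl
  · simp only [List.map_cons, List.map_nil, List.prod_cons, List.prod_nil, mul_one, hs0, hs5]
    have := mem_gen_two (nData_E6 (F := K)) (e6Words K (p ^ k)) 56 36 1 (1 ^ (p ^ k))
      (Or.inr ⟨1, (56, 36), by simp [e6p1, e6p6], rfl⟩)
    rwa [hone'] at this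
  · simp only [List.map_cons, List.map_nil, List.prod_cons, List.prod_nil, mul_one, hs2, hs4]
    have := mem_gen_two (nData_E6 (F := K)) (e6Words K (p ^ k)) 42 37 1 (1 ^ (p ^ k))
      (Or.inr ⟨1, (42, 37), by simp [e6p3, e6p5], rfl⟩)
    rwa [hone'] at this
  · simp only [List.map_cons, List.map_nil, List.prod_cons, List.prod_nil, mul_one, hs3]
    exact mem_gen_one nData_E6 _ 39 1 (Or.inl ⟨1, hone', 39, by simp [e6p4], rfl⟩)
  · simp only [List.map_cons, List.map_nil, List.prod_cons, List.prod_nil, mul_one, hs1]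
    exact mem_gen_one nData_E6 _ 46 1 (Or.inl ⟨1, hone', 46, by simp [e6p2], rfl⟩)

/-- **the normal core of `B¹` in `²E₆(q)` is trivial** -/
theorem core_twistedE6 [Fintype K] (hk : 0 < k) (hp : p.Prime) (hK : Fintype.card K = (p ^ k) ^ 2) :
    ((chevE6.borelSubgroup K ⊓ twistedE6 K (p ^ k)).subgroupOf (twistedE6 K (p ^ k))).normalCore = ⊥ := by
  obtain ⟨hneg, hsp, -, hcover, horth, hin⟩ := coreTable1
  have hcart := coreTable2
  have hcard : 3 < Fintype.card K := by
    rw [hK]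
    have h2 : 2 ≤ p ^ k := by
      calc 2 ≤ p := hp.two_le
        _ = p ^ 1 := (pow_one p).symm
        _ ≤ p ^ k := Nat.pow_le_pow_right hp.pos hk
    calc 3 < 2 ^ 2 := by norm_num
      _ ≤ (p ^ k) ^ 2 := Nat.pow_le_pow_left h2 2
  obtain ⟨lam, hlam, hlam2⟩ := exists_lam hcard
  exact core_trivial chevE6 goodE6 torusE6 (nData_E6 (F := K)) triOK_E6 negTriOK_E6 hneg hsp hcart
    (twistedE6 K (p ^ k)) n0 n0_mem_N (n0_mem_G p k) n0_conj [[0, 5], [2, 4], [3], [1]] hcover horth hin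
    (hgenX p k) lam hlam hlam2

end

end Cfsg.Agent.Helper6.Twist.E6
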