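import Mathlib

/-!
# Exchange condition implies Coxeter system (Bourbaki IV §1.5 Prop. 5 and §1.6 Thm. 1)

Abstract setting: a group `W`, a family `σ : ι → W` of involutions generating `W`,
satisfying the (right) exchange condition.  Then `(W, σ)` is a Coxeter system for the
matrix `M i j = orderOf (σ i * σ j)`.
-/

set_option autoImplicit false

namespace Cfsg.Agent.Helper6.CoxExch

variable {ι W X : Type*} [Group W] [Group X]

/-- word product -/
def wp (σ : ι → W) (L : List ι) : W := (L.map σ).prod

@[simp] theorem wp_nil (σ : ι → W) : wp σ [] = 1 := by simp [wp]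

@[simp] theorem wp_cons (σ : ι → W) (i : ι) (L : List ι) : wp σ (i :: L) = σ i * wp σ L := by
  simp [wp]

@[simp] theorem wp_append (σ : ι → W) (L L' : List ι) : wp σ (L ++ L') = wp σ L * wp σ L' := by
  simp [wp]

theorem wp_singleton (σ : ι → W) (i : ι) : wp σ [i] = σ i := by simp

/-- reduced words -/
def IsRed (σ : ι → W) (L : List ι) : Prop :=
  ∀ L' : List ι, wp σ L' = wp σ L → L.length ≤ L'.length

theorem IsRed.of_append_left {σ : ι → W} {L L' : List ι} (h : IsRed σ (L ++ L')) : IsRed σ L := by
  intro L₁ h₁
  have := h (L₁ ++ L') (by simp [h₁])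
  simp only [List.length_append] at this
  omega

theorem IsRed.of_append_right {σ : ι → W} {L L' : List ι} (h : IsRed σ (L ++ L')) :
    IsRed σ L' := by
  intro L₁ h₁
  have := h (L ++ L₁) (by simp [h₁])
  simp only [List.length_append] at this
  omega

theorem isRed_nil (σ : ι → W) : IsRed σ [] := fun _ _ => by simp

theorem IsRed.eq_nil {σ : ι → W} {L : List ι} (h : IsRed σ L) (h1 : wp σ L = 1) : L = [] := by
  have := h [] (by simp [h1])
  simpa using this

/-- alternating words, starting with `x` -/
def altW (x y : ι) : ℕ → List ι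
  | 0 => []
  | k + 1 => x :: altW y x k

@[simp] theorem altW_zero (x y : ι) : altW x y 0 = [] := rfl
theorem altW_succ (x y : ι) (k : ℕ) : altW x y (k + 1) = x :: altW y x k := rfl

theorem altW_length (x y : ι) (k : ℕ) : (altW x y k).length = k := by
  induction k generalizing x y with
  | zero => rfl
  | succ k ih => simp [altW_succ, ih]

theorem altW_concat (x y : ι) (k : ℕ) :
    altW x y k ++ [if Even k then x else y] = altW x y (k + 1) := by
  induction k generalizing x y with
  | zero => simp [altW_succ]
  | succ k ih =>
    rw [altW_succ, List.cons_append, altW_succ x y (k + 1)]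
    congr 1
    rw [← ih y x]
    congr 2
    by_cases hk : Even k
    · have : ¬ Even (k + 1) := by
        rw [Nat.even_add_one]; exact fun h => h hk
      simp [hk, this]
    · have : Even (k + 1) := by
        rw [Nat.even_add_one]; exact hk
      simp [hk, this]

/-- alternating products -/
def altP (x y : W) : ℕ → W
  | 0 => 1
  | k + 1 => x * altP y x k

@[simp] theorem altP_zero (x y : W) : altP x y 0 = 1 := rfl
theorem altP_succ (x y : W) (k : ℕ) : altP x y (k + 1) = x * altP y x k := rfl

theorem wp_altW (σ : ι → W) (i j : ι) (k : ℕ) : wp σ (altW i j k) = altP (σ i) (σ j) k := by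
  induction k generalizing i j with
  | zero => simp
  | succ k ih => rw [altW_succ, wp_cons, ih, altP_succ]

theorem mul_pow_mul_comm' (x y : W) (q : ℕ) : (x * y) ^ q * x = x * (y * x) ^ q := by
  induction q with
  | zero => simp
  | succ q ih =>
    calc (x * y) ^ (q + 1) * x = (x * y) ^ q * x * (y * x) := by
          rw [pow_succ]; simp only [mul_assoc]
      _ = x * (y * x) ^ q * (y * x) := by rw [ih]
      _ = x * (y * x) ^ (q + 1) := by rw [pow_succ, mul_assoc]

theorem altP_mul_inv (x y : W) (hx : x * x = 1) (hy : y * y = 1) (q : ℕ) :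
    altP x y q * (altP y x q)⁻¹ = (x * y) ^ q := by
  induction q generalizing x y with
  | zero => simp
  | succ q ih =>
    have hyinv : y⁻¹ = y := inv_eq_of_mul_eq_one_right hy
    rw [altP_succ, altP_succ, mul_inv_rev, ← mul_assoc, mul_assoc x, ih y x hy hx, hyinv,
      pow_succ, ← mul_assoc, mul_pow_mul_comm']

theorem altP_eq_iff (x y : W) (hx : x * x = 1) (hy : y * y = 1) (q : ℕ) :
    altP x y q = altP y x q ↔ (x * y) ^ q = 1 := by
  rw [← altP_mul_inv x y hx hy q, mul_inv_eq_one]

/-- The hypotheses: involutions satisfying the right exchange condition. -/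
structure Exch (σ : ι → W) : Prop where
  sq : ∀ i, σ i * σ i = 1
  exch : ∀ (L : List ι) (t : ι), IsRed σ L → ¬ IsRed σ (L ++ [t]) →
    ∃ L' : List ι, L'.Sublist L ∧ L'.length + 1 = L.length ∧ wp σ L' = wp σ L * σ t

/-- compatibility of a second family of involutions `f : ι → X` with the orders in `W` -/
structure Compat (σ : ι → W) (f : ι → X) : Prop where
  sq : ∀ i, f i * f i = 1
  braid : ∀ i j q, (σ i * σ j) ^ q = 1 → (f i * f j) ^ q = 1

theorem ite_even_succ {α : Type*} (k : ℕ) (x y : α) :
    (if Even (k + 1) then x else y) = (if Even k then y else x) := by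
  by_cases hk : Even k
  · have : ¬ Even (k + 1) := by
      rw [Nat.even_add_one]; exact fun h => h hk
    simp [hk, this]
  · have : Even (k + 1) := by
      rw [Nat.even_add_one]; exact hk
    simp [hk, this]

section main

variable {σ : ι → W} {f : ι → X}

/-- Matsumoto-type statement for reduced words (Bourbaki IV §1.5 Prop. 5). -/
theorem matsumoto (hσ : Exch σ) (hf : Compat σ f) :
    ∀ (q : ℕ) (w : W), (∀ L' : List ι, wp σ L' = w → q ≤ L'.length) →
      ∀ a b : List ι, a.length = q → b.length = q → wp σ a = w → wp σ b = w →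
        wp f a = wp f b := by
  intro q
  induction q using Nat.strong_induction_on with
  | _ q IH =>
  intro w hmin a b ha hb haw hbw
  by_contra hne
  have hred : ∀ x : List ι, x.length = q → wp σ x = w → IsRed σ x := by
    intro x hx hxw L' hL'
    rw [hx]; exact hmin L' (hL'.trans hxw)
  -- same head
  have H1 : ∀ (i : ι) (x' y' : List ι), (i :: x').length = q → (i :: y').length = q →
      wp σ (i :: x') = w → wp σ (i :: y') = w → wp f (i :: x') = wp f (i :: y') := by
    intro i x' y' hx hy hxw hyw
    simp only [List.length_cons] at hx hy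
    have hw' : ∀ L' : List ι, wp σ L' = σ i * w → q - 1 ≤ L'.length := by
      intro L' hL'
      have := hmin (i :: L') (by rw [wp_cons, hL', ← mul_assoc, hσ.sq, one_mul])
      simp only [List.length_cons] at this
      omega
    have h := IH (q - 1) (by omega) (σ i * w) hw' x' y' (by omega) (by omega)
      (by rw [← hxw, wp_cons, ← mul_assoc, hσ.sq, one_mul])
      (by rw [← hyw, wp_cons, ← mul_assoc, hσ.sq, one_mul])
    rw [wp_cons, wp_cons, h]
  -- same last letter
  have H2 : ∀ (i : ι) (x' y' : List ι), (x' ++ [i]).length = q → (y' ++ [i]).length = q →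
      wp σ (x' ++ [i]) = w → wp σ (y' ++ [i]) = w → wp f (x' ++ [i]) = wp f (y' ++ [i]) := by
    intro i x' y' hx hy hxw hyw
    simp only [List.length_append, List.length_cons, List.length_nil] at hx hy
    have hw' : ∀ L' : List ι, wp σ L' = w * σ i → q - 1 ≤ L'.length := by
      intro L' hL'
      have := hmin (L' ++ [i]) (by rw [wp_append, wp_singleton, hL', mul_assoc, hσ.sq, mul_one])
      simp only [List.length_append, List.length_cons, List.length_nil] at this
      omega
    have h := IH (q - 1) (by omega) (w * σ i) hw' x' y' (by omega) (by omega)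
      (by rw [← hxw, wp_append, wp_singleton, mul_assoc, hσ.sq, mul_one])
      (by rw [← hyw, wp_append, wp_singleton, mul_assoc, hσ.sq, mul_one])
    rw [wp_append, wp_append, h]
  -- the basic step
  have Step : ∀ (x y' : List ι) (t : ι), x.length = q → (y' ++ [t]).length = q →
      wp σ x = w → wp σ (y' ++ [t]) = w → wp f x ≠ wp f (y' ++ [t]) →
      (x.tail ++ [t]).length = q ∧ wp σ (x.tail ++ [t]) = w ∧
        wp f (x.tail ++ [t]) ≠ wp f x := by
    intro x y' t hx hy hxw hyw hxy
    have hxr := hred x hx hxw
    have hnr : ¬ IsRed σ (x ++ [t]) := by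
      intro h
      have := h y' (by
        rw [wp_append, wp_singleton, hxw, ← hyw, wp_append, wp_singleton, mul_assoc, hσ.sq,
          mul_one])
      simp only [List.length_append, List.length_cons, List.length_nil] at this hy
      omega
    obtain ⟨L', hsub, hlen, hwp⟩ := hσ.exch x t hxr hnr
    have hz'w : wp σ (L' ++ [t]) = w := by
      rw [wp_append, wp_singleton, hwp, hxw, mul_assoc, hσ.sq, mul_one]
    have hz'len : (L' ++ [t]).length = q := by
      simp only [List.length_append, List.length_cons, List.length_nil]; omega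
    have hz'y : wp f (L' ++ [t]) = wp f (y' ++ [t]) := H2 t L' y' hz'len hy hz'w hyw
    cases x with
    | nil =>
      simp only [List.length_nil] at hx
      simp only [List.length_append, List.length_cons, List.length_nil] at hy
      omega
    | cons i x' =>
      rcases List.sublist_cons_iff.1 hsub with h1 | ⟨r, rfl, h2⟩
      · have : L' = x' := h1.eq_of_length (by simp only [List.length_cons] at hlen; omega)
        subst this
        refine ⟨by simpa using hz'len, by simpa using hz'w, ?_⟩
        simp only [List.tail_cons]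
        rw [hz'y]; exact fun h => hxy h.symm
      · exfalso
        have := H1 i (r ++ [t]) x' (by simpa using hz'len) hx (by simpa using hz'w) hxw
        apply hxy
        rw [← this, ← hz'y]; simp
  -- q ≥ 1, split off last letters
  rcases List.eq_nil_or_concat' a with rfl | ⟨a', t, hadef⟩
  · have hq0 : q = 0 := by rw [← ha]; rfl
    rw [hq0, List.length_eq_zero_iff] at hb
    subst hb
    exact hne rfl
  have hq1 : 1 ≤ q := by
    rw [← ha, hadef]; simp
  rcases List.eq_nil_or_concat' b with rfl | ⟨b', t', rfl⟩
  · simp only [List.length_nil] at hb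
    omega
  let cw : ℕ → List ι := fun k => a.drop k ++ altW t' t k
  have hlast : ∀ k, ∃ y', cw k = y' ++ [if Even k then t else t'] := by
    intro k
    cases k with
    | zero => exact ⟨a', by simp [cw, hadef]⟩
    | succ k =>
      refine ⟨a.drop (k + 1) ++ altW t' t k, ?_⟩
      simp only [cw]
      rw [List.append_assoc, ite_even_succ, altW_concat]
  have C : ∀ k, k + 1 ≤ q → ((cw k).length = q ∧ wp σ (cw k) = w) ∧
      ((cw (k + 1)).length = q ∧ wp σ (cw (k + 1)) = w) ∧
        wp f (cw (k + 1)) ≠ wp f (cw k) := by
    intro k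
    induction k with
    | zero =>
      intro _
      have h0 : cw 0 = a := by simp [cw]
      have h1 : cw 1 = a.tail ++ [t'] := by simp [cw, altW_succ]
      have := Step a b' t' ha hb haw hbw hne
      rw [h0, h1]
      exact ⟨⟨ha, haw⟩, ⟨this.1, this.2.1⟩, this.2.2⟩
    | succ k ih =>
      intro hk
      obtain ⟨⟨hk1, hk2⟩, ⟨hk3, hk4⟩, hk5⟩ := ih (by omega)
      obtain ⟨y', hy'⟩ := hlast k
      have hstep := Step (cw (k + 1)) y' (if Even k then t else t') hk3 (hy' ▸ hk1) hk4
        (hy' ▸ hk2) (hy' ▸ hk5)
      have hcw : (cw (k + 1)).tail ++ [if Even k then t else t'] = cw (k + 1 + 1) := by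
        simp only [cw]
        have hne' : a.drop (k + 1) ≠ [] := by
          intro h
          have := congrArg List.length h
          simp only [List.length_drop, List.length_nil] at this
          omega
        rw [List.tail_append_of_ne_nil hne', List.tail_drop, List.append_assoc,
          ← ite_even_succ, altW_concat]
      rw [hcw] at hstep
      exact ⟨⟨hk3, hk4⟩, ⟨hstep.1, hstep.2.1⟩, hstep.2.2⟩
  obtain ⟨⟨_, hc2⟩, ⟨_, hc4⟩, hc5⟩ := C (q - 1) (by omega)
  have hq' : q - 1 + 1 = q := by omega
  rw [hq'] at hc4 hc5
  have e1 : cw q = altW t' t q := by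
    simp only [cw]
    rw [List.drop_of_length_le (by omega), List.nil_append]
  have e2 : cw (q - 1) = altW t t' q := by
    simp only [cw]
    have hl : a'.length = q - 1 := by
      rw [hadef] at ha
      simp only [List.length_append, List.length_cons, List.length_nil] at ha
      omega
    rw [hadef, List.drop_left' hl]
    conv_rhs => rw [← hq', altW_succ]
    rfl
  rw [e1] at hc4 hc5
  rw [e2] at hc2 hc5
  apply hc5
  rw [wp_altW] at hc2 hc4
  rw [wp_altW, wp_altW]
  rw [altP_eq_iff _ _ (hf.sq _) (hf.sq _)]
  apply hf.braid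
  rw [← altP_eq_iff _ _ (hσ.sq _) (hσ.sq _), hc2, hc4]

/-- every word can be replaced by a reduced one with the same value on both sides -/
theorem exists_isRed (hσ : Exch σ) (hf : Compat σ f) (L : List ι) :
    ∃ L', IsRed σ L' ∧ wp σ L' = wp σ L ∧ wp f L' = wp f L := by
  induction L using List.reverseRecOn with
  | nil => exact ⟨[], isRed_nil σ, rfl, rfl⟩
  | append_singleton L0 t ih =>
    obtain ⟨L0', hr, h1, h2⟩ := ih
    by_cases hred : IsRed σ (L0' ++ [t])
    · exact ⟨L0' ++ [t], hred, by simp [h1], by simp [h2]⟩
    · obtain ⟨L', hsub, hlen, hwp⟩ := hσ.exch L0' t hr hred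
      refine ⟨L', ?_, ?_, ?_⟩
      · intro L'' hL''
        have := hr (L'' ++ [t])
          (by rw [wp_append, wp_singleton, hL'', hwp, mul_assoc, hσ.sq, mul_one])
        simp only [List.length_append, List.length_cons, List.length_nil] at this
        omega
      · rw [hwp, wp_append, wp_singleton, h1]
      · have hm := matsumoto hσ hf L0'.length (wp σ L0') (fun L'' h => hr L'' h) (L' ++ [t]) L0'
          (by simp only [List.length_append, List.length_cons, List.length_nil]; omega) rfl
          (by rw [wp_append, wp_singleton, hwp, mul_assoc, hσ.sq, mul_one]) rfl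
        rw [wp_append, wp_singleton, ← h2, ← hm, wp_append, wp_singleton, mul_assoc, hf.sq,
          mul_one]

end main

/-- **Exchange condition ⟹ Coxeter system**, with the Coxeter matrix made explicit. -/
theorem exists_coxeterSystem' (σ : ι → W) (hσ : Exch σ) (hinj : Function.Injective σ)
    (hgen : ∀ w : W, ∃ L : List ι, wp σ L = w) :
    ∃ (M : CoxeterMatrix ι) (cs : CoxeterSystem M W), (∀ i, cs.simple i = σ i) ∧
      ∀ i j, M i j = orderOf (σ i * σ j) := by
  classical
  have hinv : ∀ i, (σ i)⁻¹ = σ i := fun i => inv_eq_of_mul_eq_one_right (hσ.sq i)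
  let M : CoxeterMatrix ι :=
    { M := Matrix.of fun i j => orderOf (σ i * σ j)
      isSymm := by
        ext i j
        simp only [Matrix.transpose_apply, Matrix.of_apply]
        rw [← orderOf_inv (σ i * σ j), mul_inv_rev, hinv, hinv]
      diagonal := by
        intro i
        simp only [Matrix.of_apply]
        rw [hσ.sq, orderOf_one]
      off_diagonal := by
        intro i j hij h
        simp only [Matrix.of_apply] at h
        rw [orderOf_eq_one_iff] at h
        apply hij
        apply hinj
        rw [← hinv j]
        exact eq_inv_of_mul_eq_one_left h }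
  have hM : ∀ i j, M i j = orderOf (σ i * σ j) := fun i j => rfl
  let cs0 : CoxeterSystem M M.Group := M.toCoxeterSystem
  have hcompat : Compat σ cs0.simple :=
    { sq := fun i => cs0.simple_mul_simple_self i
      braid := by
        intro i j q hq
        have hdvd : M i j ∣ q := by
          rw [hM]; exact orderOf_dvd_of_pow_eq_one hq
        obtain ⟨c, rfl⟩ := hdvd
        rw [pow_mul, cs0.simple_mul_simple_pow, one_pow] }
  have hlift : M.IsLiftable σ := fun i j => by rw [hM]; exact pow_orderOf_eq_one _
  let φ : M.Group →* W := cs0.lift ⟨σ, hlift⟩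
  have hφ : ∀ L : List ι, φ (wp cs0.simple L) = wp σ L := by
    intro L
    induction L with
    | nil => simp
    | cons i L ih => rw [wp_cons, map_mul, ih, wp_cons, cs0.lift_apply_simple]
  have hφinj : Function.Injective φ := by
    rw [injective_iff_map_eq_one]
    intro x hx
    obtain ⟨L, rfl⟩ := cs0.wordProd_surjective x
    change φ (wp cs0.simple L) = 1 at hx
    change wp cs0.simple L = 1
    obtain ⟨L', hr, h1, h2⟩ := exists_isRed hσ hcompat L
    rw [hφ] at hx
    have : L' = [] := hr.eq_nil (h1.trans hx)
    rw [← h2, this, wp_nil]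
  have hφsurj : Function.Surjective φ := by
    intro w
    obtain ⟨L, rfl⟩ := hgen w
    exact ⟨wp cs0.simple L, hφ L⟩
  let e : M.Group ≃* W := MulEquiv.ofBijective φ ⟨hφinj, hφsurj⟩
  refine ⟨M, ⟨e.symm⟩, ?_, hM⟩
  intro i
  change e (M.simple i) = σ i
  change φ (cs0.simple i) = σ i
  exact cs0.lift_apply_simple hlift i

/-- **Exchange condition ⟹ Coxeter system** (Bourbaki IV §1.6 Thm. 1). -/
theorem exists_coxeterSystem (σ : ι → W) (hσ : Exch σ) (hinj : Function.Injective σ)
    (hgen : ∀ w : W, ∃ L : List ι, wp σ L = w) :
    ∃ (M : CoxeterMatrix ι) (cs : CoxeterSystem M W), ∀ i, cs.simple i = σ i := by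
  obtain ⟨M, cs, h, _⟩ := exists_coxeterSystem' σ hσ hinj hgen
  exact ⟨M, cs, h⟩

end Cfsg.Agent.Helper6.CoxExch
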