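import Cfsg.Agent.Lib.Helper6.BNExchange
import Cfsg.Agent.Lib.Helper6.CoxExch

/-!
# The Weyl group of a (B,N)-pair is a Coxeter group
-/

set_option autoImplicit false

namespace Cfsg.Agent.Helper6

open Cfsg Cfsg.Agent.Helper6.CoxExch

variable {G : Type*} [Group G] (P : Cfsg.BNPair G)

/-- underlying list of group elements -/
def vals (L : List P.S) : List G := L.map Subtype.val

theorem vals_mem (L : List P.S) : ∀ x ∈ vals P L, x ∈ P.S := by
  intro x hx
  obtain ⟨y, _, rfl⟩ := List.mem_map.1 hx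
  exact y.2

@[simp] theorem vals_length (L : List P.S) : (vals P L).length = L.length := by simp [vals]

theorem exists_vals_eq (L0 : List G) (h : ∀ x ∈ L0, x ∈ P.S) : ∃ L : List P.S, vals P L = L0 := by
  induction L0 with
  | nil => exact ⟨[], rfl⟩
  | cons x L0 ih =>
    obtain ⟨L, hL⟩ := ih (fun y hy => h y (List.mem_cons_of_mem _ hy))
    exact ⟨⟨x, h x (by simp)⟩ :: L, by simp [vals] at hL ⊢; exact hL⟩

/-- product of a word as an element of `N` -/
def prodN (L : List P.S) : P.N := ⟨(vals P L).prod, list_prod_mem_N P (vals_mem P L)⟩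

variable [hN : ((P.B ⊓ P.N).subgroupOf P.N).Normal]

/-- the distinguished involutions of the Weyl group -/
def sig (s : P.S) : P.N ⧸ (P.B ⊓ P.N).subgroupOf P.N :=
  QuotientGroup.mk (⟨(s : G), P.subset s.2⟩ : P.N)

theorem wp_sig (L : List P.S) : wp (sig P) L = QuotientGroup.mk (prodN P L) := by
  induction L with
  | nil => rfl
  | cons s L ih =>
    rw [wp_cons, ih]
    rfl

omit hN in
theorem mk_eq_mk_iff (n n' : P.N) :
    (QuotientGroup.mk n : P.N ⧸ (P.B ⊓ P.N).subgroupOf P.N) = QuotientGroup.mk n' ↔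
      (n : G)⁻¹ * n' ∈ P.B := by
  rw [QuotientGroup.eq, Subgroup.mem_subgroupOf]
  constructor
  · intro h
    exact h.1
  · intro h
    exact ⟨h, (n⁻¹ * n').2⟩

theorem wp_sig_eq_iff (L : List P.S) (n : P.N) :
    wp (sig P) L = QuotientGroup.mk n ↔ Rep P (vals P L) n.1 := by
  rw [wp_sig, mk_eq_mk_iff]
  constructor
  · intro h
    exact ⟨vals_mem P L, h⟩
  · intro h
    exact h.2

theorem red_of_isRed (L : List P.S) (h : IsRed (sig P) L) : Red P (vals P L) (prodN P L).1 := by
  have hrep : Rep P (vals P L) (prodN P L).1 := Rep.prod P (vals_mem P L)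
  refine ⟨hrep, le_antisymm ?_ (len_le_of_rep P hrep)⟩
  obtain ⟨L0, hL0, hlen⟩ := exists_rep_len P (prodN P L).2
  obtain ⟨L0', rfl⟩ := exists_vals_eq P L0 hL0.1
  have h1 := h L0' (by rw [wp_sig P L, wp_sig_eq_iff]; exact hL0)
  rw [← hlen, vals_length, vals_length]
  exact h1

theorem sig_sq (s : P.S) : sig P s * sig P s = 1 := by
  have h : sig P s * sig P s = QuotientGroup.mk ((⟨(s : G), P.subset s.2⟩ : P.N) * ⟨(s : G), P.subset s.2⟩) :=
    rfl
  rw [h, QuotientGroup.eq_one_iff, Subgroup.mem_subgroupOf]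
  exact sq_mem_T P s.2

theorem sig_injective : Function.Injective (sig P) := by
  intro s s' h
  have h' := (mk_eq_mk_iff P _ _).1 h
  exact Subtype.ext (P.inj s s.2 s' s'.2 h')

theorem sig_gen (w : P.N ⧸ (P.B ⊓ P.N).subgroupOf P.N) : ∃ L : List P.S, wp (sig P) L = w := by
  induction w using QuotientGroup.induction_on with
  | H n =>
    obtain ⟨L0, hL0⟩ := exists_rep P n.2
    obtain ⟨L, rfl⟩ := exists_vals_eq P L0 hL0.1
    exact ⟨L, (wp_sig_eq_iff P L n).2 hL0⟩

theorem sig_exch : Exch (sig P) := by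
  refine ⟨sig_sq P, ?_⟩
  intro L t hr hnr
  have hred := red_of_isRed P L hr
  set n := prodN P L with hn
  let tN : P.N := ⟨(t : G), P.subset t.2⟩
  have hwpt : wp (sig P) (L ++ [t]) = QuotientGroup.mk (n * tN) := by
    rw [wp_append, wp_singleton, wp_sig]
    rfl
  have hlt : len P ((n : G) * t) < len P (n : G) := by
    unfold IsRed at hnr
    push Not at hnr
    obtain ⟨L'', hL''1, hL''2⟩ := hnr
    rw [hwpt, wp_sig_eq_iff] at hL''1
    have h1 := len_le_of_rep P hL''1
    have h2 := hred.2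
    simp only [vals_length, List.length_append, List.length_cons, List.length_nil] at h1 h2 hL''2
    have h3 := len_mul_S_cases P t.2 n.2
    have h4 : ((n * tN : P.N) : G) = (n : G) * t := rfl
    rw [h4] at h1
    omega
  obtain ⟨L'G, hsub, hlen, hrep⟩ := exchange_right P n.2 t.2 hred hlt
  obtain ⟨L', hL'sub, rfl⟩ := List.sublist_map_iff.1 hsub
  refine ⟨L', hL'sub, by simpa [vals] using hlen, ?_⟩
  have : wp (sig P) L * sig P t = QuotientGroup.mk (n * tN) := by
    rw [wp_sig]; rfl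
  rw [this, wp_sig_eq_iff]
  exact hrep

theorem weyl_coxeter :
    ∃ (M : CoxeterMatrix P.S) (cs : CoxeterSystem M (P.N ⧸ (P.B ⊓ P.N).subgroupOf P.N)),
      ∀ s : P.S, cs.simple s = QuotientGroup.mk (⟨(s : G), P.subset s.2⟩ : P.N) :=
  exists_coxeterSystem (sig P) (sig_exch P) (sig_injective P) (sig_gen P)

end Cfsg.Agent.Helper6
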