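import Cfsg.Agent.Lib.Helper6.BNParabolic

set_option autoImplicit false

namespace Cfsg.Agent.Helper6

open Cfsg

variable {G : Type*} [Group G] (P : Cfsg.BNPair G)

/-- right exchange condition -/
theorem exchange_right {L : List G} : ∀ {n s : G}, n ∈ P.N → s ∈ P.S → Red P L n →
    len P (n * s) < len P n →
    ∃ L' : List G, L'.Sublist L ∧ L'.length + 1 = L.length ∧ Rep P L' (n * s) := by
  induction L with
  | nil =>
    intro n s _ _ hred hlt
    have := hred.2
    simp only [List.length_nil] at this
    omega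
  | cons y L0 ih =>
    intro n s hn hs hred hlt
    have hy : y ∈ P.S := hred.1.1 y (by simp)
    have hyN := P.subset hy
    have hsN := P.subset hs
    set n0 := y⁻¹ * n with hn0
    have hn0N : n0 ∈ P.N := P.N.mul_mem (P.N.inv_mem hyN) hn
    have hnn0 : n = y * n0 := by rw [hn0]; group
    have hred0 : Red P L0 n0 := hred.tail P hn
    have hlen : len P n = len P n0 + 1 := by
      have h1 := hred.2
      have h2 := hred0.2
      rw [List.length_cons] at h1
      omega
    rcases len_mul_S_cases P hs hn0N with hcase | hcase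
    · -- len (n0 s) = len n0 + 1 : use condC
      have h1 : len P n0 < len P (y * n0) := by rw [← hnn0]; omega
      have h2 : len P (y * (n0 * s)) < len P (n0 * s) := by
        have : y * (n0 * s) = n * s := by rw [hnn0]; group
        rw [this]; omega
      have h3 := condC P hy hs hn0N h1 h2
      rw [← hnn0] at h3
      -- n ≡ n0 s  ⟹  n s ≡ n0
      have h4 := eqv_mul_right P hn (P.N.mul_mem hn0N hsN) hsN h3
      have h5 : (n * s)⁻¹ * n0 ∈ P.B := eqv_trans P h4 (eqv_mul_SS P hs)
      refine ⟨L0, List.sublist_cons_self y L0, by simp, ?_⟩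
      exact hred0.1.congr P (eqv_symm P h5)
    · -- len (n0 s) < len n0 : induction
      have hlt0 : len P (n0 * s) < len P n0 := by omega
      obtain ⟨L', hsub, hlen', hrep⟩ := ih hn0N hs hred0 hlt0
      refine ⟨y :: L', hsub.cons_cons y, by simp [hlen'], ?_⟩
      have : n * s = y * (n0 * s) := by rw [hnn0]; group
      rw [this]
      exact hrep.cons P hy

/-- every word contains a reduced subword representing the same element -/
theorem exists_red_sublist (L : List G) (hL : ∀ x ∈ L, x ∈ P.S) :
    ∃ L' : List G, L'.Sublist L ∧ Red P L' L.prod := by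
  induction L using List.reverseRecOn with
  | nil => exact ⟨[], List.Sublist.refl _, Rep.prod P (by simp), by
      have : len P ([] : List G).prod = 0 := by
        rw [List.prod_nil]; exact (len_eq_zero_iff P P.N.one_mem).2 P.B.one_mem
      rw [this]; rfl⟩
  | append_singleton L0 x ih =>
    have hL0 : ∀ z ∈ L0, z ∈ P.S := fun z hz => hL z (by simp [hz])
    have hx : x ∈ P.S := hL x (by simp)
    have hxN := P.subset hx
    obtain ⟨L0', hsub, hred⟩ := ih hL0
    have hnN : L0.prod ∈ P.N := list_prod_mem_N P hL0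
    rw [List.prod_append, List.prod_singleton]
    rcases len_mul_S_cases P hx hnN with hcase | hcase
    · refine ⟨L0' ++ [x], hsub.append (List.Sublist.refl _), ⟨?_, ?_⟩, ?_⟩
      · intro z hz
        rcases List.mem_append.1 hz with hz | hz
        · exact hred.1.1 z hz
        · rw [List.mem_singleton.1 hz]; exact hx
      · rw [List.prod_append, List.prod_singleton]
        exact eqv_mul_right P (list_prod_mem_N P hred.1.1) hnN hxN hred.1.2
      · rw [List.length_append, List.length_singleton, hred.2, hcase]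
    · have hlt : len P (L0.prod * x) < len P L0.prod := by omega
      obtain ⟨L'', hsub'', hlen'', hrep''⟩ := exchange_right P hnN hx hred hlt
      refine ⟨L'', (hsub''.trans hsub).trans (List.sublist_append_left L0 [x]), hrep'', ?_⟩
      have := hred.2
      omega

/-- a distinguished generator lying in a standard parabolic belongs to its index set -/
theorem mem_of_S_mem_parabolic {J : Set G} (hJ : J ⊆ P.S) {s : G} (hs : s ∈ P.S)
    (h : s ∈ P.parabolic J) : s ∈ J := by
  obtain ⟨n, hn, hsn⟩ := (mem_parabolic_iff P hJ s).1 h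
  have hnN : n ∈ P.N := closure_le_N P hJ hn
  have hsN := P.subset hs
  have h1 : s⁻¹ * n ∈ P.B := bruhat_unique P hsN hnN (C_eq_of_mem P hsn)
  obtain ⟨L, hL, hLn⟩ := exists_word_of_mem_closure' P hJ hn
  have hLS : ∀ x ∈ L, x ∈ P.S := fun x hx => hJ (hL x hx)
  obtain ⟨L', hsub, hred⟩ := exists_red_sublist P L hLS
  have hlen : len P L.prod = 1 := by
    rw [len_congr P hLn, ← len_congr P h1, len_S P hs]
  have hL'len : L'.length = 1 := by rw [hred.2, hlen]
  obtain ⟨x, rfl⟩ := List.length_eq_one_iff.1 hL'len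
  have hxL : x ∈ L := hsub.subset (by simp)
  have hxJ : x ∈ J := hL x hxL
  have h2 : x⁻¹ * L.prod ∈ P.B := by simpa using hred.1.2
  have h3 : x⁻¹ * s ∈ P.B := eqv_trans P (eqv_trans P h2 hLn) (eqv_symm P h1)
  rw [← P.inj x (hJ hxJ) s hs h3]
  exact hxJ

theorem parabolic_le_iff {J K : Set G} (hJ : J ⊆ P.S) (hK : K ⊆ P.S) :
    P.parabolic J ≤ P.parabolic K ↔ J ⊆ K := by
  constructor
  · intro h s hs
    exact mem_of_S_mem_parabolic P hK (hJ hs) (h (closure_le_parabolic P J (Subgroup.subset_closure hs)))
  · exact parabolic_mono P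

theorem parabolic_injective {J K : Set G} (hJ : J ⊆ P.S) (hK : K ⊆ P.S)
    (h : P.parabolic J = P.parabolic K) : J = K :=
  Set.Subset.antisymm ((parabolic_le_iff P hJ hK).1 h.le) ((parabolic_le_iff P hK hJ).1 h.ge)

theorem parabolic_inf {J K : Set G} (hJ : J ⊆ P.S) (hK : K ⊆ P.S) :
    P.parabolic J ⊓ P.parabolic K = P.parabolic (J ∩ K) := by
  have hB : P.B ≤ P.parabolic J ⊓ P.parabolic K :=
    le_inf (B_le_parabolic P J) (B_le_parabolic P K)
  rw [eq_parabolic_of_B_le P _ hB]
  congr 1
  ext s
  constructor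
  · rintro ⟨hs, h1, h2⟩
    exact ⟨mem_of_S_mem_parabolic P hJ hs h1, mem_of_S_mem_parabolic P hK hs h2⟩
  · rintro ⟨h1, h2⟩
    exact ⟨hJ h1, closure_le_parabolic P J (Subgroup.subset_closure h1),
      closure_le_parabolic P K (Subgroup.subset_closure h2)⟩

theorem generator_not_mem_closure_rest {s : G} (hs : s ∈ P.S) :
    s ∉ Subgroup.closure (P.S \ {s}) ⊔ (P.B ⊓ P.N) := by
  intro h
  have hle : Subgroup.closure (P.S \ {s}) ⊔ (P.B ⊓ P.N) ≤ P.parabolic (P.S \ {s}) := by
    apply sup_le (closure_le_parabolic P _)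
    exact le_trans inf_le_left (B_le_parabolic P _)
  have := mem_of_S_mem_parabolic P Set.sdiff_subset hs (hle h)
  exact this.2 rfl

/-- elements of `closure {s}` are `≡ 1` or `≡ s` -/
theorem mem_closure_singleton_cases {s n : G} (hs : s ∈ P.S) (hn : n ∈ Subgroup.closure {s}) :
    n ∈ P.B ∨ s⁻¹ * n ∈ P.B := by
  induction hn using Subgroup.closure_induction_left with
  | one => exact Or.inl P.B.one_mem
  | mul_left x hx y _ ih =>
    rw [Set.mem_singleton_iff] at hx
    subst hx
    rcases ih with h | h
    · right; simpa using h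
    · left
      have : x * y = (x * x) * (x⁻¹ * y) := by group
      rw [this]; exact P.B.mul_mem (P.sq_mem x hs) h
  | inv_mul_cancel x hx y _ ih =>
    rw [Set.mem_singleton_iff] at hx
    subst hx
    rcases ih with h | h
    · right
      have : x⁻¹ * (x⁻¹ * y) = (x * x)⁻¹ * y := by group
      rw [this]; exact P.B.mul_mem (P.B.inv_mem (P.sq_mem x hs)) h
    · left; exact h

theorem parabolic_singleton {s : G} (hs : s ∈ P.S) :
    (P.parabolic {s} : Set G) = (P.B : Set G) ∪ C P s := by
  ext g
  rw [SetLike.mem_coe, mem_parabolic_iff P (Set.singleton_subset_iff.2 hs)]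
  constructor
  · rintro ⟨n, hn, hg⟩
    rcases mem_closure_singleton_cases P hs hn with h | h
    · left; exact (mem_C_iff_mem_B P h).1 hg
    · right; rw [C_congr P h]; exact hg
  · rintro (h | h)
    · exact ⟨1, Subgroup.one_mem _, by rw [C_one]; exact h⟩
    · exact ⟨s, Subgroup.subset_closure rfl, h⟩

theorem union_double_coset_is_subgroup_iff {n : G} (hn : n ∈ P.N) (hnB : n ∉ P.B) :
    (∃ H : Subgroup G, (H : Set G) = (P.B : Set G) ∪ C P n) ↔ ∃ s ∈ P.S, s⁻¹ * n ∈ P.B := by
  constructor
  · rintro ⟨H, hH⟩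
    have hBH : P.B ≤ H := by
      intro b hb
      have : b ∈ (H : Set G) := by rw [hH]; exact Or.inl hb
      exact this
    have hpar := eq_parabolic_of_B_le P H hBH
    have hnH : n ∈ H := by
      have : n ∈ (H : Set G) := by rw [hH]; exact Or.inr (self_mem_C P n)
      exact this
    by_cases hempty : ∃ s, s ∈ P.S ∧ s ∈ H
    · obtain ⟨s, hs, hsH⟩ := hempty
      refine ⟨s, hs, ?_⟩
      have hs' : s ∈ (H : Set G) := hsH
      rw [hH] at hs'
      rcases hs' with h | h
      · exact absurd h (S_not_mem_B P hs)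
      · exact bruhat_unique P (P.subset hs) hn (C_eq_of_mem P h)
    · exfalso
      have : {s | s ∈ P.S ∧ s ∈ H} = (∅ : Set G) := by
        ext s; simp only [Set.mem_ofPred_eq, Set.mem_empty_iff_false, iff_false]
        intro h; exact hempty ⟨s, h⟩
      rw [this] at hpar
      unfold BNPair.parabolic at hpar
      rw [Subgroup.closure_empty, sup_bot_eq] at hpar
      rw [hpar] at hnH
      exact hnB hnH
  · rintro ⟨s, hs, h⟩
    refine ⟨P.parabolic {s}, ?_⟩
    rw [parabolic_singleton P hs, C_congr P h]

end Cfsg.Agent.Helper6
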