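import Cfsg.Agent.Lib.Helper6.BNExchange

set_option autoImplicit false

namespace Cfsg.Agent.Helper6

open Cfsg

variable {G : Type*} [Group G] (P : Cfsg.BNPair G)

theorem exists_orderIso_parabolic :
    ∃ e : Set P.S ≃o {M : Subgroup G // P.B ≤ M},
      ∀ J : Set P.S, ((e J : {M : Subgroup G // P.B ≤ M}) : Subgroup G) =
        P.parabolic (Subtype.val '' J) := by
  have hsub : ∀ J : Set P.S, (Subtype.val '' J : Set G) ⊆ P.S := by
    rintro J _ ⟨x, _, rfl⟩; exact x.2
  let f : Set P.S → {M : Subgroup G // P.B ≤ M} :=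
    fun J => ⟨P.parabolic (Subtype.val '' J), B_le_parabolic P _⟩
  have hf : ∀ J K, f J ≤ f K ↔ J ≤ K := by
    intro J K
    change P.parabolic (Subtype.val '' J) ≤ P.parabolic (Subtype.val '' K) ↔ J ≤ K
    rw [parabolic_le_iff P (hsub J) (hsub K)]
    exact Set.image_subset_image_iff Subtype.val_injective
  have hsurj : Function.Surjective (OrderEmbedding.ofMapLEIff f hf) := by
    rintro ⟨M, hM⟩
    refine ⟨{s : P.S | (s : G) ∈ M}, ?_⟩
    apply Subtype.ext
    change P.parabolic (Subtype.val '' {s : P.S | (s : G) ∈ M}) = M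
    refine Eq.trans ?_ (eq_parabolic_of_B_le P M hM).symm
    congr 1
    ext s
    constructor
    · rintro ⟨x, hx, rfl⟩
      exact ⟨x.2, hx⟩
    · rintro ⟨hs, hsM⟩
      exact ⟨⟨s, hs⟩, hsM, rfl⟩
  exact ⟨OrderIso.ofSurjective (OrderEmbedding.ofMapLEIff f hf) hsurj, fun J => rfl⟩

end Cfsg.Agent.Helper6
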