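import Cfsg.Agent.Lib.Helper6.BNExchange

set_option autoImplicit false

namespace Cfsg.Agent.Helper6

open Cfsg

variable {G : Type*} [Group G] (P : Cfsg.BNPair G)

theorem rank_one_S (h : P.rank = 1) : ∃ s, P.S = {s} := by
  unfold BNPair.rank at h
  rw [Nat.card_eq_one_iff_unique] at h
  obtain ⟨hsub, ⟨s⟩⟩ := h
  refine ⟨s.1, ?_⟩
  ext x
  constructor
  · intro hx
    have : (⟨x, hx⟩ : P.S) = s := Subsingleton.elim _ _
    exact congrArg Subtype.val this
  · intro hx
    rw [Set.mem_singleton_iff] at hx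
    rw [hx]; exact s.2

theorem rank_one_cases (h : P.rank = 1) : ∃ s ∈ P.S, ∀ g : G, g ∈ P.B ∨ g ∈ C P s := by
  obtain ⟨s, hS⟩ := rank_one_S P h
  have hs : s ∈ P.S := by rw [hS]; rfl
  refine ⟨s, hs, fun g => ?_⟩
  have h1 : g ∈ (P.parabolic {s} : Set G) := by
    rw [← hS, parabolic_S]; trivial
  rw [parabolic_singleton P hs] at h1
  exact h1

theorem rank_one_two_transitive (h : P.rank = 1) :
    MulAction.IsMultiplyPretransitive G (G ⧸ P.B) 2 := by
  obtain ⟨s, hs, hcases⟩ := rank_one_cases P h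
  rw [MulAction.is_two_pretransitive_iff]
  intro a b c d hab hcd
  induction a using QuotientGroup.induction_on with | H x => ?_
  induction b using QuotientGroup.induction_on with | H y => ?_
  induction c using QuotientGroup.induction_on with | H z => ?_
  induction d using QuotientGroup.induction_on with | H w => ?_
  have hxy : x⁻¹ * y ∉ P.B := fun hh => hab (QuotientGroup.eq.2 hh)
  have hzw : z⁻¹ * w ∉ P.B := fun hh => hcd (QuotientGroup.eq.2 hh)
  have h1 : x⁻¹ * y ∈ C P s := (hcases _).resolve_left hxy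
  have h2 : z⁻¹ * w ∈ C P s := (hcases _).resolve_left hzw
  obtain ⟨b1, hb1, b2, hb2, e1⟩ := (mem_C P).1 h1
  obtain ⟨b3, hb3, b4, hb4, e2⟩ := (mem_C P).1 h2
  refine ⟨z * b3 * b1⁻¹ * x⁻¹, ?_, ?_⟩
  · rw [MulAction.Quotient.smul_mk, QuotientGroup.eq, smul_eq_mul]
    have : (z * b3 * b1⁻¹ * x⁻¹ * x)⁻¹ * z = b1 * b3⁻¹ := by group
    rw [this]
    exact P.B.mul_mem hb1 (P.B.inv_mem hb3)
  · rw [MulAction.Quotient.smul_mk, QuotientGroup.eq, smul_eq_mul]
    have hy : y = x * (b1 * s * b2) := by rw [← e1]; group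
    have hw : w = z * (b3 * s * b4) := by rw [← e2]; group
    have : (z * b3 * b1⁻¹ * x⁻¹ * y)⁻¹ * w = b2⁻¹ * b4 := by
      rw [hy, hw]; group
    rw [this]
    exact P.B.mul_mem (P.B.inv_mem hb2) hb4

end Cfsg.Agent.Helper6
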