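import Cfsg.Agent.Lib.Helper6.ChevBraid
import Cfsg.Prelude.Def_LieTypes
import Cfsg.Prelude.Def_ChevB2

set_option autoImplicit false
set_option maxRecDepth 100000

namespace Cfsg.Agent.Helper6.Chev

open Cfsg.Lie Cfsg.Agent.Helper18

theorem comm_E7_0_1 : commCheck chevE7 0 1 = true := by decide +kernel
theorem rel_E7_0_2 : relCheck chevE7 0 2 3 [] = true := by decide +kernel
theorem comm_E7_1_2 : commCheck chevE7 1 2 = true := by decide +kernel
theorem comm_E7_0_3 : commCheck chevE7 0 3 = true := by decide +kernel
theorem rel_E7_1_3 : relCheck chevE7 1 3 3 [] = true := by decide +kernel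
theorem rel_E7_2_3 : relCheck chevE7 2 3 3 [] = true := by decide +kernel
theorem comm_E7_0_4 : commCheck chevE7 0 4 = true := by decide +kernel
theorem comm_E7_1_4 : commCheck chevE7 1 4 = true := by decide +kernel
theorem comm_E7_2_4 : commCheck chevE7 2 4 = true := by decide +kernel
theorem rel_E7_3_4 : relCheck chevE7 3 4 3 [] = true := by decide +kernel
theorem comm_E7_0_5 : commCheck chevE7 0 5 = true := by decide +kernel
theorem comm_E7_1_5 : commCheck chevE7 1 5 = true := by decide +kernel
theorem comm_E7_2_5 : commCheck chevE7 2 5 = true := by decide +kernel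
theorem comm_E7_3_5 : commCheck chevE7 3 5 = true := by decide +kernel
theorem rel_E7_4_5 : relCheck chevE7 4 5 3 [] = true := by decide +kernel
theorem comm_E7_0_6 : commCheck chevE7 0 6 = true := by decide +kernel
theorem comm_E7_1_6 : commCheck chevE7 1 6 = true := by decide +kernel
theorem comm_E7_2_6 : commCheck chevE7 2 6 = true := by decide +kernel
theorem comm_E7_3_6 : commCheck chevE7 3 6 = true := by decide +kernel
theorem comm_E7_4_6 : commCheck chevE7 4 6 = true := by decide +kernel
theorem rel_E7_5_6 : relCheck chevE7 5 6 3 [] = true := by decide +kernel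


end Cfsg.Agent.Helper6.Chev
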