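import Cfsg.Agent.Lib.Helper6.ChevBraid
import Cfsg.Prelude.Def_LieTypes
import Cfsg.Prelude.Def_ChevB2

set_option autoImplicit false
set_option maxRecDepth 100000

namespace Cfsg.Agent.Helper6.Chev

open Cfsg.Lie Cfsg.Agent.Helper18

theorem comm_E8_0_1 : commCheck chevE8 0 1 = true := by decide +kernel
theorem rel_E8_0_2 : relCheck chevE8 0 2 3 [] = true := by decide +kernel
theorem comm_E8_1_2 : commCheck chevE8 1 2 = true := by decide +kernel
theorem comm_E8_0_3 : commCheck chevE8 0 3 = true := by decide +kernel
theorem rel_E8_1_3 : relCheck chevE8 1 3 3 [] = true := by decide +kernel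
theorem rel_E8_2_3 : relCheck chevE8 2 3 3 [] = true := by decide +kernel
theorem comm_E8_0_4 : commCheck chevE8 0 4 = true := by decide +kernel
theorem comm_E8_1_4 : commCheck chevE8 1 4 = true := by decide +kernel
theorem comm_E8_2_4 : commCheck chevE8 2 4 = true := by decide +kernel
theorem rel_E8_3_4 : relCheck chevE8 3 4 3 [] = true := by decide +kernel
theorem comm_E8_0_5 : commCheck chevE8 0 5 = true := by decide +kernel
theorem comm_E8_1_5 : commCheck chevE8 1 5 = true := by decide +kernel
theorem comm_E8_2_5 : commCheck chevE8 2 5 = true := by decide +kernel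
theorem comm_E8_3_5 : commCheck chevE8 3 5 = true := by decide +kernel

end Cfsg.Agent.Helper6.Chev
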