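import Cfsg.Agent.Lib.Helper6.ChevBraid
import Cfsg.Prelude.Def_LieTypes
import Cfsg.Prelude.Def_ChevB2

set_option autoImplicit false
set_option maxRecDepth 100000

namespace Cfsg.Agent.Helper6.Chev

open Cfsg.Lie Cfsg.Agent.Helper18

theorem rel_E8_4_5 : relCheck chevE8 4 5 3 [] = true := by decide +kernel
theorem comm_E8_0_6 : commCheck chevE8 0 6 = true := by decide +kernel
theorem comm_E8_1_6 : commCheck chevE8 1 6 = true := by decide +kernel
theorem comm_E8_2_6 : commCheck chevE8 2 6 = true := by decide +kernel
theorem comm_E8_3_6 : commCheck chevE8 3 6 = true := by decide +kernel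
theorem comm_E8_4_6 : commCheck chevE8 4 6 = true := by decide +kernel
theorem rel_E8_5_6 : relCheck chevE8 5 6 3 [] = true := by decide +kernel
theorem comm_E8_0_7 : commCheck chevE8 0 7 = true := by decide +kernel
theorem comm_E8_1_7 : commCheck chevE8 1 7 = true := by decide +kernel
theorem comm_E8_2_7 : commCheck chevE8 2 7 = true := by decide +kernel
theorem comm_E8_3_7 : commCheck chevE8 3 7 = true := by decide +kernel
theorem comm_E8_4_7 : commCheck chevE8 4 7 = true := by decide +kernel
theorem comm_E8_5_7 : commCheck chevE8 5 7 = true := by decide +kernel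
theorem rel_E8_6_7 : relCheck chevE8 6 7 3 [] = true := by decide +kernel

end Cfsg.Agent.Helper6.Chev
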