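import Cfsg.Agent.Lib.Helper6.ChevBraid
import Cfsg.Prelude.Def_LieTypes
import Cfsg.Prelude.Def_ChevB2

set_option autoImplicit false
set_option maxRecDepth 100000

namespace Cfsg.Agent.Helper6.Chev

open Cfsg.Lie Cfsg.Agent.Helper18

theorem rel_G2_0_1 : relCheck chevG2 0 1 6 [] = true := by decide +kernel

theorem rel_B2_0_1 : relCheck chevB2 0 1 4 [] = true := by decide +kernel

theorem rel_D4_0_1 : relCheck chevD4 0 1 3 [] = true := by decide +kernel
theorem comm_D4_0_2 : commCheck chevD4 0 2 = true := by decide +kernel
theorem rel_D4_1_2 : relCheck chevD4 1 2 3 [] = true := by decide +kernel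
theorem comm_D4_0_3 : commCheck chevD4 0 3 = true := by decide +kernel
theorem rel_D4_1_3 : relCheck chevD4 1 3 3 [] = true := by decide +kernel
theorem comm_D4_2_3 : commCheck chevD4 2 3 = true := by decide +kernel

theorem rel_F4_0_1 : relCheck chevF4 0 1 3 [] = true := by decide +kernel
theorem comm_F4_0_2 : commCheck chevF4 0 2 = true := by decide +kernel
theorem rel_F4_1_2 : relCheck chevF4 1 2 4 [1] = true := by decide +kernel
theorem comm_F4_0_3 : commCheck chevF4 0 3 = true := by decide +kernel
theorem comm_F4_1_3 : commCheck chevF4 1 3 = true := by decide +kernel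
theorem rel_F4_2_3 : relCheck chevF4 2 3 3 [] = true := by decide +kernel

theorem comm_E6_0_1 : commCheck chevE6 0 1 = true := by decide +kernel
theorem rel_E6_0_2 : relCheck chevE6 0 2 3 [] = true := by decide +kernel
theorem comm_E6_1_2 : commCheck chevE6 1 2 = true := by decide +kernel
theorem comm_E6_0_3 : commCheck chevE6 0 3 = true := by decide +kernel
theorem rel_E6_1_3 : relCheck chevE6 1 3 3 [] = true := by decide +kernel
theorem rel_E6_2_3 : relCheck chevE6 2 3 3 [] = true := by decide +kernel
theorem comm_E6_0_4 : commCheck chevE6 0 4 = true := by decide +kernel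
theorem comm_E6_1_4 : commCheck chevE6 1 4 = true := by decide +kernel
theorem comm_E6_2_4 : commCheck chevE6 2 4 = true := by decide +kernel
theorem rel_E6_3_4 : relCheck chevE6 3 4 3 [] = true := by decide +kernel
theorem comm_E6_0_5 : commCheck chevE6 0 5 = true := by decide +kernel
theorem comm_E6_1_5 : commCheck chevE6 1 5 = true := by decide +kernel
theorem comm_E6_2_5 : commCheck chevE6 2 5 = true := by decide +kernel
theorem comm_E6_3_5 : commCheck chevE6 3 5 = true := by decide +kernel
theorem rel_E6_4_5 : relCheck chevE6 4 5 3 [] = true := by decide +kernel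


end Cfsg.Agent.Helper6.Chev
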