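import Cfsg.Agent.Lib.Helper6.ChevFactsS18
import Cfsg.Agent.Lib.Helper18.ConjAll
import Cfsg.Agent.Lib.Helper18.AddAll

/-! Generated: the structure `NData` for `E7`, `E8` from helper18's kernel checks; all seven data together. -/

set_option autoImplicit false
set_option maxRecDepth 100000

namespace Cfsg.Agent.Helper6.Chev

open Cfsg.Lie Cfsg.Agent.Helper18

theorem xadd_E7 {F : Type*} [Field F] (r : ℕ) (t u : F) :
    chevE7.x F r t * chevE7.x F r u = chevE7.x F r (t + u) := x_add chevE7 (by simp) r t u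

theorem conj18_E7_0 {F : Type*} [Field F] (s : ℕ) (hs : s < chevE7.nroots) (t : F) :
    chevE7.nMat F (chevE7.simple 0) 1 * chevE7.x F s t =
      chevE7.x F (chevE7.reflectRoot 0 s) (((etaOf etaE7_0 s : ℤ) : F) * t) *
        chevE7.nMat F (chevE7.simple 0) 1 := by
  have hs' : s < 126 := hs
  have hc : Cfsg.Agent.Helper18.conjCheck chevE7 (pMonoCol chevE7 0 permE7_0 etaE7_0) s (dec8 permE7_0 s) (etaOf etaE7_0 s) = true := by
    by_cases h0 : s < 63
    · exact conjE7_0_from0 s (by omega) h0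
    exact conjE7_0_from63 s (by omega) hs'
  exact n_conj_of_checks chevE7 0 (by decide) permE7_0 etaE7_0 permChkE7_0 nChkE7_0' s hs hc t

theorem conj18_E7_1 {F : Type*} [Field F] (s : ℕ) (hs : s < chevE7.nroots) (t : F) :
    chevE7.nMat F (chevE7.simple 1) 1 * chevE7.x F s t =
      chevE7.x F (chevE7.reflectRoot 1 s) (((etaOf etaE7_1 s : ℤ) : F) * t) *
        chevE7.nMat F (chevE7.simple 1) 1 := by
  have hs' : s < 126 := hs
  have hc : Cfsg.Agent.Helper18.conjCheck chevE7 (pMonoCol chevE7 1 permE7_1 etaE7_1) s (dec8 permE7_1 s) (etaOf etaE7_1 s) = true := by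
    by_cases h0 : s < 63
    · exact conjE7_1_from0 s (by omega) h0
    exact conjE7_1_from63 s (by omega) hs'
  exact n_conj_of_checks chevE7 1 (by decide) permE7_1 etaE7_1 permChkE7_1 nChkE7_1' s hs hc t

theorem conj18_E7_2 {F : Type*} [Field F] (s : ℕ) (hs : s < chevE7.nroots) (t : F) :
    chevE7.nMat F (chevE7.simple 2) 1 * chevE7.x F s t =
      chevE7.x F (chevE7.reflectRoot 2 s) (((etaOf etaE7_2 s : ℤ) : F) * t) *
        chevE7.nMat F (chevE7.simple 2) 1 := by
  have hs' : s < 126 := hs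
  have hc : Cfsg.Agent.Helper18.conjCheck chevE7 (pMonoCol chevE7 2 permE7_2 etaE7_2) s (dec8 permE7_2 s) (etaOf etaE7_2 s) = true := by
    by_cases h0 : s < 63
    · exact conjE7_2_from0 s (by omega) h0
    exact conjE7_2_from63 s (by omega) hs'
  exact n_conj_of_checks chevE7 2 (by decide) permE7_2 etaE7_2 permChkE7_2 nChkE7_2' s hs hc t

theorem conj18_E7_3 {F : Type*} [Field F] (s : ℕ) (hs : s < chevE7.nroots) (t : F) :
    chevE7.nMat F (chevE7.simple 3) 1 * chevE7.x F s t =
      chevE7.x F (chevE7.reflectRoot 3 s) (((etaOf etaE7_3 s : ℤ) : F) * t) *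
        chevE7.nMat F (chevE7.simple 3) 1 := by
  have hs' : s < 126 := hs
  have hc : Cfsg.Agent.Helper18.conjCheck chevE7 (pMonoCol chevE7 3 permE7_3 etaE7_3) s (dec8 permE7_3 s) (etaOf etaE7_3 s) = true := by
    by_cases h0 : s < 63
    · exact conjE7_3_from0 s (by omega) h0
    exact conjE7_3_from63 s (by omega) hs'
  exact n_conj_of_checks chevE7 3 (by decide) permE7_3 etaE7_3 permChkE7_3 nChkE7_3' s hs hc t

theorem conj18_E7_4 {F : Type*} [Field F] (s : ℕ) (hs : s < chevE7.nroots) (t : F) :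
    chevE7.nMat F (chevE7.simple 4) 1 * chevE7.x F s t =
      chevE7.x F (chevE7.reflectRoot 4 s) (((etaOf etaE7_4 s : ℤ) : F) * t) *
        chevE7.nMat F (chevE7.simple 4) 1 := by
  have hs' : s < 126 := hs
  have hc : Cfsg.Agent.Helper18.conjCheck chevE7 (pMonoCol chevE7 4 permE7_4 etaE7_4) s (dec8 permE7_4 s) (etaOf etaE7_4 s) = true := by
    by_cases h0 : s < 63
    · exact conjE7_4_from0 s (by omega) h0
    exact conjE7_4_from63 s (by omega) hs'
  exact n_conj_of_checks chevE7 4 (by decide) permE7_4 etaE7_4 permChkE7_4 nChkE7_4' s hs hc t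

theorem conj18_E7_5 {F : Type*} [Field F] (s : ℕ) (hs : s < chevE7.nroots) (t : F) :
    chevE7.nMat F (chevE7.simple 5) 1 * chevE7.x F s t =
      chevE7.x F (chevE7.reflectRoot 5 s) (((etaOf etaE7_5 s : ℤ) : F) * t) *
        chevE7.nMat F (chevE7.simple 5) 1 := by
  have hs' : s < 126 := hs
  have hc : Cfsg.Agent.Helper18.conjCheck chevE7 (pMonoCol chevE7 5 permE7_5 etaE7_5) s (dec8 permE7_5 s) (etaOf etaE7_5 s) = true := by
    by_cases h0 : s < 63
    · exact conjE7_5_from0 s (by omega) h0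
    exact conjE7_5_from63 s (by omega) hs'
  exact n_conj_of_checks chevE7 5 (by decide) permE7_5 etaE7_5 permChkE7_5 nChkE7_5' s hs hc t

theorem conj18_E7_6 {F : Type*} [Field F] (s : ℕ) (hs : s < chevE7.nroots) (t : F) :
    chevE7.nMat F (chevE7.simple 6) 1 * chevE7.x F s t =
      chevE7.x F (chevE7.reflectRoot 6 s) (((etaOf etaE7_6 s : ℤ) : F) * t) *
        chevE7.nMat F (chevE7.simple 6) 1 := by
  have hs' : s < 126 := hs
  have hc : Cfsg.Agent.Helper18.conjCheck chevE7 (pMonoCol chevE7 6 permE7_6 etaE7_6) s (dec8 permE7_6 s) (etaOf etaE7_6 s) = true := by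
    by_cases h0 : s < 63
    · exact conjE7_6_from0 s (by omega) h0
    exact conjE7_6_from63 s (by omega) hs'
  exact n_conj_of_checks chevE7 6 (by decide) permE7_6 etaE7_6 permChkE7_6 nChkE7_6' s hs hc t

theorem conj18_E7 {F : Type*} [Field F] (i : ℕ) (hi : i < 7) (s : ℕ) (hs : s < chevE7.nroots) (t : F) :
    chevE7.nMat F (chevE7.simple i) 1 * chevE7.x F s t =
      chevE7.x F (chevE7.reflectRoot i s) (((etaE7 i s : ℤ) : F) * t) *
        chevE7.nMat F (chevE7.simple i) 1 := by
  interval_cases i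
  · exact conj18_E7_0 s hs t
  · exact conj18_E7_1 s hs t
  · exact conj18_E7_2 s hs t
  · exact conj18_E7_3 s hs t
  · exact conj18_E7_4 s hs t
  · exact conj18_E7_5 s hs t
  · exact conj18_E7_6 s hs t

/-- reachability certificate for `E7` -/
def reachCertE7 : List (ℕ × ℕ) := [(0, 93), (2, 93), (1, 78), (3, 78), (2, 73), (3, 73), (3, 69), (4, 69), (4, 66), (5, 66), (5, 64), (6, 64), (6, 63), (2, 32), (3, 94), (3, 47), (2, 79), (4, 79), (3, 52), (4, 74), (4, 56), (5, 70), (5, 59), (6, 67), (6, 61), (3, 31), (1, 95), (4, 95), (2, 46), (4, 46), (4, 83), (5, 80), (4, 51), (5, 75), (5, 55), (6, 71), (6, 58), (1, 30), (4, 30), (4, 99), (5, 96), (4, 42), (5, 45), (3, 84), (5, 84), (6, 81), (5, 50), (6, 76), (6, 54), (4, 26), (5, 29), (3, 100), (5, 100), (6, 97), (3, 41), (5, 41), (6, 44), (5, 87), (6, 85), (6, 49), (3, 25), (5, 25), (6, 28), (2, 103), (5, 103), (6, 101), (5, 38), (6, 40), (4, 88), (6, 88), (2, 22), (5, 22), (6, 24), (5, 109), (4, 104), (6, 104), (4, 37), (6, 37), (6, 90), (5,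 16), (4, 21), (6, 21), (4, 110), (6, 110), (6, 106), (6, 35), (5, 91), (4, 15), (6, 15), (6, 19), (3, 112), (6, 112), (5, 107), (5, 34), (3, 13), (6, 13), (5, 18), (1, 115), (6, 115), (5, 113), (1, 10), (6, 10), (5, 12), (6, 119), (5, 116), (6, 6), (5, 9), (5, 120), (4, 117), (5, 5), (4, 8), (4, 121), (4, 4), (3, 122), (3, 3), (2, 123), (2, 2), (0, 124), (0, 1)]

theorem reachOK_E7 : reachCheck chevE7 permE7 reachCertE7 = true := by decide +kernel

theorem tableOK_E7 : tableCheck chevE7 permE7 = true := by decide +kernel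

theorem signOK_E7 (i : ℕ) (hi : i < 7) : fSignCheck chevE7 i (etaE7 i) = true := by
  interval_cases i
  · exact nSignE7_0
  · exact nSignE7_1
  · exact nSignE7_2
  · exact nSignE7_3
  · exact nSignE7_4
  · exact nSignE7_5
  · exact nSignE7_6

theorem nOK_E7 (i : ℕ) (hi : i < 7) : fnCheck chevE7 i (etaE7 i) = true := by
  interval_cases i
  · exact nChkE7_0
  · exact nChkE7_1
  · exact nChkE7_2
  · exact nChkE7_3
  · exact nChkE7_4
  · exact nChkE7_5
  · exact nChkE7_6

/-- the matrix identities and table facts for `E7` -/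
theorem nData_E7 {F : Type*} [Field F] : NData F chevE7 etaE7 :=
  nData_of_conj chevE7 etaE7 permE7 reachCertE7
    xadd_E7
    (fun i hi => permOK_E7 i hi)
    (fun i hi => signOK_E7 i hi)
    (fun i s => etaOf_cases _ s)
    (fun i hi => nOK_E7 i hi)
    (fun i hi s hs t => conj18_E7 i hi s hs t)
    tableOK_E7 reachOK_E7

theorem xadd_E8 {F : Type*} [Field F] (r : ℕ) (t u : F) :
    chevE8.x F r t * chevE8.x F r u = chevE8.x F r (t + u) := x_add chevE8 (by simp) r t u

theorem conj18_E8_0 {F : Type*} [Field F] (s : ℕ) (hs : s < chevE8.nroots) (t : F) :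
    chevE8.nMat F (chevE8.simple 0) 1 * chevE8.x F s t =
      chevE8.x F (chevE8.reflectRoot 0 s) (((etaOf etaE8_0 s : ℤ) : F) * t) *
        chevE8.nMat F (chevE8.simple 0) 1 := by
  have hs' : s < 240 := hs
  have hc : Cfsg.Agent.Helper18.conjCheck chevE8 (pMonoCol chevE8 0 permE8_0 etaE8_0) s (dec8 permE8_0 s) (etaOf etaE8_0 s) = true := by
    by_cases h0 : s < 30
    · exact conjE8_0_from0 s (by omega) h0
    by_cases h1 : s < 60
    · exact conjE8_0_from30 s (by omega) h1
    by_cases h2 : s < 90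
    · exact conjE8_0_from60 s (by omega) h2
    by_cases h3 : s < 120
    · exact conjE8_0_from90 s (by omega) h3
    by_cases h4 : s < 150
    · exact conjE8_0_from120 s (by omega) h4
    by_cases h5 : s < 180
    · exact conjE8_0_from150 s (by omega) h5
    by_cases h6 : s < 210
    · exact conjE8_0_from180 s (by omega) h6
    exact conjE8_0_from210 s (by omega) hs'
  exact n_conj_of_checks chevE8 0 (by decide) permE8_0 etaE8_0 permChkE8_0 nChkE8_0' s hs hc t

theorem conj18_E8_1 {F : Type*} [Field F] (s : ℕ) (hs : s < chevE8.nroots) (t : F) :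
    chevE8.nMat F (chevE8.simple 1) 1 * chevE8.x F s t =
      chevE8.x F (chevE8.reflectRoot 1 s) (((etaOf etaE8_1 s : ℤ) : F) * t) *
        chevE8.nMat F (chevE8.simple 1) 1 := by
  have hs' : s < 240 := hs
  have hc : Cfsg.Agent.Helper18.conjCheck chevE8 (pMonoCol chevE8 1 permE8_1 etaE8_1) s (dec8 permE8_1 s) (etaOf etaE8_1 s) = true := by
    by_cases h0 : s < 30
    · exact conjE8_1_from0 s (by omega) h0
    by_cases h1 : s < 60
    · exact conjE8_1_from30 s (by omega) h1
    by_cases h2 : s < 90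
    · exact conjE8_1_from60 s (by omega) h2
    by_cases h3 : s < 120
    · exact conjE8_1_from90 s (by omega) h3
    by_cases h4 : s < 150
    · exact conjE8_1_from120 s (by omega) h4
    by_cases h5 : s < 180
    · exact conjE8_1_from150 s (by omega) h5
    by_cases h6 : s < 210
    · exact conjE8_1_from180 s (by omega) h6
    exact conjE8_1_from210 s (by omega) hs'
  exact n_conj_of_checks chevE8 1 (by decide) permE8_1 etaE8_1 permChkE8_1 nChkE8_1' s hs hc t

theorem conj18_E8_2 {F : Type*} [Field F] (s : ℕ) (hs : s < chevE8.nroots) (t : F) :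
    chevE8.nMat F (chevE8.simple 2) 1 * chevE8.x F s t =
      chevE8.x F (chevE8.reflectRoot 2 s) (((etaOf etaE8_2 s : ℤ) : F) * t) *
        chevE8.nMat F (chevE8.simple 2) 1 := by
  have hs' : s < 240 := hs
  have hc : Cfsg.Agent.Helper18.conjCheck chevE8 (pMonoCol chevE8 2 permE8_2 etaE8_2) s (dec8 permE8_2 s) (etaOf etaE8_2 s) = true := by
    by_cases h0 : s < 30
    · exact conjE8_2_from0 s (by omega) h0
    by_cases h1 : s < 60
    · exact conjE8_2_from30 s (by omega) h1
    by_cases h2 : s < 90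
    · exact conjE8_2_from60 s (by omega) h2
    by_cases h3 : s < 120
    · exact conjE8_2_from90 s (by omega) h3
    by_cases h4 : s < 150
    · exact conjE8_2_from120 s (by omega) h4
    by_cases h5 : s < 180
    · exact conjE8_2_from150 s (by omega) h5
    by_cases h6 : s < 210
    · exact conjE8_2_from180 s (by omega) h6
    exact conjE8_2_from210 s (by omega) hs'
  exact n_conj_of_checks chevE8 2 (by decide) permE8_2 etaE8_2 permChkE8_2 nChkE8_2' s hs hc t

theorem conj18_E8_3 {F : Type*} [Field F] (s : ℕ) (hs : s < chevE8.nroots) (t : F) :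
    chevE8.nMat F (chevE8.simple 3) 1 * chevE8.x F s t =
      chevE8.x F (chevE8.reflectRoot 3 s) (((etaOf etaE8_3 s : ℤ) : F) * t) *
        chevE8.nMat F (chevE8.simple 3) 1 := by
  have hs' : s < 240 := hs
  have hc : Cfsg.Agent.Helper18.conjCheck chevE8 (pMonoCol chevE8 3 permE8_3 etaE8_3) s (dec8 permE8_3 s) (etaOf etaE8_3 s) = true := by
    by_cases h0 : s < 30
    · exact conjE8_3_from0 s (by omega) h0
    by_cases h1 : s < 60
    · exact conjE8_3_from30 s (by omega) h1
    by_cases h2 : s < 90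
    · exact conjE8_3_from60 s (by omega) h2
    by_cases h3 : s < 120
    · exact conjE8_3_from90 s (by omega) h3
    by_cases h4 : s < 150
    · exact conjE8_3_from120 s (by omega) h4
    by_cases h5 : s < 180
    · exact conjE8_3_from150 s (by omega) h5
    by_cases h6 : s < 210
    · exact conjE8_3_from180 s (by omega) h6
    exact conjE8_3_from210 s (by omega) hs'
  exact n_conj_of_checks chevE8 3 (by decide) permE8_3 etaE8_3 permChkE8_3 nChkE8_3' s hs hc t

theorem conj18_E8_4 {F : Type*} [Field F] (s : ℕ) (hs : s < chevE8.nroots) (t : F) :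
    chevE8.nMat F (chevE8.simple 4) 1 * chevE8.x F s t =
      chevE8.x F (chevE8.reflectRoot 4 s) (((etaOf etaE8_4 s : ℤ) : F) * t) *
        chevE8.nMat F (chevE8.simple 4) 1 := by
  have hs' : s < 240 := hs
  have hc : Cfsg.Agent.Helper18.conjCheck chevE8 (pMonoCol chevE8 4 permE8_4 etaE8_4) s (dec8 permE8_4 s) (etaOf etaE8_4 s) = true := by
    by_cases h0 : s < 30
    · exact conjE8_4_from0 s (by omega) h0
    by_cases h1 : s < 60
    · exact conjE8_4_from30 s (by omega) h1
    by_cases h2 : s < 90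
    · exact conjE8_4_from60 s (by omega) h2
    by_cases h3 : s < 120
    · exact conjE8_4_from90 s (by omega) h3
    by_cases h4 : s < 150
    · exact conjE8_4_from120 s (by omega) h4
    by_cases h5 : s < 180
    · exact conjE8_4_from150 s (by omega) h5
    by_cases h6 : s < 210
    · exact conjE8_4_from180 s (by omega) h6
    exact conjE8_4_from210 s (by omega) hs'
  exact n_conj_of_checks chevE8 4 (by decide) permE8_4 etaE8_4 permChkE8_4 nChkE8_4' s hs hc t

theorem conj18_E8_5 {F : Type*} [Field F] (s : ℕ) (hs : s < chevE8.nroots) (t : F) :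
    chevE8.nMat F (chevE8.simple 5) 1 * chevE8.x F s t =
      chevE8.x F (chevE8.reflectRoot 5 s) (((etaOf etaE8_5 s : ℤ) : F) * t) *
        chevE8.nMat F (chevE8.simple 5) 1 := by
  have hs' : s < 240 := hs
  have hc : Cfsg.Agent.Helper18.conjCheck chevE8 (pMonoCol chevE8 5 permE8_5 etaE8_5) s (dec8 permE8_5 s) (etaOf etaE8_5 s) = true := by
    by_cases h0 : s < 30
    · exact conjE8_5_from0 s (by omega) h0
    by_cases h1 : s < 60
    · exact conjE8_5_from30 s (by omega) h1
    by_cases h2 : s < 90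
    · exact conjE8_5_from60 s (by omega) h2
    by_cases h3 : s < 120
    · exact conjE8_5_from90 s (by omega) h3
    by_cases h4 : s < 150
    · exact conjE8_5_from120 s (by omega) h4
    by_cases h5 : s < 180
    · exact conjE8_5_from150 s (by omega) h5
    by_cases h6 : s < 210
    · exact conjE8_5_from180 s (by omega) h6
    exact conjE8_5_from210 s (by omega) hs'
  exact n_conj_of_checks chevE8 5 (by decide) permE8_5 etaE8_5 permChkE8_5 nChkE8_5' s hs hc t

theorem conj18_E8_6 {F : Type*} [Field F] (s : ℕ) (hs : s < chevE8.nroots) (t : F) :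
    chevE8.nMat F (chevE8.simple 6) 1 * chevE8.x F s t =
      chevE8.x F (chevE8.reflectRoot 6 s) (((etaOf etaE8_6 s : ℤ) : F) * t) *
        chevE8.nMat F (chevE8.simple 6) 1 := by
  have hs' : s < 240 := hs
  have hc : Cfsg.Agent.Helper18.conjCheck chevE8 (pMonoCol chevE8 6 permE8_6 etaE8_6) s (dec8 permE8_6 s) (etaOf etaE8_6 s) = true := by
    by_cases h0 : s < 30
    · exact conjE8_6_from0 s (by omega) h0
    by_cases h1 : s < 60
    · exact conjE8_6_from30 s (by omega) h1
    by_cases h2 : s < 90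
    · exact conjE8_6_from60 s (by omega) h2
    by_cases h3 : s < 120
    · exact conjE8_6_from90 s (by omega) h3
    by_cases h4 : s < 150
    · exact conjE8_6_from120 s (by omega) h4
    by_cases h5 : s < 180
    · exact conjE8_6_from150 s (by omega) h5
    by_cases h6 : s < 210
    · exact conjE8_6_from180 s (by omega) h6
    exact conjE8_6_from210 s (by omega) hs'
  exact n_conj_of_checks chevE8 6 (by decide) permE8_6 etaE8_6 permChkE8_6 nChkE8_6' s hs hc t

theorem conj18_E8_7 {F : Type*} [Field F] (s : ℕ) (hs : s < chevE8.nroots) (t : F) :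
    chevE8.nMat F (chevE8.simple 7) 1 * chevE8.x F s t =
      chevE8.x F (chevE8.reflectRoot 7 s) (((etaOf etaE8_7 s : ℤ) : F) * t) *
        chevE8.nMat F (chevE8.simple 7) 1 := by
  have hs' : s < 240 := hs
  have hc : Cfsg.Agent.Helper18.conjCheck chevE8 (pMonoCol chevE8 7 permE8_7 etaE8_7) s (dec8 permE8_7 s) (etaOf etaE8_7 s) = true := by
    by_cases h0 : s < 30
    · exact conjE8_7_from0 s (by omega) h0
    by_cases h1 : s < 60
    · exact conjE8_7_from30 s (by omega) h1
    by_cases h2 : s < 90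
    · exact conjE8_7_from60 s (by omega) h2
    by_cases h3 : s < 120
    · exact conjE8_7_from90 s (by omega) h3
    by_cases h4 : s < 150
    · exact conjE8_7_from120 s (by omega) h4
    by_cases h5 : s < 180
    · exact conjE8_7_from150 s (by omega) h5
    by_cases h6 : s < 210
    · exact conjE8_7_from180 s (by omega) h6
    exact conjE8_7_from210 s (by omega) hs'
  exact n_conj_of_checks chevE8 7 (by decide) permE8_7 etaE8_7 permChkE8_7 nChkE8_7' s hs hc t

theorem conj18_E8 {F : Type*} [Field F] (i : ℕ) (hi : i < 8) (s : ℕ) (hs : s < chevE8.nroots) (t : F) :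
    chevE8.nMat F (chevE8.simple i) 1 * chevE8.x F s t =
      chevE8.x F (chevE8.reflectRoot i s) (((etaE8 i s : ℤ) : F) * t) *
        chevE8.nMat F (chevE8.simple i) 1 := by
  interval_cases i
  · exact conj18_E8_0 s hs t
  · exact conj18_E8_1 s hs t
  · exact conj18_E8_2 s hs t
  · exact conj18_E8_3 s hs t
  · exact conj18_E8_4 s hs t
  · exact conj18_E8_5 s hs t
  · exact conj18_E8_6 s hs t
  · exact conj18_E8_7 s hs t

/-- reachability certificate for `E8` -/
def reachCertE8 : List (ℕ × ℕ) := [(0, 162), (2, 162), (1, 141), (3, 141), (2, 135), (3, 135), (3, 130), (4, 130), (4, 126), (5, 126), (5, 123), (6, 123), (6, 121), (7, 121), (7, 120), (2, 77), (3, 163), (3, 98), (2, 142), (4, 142), (3, 104), (4, 136), (4, 109), (5, 131), (5, 113), (6, 127), (6, 116), (7, 124), (7, 118), (3, 76), (1, 164), (4, 164), (2, 97), (4, 97), (4, 147), (5, 143), (4, 103), (5, 137), (5, 108), (6, 132), (6, 112), (7, 128), (7, 115), (1, 75), (4, 75), (4, 169), (5, 165), (4, 92), (5, 96), (3, 148), (5,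 148), (6, 144), (5, 102), (6, 138), (6, 107), (7, 133), (7, 111), (4, 70), (5, 74), (3, 170), (5, 170), (6, 166), (3, 91), (5, 91), (6, 95), (5, 152), (6, 149), (7, 145), (6, 101), (7, 139), (7, 106), (3, 69), (5, 69), (6, 73), (2, 174), (5, 174), (6, 171), (7, 167), (5, 87), (6, 90), (7, 94), (4, 153), (6, 153), (7, 150), (7, 100), (2, 65), (5, 65), (6, 68), (7, 72), (5, 184), (4, 175), (6, 175), (7, 172), (4, 86), (6, 86), (7, 89), (6, 156), (7, 154), (5, 55), (4, 64), (6, 64), (7, 67), (4, 185), (6, 185), (6, 178), (7, 176), (6, 83), (7, 85), (5, 157), (7, 157), (4, 54), (6, 54), (6, 61), (7, 63), (3, 188), (6, 188), (7, 186), (5, 179), (7, 179), (5, 82), (7, 82), (7, 159), (3, 51), (6, 51), (7, 53), (5, 60), (7, 60), (1, 194), (6, 194), (5, 189), (7, 189), (7, 181), (7, 80), (6, 160), (1, 45), (6, 45), (5, 50), (7, 50), (7, 58), (6, 204), (5, 195), (7, 195), (7, 191), (6, 182), (6, 79), (6, 35), (5, 44), (7, 44), (7, 48), (6, 57), (5, 205), (7, 205), (4, 197), (7, 197), (6, 192), (5,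 34), (7, 34), (4, 42), (7, 42), (6, 47), (4, 207), (7, 207), (7, 200), (6, 198), (4, 32), (7, 32), (7, 39), (6, 41), (3, 210), (7, 210), (6, 208), (6, 201), (3, 29), (7, 29), (6, 31), (6, 38), (2, 214), (7, 214), (6, 211), (5, 202), (2, 25), (7, 25), (6, 28), (5, 37), (0, 219), (7, 219), (6, 215), (5, 212), (0, 20), (7, 20), (6, 24), (5, 27), (7, 226), (6, 220), (5, 216), (7, 13), (6, 19), (5, 23), (6, 227), (5, 221), (4, 217), (6, 12), (5, 18), (4, 22), (5, 228), (4, 222), (5, 11), (4, 17), (4, 229), (3, 223), (4, 10), (3, 16), (3, 230), (1, 224), (3, 9), (1, 15), (1, 231), (2, 231), (1, 8), (2, 8), (2, 233), (2, 6), (3, 234), (3, 5), (4, 235), (4, 4), (5, 236), (5, 3), (6, 237), (6, 2), (7, 238), (7, 1)]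

theorem reachOK_E8 : reachCheck chevE8 permE8 reachCertE8 = true := by decide +kernel

theorem tableOK_E8 : tableCheck chevE8 permE8 = true := by decide +kernel

theorem signOK_E8 (i : ℕ) (hi : i < 8) : fSignCheck chevE8 i (etaE8 i) = true := by
  interval_cases i
  · exact nSignE8_0
  · exact nSignE8_1
  · exact nSignE8_2
  · exact nSignE8_3
  · exact nSignE8_4
  · exact nSignE8_5
  · exact nSignE8_6
  · exact nSignE8_7

theorem nOK_E8 (i : ℕ) (hi : i < 8) : fnCheck chevE8 i (etaE8 i) = true := by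
  interval_cases i
  · exact nChkE8_0
  · exact nChkE8_1
  · exact nChkE8_2
  · exact nChkE8_3
  · exact nChkE8_4
  · exact nChkE8_5
  · exact nChkE8_6
  · exact nChkE8_7

/-- the matrix identities and table facts for `E8` -/
theorem nData_E8 {F : Type*} [Field F] : NData F chevE8 etaE8 :=
  nData_of_conj chevE8 etaE8 permE8 reachCertE8
    xadd_E8
    (fun i hi => permOK_E8 i hi)
    (fun i hi => signOK_E8 i hi)
    (fun i s => etaOf_cases _ s)
    (fun i hi => nOK_E8 i hi)
    (fun i hi s hs t => conj18_E8 i hi s hs t)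
    tableOK_E8 reachOK_E8

/-- For each of the seven tabulated data there is a sign function with `NData`. -/
theorem exists_nData {F : Type*} [Field F] (D : ChevalleyDatum)
    (hD : D ∈ [chevG2, chevB2, chevD4, chevF4, chevE6, chevE7, chevE8]) :
    ∃ η : ℕ → ℕ → ℤ, NData F D η := by
  simp only [List.mem_cons, List.not_mem_nil, or_false] at hD
  rcases hD with rfl | rfl | rfl | rfl | rfl | rfl | rfl
  · exact ⟨_, nData_G2⟩
  · exact ⟨_, nData_B2⟩
  · exact ⟨_, nData_D4⟩
  · exact ⟨_, nData_F4⟩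
  · exact ⟨_, nData_E6⟩
  · exact ⟨_, nData_E7⟩
  · exact ⟨_, nData_E8⟩

end Cfsg.Agent.Helper6.Chev
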