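import Cfsg.Agent.Lib.Helper6.WeylChain

/-!
# Root datum for the dual root system of type B2 (transposed Cartan matrix)

Generated data; all checks are kernel computations.
-/

set_option autoImplicit false
set_option maxRecDepth 100000

namespace Cfsg.Agent.Helper6.Weyl.B2d

open Matrix

/-- Cartan matrix -/
def cartanA : Mat 2 := !![2, -2;
    -1, 2]

/-- Gram matrix -/
def gramG : Mat 2 := !![4, -2;
    -2, 2]

/-- codes of the positive roots -/
def posCodes : List ℕ := [152, 137, 153, 169]

/-- the datum -/
def datum : Datum 2 := ⟨cartanA, gramG, posCodes.map (decode 2)⟩

theorem reflMem_ok : reflMemOK cartanA posCodes = true := by decide +kernel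

theorem valid : datum.Valid where
  diag := by decide +kernel
  gram := by decide +kernel
  gpos := by decide +kernel
  sq := by decide +kernel
  isom := by decide +kernel
  simple_mem := by decide +kernel
  nonneg := by decide +kernel
  refl_mem := reflMemOK_spec reflMem_ok

/-- the valid datum -/
def vd : VDatum 2 := ⟨datum, valid⟩

theorem orders_ok : ordersOK cartanA (CoxeterMatrix.B 2) = true := by decide +kernel

end Cfsg.Agent.Helper6.Weyl.B2d
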