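import Cfsg.Agent.Lib.Helper6.BraidSmall
import Cfsg.Agent.Lib.Helper6.BraidE7
import Cfsg.Agent.Lib.Helper6.BraidE8a
import Cfsg.Agent.Lib.Helper6.BraidE8b
import Cfsg.Agent.Lib.Helper6.ChevBridge
import Cfsg.Agent.Lib.Helper6.ChevFacts18
import Cfsg.Agent.Lib.Helper6.WeylDualG2
import Cfsg.Agent.Lib.Helper6.WeylDualB2
import Cfsg.Agent.Lib.Helper6.WeylDataD4
import Cfsg.Agent.Lib.Helper6.WeylDataF4
import Cfsg.Agent.Lib.Helper6.WeylDataE6
import Cfsg.Agent.Lib.Helper6.WeylDataE7
import Cfsg.Agent.Lib.Helper6.WeylDataE8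

/-! Generated: `N / H ≅ W` for the seven tabulated Chevalley data. -/

set_option autoImplicit false
set_option maxRecDepth 100000

namespace Cfsg.Agent.Helper6.Chev

open Cfsg.Lie Cfsg.Agent.Helper18 Cfsg.Agent.Helper6.Weyl

/-- codes of the coroot vectors of `G2` -/
def corootCodesG2 : List ℕ := [103, 119, 86, 87, 135, 120, 152, 137, 185, 186, 153, 169]

theorem bridgeOK_G2 : bridgeCheck chevG2 G2d.vd.A permG2 corootCodesG2 = true := by decide +kernel

theorem bridge_G2 : Bridge chevG2 G2d.vd (codeVec 2 corootCodesG2) :=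
  bridge_of_check chevG2 G2d.vd permG2 corootCodesG2 rfl (fun i hi => permOK_G2 i hi) bridgeOK_G2

/-- the Coxeter integers of `G2` -/
def mfG2 (i j : ℕ) : ℕ := lget (lget [[1, 6], [6, 1]] i []) j 0

theorem mf_G2 : ∀ i j : Fin 2, (CoxeterMatrix.G₂) i j = mfG2 i j :=
  mf_of_check _ _ (by decide +kernel)

theorem hrel_G2 {F : Type*} [Field F] (h : NData F chevG2 etaG2) (i j : ℕ) (hij : i < j) (hj : j < 2) :
    (Ni h i * Ni h j) ^ (mfG2 i j) ∈ chevG2.diagonalSubgroup F := by
  interval_cases j <;> interval_cases i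
  · exact rel_of_check h 0 1 6 [] (by decide) rel_G2_0_1

/-- `N / H ≅ W` for `G2` -/
theorem phi_G2 {F : Type*} [Field F]
    (hsimp : ∀ j < chevG2.rank, ∀ c : F, c ≠ 0 → chevG2.hMat F (chevG2.simple j) c =
      Matrix.diagonal (Sum.elim (fun _ => (1 : F)) (fun s : Fin chevG2.nroots => c ^ (chevG2.cartan j s)))) :
    ∃ φ : ↥(chevG2.monomialSubgroup F) →* (CoxeterMatrix.G₂).Group, Function.Surjective φ ∧
      φ.ker = (chevG2.diagonalSubgroup F).subgroupOf (chevG2.monomialSubgroup F) ∧
      ∀ (i : Fin 2) (g : ↥(chevG2.monomialSubgroup F)),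
        ((g : GL chevG2.Idx F) : Matrix chevG2.Idx chevG2.Idx F) = chevG2.nMat F (chevG2.simple i) 1 →
          φ g = (CoxeterMatrix.G₂).simple i :=
  exists_phi' nData_G2 bridge_G2 hsimp (CoxeterMatrix.G₂) (ordersOK_spec G2d.vd (CoxeterMatrix.G₂) G2d.orders_ok)
    mfG2 mf_G2 (hrel_G2 nData_G2)

/-- codes of the coroot vectors of `B2` -/
def corootCodesB2 : List ℕ := [119, 103, 135, 120, 152, 137, 169, 153]

theorem bridgeOK_B2 : bridgeCheck chevB2 B2d.vd.A permB2 corootCodesB2 = true := by decide +kernel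

theorem bridge_B2 : Bridge chevB2 B2d.vd (codeVec 2 corootCodesB2) :=
  bridge_of_check chevB2 B2d.vd permB2 corootCodesB2 rfl (fun i hi => permOK_B2 i hi) bridgeOK_B2

/-- the Coxeter integers of `B2` -/
def mfB2 (i j : ℕ) : ℕ := lget (lget [[1, 4], [4, 1]] i []) j 0

theorem mf_B2 : ∀ i j : Fin 2, (CoxeterMatrix.B 2) i j = mfB2 i j :=
  mf_of_check _ _ (by decide +kernel)

theorem hrel_B2 {F : Type*} [Field F] (h : NData F chevB2 etaB2) (i j : ℕ) (hij : i < j) (hj : j < 2) :
    (Ni h i * Ni h j) ^ (mfB2 i j) ∈ chevB2.diagonalSubgroup F := by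
  interval_cases j <;> interval_cases i
  · exact rel_of_check h 0 1 4 [] (by decide) rel_B2_0_1

/-- `N / H ≅ W` for `B2` -/
theorem phi_B2 {F : Type*} [Field F]
    (hsimp : ∀ j < chevB2.rank, ∀ c : F, c ≠ 0 → chevB2.hMat F (chevB2.simple j) c =
      Matrix.diagonal (Sum.elim (fun _ => (1 : F)) (fun s : Fin chevB2.nroots => c ^ (chevB2.cartan j s)))) :
    ∃ φ : ↥(chevB2.monomialSubgroup F) →* (CoxeterMatrix.B 2).Group, Function.Surjective φ ∧
      φ.ker = (chevB2.diagonalSubgroup F).subgroupOf (chevB2.monomialSubgroup F) ∧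
      ∀ (i : Fin 2) (g : ↥(chevB2.monomialSubgroup F)),
        ((g : GL chevB2.Idx F) : Matrix chevB2.Idx chevB2.Idx F) = chevB2.nMat F (chevB2.simple i) 1 →
          φ g = (CoxeterMatrix.B 2).simple i :=
  exists_phi' nData_B2 bridge_B2 hsimp (CoxeterMatrix.B 2) (ordersOK_spec B2d.vd (CoxeterMatrix.B 2) B2d.orders_ok)
    mfB2 mf_B2 (hrel_B2 nData_B2)

/-- codes of the coroot vectors of `D4` -/
def corootCodesD4 : List ℕ := [30567, 30583, 34679, 30839, 34935, 34951, 30584, 34680, 30840, 34936, 34696, 30856, 39048, 35208, 34968, 39064, 35224, 39320, 34953, 34969, 39065, 35225, 39321, 39337]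

theorem bridgeOK_D4 : bridgeCheck chevD4 D4.vd.A permD4 corootCodesD4 = true := by decide +kernel

theorem bridge_D4 : Bridge chevD4 D4.vd (codeVec 4 corootCodesD4) :=
  bridge_of_check chevD4 D4.vd permD4 corootCodesD4 rfl (fun i hi => permOK_D4 i hi) bridgeOK_D4

/-- the Coxeter integers of `D4` -/
def mfD4 (i j : ℕ) : ℕ := lget (lget [[1, 3, 2, 2], [3, 1, 3, 3], [2, 3, 1, 2], [2, 3, 2, 1]] i []) j 0

theorem mf_D4 : ∀ i j : Fin 4, (Cfsg.Lie.coxeterD4) i j = mfD4 i j :=
  mf_of_check _ _ (by decide +kernel)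

theorem hrel_D4 {F : Type*} [Field F] (h : NData F chevD4 etaD4) (i j : ℕ) (hij : i < j) (hj : j < 4) :
    (Ni h i * Ni h j) ^ (mfD4 i j) ∈ chevD4.diagonalSubgroup F := by
  interval_cases j <;> interval_cases i
  · exact rel_of_check h 0 1 3 [] (by decide) rel_D4_0_1
  · exact rel_of_comm h 0 2 (by decide) (by decide) comm_D4_0_2
  · exact rel_of_check h 1 2 3 [] (by decide) rel_D4_1_2
  · exact rel_of_comm h 0 3 (by decide) (by decide) comm_D4_0_3
  · exact rel_of_check h 1 3 3 [] (by decide) rel_D4_1_3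
  · exact rel_of_comm h 2 3 (by decide) (by decide) comm_D4_2_3

/-- `N / H ≅ W` for `D4` -/
theorem phi_D4 {F : Type*} [Field F]
    (hsimp : ∀ j < chevD4.rank, ∀ c : F, c ≠ 0 → chevD4.hMat F (chevD4.simple j) c =
      Matrix.diagonal (Sum.elim (fun _ => (1 : F)) (fun s : Fin chevD4.nroots => c ^ (chevD4.cartan j s)))) :
    ∃ φ : ↥(chevD4.monomialSubgroup F) →* (Cfsg.Lie.coxeterD4).Group, Function.Surjective φ ∧
      φ.ker = (chevD4.diagonalSubgroup F).subgroupOf (chevD4.monomialSubgroup F) ∧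
      ∀ (i : Fin 4) (g : ↥(chevD4.monomialSubgroup F)),
        ((g : GL chevD4.Idx F) : Matrix chevD4.Idx chevD4.Idx F) = chevD4.nMat F (chevD4.simple i) 1 →
          φ g = (Cfsg.Lie.coxeterD4).simple i :=
  exists_phi' nData_D4 bridge_D4 hsimp (Cfsg.Lie.coxeterD4) (ordersOK_spec D4.vd (Cfsg.Lie.coxeterD4) D4.orders_ok)
    mfD4 mf_D4 (hrel_D4 nData_D4)

/-- codes of the coroot vectors of `F4` -/
def corootCodesF4 : List ℕ := [25959, 30055, 30311, 25686, 30327, 30583, 34679, 25687, 25703, 26215, 34407, 26231, 34423, 34935, 34951, 30328, 30584, 34680, 26232, 34424, 34936, 30600, 34696, 30856, 39048, 35208, 39304, 34968, 35480, 43672, 35224, 39320, 39576, 34953, 34969, 35481, 43673, 35497, 43689, 44201, 44217, 35225, 39321, 39577, 44218, 39593, 39849, 43945]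

theorem bridgeOK_F4 : bridgeCheck chevF4 F4.vd.A permF4 corootCodesF4 = true := by decide +kernel

theorem bridge_F4 : Bridge chevF4 F4.vd (codeVec 4 corootCodesF4) :=
  bridge_of_check chevF4 F4.vd permF4 corootCodesF4 rfl (fun i hi => permOK_F4 i hi) bridgeOK_F4

/-- the Coxeter integers of `F4` -/
def mfF4 (i j : ℕ) : ℕ := lget (lget [[1, 3, 2, 2], [3, 1, 4, 2], [2, 4, 1, 3], [2, 2, 3, 1]] i []) j 0

theorem mf_F4 : ∀ i j : Fin 4, (CoxeterMatrix.F₄) i j = mfF4 i j :=
  mf_of_check _ _ (by decide +kernel)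

theorem hrel_F4 {F : Type*} [Field F] (h : NData F chevF4 etaF4) (i j : ℕ) (hij : i < j) (hj : j < 4) :
    (Ni h i * Ni h j) ^ (mfF4 i j) ∈ chevF4.diagonalSubgroup F := by
  interval_cases j <;> interval_cases i
  · exact rel_of_check h 0 1 3 [] (by decide) rel_F4_0_1
  · exact rel_of_comm h 0 2 (by decide) (by decide) comm_F4_0_2
  · exact rel_of_check h 1 2 4 [1] (by decide) rel_F4_1_2
  · exact rel_of_comm h 0 3 (by decide) (by decide) comm_F4_0_3
  · exact rel_of_comm h 1 3 (by decide) (by decide) comm_F4_1_3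
  · exact rel_of_check h 2 3 3 [] (by decide) rel_F4_2_3

/-- `N / H ≅ W` for `F4` -/
theorem phi_F4 {F : Type*} [Field F]
    (hsimp : ∀ j < chevF4.rank, ∀ c : F, c ≠ 0 → chevF4.hMat F (chevF4.simple j) c =
      Matrix.diagonal (Sum.elim (fun _ => (1 : F)) (fun s : Fin chevF4.nroots => c ^ (chevF4.cartan j s)))) :
    ∃ φ : ↥(chevF4.monomialSubgroup F) →* (CoxeterMatrix.F₄).Group, Function.Surjective φ ∧
      φ.ker = (chevF4.diagonalSubgroup F).subgroupOf (chevF4.monomialSubgroup F) ∧
      ∀ (i : Fin 4) (g : ↥(chevF4.monomialSubgroup F)),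
        ((g : GL chevF4.Idx F) : Matrix chevF4.Idx chevF4.Idx F) = chevF4.nMat F (chevF4.simple i) 1 →
          φ g = (CoxeterMatrix.F₄).simple i :=
  exists_phi' nData_F4 bridge_F4 hsimp (CoxeterMatrix.F₄) (ordersOK_spec F4.vd (CoxeterMatrix.F₄) F4.orders_ok)
    mfF4 mf_F4 (hrel_F4 nData_F4)

/-- codes of the coroot vectors of `E6` -/
def corootCodesE6 : List ℕ := [7755367, 7755383, 7759479, 7825015, 8873591, 7759735, 7825271, 8873847, 7829367, 8877943, 8943479, 7829383, 8877959, 8943495, 8947591, 8947847, 7759736, 7825272, 8873848, 7829368, 8877944, 8943480, 7829624, 8878200, 8943736, 8947832, 7829384, 8877960, 8943496, 8947592, 7829640, 8878216, 8943752, 7833736, 8882312, 7899272, 9996424, 9013384, 10061960, 8951944, 9017480, 10066056, 8948104, 8952200, 9017736, 10066312, 8947864, 8951960, 9017496, 10066072, 8952216, 9017752, 10066328, 9021848, 10070424, 10135960, 8947849, 8948105, 8952201, 9017737, 10066313, 8952217, 9017753, 10066329, 9021849, 10070425, 10135961, 9022105, 10070681,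 10136217, 10140313, 10140329]

theorem bridgeOK_E6 : bridgeCheck chevE6 E6.vd.A permE6 corootCodesE6 = true := by decide +kernel

theorem bridge_E6 : Bridge chevE6 E6.vd (codeVec 6 corootCodesE6) :=
  bridge_of_check chevE6 E6.vd permE6 corootCodesE6 rfl (fun i hi => permOK_E6 i hi) bridgeOK_E6

/-- the Coxeter integers of `E6` -/
def mfE6 (i j : ℕ) : ℕ := lget (lget [[1, 2, 3, 2, 2, 2], [2, 1, 2, 3, 2, 2], [3, 2, 1, 3, 2, 2], [2, 3, 3, 1, 3, 2], [2, 2, 2, 3, 1, 3], [2, 2, 2, 2, 3, 1]] i []) j 0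

theorem mf_E6 : ∀ i j : Fin 6, (CoxeterMatrix.E₆) i j = mfE6 i j :=
  mf_of_check _ _ (by decide +kernel)

theorem hrel_E6 {F : Type*} [Field F] (h : NData F chevE6 etaE6) (i j : ℕ) (hij : i < j) (hj : j < 6) :
    (Ni h i * Ni h j) ^ (mfE6 i j) ∈ chevE6.diagonalSubgroup F := by
  interval_cases j <;> interval_cases i
  · exact rel_of_comm h 0 1 (by decide) (by decide) comm_E6_0_1
  · exact rel_of_check h 0 2 3 [] (by decide) rel_E6_0_2
  · exact rel_of_comm h 1 2 (by decide) (by decide) comm_E6_1_2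
  · exact rel_of_comm h 0 3 (by decide) (by decide) comm_E6_0_3
  · exact rel_of_check h 1 3 3 [] (by decide) rel_E6_1_3
  · exact rel_of_check h 2 3 3 [] (by decide) rel_E6_2_3
  · exact rel_of_comm h 0 4 (by decide) (by decide) comm_E6_0_4
  · exact rel_of_comm h 1 4 (by decide) (by decide) comm_E6_1_4
  · exact rel_of_comm h 2 4 (by decide) (by decide) comm_E6_2_4
  · exact rel_of_check h 3 4 3 [] (by decide) rel_E6_3_4
  · exact rel_of_comm h 0 5 (by decide) (by decide) comm_E6_0_5
  · exact rel_of_comm h 1 5 (by decide) (by decide) comm_E6_1_5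
  · exact rel_of_comm h 2 5 (by decide) (by decide) comm_E6_2_5
  · exact rel_of_comm h 3 5 (by decide) (by decide) comm_E6_3_5
  · exact rel_of_check h 4 5 3 [] (by decide) rel_E6_4_5

/-- `N / H ≅ W` for `E6` -/
theorem phi_E6 {F : Type*} [Field F]
    (hsimp : ∀ j < chevE6.rank, ∀ c : F, c ≠ 0 → chevE6.hMat F (chevE6.simple j) c =
      Matrix.diagonal (Sum.elim (fun _ => (1 : F)) (fun s : Fin chevE6.nroots => c ^ (chevE6.cartan j s)))) :
    ∃ φ : ↥(chevE6.monomialSubgroup F) →* (CoxeterMatrix.E₆).Group, Function.Surjective φ ∧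
      φ.ker = (chevE6.diagonalSubgroup F).subgroupOf (chevE6.monomialSubgroup F) ∧
      ∀ (i : Fin 6) (g : ↥(chevE6.monomialSubgroup F)),
        ((g : GL chevE6.Idx F) : Matrix chevE6.Idx chevE6.Idx F) = chevE6.nMat F (chevE6.simple i) 1 →
          φ g = (CoxeterMatrix.E₆).simple i :=
  exists_phi' nData_E6 bridge_E6 hsimp (CoxeterMatrix.E₆) (ordersOK_spec E6.vd (CoxeterMatrix.E₆) E6.orders_ok)
    mfE6 mf_E6 (hrel_E6 nData_E6)

/-- codes of the coroot vectors of `E7` -/
def corootCodesE7 : List ℕ := [124077414, 124077415, 124077671, 124081767, 124147303, 125195879, 141973095, 124081783, 124147319, 125195895, 141973111, 124151415, 125199991, 141977207, 125265527, 142042743, 143091319, 124151671, 125200247, 141977463, 125265783, 142042999, 143091575, 125269879, 142047095, 143095671, 143161207, 125269895, 142047111, 143095687, 143161223, 143165319, 143165575, 124151672, 125200248, 141977464, 125265784, 142043000, 143091576, 125269880, 142047096, 143095672, 143161208, 125270136, 142047352,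 143095928, 143161464, 143165560, 125269896, 142047112, 143095688, 143161224, 143165320, 125270152, 142047368, 143095944, 143161480, 125274248, 142051464, 143100040, 125339784, 142117000, 126388360, 159942792, 144214152, 160991368, 143231112, 144279688, 161056904, 143169672, 143235208, 144283784, 161061000, 143165832, 143169928, 143235464, 144284040, 161061256, 143165592, 143169688, 143235224, 144283800, 161061016, 143169944, 143235480, 144284056, 161061272, 143239576, 144288152, 161065368, 144353688, 161130904, 162179480, 143165577, 143165833, 143169929, 143235465, 144284041, 161061257, 143169945, 143235481, 144284057, 161061273, 143239577, 144288153, 161065369, 144353689, 161130905, 162179481, 143239833, 144288409, 161065625, 144353945, 161131161, 162179737, 144358041, 161135257, 162183833, 162249369, 144358057, 161135273, 162183849, 162249385, 162253481, 162253737, 162253738]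

theorem bridgeOK_E7 : bridgeCheck chevE7 E7.vd.A permE7 corootCodesE7 = true := by decide +kernel

theorem bridge_E7 : Bridge chevE7 E7.vd (codeVec 7 corootCodesE7) :=
  bridge_of_check chevE7 E7.vd permE7 corootCodesE7 rfl (fun i hi => permOK_E7 i hi) bridgeOK_E7

/-- the Coxeter integers of `E7` -/
def mfE7 (i j : ℕ) : ℕ := lget (lget [[1, 2, 3, 2, 2, 2, 2], [2, 1, 2, 3, 2, 2, 2], [3, 2, 1, 3, 2, 2, 2], [2, 3, 3, 1, 3, 2, 2], [2, 2, 2, 3, 1, 3, 2], [2, 2, 2, 2, 3, 1, 3], [2, 2, 2, 2, 2, 3, 1]] i []) j 0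

theorem mf_E7 : ∀ i j : Fin 7, (CoxeterMatrix.E₇) i j = mfE7 i j :=
  mf_of_check _ _ (by decide +kernel)

theorem hrel_E7 {F : Type*} [Field F] (h : NData F chevE7 etaE7) (i j : ℕ) (hij : i < j) (hj : j < 7) :
    (Ni h i * Ni h j) ^ (mfE7 i j) ∈ chevE7.diagonalSubgroup F := by
  interval_cases j <;> interval_cases i
  · exact rel_of_comm h 0 1 (by decide) (by decide) comm_E7_0_1
  · exact rel_of_check h 0 2 3 [] (by decide) rel_E7_0_2
  · exact rel_of_comm h 1 2 (by decide) (by decide) comm_E7_1_2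
  · exact rel_of_comm h 0 3 (by decide) (by decide) comm_E7_0_3
  · exact rel_of_check h 1 3 3 [] (by decide) rel_E7_1_3
  · exact rel_of_check h 2 3 3 [] (by decide) rel_E7_2_3
  · exact rel_of_comm h 0 4 (by decide) (by decide) comm_E7_0_4
  · exact rel_of_comm h 1 4 (by decide) (by decide) comm_E7_1_4
  · exact rel_of_comm h 2 4 (by decide) (by decide) comm_E7_2_4
  · exact rel_of_check h 3 4 3 [] (by decide) rel_E7_3_4
  · exact rel_of_comm h 0 5 (by decide) (by decide) comm_E7_0_5
  · exact rel_of_comm h 1 5 (by decide) (by decide) comm_E7_1_5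
  · exact rel_of_comm h 2 5 (by decide) (by decide) comm_E7_2_5
  · exact rel_of_comm h 3 5 (by decide) (by decide) comm_E7_3_5
  · exact rel_of_check h 4 5 3 [] (by decide) rel_E7_4_5
  · exact rel_of_comm h 0 6 (by decide) (by decide) comm_E7_0_6
  · exact rel_of_comm h 1 6 (by decide) (by decide) comm_E7_1_6
  · exact rel_of_comm h 2 6 (by decide) (by decide) comm_E7_2_6
  · exact rel_of_comm h 3 6 (by decide) (by decide) comm_E7_3_6
  · exact rel_of_comm h 4 6 (by decide) (by decide) comm_E7_4_6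
  · exact rel_of_check h 5 6 3 [] (by decide) rel_E7_5_6

/-- `N / H ≅ W` for `E7` -/
theorem phi_E7 {F : Type*} [Field F]
    (hsimp : ∀ j < chevE7.rank, ∀ c : F, c ≠ 0 → chevE7.hMat F (chevE7.simple j) c =
      Matrix.diagonal (Sum.elim (fun _ => (1 : F)) (fun s : Fin chevE7.nroots => c ^ (chevE7.cartan j s)))) :
    ∃ φ : ↥(chevE7.monomialSubgroup F) →* (CoxeterMatrix.E₇).Group, Function.Surjective φ ∧
      φ.ker = (chevE7.diagonalSubgroup F).subgroupOf (chevE7.monomialSubgroup F) ∧
      ∀ (i : Fin 7) (g : ↥(chevE7.monomialSubgroup F)),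
        ((g : GL chevE7.Idx F) : Matrix chevE7.Idx chevE7.Idx F) = chevE7.nMat F (chevE7.simple i) 1 →
          φ g = (CoxeterMatrix.E₇).simple i :=
  exists_phi' nData_E7 bridge_E7 hsimp (CoxeterMatrix.E₇) (ordersOK_spec E7.vd (CoxeterMatrix.E₇) E7.orders_ok)
    mfE7 mf_E7 (hrel_E7 nData_E7)

/-- codes of the coroot vectors of `E8` -/
def corootCodesE8 : List ℕ := [1698899030, 1967334486, 1984111702, 1985160278, 1985225814, 1985229910, 1985230166, 1985229926, 1985230182, 1985234278, 1985299814, 1986348390, 2003125606, 2271561062, 1985230167, 1985230183, 1985234279, 1985299815, 1986348391, 2003125607, 2271561063, 1985234535, 1985300071, 1986348647, 2003125863, 2271561319, 1985304167, 1986352743, 2003129959, 2271565415, 1986418279, 2003195495, 2271630951, 2004244071, 2272679527, 2289456743, 1985304183, 1986352759, 2003129975, 2271565431, 1986418295, 2003195511, 2271630967, 2004244087, 2272679543, 2289456759, 1986422391, 2003199607, 2271635063, 2004248183, 2272683639, 2289460855, 2004313719,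 2272749175, 2289526391, 2290574967, 1986422647, 2003199863, 2271635319, 2004248439, 2272683895, 2289461111, 2004313975, 2272749431, 2289526647, 2290575223, 2004318071, 2272753527, 2289530743, 2290579319, 2290644855, 2004318087, 2272753543, 2289530759, 2290579335, 2290644871, 2290648967, 2290649223, 1986422648, 2003199864, 2271635320, 2004248440, 2272683896, 2289461112, 2004313976, 2272749432, 2289526648, 2290575224, 2004318072, 2272753528, 2289530744, 2290579320, 2290644856, 2004318328, 2272753784, 2289531000, 2290579576, 2290645112, 2290649208, 2004318088, 2272753544, 2289530760, 2290579336, 2290644872, 2290648968, 2004318344, 2272753800, 2289531016, 2290579592, 2290645128, 2004322440, 2272757896, 2289535112, 2290583688, 2004387976, 2272823432, 2289600648, 2005436552, 2273872008, 2022213768, 2559084680, 2307426440, 2575861896, 2291697800, 2308475016, 2576910472, 2290714760, 2291763336, 2308540552, 2576976008, 2290653320, 2290718856, 2291767432, 2308544648, 2576980104, 2290649480, 2290653576,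 2290719112, 2291767688, 2308544904, 2576980360, 2290649240, 2290653336, 2290718872, 2291767448, 2308544664, 2576980120, 2290653592, 2290719128, 2291767704, 2308544920, 2576980376, 2290723224, 2291771800, 2308549016, 2576984472, 2291837336, 2308614552, 2577050008, 2309663128, 2578098584, 2594875800, 2290649225, 2290649481, 2290653577, 2290719113, 2291767689, 2308544905, 2576980361, 2290653593, 2290719129, 2291767705, 2308544921, 2576980377, 2290723225, 2291771801, 2308549017, 2576984473, 2291837337, 2308614553, 2577050009, 2309663129, 2578098585, 2594875801, 2290723481, 2291772057, 2308549273, 2576984729, 2291837593, 2308614809, 2577050265, 2309663385, 2578098841, 2594876057, 2291841689, 2308618905, 2577054361, 2309667481, 2578102937, 2594880153, 2309733017, 2578168473, 2594945689, 2595994265, 2291841705, 2308618921, 2577054377, 2309667497, 2578102953, 2594880169, 2309733033, 2578168489, 2594945705, 2595994281, 2309737129, 2578172585, 2594949801, 2595998377, 2596063913, 2309737385, 2578172841,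 2594950057, 2595998633, 2596064169, 2596068265, 2596068281, 2309737386, 2578172842, 2594950058, 2595998634, 2596064170, 2596068266, 2596068522, 2596068282, 2596068538, 2596072634, 2596138170, 2597186746, 2613963962, 2882399418]

theorem bridgeOK_E8 : bridgeCheck chevE8 E8.vd.A permE8 corootCodesE8 = true := by decide +kernel

theorem bridge_E8 : Bridge chevE8 E8.vd (codeVec 8 corootCodesE8) :=
  bridge_of_check chevE8 E8.vd permE8 corootCodesE8 rfl (fun i hi => permOK_E8 i hi) bridgeOK_E8

/-- the Coxeter integers of `E8` -/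
def mfE8 (i j : ℕ) : ℕ := lget (lget [[1, 2, 3, 2, 2, 2, 2, 2], [2, 1, 2, 3, 2, 2, 2, 2], [3, 2, 1, 3, 2, 2, 2, 2], [2, 3, 3, 1, 3, 2, 2, 2], [2, 2, 2, 3, 1, 3, 2, 2], [2, 2, 2, 2, 3, 1, 3, 2], [2, 2, 2, 2, 2, 3, 1, 3], [2, 2, 2, 2, 2, 2, 3, 1]] i []) j 0

theorem mf_E8 : ∀ i j : Fin 8, (CoxeterMatrix.E₈) i j = mfE8 i j :=
  mf_of_check _ _ (by decide +kernel)

theorem hrel_E8 {F : Type*} [Field F] (h : NData F chevE8 etaE8) (i j : ℕ) (hij : i < j) (hj : j < 8) :
    (Ni h i * Ni h j) ^ (mfE8 i j) ∈ chevE8.diagonalSubgroup F := by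
  interval_cases j <;> interval_cases i
  · exact rel_of_comm h 0 1 (by decide) (by decide) comm_E8_0_1
  · exact rel_of_check h 0 2 3 [] (by decide) rel_E8_0_2
  · exact rel_of_comm h 1 2 (by decide) (by decide) comm_E8_1_2
  · exact rel_of_comm h 0 3 (by decide) (by decide) comm_E8_0_3
  · exact rel_of_check h 1 3 3 [] (by decide) rel_E8_1_3
  · exact rel_of_check h 2 3 3 [] (by decide) rel_E8_2_3
  · exact rel_of_comm h 0 4 (by decide) (by decide) comm_E8_0_4
  · exact rel_of_comm h 1 4 (by decide) (by decide) comm_E8_1_4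
  · exact rel_of_comm h 2 4 (by decide) (by decide) comm_E8_2_4
  · exact rel_of_check h 3 4 3 [] (by decide) rel_E8_3_4
  · exact rel_of_comm h 0 5 (by decide) (by decide) comm_E8_0_5
  · exact rel_of_comm h 1 5 (by decide) (by decide) comm_E8_1_5
  · exact rel_of_comm h 2 5 (by decide) (by decide) comm_E8_2_5
  · exact rel_of_comm h 3 5 (by decide) (by decide) comm_E8_3_5
  · exact rel_of_check h 4 5 3 [] (by decide) rel_E8_4_5
  · exact rel_of_comm h 0 6 (by decide) (by decide) comm_E8_0_6
  · exact rel_of_comm h 1 6 (by decide) (by decide) comm_E8_1_6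
  · exact rel_of_comm h 2 6 (by decide) (by decide) comm_E8_2_6
  · exact rel_of_comm h 3 6 (by decide) (by decide) comm_E8_3_6
  · exact rel_of_comm h 4 6 (by decide) (by decide) comm_E8_4_6
  · exact rel_of_check h 5 6 3 [] (by decide) rel_E8_5_6
  · exact rel_of_comm h 0 7 (by decide) (by decide) comm_E8_0_7
  · exact rel_of_comm h 1 7 (by decide) (by decide) comm_E8_1_7
  · exact rel_of_comm h 2 7 (by decide) (by decide) comm_E8_2_7
  · exact rel_of_comm h 3 7 (by decide) (by decide) comm_E8_3_7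
  · exact rel_of_comm h 4 7 (by decide) (by decide) comm_E8_4_7
  · exact rel_of_comm h 5 7 (by decide) (by decide) comm_E8_5_7
  · exact rel_of_check h 6 7 3 [] (by decide) rel_E8_6_7

/-- `N / H ≅ W` for `E8` -/
theorem phi_E8 {F : Type*} [Field F]
    (hsimp : ∀ j < chevE8.rank, ∀ c : F, c ≠ 0 → chevE8.hMat F (chevE8.simple j) c =
      Matrix.diagonal (Sum.elim (fun _ => (1 : F)) (fun s : Fin chevE8.nroots => c ^ (chevE8.cartan j s)))) :
    ∃ φ : ↥(chevE8.monomialSubgroup F) →* (CoxeterMatrix.E₈).Group, Function.Surjective φ ∧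
      φ.ker = (chevE8.diagonalSubgroup F).subgroupOf (chevE8.monomialSubgroup F) ∧
      ∀ (i : Fin 8) (g : ↥(chevE8.monomialSubgroup F)),
        ((g : GL chevE8.Idx F) : Matrix chevE8.Idx chevE8.Idx F) = chevE8.nMat F (chevE8.simple i) 1 →
          φ g = (CoxeterMatrix.E₈).simple i :=
  exists_phi' nData_E8 bridge_E8 hsimp (CoxeterMatrix.E₈) (ordersOK_spec E8.vd (CoxeterMatrix.E₈) E8.orders_ok)
    mfE8 mf_E8 (hrel_E8 nData_E8)


end Cfsg.Agent.Helper6.Chev
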