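import Cfsg.Agent.Lib.Helper6.ChevBNLen
import Cfsg.Agent.Lib.Helper6.ChevWeylData

/-! Generated: BN length = number of inversions, and the `len = nJ` transversal, for the seven
tabulated Chevalley data. -/

set_option autoImplicit false

namespace Cfsg.Agent.Helper6.ChevLen

open Cfsg.Lie Cfsg.Agent.Helper18 Cfsg.Agent.Helper6.Weyl Cfsg.Agent.Helper6.Chev
open Cfsg.Agent.Helper6

/-- the action map `N → Wf` for `G2` -/
noncomputable def thetaG2 {F : Type*} [Field F]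
    (hsimp : ∀ j < chevG2.rank, ∀ c : F, c ≠ 0 → chevG2.hMat F (chevG2.simple j) c =
      Matrix.diagonal (Sum.elim (fun _ => (1 : F)) (fun s : Fin chevG2.nroots => c ^ (chevG2.cartan j s)))) :
    ↥(chevG2.monomialSubgroup F) →* ↥(G2d.vd).Wf :=
  thetaHom nData_G2 bridge_G2 hsimp

theorem len_eq_nJ_G2 {F : Type*} [Field F]
    (hsimp : ∀ j < chevG2.rank, ∀ c : F, c ≠ 0 → chevG2.hMat F (chevG2.simple j) c =
      Matrix.diagonal (Sum.elim (fun _ => (1 : F)) (fun s : Fin chevG2.nroots => c ^ (chevG2.cartan j s))))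
    {K : Subgroup (GL chevG2.Idx F)} (P : Cfsg.BNPair ↥K)
    (hPB : P.B = (chevG2.borelSubgroup F).subgroupOf K)
    (hPN : P.N = (chevG2.monomialSubgroup F).subgroupOf K)
    (hPS : P.S = {n : ↥K | ∃ i < chevG2.rank,
      ((n : GL chevG2.Idx F) : Matrix chevG2.Idx chevG2.Idx F) = chevG2.nMat F (chevG2.simple i) 1})
    (hBN : chevG2.borelSubgroup F ⊓ chevG2.monomialSubgroup F = chevG2.diagonalSubgroup F)
    (hK : chevG2.monomialSubgroup F ≤ K) (n : ↥K)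
    (hn : (n : GL chevG2.Idx F) ∈ chevG2.monomialSubgroup F) :
    len P n = (G2d.vd).nJ VDatum.allJ ((thetaG2 hsimp ⟨n, hn⟩ : (G2d.vd).Wf) : (Mat 2)ˣ) :=
  len_eq_nJ nData_G2 bridge_G2 hsimp P hPB hPN hPS hBN (CoxeterMatrix.G₂)
    (ordersOK_spec G2d.vd (CoxeterMatrix.G₂) G2d.orders_ok)
    (fun i j hij => by rw [mf_G2]; exact hrel_G2 nData_G2 i j hij j.2) hK n hn

/-- transversal of `H` in `N` indexed by the model Weyl group of `G2`, with `len = nJ` -/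
theorem transversal_G2 {F : Type*} [Field F]
    (hsimp : ∀ j < chevG2.rank, ∀ c : F, c ≠ 0 → chevG2.hMat F (chevG2.simple j) c =
      Matrix.diagonal (Sum.elim (fun _ => (1 : F)) (fun s : Fin chevG2.nroots => c ^ (chevG2.cartan j s))))
    {K : Subgroup (GL chevG2.Idx F)} (P : Cfsg.BNPair ↥K)
    (hPB : P.B = (chevG2.borelSubgroup F).subgroupOf K)
    (hPN : P.N = (chevG2.monomialSubgroup F).subgroupOf K)
    (hPS : P.S = {n : ↥K | ∃ i < chevG2.rank,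
      ((n : GL chevG2.Idx F) : Matrix chevG2.Idx chevG2.Idx F) = chevG2.nMat F (chevG2.simple i) 1})
    (hBN : chevG2.borelSubgroup F ⊓ chevG2.monomialSubgroup F = chevG2.diagonalSubgroup F)
    (hK : chevG2.monomialSubgroup F ≤ K) :
    ∃ ν : ↥(G2d.vd).Wf → ↥K, (∀ w, ν w ∈ P.N) ∧ (∀ n ∈ P.N, ∃! w, (ν w)⁻¹ * n ∈ P.B) ∧
      ∀ w, len P (ν w) = (G2d.vd).nJ VDatum.allJ (w : (Mat 2)ˣ) :=
  exists_transversal nData_G2 bridge_G2 hsimp P hPB hPN hPS hBN (CoxeterMatrix.G₂)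
    (ordersOK_spec G2d.vd (CoxeterMatrix.G₂) G2d.orders_ok)
    (fun i j hij => by rw [mf_G2]; exact hrel_G2 nData_G2 i j hij j.2) hK

/-- the action map `N → Wf` for `B2` -/
noncomputable def thetaB2 {F : Type*} [Field F]
    (hsimp : ∀ j < chevB2.rank, ∀ c : F, c ≠ 0 → chevB2.hMat F (chevB2.simple j) c =
      Matrix.diagonal (Sum.elim (fun _ => (1 : F)) (fun s : Fin chevB2.nroots => c ^ (chevB2.cartan j s)))) :
    ↥(chevB2.monomialSubgroup F) →* ↥(B2d.vd).Wf :=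
  thetaHom nData_B2 bridge_B2 hsimp

theorem len_eq_nJ_B2 {F : Type*} [Field F]
    (hsimp : ∀ j < chevB2.rank, ∀ c : F, c ≠ 0 → chevB2.hMat F (chevB2.simple j) c =
      Matrix.diagonal (Sum.elim (fun _ => (1 : F)) (fun s : Fin chevB2.nroots => c ^ (chevB2.cartan j s))))
    {K : Subgroup (GL chevB2.Idx F)} (P : Cfsg.BNPair ↥K)
    (hPB : P.B = (chevB2.borelSubgroup F).subgroupOf K)
    (hPN : P.N = (chevB2.monomialSubgroup F).subgroupOf K)
    (hPS : P.S = {n : ↥K | ∃ i < chevB2.rank,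
      ((n : GL chevB2.Idx F) : Matrix chevB2.Idx chevB2.Idx F) = chevB2.nMat F (chevB2.simple i) 1})
    (hBN : chevB2.borelSubgroup F ⊓ chevB2.monomialSubgroup F = chevB2.diagonalSubgroup F)
    (hK : chevB2.monomialSubgroup F ≤ K) (n : ↥K)
    (hn : (n : GL chevB2.Idx F) ∈ chevB2.monomialSubgroup F) :
    len P n = (B2d.vd).nJ VDatum.allJ ((thetaB2 hsimp ⟨n, hn⟩ : (B2d.vd).Wf) : (Mat 2)ˣ) :=
  len_eq_nJ nData_B2 bridge_B2 hsimp P hPB hPN hPS hBN (CoxeterMatrix.B 2)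
    (ordersOK_spec B2d.vd (CoxeterMatrix.B 2) B2d.orders_ok)
    (fun i j hij => by rw [mf_B2]; exact hrel_B2 nData_B2 i j hij j.2) hK n hn

/-- transversal of `H` in `N` indexed by the model Weyl group of `B2`, with `len = nJ` -/
theorem transversal_B2 {F : Type*} [Field F]
    (hsimp : ∀ j < chevB2.rank, ∀ c : F, c ≠ 0 → chevB2.hMat F (chevB2.simple j) c =
      Matrix.diagonal (Sum.elim (fun _ => (1 : F)) (fun s : Fin chevB2.nroots => c ^ (chevB2.cartan j s))))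
    {K : Subgroup (GL chevB2.Idx F)} (P : Cfsg.BNPair ↥K)
    (hPB : P.B = (chevB2.borelSubgroup F).subgroupOf K)
    (hPN : P.N = (chevB2.monomialSubgroup F).subgroupOf K)
    (hPS : P.S = {n : ↥K | ∃ i < chevB2.rank,
      ((n : GL chevB2.Idx F) : Matrix chevB2.Idx chevB2.Idx F) = chevB2.nMat F (chevB2.simple i) 1})
    (hBN : chevB2.borelSubgroup F ⊓ chevB2.monomialSubgroup F = chevB2.diagonalSubgroup F)
    (hK : chevB2.monomialSubgroup F ≤ K) :
    ∃ ν : ↥(B2d.vd).Wf → ↥K, (∀ w, ν w ∈ P.N) ∧ (∀ n ∈ P.N, ∃! w, (ν w)⁻¹ * n ∈ P.B) ∧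
      ∀ w, len P (ν w) = (B2d.vd).nJ VDatum.allJ (w : (Mat 2)ˣ) :=
  exists_transversal nData_B2 bridge_B2 hsimp P hPB hPN hPS hBN (CoxeterMatrix.B 2)
    (ordersOK_spec B2d.vd (CoxeterMatrix.B 2) B2d.orders_ok)
    (fun i j hij => by rw [mf_B2]; exact hrel_B2 nData_B2 i j hij j.2) hK

/-- the action map `N → Wf` for `D4` -/
noncomputable def thetaD4 {F : Type*} [Field F]
    (hsimp : ∀ j < chevD4.rank, ∀ c : F, c ≠ 0 → chevD4.hMat F (chevD4.simple j) c =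
      Matrix.diagonal (Sum.elim (fun _ => (1 : F)) (fun s : Fin chevD4.nroots => c ^ (chevD4.cartan j s)))) :
    ↥(chevD4.monomialSubgroup F) →* ↥(D4.vd).Wf :=
  thetaHom nData_D4 bridge_D4 hsimp

theorem len_eq_nJ_D4 {F : Type*} [Field F]
    (hsimp : ∀ j < chevD4.rank, ∀ c : F, c ≠ 0 → chevD4.hMat F (chevD4.simple j) c =
      Matrix.diagonal (Sum.elim (fun _ => (1 : F)) (fun s : Fin chevD4.nroots => c ^ (chevD4.cartan j s))))
    {K : Subgroup (GL chevD4.Idx F)} (P : Cfsg.BNPair ↥K)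
    (hPB : P.B = (chevD4.borelSubgroup F).subgroupOf K)
    (hPN : P.N = (chevD4.monomialSubgroup F).subgroupOf K)
    (hPS : P.S = {n : ↥K | ∃ i < chevD4.rank,
      ((n : GL chevD4.Idx F) : Matrix chevD4.Idx chevD4.Idx F) = chevD4.nMat F (chevD4.simple i) 1})
    (hBN : chevD4.borelSubgroup F ⊓ chevD4.monomialSubgroup F = chevD4.diagonalSubgroup F)
    (hK : chevD4.monomialSubgroup F ≤ K) (n : ↥K)
    (hn : (n : GL chevD4.Idx F) ∈ chevD4.monomialSubgroup F) :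
    len P n = (D4.vd).nJ VDatum.allJ ((thetaD4 hsimp ⟨n, hn⟩ : (D4.vd).Wf) : (Mat 4)ˣ) :=
  len_eq_nJ nData_D4 bridge_D4 hsimp P hPB hPN hPS hBN (Cfsg.Lie.coxeterD4)
    (ordersOK_spec D4.vd (Cfsg.Lie.coxeterD4) D4.orders_ok)
    (fun i j hij => by rw [mf_D4]; exact hrel_D4 nData_D4 i j hij j.2) hK n hn

/-- transversal of `H` in `N` indexed by the model Weyl group of `D4`, with `len = nJ` -/
theorem transversal_D4 {F : Type*} [Field F]
    (hsimp : ∀ j < chevD4.rank, ∀ c : F, c ≠ 0 → chevD4.hMat F (chevD4.simple j) c =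
      Matrix.diagonal (Sum.elim (fun _ => (1 : F)) (fun s : Fin chevD4.nroots => c ^ (chevD4.cartan j s))))
    {K : Subgroup (GL chevD4.Idx F)} (P : Cfsg.BNPair ↥K)
    (hPB : P.B = (chevD4.borelSubgroup F).subgroupOf K)
    (hPN : P.N = (chevD4.monomialSubgroup F).subgroupOf K)
    (hPS : P.S = {n : ↥K | ∃ i < chevD4.rank,
      ((n : GL chevD4.Idx F) : Matrix chevD4.Idx chevD4.Idx F) = chevD4.nMat F (chevD4.simple i) 1})
    (hBN : chevD4.borelSubgroup F ⊓ chevD4.monomialSubgroup F = chevD4.diagonalSubgroup F)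
    (hK : chevD4.monomialSubgroup F ≤ K) :
    ∃ ν : ↥(D4.vd).Wf → ↥K, (∀ w, ν w ∈ P.N) ∧ (∀ n ∈ P.N, ∃! w, (ν w)⁻¹ * n ∈ P.B) ∧
      ∀ w, len P (ν w) = (D4.vd).nJ VDatum.allJ (w : (Mat 4)ˣ) :=
  exists_transversal nData_D4 bridge_D4 hsimp P hPB hPN hPS hBN (Cfsg.Lie.coxeterD4)
    (ordersOK_spec D4.vd (Cfsg.Lie.coxeterD4) D4.orders_ok)
    (fun i j hij => by rw [mf_D4]; exact hrel_D4 nData_D4 i j hij j.2) hK

/-- the action map `N → Wf` for `F4` -/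
noncomputable def thetaF4 {F : Type*} [Field F]
    (hsimp : ∀ j < chevF4.rank, ∀ c : F, c ≠ 0 → chevF4.hMat F (chevF4.simple j) c =
      Matrix.diagonal (Sum.elim (fun _ => (1 : F)) (fun s : Fin chevF4.nroots => c ^ (chevF4.cartan j s)))) :
    ↥(chevF4.monomialSubgroup F) →* ↥(F4.vd).Wf :=
  thetaHom nData_F4 bridge_F4 hsimp

theorem len_eq_nJ_F4 {F : Type*} [Field F]
    (hsimp : ∀ j < chevF4.rank, ∀ c : F, c ≠ 0 → chevF4.hMat F (chevF4.simple j) c =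
      Matrix.diagonal (Sum.elim (fun _ => (1 : F)) (fun s : Fin chevF4.nroots => c ^ (chevF4.cartan j s))))
    {K : Subgroup (GL chevF4.Idx F)} (P : Cfsg.BNPair ↥K)
    (hPB : P.B = (chevF4.borelSubgroup F).subgroupOf K)
    (hPN : P.N = (chevF4.monomialSubgroup F).subgroupOf K)
    (hPS : P.S = {n : ↥K | ∃ i < chevF4.rank,
      ((n : GL chevF4.Idx F) : Matrix chevF4.Idx chevF4.Idx F) = chevF4.nMat F (chevF4.simple i) 1})
    (hBN : chevF4.borelSubgroup F ⊓ chevF4.monomialSubgroup F = chevF4.diagonalSubgroup F)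
    (hK : chevF4.monomialSubgroup F ≤ K) (n : ↥K)
    (hn : (n : GL chevF4.Idx F) ∈ chevF4.monomialSubgroup F) :
    len P n = (F4.vd).nJ VDatum.allJ ((thetaF4 hsimp ⟨n, hn⟩ : (F4.vd).Wf) : (Mat 4)ˣ) :=
  len_eq_nJ nData_F4 bridge_F4 hsimp P hPB hPN hPS hBN (CoxeterMatrix.F₄)
    (ordersOK_spec F4.vd (CoxeterMatrix.F₄) F4.orders_ok)
    (fun i j hij => by rw [mf_F4]; exact hrel_F4 nData_F4 i j hij j.2) hK n hn

/-- transversal of `H` in `N` indexed by the model Weyl group of `F4`, with `len = nJ` -/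
theorem transversal_F4 {F : Type*} [Field F]
    (hsimp : ∀ j < chevF4.rank, ∀ c : F, c ≠ 0 → chevF4.hMat F (chevF4.simple j) c =
      Matrix.diagonal (Sum.elim (fun _ => (1 : F)) (fun s : Fin chevF4.nroots => c ^ (chevF4.cartan j s))))
    {K : Subgroup (GL chevF4.Idx F)} (P : Cfsg.BNPair ↥K)
    (hPB : P.B = (chevF4.borelSubgroup F).subgroupOf K)
    (hPN : P.N = (chevF4.monomialSubgroup F).subgroupOf K)
    (hPS : P.S = {n : ↥K | ∃ i < chevF4.rank,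
      ((n : GL chevF4.Idx F) : Matrix chevF4.Idx chevF4.Idx F) = chevF4.nMat F (chevF4.simple i) 1})
    (hBN : chevF4.borelSubgroup F ⊓ chevF4.monomialSubgroup F = chevF4.diagonalSubgroup F)
    (hK : chevF4.monomialSubgroup F ≤ K) :
    ∃ ν : ↥(F4.vd).Wf → ↥K, (∀ w, ν w ∈ P.N) ∧ (∀ n ∈ P.N, ∃! w, (ν w)⁻¹ * n ∈ P.B) ∧
      ∀ w, len P (ν w) = (F4.vd).nJ VDatum.allJ (w : (Mat 4)ˣ) :=
  exists_transversal nData_F4 bridge_F4 hsimp P hPB hPN hPS hBN (CoxeterMatrix.F₄)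
    (ordersOK_spec F4.vd (CoxeterMatrix.F₄) F4.orders_ok)
    (fun i j hij => by rw [mf_F4]; exact hrel_F4 nData_F4 i j hij j.2) hK

/-- the action map `N → Wf` for `E6` -/
noncomputable def thetaE6 {F : Type*} [Field F]
    (hsimp : ∀ j < chevE6.rank, ∀ c : F, c ≠ 0 → chevE6.hMat F (chevE6.simple j) c =
      Matrix.diagonal (Sum.elim (fun _ => (1 : F)) (fun s : Fin chevE6.nroots => c ^ (chevE6.cartan j s)))) :
    ↥(chevE6.monomialSubgroup F) →* ↥(E6.vd).Wf :=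
  thetaHom nData_E6 bridge_E6 hsimp

theorem len_eq_nJ_E6 {F : Type*} [Field F]
    (hsimp : ∀ j < chevE6.rank, ∀ c : F, c ≠ 0 → chevE6.hMat F (chevE6.simple j) c =
      Matrix.diagonal (Sum.elim (fun _ => (1 : F)) (fun s : Fin chevE6.nroots => c ^ (chevE6.cartan j s))))
    {K : Subgroup (GL chevE6.Idx F)} (P : Cfsg.BNPair ↥K)
    (hPB : P.B = (chevE6.borelSubgroup F).subgroupOf K)
    (hPN : P.N = (chevE6.monomialSubgroup F).subgroupOf K)
    (hPS : P.S = {n : ↥K | ∃ i < chevE6.rank,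
      ((n : GL chevE6.Idx F) : Matrix chevE6.Idx chevE6.Idx F) = chevE6.nMat F (chevE6.simple i) 1})
    (hBN : chevE6.borelSubgroup F ⊓ chevE6.monomialSubgroup F = chevE6.diagonalSubgroup F)
    (hK : chevE6.monomialSubgroup F ≤ K) (n : ↥K)
    (hn : (n : GL chevE6.Idx F) ∈ chevE6.monomialSubgroup F) :
    len P n = (E6.vd).nJ VDatum.allJ ((thetaE6 hsimp ⟨n, hn⟩ : (E6.vd).Wf) : (Mat 6)ˣ) :=
  len_eq_nJ nData_E6 bridge_E6 hsimp P hPB hPN hPS hBN (CoxeterMatrix.E₆)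
    (ordersOK_spec E6.vd (CoxeterMatrix.E₆) E6.orders_ok)
    (fun i j hij => by rw [mf_E6]; exact hrel_E6 nData_E6 i j hij j.2) hK n hn

/-- transversal of `H` in `N` indexed by the model Weyl group of `E6`, with `len = nJ` -/
theorem transversal_E6 {F : Type*} [Field F]
    (hsimp : ∀ j < chevE6.rank, ∀ c : F, c ≠ 0 → chevE6.hMat F (chevE6.simple j) c =
      Matrix.diagonal (Sum.elim (fun _ => (1 : F)) (fun s : Fin chevE6.nroots => c ^ (chevE6.cartan j s))))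
    {K : Subgroup (GL chevE6.Idx F)} (P : Cfsg.BNPair ↥K)
    (hPB : P.B = (chevE6.borelSubgroup F).subgroupOf K)
    (hPN : P.N = (chevE6.monomialSubgroup F).subgroupOf K)
    (hPS : P.S = {n : ↥K | ∃ i < chevE6.rank,
      ((n : GL chevE6.Idx F) : Matrix chevE6.Idx chevE6.Idx F) = chevE6.nMat F (chevE6.simple i) 1})
    (hBN : chevE6.borelSubgroup F ⊓ chevE6.monomialSubgroup F = chevE6.diagonalSubgroup F)
    (hK : chevE6.monomialSubgroup F ≤ K) :
    ∃ ν : ↥(E6.vd).Wf → ↥K, (∀ w, ν w ∈ P.N) ∧ (∀ n ∈ P.N, ∃! w, (ν w)⁻¹ * n ∈ P.B) ∧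
      ∀ w, len P (ν w) = (E6.vd).nJ VDatum.allJ (w : (Mat 6)ˣ) :=
  exists_transversal nData_E6 bridge_E6 hsimp P hPB hPN hPS hBN (CoxeterMatrix.E₆)
    (ordersOK_spec E6.vd (CoxeterMatrix.E₆) E6.orders_ok)
    (fun i j hij => by rw [mf_E6]; exact hrel_E6 nData_E6 i j hij j.2) hK

/-- the action map `N → Wf` for `E7` -/
noncomputable def thetaE7 {F : Type*} [Field F]
    (hsimp : ∀ j < chevE7.rank, ∀ c : F, c ≠ 0 → chevE7.hMat F (chevE7.simple j) c =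
      Matrix.diagonal (Sum.elim (fun _ => (1 : F)) (fun s : Fin chevE7.nroots => c ^ (chevE7.cartan j s)))) :
    ↥(chevE7.monomialSubgroup F) →* ↥(E7.vd).Wf :=
  thetaHom nData_E7 bridge_E7 hsimp

theorem len_eq_nJ_E7 {F : Type*} [Field F]
    (hsimp : ∀ j < chevE7.rank, ∀ c : F, c ≠ 0 → chevE7.hMat F (chevE7.simple j) c =
      Matrix.diagonal (Sum.elim (fun _ => (1 : F)) (fun s : Fin chevE7.nroots => c ^ (chevE7.cartan j s))))
    {K : Subgroup (GL chevE7.Idx F)} (P : Cfsg.BNPair ↥K)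
    (hPB : P.B = (chevE7.borelSubgroup F).subgroupOf K)
    (hPN : P.N = (chevE7.monomialSubgroup F).subgroupOf K)
    (hPS : P.S = {n : ↥K | ∃ i < chevE7.rank,
      ((n : GL chevE7.Idx F) : Matrix chevE7.Idx chevE7.Idx F) = chevE7.nMat F (chevE7.simple i) 1})
    (hBN : chevE7.borelSubgroup F ⊓ chevE7.monomialSubgroup F = chevE7.diagonalSubgroup F)
    (hK : chevE7.monomialSubgroup F ≤ K) (n : ↥K)
    (hn : (n : GL chevE7.Idx F) ∈ chevE7.monomialSubgroup F) :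
    len P n = (E7.vd).nJ VDatum.allJ ((thetaE7 hsimp ⟨n, hn⟩ : (E7.vd).Wf) : (Mat 7)ˣ) :=
  len_eq_nJ nData_E7 bridge_E7 hsimp P hPB hPN hPS hBN (CoxeterMatrix.E₇)
    (ordersOK_spec E7.vd (CoxeterMatrix.E₇) E7.orders_ok)
    (fun i j hij => by rw [mf_E7]; exact hrel_E7 nData_E7 i j hij j.2) hK n hn

/-- transversal of `H` in `N` indexed by the model Weyl group of `E7`, with `len = nJ` -/
theorem transversal_E7 {F : Type*} [Field F]
    (hsimp : ∀ j < chevE7.rank, ∀ c : F, c ≠ 0 → chevE7.hMat F (chevE7.simple j) c =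
      Matrix.diagonal (Sum.elim (fun _ => (1 : F)) (fun s : Fin chevE7.nroots => c ^ (chevE7.cartan j s))))
    {K : Subgroup (GL chevE7.Idx F)} (P : Cfsg.BNPair ↥K)
    (hPB : P.B = (chevE7.borelSubgroup F).subgroupOf K)
    (hPN : P.N = (chevE7.monomialSubgroup F).subgroupOf K)
    (hPS : P.S = {n : ↥K | ∃ i < chevE7.rank,
      ((n : GL chevE7.Idx F) : Matrix chevE7.Idx chevE7.Idx F) = chevE7.nMat F (chevE7.simple i) 1})
    (hBN : chevE7.borelSubgroup F ⊓ chevE7.monomialSubgroup F = chevE7.diagonalSubgroup F)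
    (hK : chevE7.monomialSubgroup F ≤ K) :
    ∃ ν : ↥(E7.vd).Wf → ↥K, (∀ w, ν w ∈ P.N) ∧ (∀ n ∈ P.N, ∃! w, (ν w)⁻¹ * n ∈ P.B) ∧
      ∀ w, len P (ν w) = (E7.vd).nJ VDatum.allJ (w : (Mat 7)ˣ) :=
  exists_transversal nData_E7 bridge_E7 hsimp P hPB hPN hPS hBN (CoxeterMatrix.E₇)
    (ordersOK_spec E7.vd (CoxeterMatrix.E₇) E7.orders_ok)
    (fun i j hij => by rw [mf_E7]; exact hrel_E7 nData_E7 i j hij j.2) hK

/-- the action map `N → Wf` for `E8` -/
noncomputable def thetaE8 {F : Type*} [Field F]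
    (hsimp : ∀ j < chevE8.rank, ∀ c : F, c ≠ 0 → chevE8.hMat F (chevE8.simple j) c =
      Matrix.diagonal (Sum.elim (fun _ => (1 : F)) (fun s : Fin chevE8.nroots => c ^ (chevE8.cartan j s)))) :
    ↥(chevE8.monomialSubgroup F) →* ↥(E8.vd).Wf :=
  thetaHom nData_E8 bridge_E8 hsimp

theorem len_eq_nJ_E8 {F : Type*} [Field F]
    (hsimp : ∀ j < chevE8.rank, ∀ c : F, c ≠ 0 → chevE8.hMat F (chevE8.simple j) c =
      Matrix.diagonal (Sum.elim (fun _ => (1 : F)) (fun s : Fin chevE8.nroots => c ^ (chevE8.cartan j s))))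
    {K : Subgroup (GL chevE8.Idx F)} (P : Cfsg.BNPair ↥K)
    (hPB : P.B = (chevE8.borelSubgroup F).subgroupOf K)
    (hPN : P.N = (chevE8.monomialSubgroup F).subgroupOf K)
    (hPS : P.S = {n : ↥K | ∃ i < chevE8.rank,
      ((n : GL chevE8.Idx F) : Matrix chevE8.Idx chevE8.Idx F) = chevE8.nMat F (chevE8.simple i) 1})
    (hBN : chevE8.borelSubgroup F ⊓ chevE8.monomialSubgroup F = chevE8.diagonalSubgroup F)
    (hK : chevE8.monomialSubgroup F ≤ K) (n : ↥K)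
    (hn : (n : GL chevE8.Idx F) ∈ chevE8.monomialSubgroup F) :
    len P n = (E8.vd).nJ VDatum.allJ ((thetaE8 hsimp ⟨n, hn⟩ : (E8.vd).Wf) : (Mat 8)ˣ) :=
  len_eq_nJ nData_E8 bridge_E8 hsimp P hPB hPN hPS hBN (CoxeterMatrix.E₈)
    (ordersOK_spec E8.vd (CoxeterMatrix.E₈) E8.orders_ok)
    (fun i j hij => by rw [mf_E8]; exact hrel_E8 nData_E8 i j hij j.2) hK n hn

/-- transversal of `H` in `N` indexed by the model Weyl group of `E8`, with `len = nJ` -/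
theorem transversal_E8 {F : Type*} [Field F]
    (hsimp : ∀ j < chevE8.rank, ∀ c : F, c ≠ 0 → chevE8.hMat F (chevE8.simple j) c =
      Matrix.diagonal (Sum.elim (fun _ => (1 : F)) (fun s : Fin chevE8.nroots => c ^ (chevE8.cartan j s))))
    {K : Subgroup (GL chevE8.Idx F)} (P : Cfsg.BNPair ↥K)
    (hPB : P.B = (chevE8.borelSubgroup F).subgroupOf K)
    (hPN : P.N = (chevE8.monomialSubgroup F).subgroupOf K)
    (hPS : P.S = {n : ↥K | ∃ i < chevE8.rank,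
      ((n : GL chevE8.Idx F) : Matrix chevE8.Idx chevE8.Idx F) = chevE8.nMat F (chevE8.simple i) 1})
    (hBN : chevE8.borelSubgroup F ⊓ chevE8.monomialSubgroup F = chevE8.diagonalSubgroup F)
    (hK : chevE8.monomialSubgroup F ≤ K) :
    ∃ ν : ↥(E8.vd).Wf → ↥K, (∀ w, ν w ∈ P.N) ∧ (∀ n ∈ P.N, ∃! w, (ν w)⁻¹ * n ∈ P.B) ∧
      ∀ w, len P (ν w) = (E8.vd).nJ VDatum.allJ (w : (Mat 8)ˣ) :=
  exists_transversal nData_E8 bridge_E8 hsimp P hPB hPN hPS hBN (CoxeterMatrix.E₈)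
    (ordersOK_spec E8.vd (CoxeterMatrix.E₈) E8.orders_ok)
    (fun i j hij => by rw [mf_E8]; exact hrel_E8 nData_E8 i j hij j.2) hK

end Cfsg.Agent.Helper6.ChevLen
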