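import Cfsg.Agent.Lib.Helper6.ChevNorm

/-!
# Relations between the fundamental `n_i` modulo `H` (reflective checks)
-/

set_option autoImplicit false

namespace Cfsg.Agent.Helper6.Chev

open Cfsg.Lie Cfsg.Agent.Helper18

section

variable {F : Type*} [Field F] (D : ChevalleyDatum)

theorem wordMat_append (u v : List (ℕ × F)) :
    D.wordMat F (u ++ v) = D.wordMat F u * D.wordMat F v := by
  simp [ChevalleyDatum.wordMat]

theorem evalWord_append (a b : Fˣ) (u v : List (ℕ × LP)) :
    evalWord a b (u ++ v) = evalWord a b u ++ evalWord a b v := by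
  simp [evalWord]

/-- the word of `n_{p_i}(1)` (kernel-friendly) -/
def nW (i : ℕ) : List (ℕ × LP) :=
  [(fSimple D i, LP.ofInt 1), (fNeg D (fSimple D i), LP.ofInt (-1)), (fSimple D i, LP.ofInt 1)]

theorem evalWord_nW (i : ℕ) : evalWord (1 : Fˣ) 1 (nW D i) = D.nWord (D.simple i) (1 : F) := by
  simp [nW, evalWord, ChevalleyDatum.nWord, fSimple_eq, fNeg_eq]

/-- the word of `h_{p_k}(-1)` (kernel-friendly) -/
def hW (k : ℕ) : List (ℕ × LP) :=
  [(fSimple D k, LP.ofInt (-1)), (fNeg D (fSimple D k), LP.ofInt 1), (fSimple D k, LP.ofInt (-1)),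
    (fSimple D k, LP.ofInt (-1)), (fNeg D (fSimple D k), LP.ofInt 1), (fSimple D k, LP.ofInt (-1))]

theorem evalWord_hW (k : ℕ) : evalWord (1 : Fˣ) 1 (hW D k) = D.hWord (D.simple k) (-1 : F) := by
  simp [hW, evalWord, ChevalleyDatum.hWord, ChevalleyDatum.nWord, fSimple_eq, fNeg_eq, inv_neg]

/-- repeat a word -/
def powWord (w : List (ℕ × LP)) : ℕ → List (ℕ × LP)
  | 0 => []
  | m + 1 => w ++ powWord w m

theorem wordMat_powWord (a b : Fˣ) (w : List (ℕ × LP)) (m : ℕ) :
    D.wordMat F (evalWord a b (powWord w m)) = D.wordMat F (evalWord a b w) ^ m := by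
  induction m with
  | zero => simp [powWord, evalWord, ChevalleyDatum.wordMat]
  | succ m ih => rw [powWord, evalWord_append, wordMat_append, ih, pow_succ']

/-- check of `(n_i n_j)^m = ∏_{k ∈ K} h_{p_k}(-1)` -/
def relCheck (i j m : ℕ) (K : List ℕ) : Bool :=
  wordEqCheck D (powWord (nW D i ++ nW D j) m) (K.flatMap (hW D))

/-- check of `n_i n_j = n_j n_i` -/
def commCheck (i j : ℕ) : Bool := wordEqCheck D (nW D i ++ nW D j) (nW D j ++ nW D i)

end

section

variable {F : Type*} [Field F] {D : ChevalleyDatum} {η : ℕ → ℕ → ℤ} (h : NData F D η)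

include h

theorem wordMat_nW (i : ℕ) : D.wordMat F (evalWord (1 : Fˣ) 1 (nW D i)) = ((Ni h i : GL D.Idx F) : Matrix D.Idx D.Idx F) := by
  rw [evalWord_nW, Ni, ng_val]
  rfl

theorem wordMat_hW_flatMap (K : List ℕ) :
    D.wordMat F (evalWord (1 : Fˣ) 1 (K.flatMap (hW D))) =
      (((K.map fun k => hg h (D.simple k) (-1)).prod : GL D.Idx F) : Matrix D.Idx D.Idx F) := by
  induction K with
  | nil => simp [evalWord, ChevalleyDatum.wordMat]
  | cons k K ih =>
    rw [List.flatMap_cons, evalWord_append, wordMat_append, ih, List.map_cons, List.prod_cons,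
      Units.val_mul, evalWord_hW, hg_val]
    rfl

theorem rel_of_check (i j m : ℕ) (K : List ℕ) (hK : ∀ k ∈ K, k < D.rank)
    (hc : relCheck D i j m K = true) : (Ni h i * Ni h j) ^ m ∈ D.diagonalSubgroup F := by
  have e : (Ni h i * Ni h j) ^ m = (K.map fun k => hg h (D.simple k) (-1)).prod := by
    apply Units.ext
    rw [← wordMat_hW_flatMap h K, ← wordMat_eq_of_check D (1 : Fˣ) 1 _ _ hc, wordMat_powWord,
      evalWord_append, wordMat_append, wordMat_nW h, wordMat_nW h, Units.val_pow_eq_pow_val,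
      Units.val_mul]
  rw [e]
  apply Subgroup.list_prod_mem
  intro x hx
  rw [List.mem_map] at hx
  obtain ⟨k, hk, rfl⟩ := hx
  exact hg_mem h _ (h.simple_lt k (hK k hk)) (-1) (neg_ne_zero.mpr one_ne_zero)

theorem rel_of_comm (i j : ℕ) (hi : i < D.rank) (hj : j < D.rank) (hc : commCheck D i j = true) :
    (Ni h i * Ni h j) ^ 2 ∈ D.diagonalSubgroup F := by
  have e : Ni h i * Ni h j = Ni h j * Ni h i := by
    apply Units.ext
    have := wordMat_eq_of_check D (F := F) (1 : Fˣ) 1 _ _ hc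
    rwa [evalWord_append, evalWord_append, wordMat_append, wordMat_append, wordMat_nW h, wordMat_nW h,
      ← Units.val_mul, ← Units.val_mul] at this
  have e2 : (Ni h i * Ni h j) ^ 2 = (Ni h i * Ni h i) * (Ni h j * Ni h j) := by
    rw [pow_two]
    calc Ni h i * Ni h j * (Ni h i * Ni h j) = Ni h i * (Ni h j * Ni h i) * Ni h j := by group
      _ = Ni h i * (Ni h i * Ni h j) * Ni h j := by rw [e]
      _ = _ := by group
  rw [e2]
  exact mul_mem (Ni_sq_mem h i hi) (Ni_sq_mem h j hj)

end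

end Cfsg.Agent.Helper6.Chev
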