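import Cfsg.Agent.Lib.Helper18.ChevN
import Cfsg.Agent.Lib.Helper18.ChevAdd

/-!
# Conjugation of root elements by the monomial matrices `n_{p_i}(1)` (reflective check)

`n_{p_i}(1) x_s(t) = x_{w_i s}(η_s t) n_{p_i}(1)` where `η` is the sign function of the monomial form
of `n_{p_i}(1)`.  The check uses the known monomial form, so only two sparse applications per
column are needed.
-/

set_option autoImplicit false

namespace Cfsg.Agent.Helper6.Chev

open Cfsg.Lie Cfsg.Agent.Helper18

section

variable {F : Type*} [Field F] (D : ChevalleyDatum)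

/-- Apply the signed monomial matrix to a sparse vector. -/
def monoApply (i : ℕ) (η : ℕ → ℤ) (v : SV) : SV :=
  v.flatMap fun e => if e.1 < D.rank + D.nroots then SV.scale e.2 (fMonoCol D i η e.1) else []

theorem monoApply_sound (a b : Fˣ) (i : ℕ) (hi : i < D.rank) (η : ℕ → ℤ) (v : SV) :
    Matrix.mulVec (monoMat (F := F) D i η) (toVec D a b v) = toVec D a b (monoApply D i η v) := by
  funext row
  simp only [toVec, monoApply, SV.coeff_flatMap, Matrix.mulVec, dotProduct]
  induction v with
  | nil => simp
  | cons e v ih =>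
    simp only [SV.coeff_cons, mul_add, Finset.sum_add_distrib, ih, List.map_cons, List.sum_cons]
    congr 1
    by_cases he : e.1 < D.rank + D.nroots
    · obtain ⟨col0, h0⟩ := exists_code_eq D e.1 he
      rw [sum_mul_ite_code D _ _ e.1 col0 h0, if_pos he, monoMat_col D a b i hi η row col0,
        fMonoCol_eq, h0]
      simp only [SV.coeff_scale]
    · rw [if_neg he]
      simp only [SV.coeff_nil]
      apply Finset.sum_eq_zero
      intro col _
      have : ¬ (e.1 = code D col) := fun h => he (h ▸ code_lt D col)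
      rw [if_neg this, mul_zero]

theorem monoMat_mulVec_single (a b : Fˣ) (i : ℕ) (hi : i < D.rank) (η : ℕ → ℤ) (col : D.Idx) :
    Matrix.mulVec (monoMat (F := F) D i η) (Pi.single col 1) =
      toVec D a b (fMonoCol D i η (code D col)) := by
  funext row
  rw [Matrix.mulVec_single_one, fMonoCol_eq]
  exact monoMat_col D a b i hi η row col

/-- the parameter `t` (first variable) -/
def lpT : LP := [(1, 1, 0)]

/-- the parameter `c * t` -/
def lpCT (c : ℤ) : LP := [(c, 1, 0)]

theorem eval_lpT (a b : Fˣ) : LP.eval a b lpT = (a : F) := by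
  simp [lpT, LP.eval, LP.evalMono]

theorem eval_lpCT (a b : Fˣ) (c : ℤ) : LP.eval a b (lpCT c) = (c : F) * (a : F) := by
  simp [lpCT, LP.eval, LP.evalMono]

/-- Check of `n_i x_s(t) = x_{w_i s}(η_s t) n_i` on all columns. -/
def conjCheck (i : ℕ) (η : ℕ → ℤ) (s : ℕ) : Bool :=
  (List.range (D.rank + D.nroots)).all fun k =>
    SV.vecEq (monoApply D i η (applyX D s lpT (basisVec k)))
      (applyX D (fReflectRoot D i s) (lpCT (η s)) (fMonoCol D i η k))

theorem conj_of_check (i : ℕ) (hi : i < D.rank) (η : ℕ → ℤ) (s : ℕ)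
    (h : conjCheck D i η s = true) (t : F) :
    monoMat D i η * D.x F s t = D.x F (D.reflectRoot i s) ((η s : F) * t) * monoMat D i η := by
  by_cases ht : t = 0
  · rw [ht, mul_zero, x_zero, x_zero, mul_one, one_mul]
  apply mat_eq_of_mulVec_single
  intro col
  set a : Fˣ := Units.mk0 t ht with ha
  have hta : t = LP.eval a 1 lpT := by rw [eval_lpT]; rfl
  have hcta : ((η s : ℤ) : F) * t = LP.eval a 1 (lpCT (η s)) := by rw [eval_lpCT]; rfl
  rw [← Matrix.mulVec_mulVec, ← Matrix.mulVec_mulVec, monoMat_mulVec_single D a 1 i hi η col,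
    ← toVec_basisVec D a 1 col, hcta, hta, applyX_sound, monoApply_sound D a 1 i hi,
    ← fReflectRoot_eq, applyX_sound]
  apply toVec_eq_of_vecEq
  rw [conjCheck, List.all_eq_true] at h
  exact h _ (List.mem_range.mpr (code_lt D col))

/-- force the evaluation of a natural number before continuing (the kernel does not memoize) -/
def forceN {α : Type} (x : ℕ) (k : ℕ → α) : α := Nat.rec (k 0) (fun m _ => k (m + 1)) x

theorem forceN_eq {α : Type} (x : ℕ) (k : ℕ → α) : forceN x k = k x := by
  cases x <;> rfl

/-- digit `c` of a base-256 code -/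
def dig (P c : ℕ) : ℕ := (P >>> (8 * c)) &&& 255

/-- `P` codes the permutation `reflectRoot i` of the roots -/
def permOK (i P : ℕ) : Bool := (List.range D.nroots).all fun c => dig P c == fReflectRoot D i c

theorem dig_of_permOK {i P : ℕ} (h : permOK D i P = true) {c : ℕ} (hc : c < D.nroots) :
    dig P c = D.reflectRoot i c := by
  rw [permOK, List.all_eq_true] at h
  have := h c (List.mem_range.mpr hc)
  rw [beq_iff_eq, fReflectRoot_eq] at this
  exact this

/-- the check for one column -/
def conjCol (i : ℕ) (η : ℕ → ℤ) (s k : ℕ) : Bool :=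
  SV.vecEq (monoApply D i η (applyX D s lpT (basisVec k)))
    (applyX D (fReflectRoot D i s) (lpCT (η s)) (fMonoCol D i η k))

/-- columns of the monomial matrix, the permutation read off the code `P` -/
def qMonoCol (i : ℕ) (η : ℕ → ℤ) (P k : ℕ) : SV :=
  if k < D.rank then [(k, LP.ofInt 1), (i, LP.ofInt (-(fCartan D k (fSimple D i))))]
  else [(D.rank + dig P (k - D.rank), LP.ofInt (η (k - D.rank)))]

theorem qMonoCol_eq {i P : ℕ} (hP : permOK D i P = true) (η : ℕ → ℤ) (k : ℕ)
    (hk : k < D.rank + D.nroots) : qMonoCol D i η P k = fMonoCol D i η k := by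
  rw [qMonoCol, fMonoCol]
  split_ifs with h
  · rfl
  · rw [dig_of_permOK D hP (by omega), fReflectRoot_eq]

/-- `monoApply` with the permutation read off the code `P` -/
def monoApplyQ (i : ℕ) (η : ℕ → ℤ) (P : ℕ) (v : SV) : SV :=
  v.flatMap fun e => if e.1 < D.rank + D.nroots then SV.scale e.2 (qMonoCol D i η P e.1) else []

theorem monoApplyQ_eq {i P : ℕ} (hP : permOK D i P = true) (η : ℕ → ℤ) (v : SV) :
    monoApplyQ D i η P v = monoApply D i η v := by
  rw [monoApplyQ, monoApply]
  congr 1
  funext e
  split_ifs with h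
  · rw [qMonoCol_eq D hP η _ h]
  · rfl

/-- the check for one column, fast version -/
def conjColQ (i : ℕ) (η : ℕ → ℤ) (P s k : ℕ) : Bool :=
  SV.vecEq (monoApplyQ D i η P (applyX D s lpT (basisVec k)))
    (applyX D (dig P s) (lpCT (η s)) (qMonoCol D i η P k))

theorem conjColQ_eq {i P : ℕ} (hP : permOK D i P = true) (η : ℕ → ℤ) {s k : ℕ} (hs : s < D.nroots)
    (hk : k < D.rank + D.nroots) : conjColQ D i η P s k = conjCol D i η s k := by
  rw [conjColQ, conjCol, monoApplyQ_eq D hP, qMonoCol_eq D hP η k hk, dig_of_permOK D hP hs,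
    fReflectRoot_eq]

/-- Fast check of `n_i x_s(t) = x_{w_i s}(η_s t) n_i`: the columns on which both root elements act
trivially are skipped. -/
def conjCheckF (i : ℕ) (η : ℕ → ℤ) (P s : ℕ) : Bool :=
  forceN (colMask D s) fun m1 => forceN (colMask D (dig P s)) fun m2 =>
    (List.range (D.rank + D.nroots)).all fun k =>
      (decide (D.rank ≤ k) && !(m1.testBit (k - D.rank)) && !(m2.testBit (dig P (k - D.rank)))) ||
        conjColQ D i η P s k

theorem applyX_trivial (r : ℕ) (t : LP) (e : ℕ × LP) (he : e.1 < D.rank + D.nroots)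
    (h : trivialCol D r e.1 = true) : applyX D r t [e] = [e] := by
  by_cases hr : r < D.nroots
  · simp [applyX, hr, he, h, SV.insert]
  · simp [applyX, hr]

theorem conj_of_checkF (i : ℕ) (hi : i < D.rank) (η : ℕ → ℤ) (P : ℕ) (hP : permOK D i P = true)
    (hrange : ∀ c < D.nroots, D.reflectRoot i c < D.nroots) (s : ℕ) (hs : s < D.nroots)
    (h : conjCheckF D i η P s = true) (t : F) :
    monoMat D i η * D.x F s t = D.x F (D.reflectRoot i s) ((η s : F) * t) * monoMat D i η := by
  by_cases ht : t = 0
  · rw [ht, mul_zero, x_zero, x_zero, mul_one, one_mul]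
  apply mat_eq_of_mulVec_single
  intro col
  set a : Fˣ := Units.mk0 t ht with ha
  have hta : t = LP.eval a 1 lpT := by rw [eval_lpT]; rfl
  have hcta : ((η s : ℤ) : F) * t = LP.eval a 1 (lpCT (η s)) := by rw [eval_lpCT]; rfl
  rw [← Matrix.mulVec_mulVec, ← Matrix.mulVec_mulVec, monoMat_mulVec_single D a 1 i hi η col,
    ← toVec_basisVec D a 1 col, hcta, hta, applyX_sound, monoApply_sound D a 1 i hi,
    ← fReflectRoot_eq, applyX_sound]
  rw [conjCheckF, forceN_eq, forceN_eq, List.all_eq_true] at h
  have hk := h _ (List.mem_range.mpr (code_lt D col))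
  rw [Bool.or_eq_true] at hk
  rcases hk with hk | hk
  · -- both root elements act trivially on this column
    rw [Bool.and_eq_true, Bool.and_eq_true, decide_eq_true_eq, Bool.not_eq_true', Bool.not_eq_true'] at hk
    obtain ⟨⟨h1, h2⟩, h3⟩ := hk
    rcases col with j | c
    · exfalso
      have := j.2
      simp only [code] at h1
      omega
    · have hcode : code D (Sum.inr c : D.Idx) = D.rank + c.val := rfl
      have hsub : code D (Sum.inr c : D.Idx) - D.rank = c.val := by rw [hcode]; omega
      rw [hsub] at h2 h3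
      rw [dig_of_permOK D hP c.2] at h3
      rw [dig_of_permOK D hP hs] at h3
      have hnl : ¬ (code D (Sum.inr c : D.Idx) < D.rank) := by rw [hcode]; omega
      have htr1 : trivialCol D s (code D (Sum.inr c : D.Idx)) = true := by
        rw [trivialCol, Bool.and_eq_true, decide_eq_true_eq, Bool.not_eq_true', hsub]
        exact ⟨h1, h2⟩
      have hw := hrange c.val c.2
      have htr2 : trivialCol D (D.reflectRoot i s) (D.rank + D.reflectRoot i c.val) = true := by
        rw [trivialCol, Bool.and_eq_true, decide_eq_true_eq, Bool.not_eq_true']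
        refine ⟨by omega, ?_⟩
        rw [Nat.add_sub_cancel_left]
        exact h3
      have hcol : fMonoCol D i η (code D (Sum.inr c : D.Idx)) =
          [(D.rank + D.reflectRoot i c.val, LP.ofInt (η c.val))] := by
        rw [fMonoCol, if_neg hnl, hsub, fReflectRoot_eq]
      rw [basisVec, applyX_trivial D s lpT _ (code_lt D (Sum.inr c)) htr1, hcol, fReflectRoot_eq,
        applyX_trivial D _ _ _ (by simpa using hw) htr2, ← hcol, ← monoApply_sound D a 1 i hi,
        ← monoMat_mulVec_single D a 1 i hi η, ← toVec_basisVec D a 1]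
      rfl
  · rw [conjColQ_eq D hP η hs (code_lt D col)] at hk
    exact toVec_eq_of_vecEq D a 1 _ _ hk

/-- Check for all roots in a range `[lo, lo + n)`. -/
def conjCheckRange (i : ℕ) (η : ℕ → ℤ) (P lo n : ℕ) : Bool :=
  (List.range n).all fun k => conjCheckF D i η P (lo + k)

theorem conjCheck_of_range (i : ℕ) (η : ℕ → ℤ) (P lo n : ℕ)
    (h : conjCheckRange D i η P lo n = true)
    (s : ℕ) (h1 : lo ≤ s) (h2 : s < lo + n) : conjCheckF D i η P s = true := by
  rw [conjCheckRange, List.all_eq_true] at h
  have := h (s - lo) (List.mem_range.mpr (by omega))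
  rwa [Nat.add_sub_cancel' h1] at this

end

end Cfsg.Agent.Helper6.Chev
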