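import Cfsg.Agent.Lib.Helper6.ChevGraphGen
import Cfsg.Prelude.Def_ChevB2

/-!
# The data of the two constituents of the adjoint module of `B2` in characteristic 2
-/

set_option autoImplicit false
set_option linter.unusedSectionVars false
set_option linter.unusedVariables false
set_option maxRecDepth 100000

namespace Cfsg.Agent.Helper6.ChevGraph.B2

open Cfsg Cfsg.Lie Cfsg.Agent.Helper18 Cfsg.Agent.Helper6.BlockHom Cfsg.Agent.S1043
open Cfsg.Agent.Helper6.G2C3 Cfsg.Agent.Helper6.ChevGraph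

/-- codes of the basis of the ideal -/
def c1 : Fin 5 → ℕ := ![0, 3, 4, 7, 8]
/-- codes of the complementary basis vectors -/
def c2 : Fin 5 → ℕ := ![1, 2, 5, 6, 9]
/-- the permutation of the roots -/
def sig : ℕ → ℕ := fun r => ([1, 0, 3, 2, 5, 4, 7, 6] : List ℕ).getD r 0
/-- the roots whose parameter is squared -/
def isShort : ℕ → Bool := fun r => ([1, 2, 5, 6] : List ℕ).contains r

/-- a coordinate index of the first kind -/
def hI (i : ℕ) (h : i < 2) : chevB2.Idx := Sum.inl ⟨i, h⟩
/-- a coordinate index of the second kind -/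
def eI (s : ℕ) (h : s < 8) : chevB2.Idx := Sum.inr ⟨s, h⟩

/-- the basis of the ideal -/
def i1 : Fin 5 → chevB2.Idx :=
  ![hI 0 (by decide), eI 1 (by decide), eI 2 (by decide), eI 5 (by decide), eI 6 (by decide)]
/-- the complementary basis vectors -/
def i2 : Fin 5 → chevB2.Idx :=
  ![hI 1 (by decide), eI 0 (by decide), eI 3 (by decide), eI 4 (by decide), eI 7 (by decide)]

/-- the inverse of the reindexing -/
def invIdx : chevB2.Idx → Fin 5 ⊕ Fin 5
  | Sum.inl i => ([Sum.inl 0, Sum.inr 0] : List (Fin 5 ⊕ Fin 5)).getD i.val (Sum.inl 0)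
  | Sum.inr s => ([Sum.inr 1, Sum.inl 1, Sum.inl 2, Sum.inr 2, Sum.inr 3, Sum.inl 3, Sum.inl 4, Sum.inr 4] : List (Fin 5 ⊕ Fin 5)).getD s.val (Sum.inl 0)

/-- the reindexing -/
def eIdx : Fin 5 ⊕ Fin 5 ≃ chevB2.Idx where
  toFun := Sum.elim i1 i2
  invFun := invIdx
  left_inv := by decide
  right_inv := by decide

theorem code_i1 : ∀ j, code chevB2 (i1 j) = c1 j := by decide
theorem code_i2 : ∀ j, code chevB2 (i2 j) = c2 j := by decide

end Cfsg.Agent.Helper6.ChevGraph.B2
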