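import Cfsg.Agent.Lib.Helper6.ChevGraphB2B
import Cfsg.Agent.Lib.Helper6.ChevGraphInj
import Cfsg.Agent.S1056

/-!
# The graph automorphism of `B₂` in characteristic 2
-/

set_option autoImplicit false
set_option linter.unusedSectionVars false
set_option linter.unusedVariables false
set_option maxRecDepth 100000

namespace Cfsg.Agent.Helper6.ChevGraph.B2

open Cfsg Cfsg.Lie Cfsg.Agent.Helper18 Cfsg.Agent.Helper6.BlockHom Cfsg.Agent.S1043
open Cfsg.Agent.Helper6.G2C3 Cfsg.Agent.Helper6.ChevGraph

theorem goodB2 : Good chevB2 := by simp [Good]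

theorem two_ne : (2 : ℕ) ≠ 0 := by decide

section

variable {K : Type*} [Field K] [CharP K 2]

theorem phi1_ne : phi1 dat goodB2 two_ne (xG goodB2 5 (1 : K)) ≠ 1 := by
  apply phi1_ne_of_entry dat goodB2 two_ne (K := K) ⟨5, by decide⟩ 0 2 (by decide) 1
  · decide +kernel
  · simp

/-- a field of characteristic 2 with more than two elements -/
theorem exists_ne (L : Type*) [Field L] [IsAlgClosed L] : ∃ a : L, a ≠ 0 ∧ a ≠ 1 := by
  classical
  obtain ⟨a, ha⟩ := Infinite.exists_notMem_finset ({0, 1} : Finset L)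
  refine ⟨a, ?_, ?_⟩
  · intro h; apply ha; simp [h]
  · intro h; apply ha; simp [h]

theorem inj_big (L : Type*) [Field L] [CharP L 2] (hL : ∃ a : L, a ≠ 0 ∧ a ≠ 1) :
    Function.Injective (phi1 dat goodB2 two_ne (K := L)) ∧
      Function.Injective (phi2 dat goodB2 two_ne (K := L)) := by
  have : IsSimpleGroup ↥(chevB2.group L) := (Cfsg.Agent.S1056.result hL).1
  exact inj_of_simple dat goodB2 two_ne ⟨5, by decide⟩ phi1_ne

theorem phi1_inj : Function.Injective (phi1 dat goodB2 two_ne (K := K)) :=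
  phi1_inj_of_ext dat goodB2 two_ne (algebraMap K (AlgebraicClosure K))
    (inj_big (AlgebraicClosure K) (exists_ne _)).1

theorem phi2_inj : Function.Injective (phi2 dat goodB2 two_ne (K := K)) :=
  phi2_inj_of_ext dat goodB2 two_ne (algebraMap K (AlgebraicClosure K))
    (inj_big (AlgebraicClosure K) (exists_ne _)).2

/-- **the graph automorphism of `B₂` in characteristic 2** -/
theorem exists_aut (hperf : ∀ x : K, ∃ y : K, y ^ 2 = x) :
    ∃ α : ↥(chevB2.group K) ≃* ↥(chevB2.group K), ∀ (r : Fin chevB2.nroots) (t : K),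
      α (xG goodB2 r.val t) = xG goodB2 (sig r.val) (if isShort r.val then t ^ 2 else t) :=
  exists_graph_aut dat goodB2 two_ne phi1_inj phi2_inj hperf

end

end Cfsg.Agent.Helper6.ChevGraph.B2
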