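import Cfsg.Agent.Lib.Helper6.ChevGraphSign
import Cfsg.Prelude.Def_LieTypes

/-!
# Table facts on the permutation of the roots induced by a diagram symmetry (types `D₄`, `E₆`)
-/

set_option autoImplicit false
set_option maxRecDepth 100000

namespace Cfsg.Agent.Helper6.ChevGS

open Cfsg.Lie

/-- Boolean form of `IsDiagramSymmetry` -/
def symCheck (D : ChevalleyDatum) (π : Equiv.Perm (Fin D.rank)) : Bool :=
  (List.finRange D.rank).all fun i => (List.finRange D.rank).all fun j =>
    (i == j) || (D.bonds (π i) (π j) == D.bonds i j)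

/-- the table facts used by `graph_signs` -/
def graphCheck (D : ChevalleyDatum) (π : Equiv.Perm (Fin D.rank)) : Bool :=
  ((List.finRange D.rank).all fun i => D.permRoot π (D.simple i) == D.simple (π i)) &&
  ((List.range D.nroots).all fun s => decide (D.permRoot π s < D.nroots)) &&
  ((List.finRange D.rank).all fun i => (List.range D.nroots).all fun s =>
    D.reflectRoot (π i) (D.permRoot π s) == D.permRoot π (D.reflectRoot i s))

theorem symCheck_of (D : ChevalleyDatum) (π : Equiv.Perm (Fin D.rank)) (h : D.IsDiagramSymmetry π) :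
    symCheck D π = true := by
  simp only [symCheck, List.all_eq_true, List.mem_finRange, true_implies, Bool.or_eq_true, beq_iff_eq]
  intro i j
  by_cases hij : i = j
  · exact Or.inl hij
  · exact Or.inr (h i j hij)

theorem graphCheck_spec (D : ChevalleyDatum) (π : Equiv.Perm (Fin D.rank)) (h : graphCheck D π = true) :
    (∀ i : Fin D.rank, D.permRoot π (D.simple i) = D.simple (π i)) ∧
    (∀ s < D.nroots, D.permRoot π s < D.nroots) ∧
    (∀ i : Fin D.rank, ∀ s < D.nroots,
      D.reflectRoot (π i) (D.permRoot π s) = D.permRoot π (D.reflectRoot i s)) := by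
  simp only [graphCheck, Bool.and_eq_true, List.all_eq_true, List.mem_finRange, true_implies,
    beq_iff_eq, List.mem_range, decide_eq_true_eq] at h
  exact ⟨h.1.1, h.1.2, h.2⟩

theorem graphOK_D4 : ∀ π : Equiv.Perm (Fin chevD4.rank),
    symCheck chevD4 π = true → graphCheck chevD4 π = true := by
  decide +kernel

theorem graphOK_E6 : ∀ π : Equiv.Perm (Fin chevE6.rank),
    symCheck chevE6 π = true → graphCheck chevE6 π = true := by
  decide +kernel

/-- the conclusion of `graph_signs` for a datum with `NData` and the table facts checked -/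
theorem graph_signs_of_check {F : Type*} [Field F] {D : ChevalleyDatum} {η : ℕ → ℕ → ℤ}
    (h : Cfsg.Agent.Helper6.Chev.NData F D η)
    (hOK : ∀ π : Equiv.Perm (Fin D.rank), symCheck D π = true → graphCheck D π = true)
    (π : Equiv.Perm (Fin D.rank)) (hπ : D.IsDiagramSymmetry π) (φ : ↥(D.group F) ≃* ↥(D.group F))
    (hφ : ∀ (g : ↥(D.group F)) (i : Fin D.rank) (t : F),
      (((g : GL D.Idx F) : Matrix D.Idx D.Idx F) = D.x F (D.simple i) t →
        ((φ g : GL D.Idx F) : Matrix D.Idx D.Idx F) = D.x F (D.simple (π i)) t) ∧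
      (((g : GL D.Idx F) : Matrix D.Idx D.Idx F) = D.x F (D.neg (D.simple i)) t →
        ((φ g : GL D.Idx F) : Matrix D.Idx D.Idx F) = D.x F (D.neg (D.simple (π i))) t))
    (r : ℕ) (hr : r < D.nroots) :
    ∃ ε : F, (ε = 1 ∨ ε = -1) ∧ ∀ (g : ↥(D.group F)) (t : F),
      ((g : GL D.Idx F) : Matrix D.Idx D.Idx F) = D.x F r t →
        ((φ g : GL D.Idx F) : Matrix D.Idx D.Idx F) = D.x F (D.permRoot π r) (ε * t) := by
  obtain ⟨h1, h2, h3⟩ := graphCheck_spec D π (hOK π (symCheck_of D π hπ))
  exact graph_signs h π h1 h2 h3 φ hφ r hr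

end Cfsg.Agent.Helper6.ChevGS
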