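import Cfsg.Agent.Lib.Helper6.ChevGraphGen
import Cfsg.Prelude.Def_ChevF4

/-!
# The data of the two constituents of the adjoint module of `F4` in characteristic 2
-/

set_option autoImplicit false
set_option linter.unusedSectionVars false
set_option linter.unusedVariables false
set_option maxRecDepth 100000

namespace Cfsg.Agent.Helper6.ChevGraph.F4

open Cfsg Cfsg.Lie Cfsg.Agent.Helper18 Cfsg.Agent.Helper6.BlockHom Cfsg.Agent.S1043
open Cfsg.Agent.Helper6.G2C3 Cfsg.Agent.Helper6.ChevGraph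

/-- codes of the basis of the ideal -/
def c1 : Fin 26 → ℕ := ![0, 1, 7, 11, 12, 13, 14, 15, 16, 17, 18, 22, 23, 24, 31, 32, 33, 37, 38, 39, 40, 41, 42, 43, 44, 48]
/-- codes of the complementary basis vectors -/
def c2 : Fin 26 → ℕ := ![3, 2, 4, 5, 6, 8, 19, 9, 20, 25, 27, 10, 21, 26, 29, 34, 45, 28, 30, 35, 46, 36, 47, 49, 50, 51]
/-- the permutation of the roots -/
def sig : ℕ → ℕ := fun r => ([3, 7, 8, 0, 9, 11, 18, 1, 2, 4, 15, 5, 16, 21, 23, 10, 12, 19, 6, 17, 22, 13, 20, 14, 33, 27, 34, 25, 30, 41, 28, 35, 37, 24, 26, 31, 42, 32, 43, 45, 46, 29, 36, 38, 47, 39, 40, 44] : List ℕ).getD r 0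
/-- the roots whose parameter is squared -/
def isShort : ℕ → Bool := fun r => ([3, 7, 8, 9, 10, 11, 12, 13, 14, 18, 19, 20, 27, 28, 29, 33, 34, 35, 36, 37, 38, 39, 40, 44] : List ℕ).contains r

/-- a coordinate index of the first kind -/
def hI (i : ℕ) (h : i < 4) : chevF4.Idx := Sum.inl ⟨i, h⟩
/-- a coordinate index of the second kind -/
def eI (s : ℕ) (h : s < 48) : chevF4.Idx := Sum.inr ⟨s, h⟩

/-- the basis of the ideal -/
def i1 : Fin 26 → chevF4.Idx :=
  ![hI 0 (by decide), hI 1 (by decide), eI 3 (by decide), eI 7 (by decide), eI 8 (by decide), eI 9 (by decide), eI 10 (by decide), eI 11 (by decide), eI 12 (by decide), eI 13 (by decide), eI 14 (by decide), eI 18 (by decide), eI 19 (by decide), eI 20 (by decide), eI 27 (by decide), eI 28 (by decide), eI 29 (by decide), eI 33 (by decide), eI 34 (by decide), eI 35 (by decide), eI 36 (by decide), eI 37 (by decide), eI 38 (by decide), eI 39 (by decide), eI 40 (by decide), eI 44 (by decide)]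
/-- the complementary basis vectors -/
def i2 : Fin 26 → chevF4.Idx :=
  ![hI 3 (by decide), hI 2 (by decide), eI 0 (by decide), eI 1 (by decide), eI 2 (by decide), eI 4 (by decide), eI 15 (by decide), eI 5 (by decide), eI 16 (by decide), eI 21 (by decide), eI 23 (by decide), eI 6 (by decide), eI 17 (by decide), eI 22 (by decide), eI 25 (by decide), eI 30 (by decide), eI 41 (by decide), eI 24 (by decide), eI 26 (by decide), eI 31 (by decide), eI 42 (by decide), eI 32 (by decide), eI 43 (by decide), eI 45 (by decide), eI 46 (by decide), eI 47 (by decide)]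

/-- the inverse of the reindexing -/
def invIdx : chevF4.Idx → Fin 26 ⊕ Fin 26
  | Sum.inl i => ([Sum.inl 0, Sum.inl 1, Sum.inr 1, Sum.inr 0] : List (Fin 26 ⊕ Fin 26)).getD i.val (Sum.inl 0)
  | Sum.inr s => ([Sum.inr 2, Sum.inr 3, Sum.inr 4, Sum.inl 2, Sum.inr 5, Sum.inr 7, Sum.inr 11, Sum.inl 3, Sum.inl 4, Sum.inl 5, Sum.inl 6, Sum.inl 7, Sum.inl 8, Sum.inl 9, Sum.inl 10, Sum.inr 6, Sum.inr 8, Sum.inr 12, Sum.inl 11, Sum.inl 12, Sum.inl 13, Sum.inr 9, Sum.inr 13, Sum.inr 10, Sum.inr 17, Sum.inr 14, Sum.inr 18, Sum.inl 14, Sum.inl 15, Sum.inl 16, Sum.inr 15, Sum.inr 19, Sum.inr 21, Sum.inl 17, Sum.inl 18, Sum.inl 19, Sum.inl 20, Sum.inl 21, Sum.inl 22, Sum.inl 23, Sum.inl 24, Sum.inr 16, Sum.inr 20, Sum.inr 22, Sum.inl 25, Sum.inr 23, Sum.inr 24, Sum.inr 25] : List (Fin 26 ⊕ Fin 26)).getD s.val (Sum.inl 0)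

/-- the reindexing -/
def eIdx : Fin 26 ⊕ Fin 26 ≃ chevF4.Idx where
  toFun := Sum.elim i1 i2
  invFun := invIdx
  left_inv := by decide
  right_inv := by decide

theorem code_i1 : ∀ j, code chevF4 (i1 j) = c1 j := by decide
theorem code_i2 : ∀ j, code chevF4 (i2 j) = c2 j := by decide

end Cfsg.Agent.Helper6.ChevGraph.F4
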