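import Cfsg.Agent.Lib.Helper6.ChevGraphF4A

/-!
# The data of the two constituents of the adjoint module of `F4` in characteristic 2: the checks
-/

set_option autoImplicit false
set_option linter.unusedSectionVars false
set_option linter.unusedVariables false
set_option maxRecDepth 100000

namespace Cfsg.Agent.Helper6.ChevGraph.F4

open Cfsg Cfsg.Lie Cfsg.Agent.Helper18 Cfsg.Agent.Helper6.BlockHom Cfsg.Agent.S1043
open Cfsg.Agent.Helper6.G2C3 Cfsg.Agent.Helper6.ChevGraph

theorem invCheck : ∀ r : Fin 48, ∀ i j : Fin 26,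
    divp 2 (svlp (xColSpec chevF4 r tA (c1 j)) (c2 i)) = true := by decide +kernel

theorem matchCheck : ∀ r : Fin 48, ∀ i j : Fin 26,
    divp 2 (svlp (xColSpec chevF4 r tA (c2 j)) (c2 i) ++
      LP.neg (svlp (xColSpec chevF4 (sig r) (if isShort r then tAp 2 else tA) (c1 j)) (c1 i))) = true := by
  decide +kernel

theorem sig_lt : ∀ r : Fin 48, sig r < 48 := by decide +kernel

theorem sig_sig : ∀ r : Fin 48, sig (sig r) = r := by decide +kernel

/-- the data -/
def dat : Data chevF4 2 26 where
  c1 := c1
  c2 := c2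
  sig := sig
  short := isShort
  e := eIdx
  code1 := code_i1
  code2 := code_i2
  inv := invCheck
  mat := matchCheck
  sig_lt := sig_lt
  sig_sig := sig_sig

end Cfsg.Agent.Helper6.ChevGraph.F4
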