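import Cfsg.Agent.Lib.Helper6.G2Char3A
import Cfsg.Agent.Lib.Helper6.GraphIso
import Cfsg.Agent.S1043

/-!
# Exceptional graph automorphisms of Chevalley groups in characteristic `p` (generic part)

The adjoint module has in characteristic `p` (`p = 2` for `B₂`, `F₄`, `p = 3` for `G₂`) the ideal spanned by the
short root vectors; the actions on the ideal and on the quotient are related by the permutation of the roots
exchanging short and long roots, with the parameter raised to the power `p` on the short roots.
-/

set_option autoImplicit false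
set_option linter.unusedSectionVars false
set_option linter.unusedVariables false
set_option maxRecDepth 100000

namespace Cfsg.Agent.Helper6.ChevGraph

open Cfsg Cfsg.Lie Cfsg.Agent.Helper18 Cfsg.Agent.Helper6.BlockHom Cfsg.Agent.S1043
open Cfsg.Agent.Helper6.GraphIso Cfsg.Agent.Helper6.G2C3

/-- all coefficients (after normalisation) are divisible by `p` -/
def divp (p : ℕ) (q : LP) : Bool := (LP.norm q).all (fun m => decide (m.1 % (p : ℤ) = 0))

section

variable {F : Type*} [Field F] (p : ℕ) [CharP F p]

theorem eval_of_allp (a b : Fˣ) : ∀ l : LP, l.all (fun m => decide (m.1 % (p : ℤ) = 0)) = true →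
    LP.eval a b l = 0 := by
  intro l
  induction l with
  | nil => intro _; rfl
  | cons m l ih =>
    intro h
    rw [List.all_cons, Bool.and_eq_true] at h
    rw [LP.eval_cons, ih h.2, add_zero]
    have h3 : (p : ℤ) ∣ m.1 := Int.dvd_of_emod_eq_zero (of_decide_eq_true h.1)
    have : ((m.1 : ℤ) : F) = 0 := (CharP.intCast_eq_zero_iff F p m.1).2 h3
    unfold LP.evalMono
    rw [this, zero_mul]

theorem eval_of_divp (a b : Fˣ) (q : LP) (h : divp p q = true) : LP.eval a b q = 0 := by
  rw [← LP.eval_norm]
  exact eval_of_allp p a b _ h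

end

/-- the `p`-th power of the variable -/
def tAp (p : ℕ) : LP := [(1, (p : ℤ), 0)]

/-- the data of the two constituents -/
structure Data (D : ChevalleyDatum) (p m : ℕ) where
  /-- codes of the basis of the ideal -/
  c1 : Fin m → ℕ
  /-- codes of the complementary basis vectors -/
  c2 : Fin m → ℕ
  /-- the permutation of the roots -/
  sig : ℕ → ℕ
  /-- the roots whose parameter is raised to the power `p` -/
  short : ℕ → Bool
  /-- the reindexing -/
  e : Fin m ⊕ Fin m ≃ D.Idx
  code1 : ∀ j, code D (e (Sum.inl j)) = c1 j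
  code2 : ∀ j, code D (e (Sum.inr j)) = c2 j
  inv : ∀ r : Fin D.nroots, ∀ i j : Fin m, divp p (svlp (xColSpec D r tA (c1 j)) (c2 i)) = true
  mat : ∀ r : Fin D.nroots, ∀ i j : Fin m,
    divp p (svlp (xColSpec D r tA (c2 j)) (c2 i) ++
      LP.neg (svlp (xColSpec D (sig r) (if short r then tAp p else tA) (c1 j)) (c1 i))) = true
  sig_lt : ∀ r : Fin D.nroots, sig r < D.nroots
  sig_sig : ∀ r : Fin D.nroots, sig (sig r) = r

section

variable {D : ChevalleyDatum} {p m : ℕ} (dat : Data D p m) {K : Type*} [Field K] [CharP K p]

theorem entry_unit (a : Kˣ) (r : Fin D.nroots) (t : LP) (row col : D.Idx) :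
    D.xMat K r (LP.eval a 1 t) row col =
      LP.eval a 1 (svlp (xColSpec D r.val t (code D col)) (code D row)) := by
  rw [xMat_col D a 1 r t row col, coeff_eq_eval]

theorem eval_tA' (a : Kˣ) : LP.eval a 1 tA = (a : K) := by
  simp [tA, LP.eval, LP.evalMono]

theorem eval_tAp (a : Kˣ) : LP.eval a 1 (tAp p) = (a : K) ^ p := by
  simp [tAp, LP.eval, LP.evalMono]

theorem eval_lam (a : Kˣ) (b : Bool) :
    LP.eval a 1 (if b then tAp p else tA) = if b then (a : K) ^ p else (a : K) := by
  split_ifs
  · exact eval_tAp a
  · exact eval_tA' a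


/-- the blocks of a root element -/
theorem blk_x (hp : p ≠ 0) (r : Fin D.nroots) (t : K) :
    b21 dat.e (D.xMat K r t) = 0 ∧
    b22 dat.e (D.xMat K r t) =
      b11 dat.e (D.xMat K ⟨dat.sig r.val, dat.sig_lt r⟩ (if dat.short r.val then t ^ p else t)) := by
  by_cases ht : t = 0
  · subst ht
    have h0 : (if dat.short r.val then (0 : K) ^ p else 0) = 0 := by
      split_ifs
      · exact zero_pow hp
      · rfl
    rw [h0, xMat_zero, xMat_zero]
    exact ⟨b21_one dat.e, by rw [b22_one, b11_one]⟩
  · set a : Kˣ := Units.mk0 t ht with ha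
    have hta : t = LP.eval a 1 tA := by rw [eval_tA']; rfl
    have hta' : (if dat.short r.val then t ^ p else t) =
        LP.eval a 1 (if dat.short r.val then tAp p else tA) := by
      rw [eval_lam]; rfl
    constructor
    · ext i j
      rw [b21, hta, entry_unit, dat.code1, dat.code2]
      exact eval_of_divp p a 1 _ (dat.inv r i j)
    · ext i j
      rw [b22, b11, hta', entry_unit]
      conv_lhs => rw [hta, entry_unit]
      rw [dat.code1, dat.code1, dat.code2, dat.code2]
      have h := eval_of_divp p a 1 _ (dat.mat r i j)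
      rw [LP.eval_append, LP.eval_neg] at h
      exact sub_eq_zero.1 (by rw [sub_eq_add_neg]; exact h)

end

end Cfsg.Agent.Helper6.ChevGraph
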