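import Cfsg.Agent.Lib.Helper6.ChevNorm
import Cfsg.Prelude.Def_ChevAutomorphisms

/-!
# Graph automorphisms: signs on all root elements

If an automorphism `φ` of the Chevalley group permutes the fundamental root elements and their negatives
as a permutation `π` of the nodes does, then `φ (x_r(t)) = x_{π r}(± t)` for every root `r`:
every root is obtained from a fundamental root by fundamental reflections, and
`n_i x_s(t) n_i⁻¹ = x_{w_i s}(± t)`.
-/

set_option autoImplicit false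

namespace Cfsg.Agent.Helper6.ChevGS

open Cfsg.Lie Cfsg.Agent.Helper18 Cfsg.Agent.Helper6.Chev

section

variable {F : Type*} [Field F] {D : ChevalleyDatum} {η : ℕ → ℕ → ℤ} (h : NData F D η)

include h

theorem xg_mem (r : ℕ) (hr : r < D.nroots) (t : F) : xg h r t ∈ D.group F :=
  Subgroup.subset_closure ⟨⟨r, hr⟩, t, by rw [xg_val, ChevalleyDatum.x, dif_pos hr]⟩

theorem eta_sq (i : ℕ) (hi : i < D.rank) (s : ℕ) (hs : s < D.nroots) :
    ((η i s : ℤ) : F) * ((η i s : ℤ) : F) = 1 := by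
  rcases h.eta_pm i hi s hs with e | e <;> rw [e] <;> simp

theorem eta_cases (i : ℕ) (hi : i < D.rank) (s : ℕ) (hs : s < D.nroots) :
    ((η i s : ℤ) : F) = 1 ∨ ((η i s : ℤ) : F) = -1 := by
  rcases h.eta_pm i hi s hs with e | e <;> rw [e] <;> simp

/-- an element of the group with the matrix of `x_r(t)` is `xg h r t` -/
theorem eq_xg_of_val {g : ↥(D.group F)} {r : ℕ} {t : F}
    (hg : ((g : GL D.Idx F) : Matrix D.Idx D.Idx F) = D.x F r t) : (g : GL D.Idx F) = xg h r t :=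
  Units.ext (hg.trans (xg_val h r t).symm)

theorem graph_signs (π : Equiv.Perm (Fin D.rank))
    (hsimple : ∀ i : Fin D.rank, D.permRoot π (D.simple i) = D.simple (π i))
    (hlt : ∀ s < D.nroots, D.permRoot π s < D.nroots)
    (hrefl : ∀ i : Fin D.rank, ∀ s < D.nroots,
      D.reflectRoot (π i) (D.permRoot π s) = D.permRoot π (D.reflectRoot i s))
    (φ : ↥(D.group F) ≃* ↥(D.group F))
    (hφ : ∀ (g : ↥(D.group F)) (i : Fin D.rank) (t : F),
      (((g : GL D.Idx F) : Matrix D.Idx D.Idx F) = D.x F (D.simple i) t →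
        ((φ g : GL D.Idx F) : Matrix D.Idx D.Idx F) = D.x F (D.simple (π i)) t) ∧
      (((g : GL D.Idx F) : Matrix D.Idx D.Idx F) = D.x F (D.neg (D.simple i)) t →
        ((φ g : GL D.Idx F) : Matrix D.Idx D.Idx F) = D.x F (D.neg (D.simple (π i))) t))
    (r : ℕ) (hr : r < D.nroots) :
    ∃ ε : F, (ε = 1 ∨ ε = -1) ∧ ∀ (g : ↥(D.group F)) (t : F),
      ((g : GL D.Idx F) : Matrix D.Idx D.Idx F) = D.x F r t →
        ((φ g : GL D.Idx F) : Matrix D.Idx D.Idx F) = D.x F (D.permRoot π r) (ε * t) := by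
  refine h.reach (fun r => ∃ ε : F, (ε = 1 ∨ ε = -1) ∧ ∀ (g : ↥(D.group F)) (t : F),
      ((g : GL D.Idx F) : Matrix D.Idx D.Idx F) = D.x F r t →
        ((φ g : GL D.Idx F) : Matrix D.Idx D.Idx F) = D.x F (D.permRoot π r) (ε * t)) ?_ ?_ r hr
  · intro j hj
    refine ⟨1, Or.inl rfl, fun g t hg => ?_⟩
    have := (hφ g ⟨j, hj⟩ t).1 hg
    rw [one_mul, hsimple ⟨j, hj⟩]
    exact this
  · intro i hi s hs ⟨ε, hε, hP⟩
    -- the images of the fundamental root elements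
    have himg : ∀ (t : F), φ ⟨xg h (D.simple i) t, xg_mem h _ (h.simple_lt i hi) t⟩ =
        ⟨xg h (D.simple (π ⟨i, hi⟩)) t, xg_mem h _ (h.simple_lt _ (π ⟨i, hi⟩).2) t⟩ := by
      intro t
      apply Subtype.ext
      apply Units.ext
      exact (hφ _ ⟨i, hi⟩ t).1 (xg_val h _ t)
    have himg' : ∀ (t : F),
        φ ⟨xg h (D.neg (D.simple i)) t, xg_mem h _ (h.neg_lt _ (h.simple_lt i hi)) t⟩ =
        ⟨xg h (D.neg (D.simple (π ⟨i, hi⟩))) t,
          xg_mem h _ (h.neg_lt _ (h.simple_lt _ (π ⟨i, hi⟩).2)) t⟩ := by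
      intro t
      apply Subtype.ext
      apply Units.ext
      exact (hφ _ ⟨i, hi⟩ t).2 (xg_val h _ t)
    have hNmem : ∀ j < D.rank, Ni h j ∈ D.group F := by
      intro j hj
      exact mul_mem (mul_mem (xg_mem h _ (h.simple_lt j hj) _)
        (xg_mem h _ (h.neg_lt _ (h.simple_lt j hj)) _)) (xg_mem h _ (h.simple_lt j hj) _)
    have hN : φ ⟨Ni h i, hNmem i hi⟩ = ⟨Ni h (π ⟨i, hi⟩), hNmem _ (π ⟨i, hi⟩).2⟩ := by
      have e1 : (⟨Ni h i, hNmem i hi⟩ : ↥(D.group F)) =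
          ⟨xg h (D.simple i) 1, xg_mem h _ (h.simple_lt i hi) 1⟩ *
          ⟨xg h (D.neg (D.simple i)) (-1⁻¹), xg_mem h _ (h.neg_lt _ (h.simple_lt i hi)) _⟩ *
          ⟨xg h (D.simple i) 1, xg_mem h _ (h.simple_lt i hi) 1⟩ := rfl
      rw [e1, map_mul, map_mul, himg, himg']
      rfl
    set e : F := ((η i s : ℤ) : F) with he
    set e' : F := ((η (π ⟨i, hi⟩) (D.permRoot π s) : ℤ) : F) with he'
    refine ⟨e' * (ε * e), ?_, fun g t hg => ?_⟩
    · rcases eta_cases h i hi s hs with h1 | h1 <;>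
        rcases eta_cases h (π ⟨i, hi⟩) (π ⟨i, hi⟩).2 _ (hlt s hs) with h2 | h2 <;>
        rcases hε with h3 | h3 <;> rw [he', he, h1, h2, h3] <;> simp
    · have hgeq : g = ⟨Ni h i, hNmem i hi⟩ * ⟨xg h s (e * t), xg_mem h s hs _⟩ *
          (⟨Ni h i, hNmem i hi⟩ : ↥(D.group F))⁻¹ := by
        apply Subtype.ext
        rw [eq_xg_of_val h hg]
        change _ = Ni h i * xg h s (e * t) * (Ni h i)⁻¹
        rw [conj_xg h i hi s hs, ← mul_assoc, eta_sq h i hi s hs, one_mul]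
      have hX := hP ⟨xg h s (e * t), xg_mem h s hs _⟩ (e * t) (xg_val h _ _)
      have hX' : (φ ⟨xg h s (e * t), xg_mem h s hs _⟩ : GL D.Idx F) =
          xg h (D.permRoot π s) (ε * (e * t)) := eq_xg_of_val h hX
      rw [hgeq, map_mul, map_mul, map_inv, hN]
      change ((Ni h (π ⟨i, hi⟩) * (φ ⟨xg h s (e * t), xg_mem h s hs _⟩ : GL D.Idx F) *
        (Ni h (π ⟨i, hi⟩))⁻¹ : GL D.Idx F) : Matrix D.Idx D.Idx F) = _
      rw [hX', conj_xg h _ (π ⟨i, hi⟩).2 _ (hlt s hs), xg_val, hrefl ⟨i, hi⟩ s hs]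
      congr 1
      ring

end

end Cfsg.Agent.Helper6.ChevGS
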