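import Mathlib
import Cfsg.Agent.Lib.Helper38.SL2PresMain

/-!
# Homomorphisms out of `SL₂(K)` for an arbitrary field `K`

If `X, Y : K → Γ` satisfy the Steinberg relations of `SL₂` (helper38's `Rel`) and moreover
`h(t) h(u) = h(t u)`, then there is a homomorphism `SL₂(K) → Γ` sending the elementary matrices to
`X t`, `Y t`.  (For finite `K` the extra relation is a consequence of the others; here `K` is arbitrary.)
-/

set_option autoImplicit false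

namespace Cfsg.Agent.Helper6.SL2Any

open Cfsg.Agent.Helper38.SL2Pres Matrix

variable {K : Type*} [Field K] {Γ : Type*} [Group Γ] {X Y : K → Γ}

theorem H_eq' (hR : Rel X Y)
    (hmul : ∀ t u : K, t ≠ 0 → u ≠ 0 → h X Y t * h X Y u = h X Y (t * u))
    {d : Γ} (hd : d ∈ H X Y) : ∃ t : K, t ≠ 0 ∧ d = h X Y t := by
  induction hd using Subgroup.closure_induction with
  | mem x hx => exact hx
  | one => exact ⟨1, one_ne_zero, hR.h_one.symm⟩
  | mul x y _ _ hx hy =>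
    obtain ⟨t, ht, rfl⟩ := hx
    obtain ⟨u, hu, rfl⟩ := hy
    exact ⟨t * u, mul_ne_zero ht hu, hmul t u ht hu⟩
  | inv x _ hx =>
    obtain ⟨t, ht, rfl⟩ := hx
    refine ⟨t⁻¹, inv_ne_zero ht, ?_⟩
    have := hmul t t⁻¹ ht (inv_ne_zero ht)
    rw [mul_inv_cancel₀ ht, hR.h_one] at this
    exact inv_eq_of_mul_eq_one_right this

theorem injective_of_rel' (hR : Rel X Y)
    (hmul : ∀ t u : K, t ≠ 0 → u ≠ 0 → h X Y t * h X Y u = h X Y (t * u))
    (hgen : Subgroup.closure (Set.range X ∪ Set.range Y) = ⊤)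
    (π : Γ →* Matrix.SpecialLinearGroup (Fin 2) K)
    (hX : ∀ t, π (X t) = xmat t) (hY : ∀ t, π (Y t) = ymat t) : Function.Injective π := by
  rw [injective_iff_map_eq_one]
  intro g hg
  rcases hR.nf_all hgen g with ⟨a, d, hd, rfl⟩ | ⟨a, c, d, hd, rfl⟩
  · obtain ⟨t, ht, rfl⟩ := H_eq' hR hmul hd
    have h2 : (!![1, a; 0, 1] : Matrix (Fin 2) (Fin 2) K) * !![t, 0; 0, t⁻¹] = !![1, 0; 0, 1] := by
      rw [← pi_h π hX hY ht, ← xmat_coe, ← hX, ← Matrix.SpecialLinearGroup.coe_mul, ← map_mul,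
        hg, Matrix.SpecialLinearGroup.coe_one, Matrix.one_fin_two]
    rw [Matrix.mul_fin_two] at h2
    obtain ⟨e1, e2, -, -⟩ := mat2_inj h2
    have ht1 : t = 1 := by linear_combination e1
    subst ht1
    have ha : a = 0 := by simpa using e2
    subst ha
    rw [hR.X_zero, hR.h_one, one_mul]
  · exfalso
    obtain ⟨t, ht, rfl⟩ := H_eq' hR hmul hd
    have h2 : (!![1, a; 0, 1] : Matrix (Fin 2) (Fin 2) K) * !![t, 0; 0, t⁻¹] *
        !![0, 1; -(1 : K)⁻¹, 0] * !![1, c; 0, 1] = !![1, 0; 0, 1] := by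
      rw [← pi_h π hX hY ht, ← xmat_coe a, ← xmat_coe c, ← hX, ← hX, ← wmat_coe (one_ne_zero),
        ← pi_w π hX hY, ← Matrix.SpecialLinearGroup.coe_mul, ← Matrix.SpecialLinearGroup.coe_mul,
        ← Matrix.SpecialLinearGroup.coe_mul, ← map_mul, ← map_mul, ← map_mul,
        hg, Matrix.SpecialLinearGroup.coe_one, Matrix.one_fin_two]
    rw [Matrix.mul_fin_two, Matrix.mul_fin_two, Matrix.mul_fin_two] at h2
    obtain ⟨-, -, e3, -⟩ := mat2_inj h2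
    have : t⁻¹ = 0 := by
      have := e3
      simp at this
      simpa using this
    exact ht (inv_eq_zero.mp this)

/-- `h(t)` in `SL₂(K)` is the diagonal matrix `diag(t, t⁻¹)`. -/
theorem h_mat {t : K} (ht : t ≠ 0) :
    ((h (xmat : K → Matrix.SpecialLinearGroup (Fin 2) K) ymat t :
      Matrix.SpecialLinearGroup (Fin 2) K) : Matrix (Fin 2) (Fin 2) K) = !![t, 0; 0, t⁻¹] :=
  pi_h (MonoidHom.id _) (fun _ => rfl) (fun _ => rfl) ht

theorem h_mat_mul (t u : K) (ht : t ≠ 0) (hu : u ≠ 0) :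
    h (xmat : K → Matrix.SpecialLinearGroup (Fin 2) K) ymat t * h xmat ymat u =
      h xmat ymat (t * u) := by
  apply Subtype.ext
  rw [Matrix.SpecialLinearGroup.coe_mul, h_mat ht, h_mat hu, h_mat (mul_ne_zero ht hu),
    Matrix.mul_fin_two]
  apply mat2_ext <;> simp [_root_.mul_inv_rev, mul_comm]

/-- the relations hold componentwise in a product -/
theorem rel_prod {Γ₁ Γ₂ : Type*} [Group Γ₁] [Group Γ₂] {X₁ Y₁ : K → Γ₁} {X₂ Y₂ : K → Γ₂}
    (h₁ : Rel X₁ Y₁) (h₂ : Rel X₂ Y₂) :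
    Rel (fun t => ((X₁ t, X₂ t) : Γ₁ × Γ₂)) (fun t => ((Y₁ t, Y₂ t) : Γ₁ × Γ₂)) := by
  refine ⟨fun t u => ?_, fun t u => ?_, fun t u ht => ?_, fun t u ht => ?_⟩
  · simp only [Prod.mk_mul_mk, h₁.addX, h₂.addX]
  · simp only [Prod.mk_mul_mk, h₁.addY, h₂.addY]
  · simp only [Prod.mk_mul_mk, Prod.inv_mk, h₁.conjX t u ht, h₂.conjX t u ht]
  · simp only [Prod.mk_mul_mk, Prod.inv_mk, h₁.conjY t u ht, h₂.conjY t u ht]

theorem h_prod {Γ₁ Γ₂ : Type*} [Group Γ₁] [Group Γ₂] (X₁ Y₁ : K → Γ₁) (X₂ Y₂ : K → Γ₂) (t : K) :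
    h (fun t => ((X₁ t, X₂ t) : Γ₁ × Γ₂)) (fun t => ((Y₁ t, Y₂ t) : Γ₁ × Γ₂)) t =
      (h X₁ Y₁ t, h X₂ Y₂ t) := by
  simp only [h, w, Prod.mk_mul_mk, Prod.inv_mk]

/-- the relations restrict to a subgroup containing the generators -/
theorem rel_subgroup {G : Type*} [Group G] (S : Subgroup G) {X Y : K → G} (hR : Rel X Y)
    (hX : ∀ t, X t ∈ S) (hY : ∀ t, Y t ∈ S) :
    Rel (fun t => (⟨X t, hX t⟩ : S)) (fun t => (⟨Y t, hY t⟩ : S)) := by
  refine ⟨fun t u => ?_, fun t u => ?_, fun t u ht => ?_, fun t u ht => ?_⟩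
  · apply Subtype.ext
    simp only [Subgroup.coe_mul, hR.addX]
  · apply Subtype.ext
    simp only [Subgroup.coe_mul, hR.addY]
  · apply Subtype.ext
    simp only [Subgroup.coe_mul, Subgroup.coe_inv, hR.conjX t u ht]
  · apply Subtype.ext
    simp only [Subgroup.coe_mul, Subgroup.coe_inv, hR.conjY t u ht]

theorem h_subgroup {G : Type*} [Group G] (S : Subgroup G) (X Y : K → G)
    (hX : ∀ t, X t ∈ S) (hY : ∀ t, Y t ∈ S) (t : K) :
    ((h (fun t => (⟨X t, hX t⟩ : S)) (fun t => (⟨Y t, hY t⟩ : S)) t : S) : G) = h X Y t := by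
  simp only [h, w, Subgroup.coe_mul, Subgroup.coe_inv]

/-- the generators generate the subgroup they generate -/
theorem gen_subgroup {G : Type*} [Group G] (X Y : K → G)
    (hX : ∀ t, X t ∈ Subgroup.closure (Set.range X ∪ Set.range Y))
    (hY : ∀ t, Y t ∈ Subgroup.closure (Set.range X ∪ Set.range Y)) :
    Subgroup.closure
      (Set.range (fun t => (⟨X t, hX t⟩ : Subgroup.closure (Set.range X ∪ Set.range Y))) ∪
        Set.range (fun t => (⟨Y t, hY t⟩ : Subgroup.closure (Set.range X ∪ Set.range Y)))) = ⊤ := by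
  rw [eq_top_iff, ← Subgroup.closure_closure_coe_preimage (k := Set.range X ∪ Set.range Y)]
  apply Subgroup.closure_mono
  rintro ⟨x, hx⟩ hxk
  rcases hxk with ⟨t, ht⟩ | ⟨t, ht⟩
  · exact Or.inl ⟨t, Subtype.ext ht⟩
  · exact Or.inr ⟨t, Subtype.ext ht⟩

/-- a subgroup of a product projecting bijectively to the first factor is the graph of a homomorphism -/
theorem hom_of_graph {G Γ : Type*} [Group G] [Group Γ] (S : Subgroup (G × Γ))
    (hinj : Function.Injective ((MonoidHom.fst G Γ).comp S.subtype))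
    (hsurj : Function.Surjective ((MonoidHom.fst G Γ).comp S.subtype)) :
    ∃ φ : G →* Γ, ∀ a b, (a, b) ∈ S → φ a = b := by
  refine ⟨((MonoidHom.snd G Γ).comp S.subtype).comp
    (MulEquiv.ofBijective _ ⟨hinj, hsurj⟩).symm.toMonoidHom, fun a b hab => ?_⟩
  have : (MulEquiv.ofBijective _ ⟨hinj, hsurj⟩).symm a = (⟨(a, b), hab⟩ : S) := by
    rw [MulEquiv.symm_apply_eq]; rfl
  change ((MonoidHom.snd G Γ).comp S.subtype) ((MulEquiv.ofBijective _ ⟨hinj, hsurj⟩).symm a) = b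
  rw [this]; rfl

theorem surj_of_gen {G Γ : Type*} [Group G] [Group Γ] (S : Subgroup (G × Γ)) (x y : K → G)
    (X Y : K → Γ) (hx : ∀ t, (x t, X t) ∈ S) (hy : ∀ t, (y t, Y t) ∈ S)
    (hgen : ∀ a : G, a ∈ Subgroup.closure (Set.range x ∪ Set.range y)) :
    Function.Surjective ((MonoidHom.fst G Γ).comp S.subtype) := by
  intro A
  have hA := hgen A
  induction hA using Subgroup.closure_induction with
  | mem a ha =>
    rcases ha with ⟨t, rfl⟩ | ⟨t, rfl⟩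
    · exact ⟨⟨_, hx t⟩, rfl⟩
    · exact ⟨⟨_, hy t⟩, rfl⟩
  | one => exact ⟨1, map_one _⟩
  | mul a b _ _ iha ihb =>
    obtain ⟨a', rfl⟩ := iha
    obtain ⟨b', rfl⟩ := ihb
    exact ⟨a' * b', map_mul _ _ _⟩
  | inv a _ iha =>
    obtain ⟨a', rfl⟩ := iha
    exact ⟨a'⁻¹, map_inv _ _⟩

/-- multiplicativity of `h` in a subgroup of a product, from the two factors -/
theorem hmul_graph {Γ₁ Γ₂ : Type*} [Group Γ₁] [Group Γ₂] (S : Subgroup (Γ₁ × Γ₂))
    {X₁ Y₁ : K → Γ₁} {X₂ Y₂ : K → Γ₂}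
    (hX : ∀ t, (fun t => ((X₁ t, X₂ t) : Γ₁ × Γ₂)) t ∈ S)
    (hY : ∀ t, (fun t => ((Y₁ t, Y₂ t) : Γ₁ × Γ₂)) t ∈ S)
    (h₁ : ∀ t u : K, t ≠ 0 → u ≠ 0 → h X₁ Y₁ t * h X₁ Y₁ u = h X₁ Y₁ (t * u))
    (h₂ : ∀ t u : K, t ≠ 0 → u ≠ 0 → h X₂ Y₂ t * h X₂ Y₂ u = h X₂ Y₂ (t * u)) :
    ∀ t u : K, t ≠ 0 → u ≠ 0 →
      h (fun t => (⟨(fun t => ((X₁ t, X₂ t) : Γ₁ × Γ₂)) t, hX t⟩ : S))
        (fun t => (⟨(fun t => ((Y₁ t, Y₂ t) : Γ₁ × Γ₂)) t, hY t⟩ : S)) t *
      h (fun t => (⟨(fun t => ((X₁ t, X₂ t) : Γ₁ × Γ₂)) t, hX t⟩ : S))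
        (fun t => (⟨(fun t => ((Y₁ t, Y₂ t) : Γ₁ × Γ₂)) t, hY t⟩ : S)) u =
      h (fun t => (⟨(fun t => ((X₁ t, X₂ t) : Γ₁ × Γ₂)) t, hX t⟩ : S))
        (fun t => (⟨(fun t => ((Y₁ t, Y₂ t) : Γ₁ × Γ₂)) t, hY t⟩ : S)) (t * u) := by
  intro t u ht hu
  apply Subtype.ext
  rw [Subgroup.coe_mul, h_subgroup S _ _ hX hY, h_subgroup S _ _ hX hY,
    h_subgroup S _ _ hX hY, h_prod, h_prod, h_prod, Prod.mk_mul_mk, h₁ t u ht hu, h₂ t u ht hu]

/-- the graph construction: a homomorphism `SL₂(K) → Γ` from the relations -/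
theorem exists_hom (hR : Rel X Y)
    (hmul : ∀ t u : K, t ≠ 0 → u ≠ 0 → h X Y t * h X Y u = h X Y (t * u)) :
    ∃ φ : Matrix.SpecialLinearGroup (Fin 2) K →* Γ,
      (∀ t, φ (xmat t) = X t) ∧ (∀ t, φ (ymat t) = Y t) := by
  have hXm : ∀ t, (fun t => ((xmat t, X t) : Matrix.SpecialLinearGroup (Fin 2) K × Γ)) t ∈
      Subgroup.closure (Set.range (fun t => ((xmat t, X t) : Matrix.SpecialLinearGroup (Fin 2) K × Γ)) ∪
        Set.range (fun t => ((ymat t, Y t) : Matrix.SpecialLinearGroup (Fin 2) K × Γ))) :=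
    fun t => Subgroup.subset_closure (Or.inl ⟨t, rfl⟩)
  have hYm : ∀ t, (fun t => ((ymat t, Y t) : Matrix.SpecialLinearGroup (Fin 2) K × Γ)) t ∈
      Subgroup.closure (Set.range (fun t => ((xmat t, X t) : Matrix.SpecialLinearGroup (Fin 2) K × Γ)) ∪
        Set.range (fun t => ((ymat t, Y t) : Matrix.SpecialLinearGroup (Fin 2) K × Γ))) :=
    fun t => Subgroup.subset_closure (Or.inr ⟨t, rfl⟩)
  have hR' := rel_prod (rel_mat (K := K)) hR
  have hR'' := rel_subgroup _ hR' hXm hYm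
  have hgen'' := gen_subgroup _ _ hXm hYm
  have hmul'' := hmul_graph _ hXm hYm h_mat_mul hmul
  have hinj := injective_of_rel' hR'' hmul'' hgen''
    ((MonoidHom.fst _ _).comp (Subgroup.subtype _)) (fun _ => rfl) (fun _ => rfl)
  have hsurj := surj_of_gen _ (xmat : K → _) ymat X Y hXm hYm mem_closure_elem
  obtain ⟨φ, hφ⟩ := hom_of_graph _ hinj hsurj
  exact ⟨φ, fun t => hφ _ _ (hXm t), fun t => hφ _ _ (hYm t)⟩

end Cfsg.Agent.Helper6.SL2Any
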