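import Cfsg.Agent.Lib.Helper6.ChevNorm
import Cfsg.Agent.Lib.Helper6.SL2Any

/-!
# The homomorphism `SL₂(F) → ⟨X_r, X_{-r}⟩`

From the conjugation formulas for the fundamental `n_i` (structure `NData`), the action of `h_p(c)` on
root elements and the multiplicativity of `h_r`, the pair `x_r, x_{-r}` satisfies Steinberg's relations
of `SL₂`, for every root `r` (induction along fundamental reflections).
-/

set_option autoImplicit false

namespace Cfsg.Agent.Helper6.ChevSL2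

open Cfsg.Lie Cfsg.Agent.Helper18 Cfsg.Agent.Helper6.Chev Cfsg.Agent.Helper38.SL2Pres

section

variable {F : Type*} [Field F] {D : ChevalleyDatum} {η : ℕ → ℕ → ℤ} (h : NData F D η)

include h

theorem xg_add (r : ℕ) (t u : F) : xg h r t * xg h r u = xg h r (t + u) := by
  apply Units.ext
  rw [Units.val_mul, xg_val, xg_val, xg_val, h.add]

theorem eta_sq (i : ℕ) (hi : i < D.rank) (s : ℕ) (hs : s < D.nroots) :
    ((η i s : ℤ) : F) * ((η i s : ℤ) : F) = 1 := by
  rcases h.eta_pm i hi s hs with e | e <;> rw [e] <;> simp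

theorem eta_ne_zero (i : ℕ) (hi : i < D.rank) (s : ℕ) (hs : s < D.nroots) :
    ((η i s : ℤ) : F) ≠ 0 := by
  intro h0
  have := eta_sq h i hi s hs
  rw [h0, mul_zero] at this
  exact zero_ne_one this

/-- the relation `n_r(t) x_r(u) n_r(t)⁻¹ = x_{-r}(-t⁻² u)` -/
def Q (r : ℕ) : Prop :=
  ∀ t u : F, t ≠ 0 → ng h r t * xg h r u * (ng h r t)⁻¹ = xg h (D.neg r) (-(t⁻¹ ^ 2 * u))

theorem Q_step (i : ℕ) (hi : i < D.rank) (s : ℕ) (hs : s < D.nroots) (hQ : Q h s) :
    Q h (D.reflectRoot i s) := by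
  intro t u ht
  set e : F := ((η i s : ℤ) : F) with he
  have hee : e * e = 1 := eta_sq h i hi s hs
  have he0 : e ≠ 0 := eta_ne_zero h i hi s hs
  have e1 : ng h (D.reflectRoot i s) t = Ni h i * ng h s (e * t) * (Ni h i)⁻¹ := by
    rw [conj_ng h i hi s hs, ← mul_assoc, hee, one_mul]
  have e2 : xg h (D.reflectRoot i s) u = Ni h i * xg h s (e * u) * (Ni h i)⁻¹ := by
    rw [conj_xg h i hi s hs, ← mul_assoc, hee, one_mul]
  have e3 : ng h (D.reflectRoot i s) t * xg h (D.reflectRoot i s) u *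
      (ng h (D.reflectRoot i s) t)⁻¹ =
      Ni h i * (ng h s (e * t) * xg h s (e * u) * (ng h s (e * t))⁻¹) * (Ni h i)⁻¹ := by
    rw [e1, e2]; group
  rw [e3, hQ (e * t) (e * u) (mul_ne_zero he0 ht), conj_xg h i hi _ (h.neg_lt s hs),
    h.refl_neg i hi s hs, h.eta_neg i hi s hs]
  congr 1
  have : (e * t)⁻¹ ^ 2 = t⁻¹ ^ 2 := by
    rw [mul_inv, mul_pow]
    have : e⁻¹ ^ 2 = 1 := by
      rw [inv_pow, pow_two, hee, inv_one]
    rw [this, one_mul]
  rw [this, ← he]
  linear_combination (-(t⁻¹ ^ 2 * u)) * hee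

theorem Q_simple
    (hconjH : ∀ i < D.rank, ∀ s < D.nroots, ∀ c : F, c ≠ 0 → ∀ t : F,
      D.hMat F (D.simple i) c * D.x F s t =
        D.x F s (c ^ (D.cartan i s) * t) * D.hMat F (D.simple i) c)
    (heta : ∀ i < D.rank, η i (D.simple i) = -1)
    (hcart : ∀ i < D.rank, D.cartan i (D.neg (D.simple i)) = -2)
    (j : ℕ) (hj : j < D.rank) : Q h (D.simple j) := by
  intro t u ht
  have e1 : ng h (D.simple j) t = hg h (D.simple j) t * Ni h j := by
    rw [hg, Ni, ← ng_inv h (D.simple j) 1, inv_mul_cancel_right]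
  have hrefl : D.reflectRoot j (D.simple j) = D.neg (D.simple j) := by
    simp [ChevalleyDatum.reflectRoot]
  have e2 : Ni h j * xg h (D.simple j) u * (Ni h j)⁻¹ = xg h (D.neg (D.simple j)) (-u) := by
    rw [conj_xg h j hj _ (h.simple_lt j hj), hrefl, heta j hj]
    simp
  have e3 : hg h (D.simple j) t * xg h (D.neg (D.simple j)) (-u) =
      xg h (D.neg (D.simple j)) (-(t⁻¹ ^ 2 * u)) * hg h (D.simple j) t := by
    apply Units.ext
    rw [Units.val_mul, Units.val_mul, hg_val, xg_val, xg_val,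
      hconjH j hj _ (h.neg_lt _ (h.simple_lt j hj)) t ht, hcart j hj]
    congr 2
    rw [zpow_neg, zpow_ofNat, inv_pow]
    ring
  rw [e1]
  have : hg h (D.simple j) t * Ni h j * xg h (D.simple j) u * (hg h (D.simple j) t * Ni h j)⁻¹ =
      hg h (D.simple j) t * (Ni h j * xg h (D.simple j) u * (Ni h j)⁻¹) *
        (hg h (D.simple j) t)⁻¹ := by group
  rw [this, e2, e3, mul_inv_cancel_right]

theorem Q_all
    (hconjH : ∀ i < D.rank, ∀ s < D.nroots, ∀ c : F, c ≠ 0 → ∀ t : F,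
      D.hMat F (D.simple i) c * D.x F s t =
        D.x F s (c ^ (D.cartan i s) * t) * D.hMat F (D.simple i) c)
    (heta : ∀ i < D.rank, η i (D.simple i) = -1)
    (hcart : ∀ i < D.rank, D.cartan i (D.neg (D.simple i)) = -2)
    (r : ℕ) (hr : r < D.nroots) : Q h r :=
  h.reach (Q h) (fun j hj => Q_simple h hconjH heta hcart j hj)
    (fun i hi s hs hQ => Q_step h i hi s hs hQ) r hr

/-- Steinberg's relations of `SL₂` for the pair `x_r, x_{-r}` -/
theorem rel_root
    (hconjH : ∀ i < D.rank, ∀ s < D.nroots, ∀ c : F, c ≠ 0 → ∀ t : F,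
      D.hMat F (D.simple i) c * D.x F s t =
        D.x F s (c ^ (D.cartan i s) * t) * D.hMat F (D.simple i) c)
    (heta : ∀ i < D.rank, η i (D.simple i) = -1)
    (hcart : ∀ i < D.rank, D.cartan i (D.neg (D.simple i)) = -2)
    (hnn : ∀ r < D.nroots, D.neg (D.neg r) = r)
    (r : ℕ) (hr : r < D.nroots) :
    Rel (fun t : F => xg h r t) (fun t : F => xg h (D.neg r) t) := by
  refine ⟨fun t u => xg_add h r t u, fun t u => xg_add h _ t u, fun t u ht => ?_, fun t u ht => ?_⟩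
  · exact Q_all h hconjH heta hcart r hr t u ht
  · have := Q_all h hconjH heta hcart (D.neg r) (h.neg_lt r hr) t u ht
    rw [ng, hnn r hr] at this
    exact this

theorem h_eq_hg (r : ℕ) (t : F) :
    Cfsg.Agent.Helper38.SL2Pres.h (fun t : F => xg h r t) (fun t : F => xg h (D.neg r) t) t =
      hg h r t := by
  change ng h r t * (ng h r 1)⁻¹ = ng h r t * ng h r (-1)
  rw [ng_inv]

theorem hg_mul
    (hmulH : ∀ r < D.nroots, ∀ t₁ t₂ : F, t₁ ≠ 0 → t₂ ≠ 0 →
      D.hMat F r t₁ * D.hMat F r t₂ = D.hMat F r (t₁ * t₂))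
    (r : ℕ) (hr : r < D.nroots) (t u : F) (ht : t ≠ 0) (hu : u ≠ 0) :
    hg h r t * hg h r u = hg h r (t * u) := by
  apply Units.ext
  rw [Units.val_mul, hg_val, hg_val, hg_val, hmulH r hr t u ht hu]

theorem rootSubgroup_eq (r : ℕ) :
    D.rootSubgroup F r = Subgroup.closure (Set.range fun t : F => xg h r t) := by
  rw [ChevalleyDatum.rootSubgroup]
  congr 1
  ext g
  constructor
  · rintro ⟨t, ht⟩
    exact ⟨t, (Units.ext (ht.trans (xg_val h r t).symm)).symm⟩
  · rintro ⟨t, rfl⟩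
    exact ⟨t, xg_val h r t⟩

/-- the conclusion of statement S1030 for a datum with `NData` -/
theorem exists_sl2_hom
    (hconjH : ∀ i < D.rank, ∀ s < D.nroots, ∀ c : F, c ≠ 0 → ∀ t : F,
      D.hMat F (D.simple i) c * D.x F s t =
        D.x F s (c ^ (D.cartan i s) * t) * D.hMat F (D.simple i) c)
    (hmulH : ∀ r < D.nroots, ∀ t₁ t₂ : F, t₁ ≠ 0 → t₂ ≠ 0 →
      D.hMat F r t₁ * D.hMat F r t₂ = D.hMat F r (t₁ * t₂))
    (heta : ∀ i < D.rank, η i (D.simple i) = -1)
    (hcart : ∀ i < D.rank, D.cartan i (D.neg (D.simple i)) = -2)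
    (hnn : ∀ r < D.nroots, D.neg (D.neg r) = r)
    (r : ℕ) (hr : r < D.nroots) :
    ∃ φ : Matrix.SpecialLinearGroup (Fin 2) F →* GL D.Idx F,
      φ.range = D.rootSubgroup F r ⊔ D.rootSubgroup F (D.neg r) ∧
      ∀ (g : Matrix.SpecialLinearGroup (Fin 2) F) (t : F),
        ((g : Matrix (Fin 2) (Fin 2) F) = !![1, t; 0, 1] →
          ((φ g : GL D.Idx F) : Matrix D.Idx D.Idx F) = D.x F r t) ∧
        ((g : Matrix (Fin 2) (Fin 2) F) = !![1, 0; t, 1] →
          ((φ g : GL D.Idx F) : Matrix D.Idx D.Idx F) = D.x F (D.neg r) t) := by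
  have hR := rel_root h hconjH heta hcart hnn r hr
  have hmul : ∀ t u : F, t ≠ 0 → u ≠ 0 →
      Cfsg.Agent.Helper38.SL2Pres.h (fun t : F => xg h r t) (fun t : F => xg h (D.neg r) t) t *
        Cfsg.Agent.Helper38.SL2Pres.h (fun t : F => xg h r t) (fun t : F => xg h (D.neg r) t) u =
        Cfsg.Agent.Helper38.SL2Pres.h (fun t : F => xg h r t) (fun t : F => xg h (D.neg r) t)
          (t * u) := by
    intro t u ht hu
    rw [h_eq_hg, h_eq_hg, h_eq_hg]
    exact hg_mul h hmulH r hr t u ht hu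
  obtain ⟨φ, hφX, hφY⟩ := Cfsg.Agent.Helper6.SL2Any.exists_hom hR hmul
  refine ⟨φ, ?_, fun g t => ⟨fun hg' => ?_, fun hg' => ?_⟩⟩
  · rw [rootSubgroup_eq h r, rootSubgroup_eq h (D.neg r), ← Subgroup.closure_union,
      MonoidHom.range_eq_map]
    have htop : (⊤ : Subgroup (Matrix.SpecialLinearGroup (Fin 2) F)) =
        Subgroup.closure (Set.range (xmat : F → _) ∪ Set.range ymat) := by
      rw [eq_comm, eq_top_iff]
      intro A _
      exact mem_closure_elem A
    rw [htop, MonoidHom.map_closure, Set.image_union]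
    congr 2
    · ext g
      constructor
      · rintro ⟨_, ⟨t, rfl⟩, rfl⟩
        exact ⟨t, (hφX t).symm⟩
      · rintro ⟨t, rfl⟩
        exact ⟨xmat t, ⟨t, rfl⟩, hφX t⟩
    · ext g
      constructor
      · rintro ⟨_, ⟨t, rfl⟩, rfl⟩
        exact ⟨t, (hφY t).symm⟩
      · rintro ⟨t, rfl⟩
        exact ⟨ymat t, ⟨t, rfl⟩, hφY t⟩
  · have : g = xmat t := Subtype.ext hg'
    rw [this, hφX, xg_val]
  · have : g = ymat t := Subtype.ext hg'
    rw [this, hφY, xg_val]

end

end Cfsg.Agent.Helper6.ChevSL2
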