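import Cfsg.Agent.Lib.Helper6.ChevSL2
import Cfsg.Agent.Lib.Helper6.ChevFacts18
import Cfsg.Agent.S1032
import Cfsg.Agent.S1076

/-!
# The homomorphism `SL₂(F) → ⟨X_r, X_{-r}⟩` for the seven tabulated Chevalley data
-/

set_option autoImplicit false
set_option maxRecDepth 100000

namespace Cfsg.Agent.Helper6.ChevSL2

open Cfsg.Lie Cfsg.Agent.Helper18 Cfsg.Agent.Helper6.Chev

/-- table facts: `A_{p,-p} = -2` and `-(-r) = r` -/
def sl2Check (D : ChevalleyDatum) : Bool :=
  ((List.range D.rank).all fun i => D.cartan i (D.neg (D.simple i)) == -2) &&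
  ((List.range D.nroots).all fun r => D.neg (D.neg r) == r)

theorem sl2Check_spec (D : ChevalleyDatum) (hc : sl2Check D = true) :
    (∀ i < D.rank, D.cartan i (D.neg (D.simple i)) = -2) ∧
    (∀ r < D.nroots, D.neg (D.neg r) = r) := by
  simp only [sl2Check, Bool.and_eq_true, List.all_eq_true, List.mem_range, beq_iff_eq] at hc
  exact hc

theorem sl2OK_G2 : sl2Check chevG2 = true := by decide +kernel
theorem sl2OK_B2 : sl2Check chevB2 = true := by decide +kernel
theorem sl2OK_D4 : sl2Check chevD4 = true := by decide +kernel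
theorem sl2OK_F4 : sl2Check chevF4 = true := by decide +kernel
theorem sl2OK_E6 : sl2Check chevE6 = true := by decide +kernel
theorem sl2OK_E7 : sl2Check chevE7 = true := by decide +kernel
theorem sl2OK_E8 : sl2Check chevE8 = true := by decide +kernel

/-- the conclusion of statement S1030 from `NData`, the sign check and the table facts -/
theorem exists_sl2_hom' {F : Type*} [Field F] (D : ChevalleyDatum)
    (hD : D ∈ [chevG2, chevB2, chevD4, chevF4, chevE6, chevE7, chevE8]) {η : ℕ → ℕ → ℤ}
    (h : NData F D η) (hsign : ∀ i < D.rank, fSignCheck D i (η i) = true)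
    (hchk : sl2Check D = true) (r : ℕ) (hr : r < D.nroots) :
    ∃ φ : Matrix.SpecialLinearGroup (Fin 2) F →* GL D.Idx F,
      φ.range = D.rootSubgroup F r ⊔ D.rootSubgroup F (D.neg r) ∧
      ∀ (g : Matrix.SpecialLinearGroup (Fin 2) F) (t : F),
        ((g : Matrix (Fin 2) (Fin 2) F) = !![1, t; 0, 1] →
          ((φ g : GL D.Idx F) : Matrix D.Idx D.Idx F) = D.x F r t) ∧
        ((g : Matrix (Fin 2) (Fin 2) F) = !![1, 0; t, 1] →
          ((φ g : GL D.Idx F) : Matrix D.Idx D.Idx F) = D.x F (D.neg r) t) := by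
  obtain ⟨hcart, hnn⟩ := sl2Check_spec D hchk
  exact exists_sl2_hom h
    (fun i hi s hs c hc t => Cfsg.Agent.S1032.result D hD i s hi hs c hc t)
    (fun r hr t₁ t₂ h₁ h₂ => Cfsg.Agent.S1076.result D hD r hr t₁ t₂ h₁ h₂)
    (fun i hi => (signProp_of_check D i _ (hsign i hi)).1) hcart hnn r hr

end Cfsg.Agent.Helper6.ChevSL2
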