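import Cfsg.Agent.Lib.Helper6.WeylCert

/-!
# Orders of concrete Weyl groups through a chain of prefix parabolic subgroups

For the prefix sets `Jk n k = {i | i < k}` a certificate for the step `k → k + 1` is the list of codes of
the orbit of a vector that is orthogonal to the first `k` simple roots and positive on the next one.
-/

set_option autoImplicit false
set_option linter.unusedSectionVars false

namespace Cfsg.Agent.Helper6.Weyl

open Matrix

variable {n : ℕ}

/-- prefix sets of nodes -/
def Jk (n k : ℕ) : Fin n → Prop := fun i => i.val < k

instance instDecidablePredJk (n k : ℕ) : DecidablePred (Jk n k) := fun _ => Nat.decLt _ _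

/-- the start vector is orthogonal to the first `k` simple roots and positive on node `k` -/
def domOK (A : Mat n) (k : ℕ) (c0 : ℕ) : Bool :=
  (List.finRange n).all fun i =>
    if i.val < k then decide (pair A i (decode n c0) = 0)
    else if i.val = k then decide (0 < pair A i (decode n c0)) else true

theorem domOK_spec {A : Mat n} {k c0 : ℕ} (h : domOK A k c0 = true) (i : Fin n) :
    (i.val < k → pair A i (decode n c0) = 0) ∧ (i.val = k → 0 < pair A i (decode n c0)) := by
  unfold domOK at h
  rw [List.all_eq_true] at h
  have h1 := h i (List.mem_finRange i)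
  constructor
  · intro hi
    rw [if_pos hi] at h1
    exact of_decide_eq_true h1
  · intro hi
    rw [if_neg (by omega), if_pos hi] at h1
    exact of_decide_eq_true h1

/-- certificate for one step of the chain -/
def stepCertOK (A : Mat n) (k : ℕ) : List ℕ → Bool
  | [] => false
  | c0 :: rest =>
    domOK A k c0 && closedOK (Jk n (k + 1)) A (c0 :: rest) && reachOK (Jk n (k + 1)) A [c0] rest &&
      decide ((c0 :: rest).Nodup) && (c0 :: rest).all (fun c => decide (c < 16 ^ n))

theorem card_step (D : VDatum n) (k : ℕ) (codes : List ℕ) (h : stepCertOK D.A k codes = true) :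
    Nat.card (D.W (Jk n (k + 1))) = Nat.card (D.W (Jk n k)) * codes.length := by
  cases codes with
  | nil => simp [stepCertOK] at h
  | cons c0 rest =>
    unfold stepCertOK at h
    simp only [Bool.and_eq_true] at h
    obtain ⟨⟨⟨⟨h1, h2⟩, h3⟩, h4⟩, h5⟩ := h
    have hnd : (c0 :: rest).Nodup := of_decide_eq_true h4
    have hlt : ∀ c ∈ c0 :: rest, c < 16 ^ n := by
      intro c hc
      rw [List.all_eq_true] at h5
      exact of_decide_eq_true (h5 c hc)
    rw [D.card_W_eq (Jk n (k + 1)) (Jk n k) (decode n c0), orbit_ncard (Jk n (k + 1)) D c0 rest h2 h3 hnd hlt]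
    · simp
    · intro i hi
      have := domOK_spec h1 i
      by_cases hik : i.val < k
      · rw [this.1 hik]
      · have : i.val = k := by unfold Jk at hi; omega
        exact le_of_lt ((domOK_spec h1 i).2 this)
    · intro i
      have := domOK_spec h1 i
      unfold Jk
      constructor
      · intro hi
        exact ⟨by omega, this.1 hi⟩
      · rintro ⟨hi, h0⟩
        by_contra hne
        have hik : i.val = k := by omega
        have := this.2 hik
        omega

/-- certificate for the whole chain, starting at level `k` -/
def chainOK (A : Mat n) : ℕ → List (List ℕ) → Bool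
  | _, [] => true
  | k, cs :: rest => stepCertOK A k cs && chainOK A (k + 1) rest

theorem chainOK_nil (A : Mat n) (k : ℕ) : chainOK A k [] = true := rfl

theorem chainOK_cons {A : Mat n} {k : ℕ} {cs : List ℕ} {rest : List (List ℕ)}
    (h1 : stepCertOK A k cs = true) (h2 : chainOK A (k + 1) rest = true) :
    chainOK A k (cs :: rest) = true := by
  unfold chainOK
  rw [h1, h2]
  rfl

theorem card_chain (D : VDatum n) : ∀ (certs : List (List ℕ)) (k : ℕ), chainOK D.A k certs = true →
    Nat.card (D.W (Jk n (k + certs.length))) =
      Nat.card (D.W (Jk n k)) * (certs.map List.length).prod := by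
  intro certs
  induction certs with
  | nil => intro k _; simp
  | cons cs rest ih =>
    intro k h
    unfold chainOK at h
    rw [Bool.and_eq_true] at h
    have h1 := card_step D k cs h.1
    have h2 := ih (k + 1) h.2
    have e : k + (rest.length + 1) = k + 1 + rest.length := by omega
    rw [List.length_cons, e, h2, h1, List.map_cons, List.prod_cons, mul_assoc]

theorem W_Jk_zero (D : VDatum n) : D.W (Jk n 0) = ⊥ := by
  unfold VDatum.W Jk
  rw [Subgroup.closure_eq_bot_iff]
  rintro g ⟨i, hi, _⟩
  exact absurd hi (Nat.not_lt_zero _)

theorem W_Jk_full (D : VDatum n) : D.W (Jk n n) = D.Wf := by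
  apply le_antisymm
  · exact D.W_mono _ _ (fun _ _ => trivial)
  · exact D.W_mono _ _ (fun i _ => i.2)

theorem card_Wf (D : VDatum n) (certs : List (List ℕ)) (hlen : certs.length = n)
    (h : chainOK D.A 0 certs = true) : Nat.card D.Wf = (certs.map List.length).prod := by
  have := card_chain D certs 0 h
  rw [zero_add, hlen, W_Jk_full, W_Jk_zero] at this
  rw [this]
  simp

/-! ### Orders of concrete matrices, computed on codes -/

/-- apply the reflections of a word (rightmost first) to a code, checking ranges -/
def applyWord (A : Mat n) : List (Fin n) → ℕ → Option ℕ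
  | [], c => some c
  | i :: L, c => (applyWord A L c).bind fun r =>
      forceNat r fun r => if inRange A i r then some (reflCode A i r) else none

/-- the matrix of a word -/
def wordMat (A : Mat n) (L : List (Fin n)) : Mat n := (L.map (refl A)).prod

theorem wordMat_cons (A : Mat n) (i : Fin n) (L : List (Fin n)) :
    wordMat A (i :: L) = refl A i * wordMat A L := by
  simp [wordMat]

theorem wordMat_append (A : Mat n) (L L' : List (Fin n)) :
    wordMat A (L ++ L') = wordMat A L * wordMat A L' := by
  simp [wordMat]

theorem applyWord_spec {A : Mat n} : ∀ (L : List (Fin n)) (c r : ℕ), applyWord A L c = some r →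
    decode n r = (wordMat A L).mulVec (decode n c) := by
  intro L
  induction L with
  | nil =>
    intro c r h
    simp only [applyWord, Option.some.injEq] at h
    subst h
    simp [wordMat]
  | cons i L ih =>
    intro c r h
    simp only [applyWord, Option.bind_eq_some_iff] at h
    obtain ⟨r', h1, h2⟩ := h
    rw [forceNat_eq] at h2
    split_ifs at h2 with h3
    simp only [Option.some.injEq] at h2
    subst h2
    rw [reflCode_spec h3, ih c r' h1, wordMat_cons, mulVec_mulVec]

/-- the word fixes all simple roots -/
def wordFixOK (A : Mat n) (L : List (Fin n)) : Bool :=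
  baseOK n && (List.finRange n).all fun l => applyWord A L (codeE n l) == some (codeE n l)

theorem wordFixOK_spec {A : Mat n} {L : List (Fin n)} (h : wordFixOK A L = true) :
    wordMat A L = 1 := by
  unfold wordFixOK at h
  rw [Bool.and_eq_true, List.all_eq_true] at h
  obtain ⟨hb, h⟩ := h
  ext a l
  have h1 := h l (List.mem_finRange l)
  have h2 : applyWord A L (codeE n l) = some (codeE n l) := by simpa using h1
  have h3 := applyWord_spec L _ _ h2
  rw [baseOK_spec hb, mulVec_single_one] at h3
  have := congrFun h3 a
  rw [Matrix.col_apply] at this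
  rw [← this, Matrix.one_apply, Pi.single_apply]

/-- the word moves some simple root -/
def wordMovesOK (A : Mat n) (L : List (Fin n)) : Bool :=
  baseOK n && (List.finRange n).any fun l =>
    match applyWord A L (codeE n l) with
    | some r => !decide (decode n r = Pi.single l 1)
    | none => false

theorem wordMovesOK_spec {A : Mat n} {L : List (Fin n)} (h : wordMovesOK A L = true) :
    wordMat A L ≠ 1 := by
  unfold wordMovesOK at h
  rw [Bool.and_eq_true, List.any_eq_true] at h
  obtain ⟨hb, l, _, h⟩ := h
  intro h1
  cases h2 : applyWord A L (codeE n l) with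
  | none => rw [h2] at h; simp at h
  | some r =>
    rw [h2] at h
    have h3 := applyWord_spec L _ _ h2
    rw [h1, one_mulVec, baseOK_spec hb] at h3
    simp [h3] at h

/-- the `k`-fold repetition of a word -/
def rep (k : ℕ) (w : List (Fin n)) : List (Fin n) := (List.replicate k w).flatten

theorem wordMat_rep (A : Mat n) (w : List (Fin n)) (k : ℕ) :
    wordMat A (rep k w) = wordMat A w ^ k := by
  induction k with
  | zero => simp [rep, wordMat]
  | succ k ih =>
    have : rep (k + 1) w = w ++ rep k w := by simp [rep, List.replicate_succ]
    rw [this, wordMat_append, ih, pow_succ']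

/-- Boolean check that the matrix of a word has exact order `m` -/
def ordOK (A : Mat n) (w : List (Fin n)) (m : ℕ) : Bool :=
  decide (0 < m) && wordFixOK A (rep m w) &&
    (List.range m).all fun k => decide (k = 0) || wordMovesOK A (rep k w)

theorem ordOK_spec {A : Mat n} {w : List (Fin n)} {m : ℕ} (h : ordOK A w m = true) :
    orderOf (wordMat A w) = m := by
  unfold ordOK at h
  simp only [Bool.and_eq_true] at h
  obtain ⟨⟨h1, h2⟩, h3⟩ := h
  have h1 : 0 < m := of_decide_eq_true h1
  rw [orderOf_eq_iff h1]
  refine ⟨by rw [← wordMat_rep]; exact wordFixOK_spec h2, ?_⟩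
  intro k hk hk0
  rw [List.all_eq_true] at h3
  have := h3 k (List.mem_range.2 hk)
  rw [Bool.or_eq_true] at this
  rcases this with h4 | h4
  · have : k = 0 := of_decide_eq_true h4
    omega
  · rw [← wordMat_rep]
    exact wordMovesOK_spec h4

/-- all the orders `m(i,j)` are as prescribed by the Coxeter matrix -/
def ordersOK (A : Mat n) (M : CoxeterMatrix (Fin n)) : Bool :=
  (List.finRange n).all fun i => (List.finRange n).all fun j => ordOK A [i, j] (M i j)

theorem ordersOK_spec (D : VDatum n) (M : CoxeterMatrix (Fin n)) (h : ordersOK D.A M = true) :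
    ∀ i j, M i j = orderOf (D.s i * D.s j) := by
  intro i j
  unfold ordersOK at h
  rw [List.all_eq_true] at h
  have h1 := h i (List.mem_finRange i)
  rw [List.all_eq_true] at h1
  have h2 := ordOK_spec (h1 j (List.mem_finRange j))
  rw [← orderOf_units, Units.val_mul]
  rw [← h2]
  congr 1
  simp [wordMat]
  rfl

/-- the order of the presented Coxeter group -/
theorem card_group (D : VDatum n) (M : CoxeterMatrix (Fin n)) (hM : ordersOK D.A M = true)
    (certs : List (List ℕ)) (hlen : certs.length = n) (h : chainOK D.A 0 certs = true) :
    Nat.card M.Group = (certs.map List.length).prod := by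
  obtain ⟨e, _⟩ := D.exists_mulEquiv M (ordersOK_spec D M hM)
  rw [Nat.card_congr e.toEquiv, card_Wf D certs hlen h]

/-- the image of the Coxeter element in the matrix group -/
theorem coe_coxeter (D : VDatum n) :
    (((((List.finRange n).map D.σ).prod : D.Wf) : (Mat n)ˣ) : Mat n) =
      wordMat D.A (List.finRange n) := by
  unfold wordMat
  generalize List.finRange n = L
  induction L with
  | nil => rfl
  | cons i L ih =>
    rw [List.map_cons, List.prod_cons, Subgroup.coe_mul, Units.val_mul, ih, List.map_cons,
      List.prod_cons]
    rfl

/-- the order of the Coxeter element of the presented Coxeter group -/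
theorem orderOf_coxeter (D : VDatum n) (M : CoxeterMatrix (Fin n)) (hM : ordersOK D.A M = true)
    (h : ℕ) (hc : ordOK D.A (List.finRange n) h = true) :
    orderOf ((List.finRange n).map M.simple).prod = h := by
  obtain ⟨e, he⟩ := D.exists_mulEquiv M (ordersOK_spec D M hM)
  rw [← e.orderOf_eq, map_list_prod, List.map_map]
  have h1 : (⇑e ∘ M.simple) = D.σ := funext he
  rw [h1, ← Subgroup.orderOf_coe, ← orderOf_units, coe_coxeter]
  exact ordOK_spec hc

end Cfsg.Agent.Helper6.Weyl
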