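import Cfsg.Agent.Lib.Helper6.ChevNorm
import Cfsg.Agent.Lib.Helper6.WeylChain

/-!
# The homomorphism `N → W` with kernel `H`

`N` acts on the root lines; via a bridge to a faithful integral model of the Weyl group we obtain
`θ : N →* Wf`, and the Coxeter presentation of `W` gives `ker θ = H`.
-/

set_option autoImplicit false
set_option linter.unusedSectionVars false

namespace Cfsg.Agent.Helper6.Chev

open Cfsg.Lie Cfsg.Agent.Helper18 Cfsg.Agent.Helper6.Weyl

/-- bridge between the Chevalley datum and the integral model of the Weyl group: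
`vec s` is the coroot vector of the root `s`. -/
structure Bridge (D : ChevalleyDatum) {l : ℕ} (V : VDatum l) (vec : ℕ → Vec l) : Prop where
  rank_eq : D.rank = l
  simple : ∀ i : Fin l, vec (D.simple i) = Pi.single i 1
  refl : ∀ (i : Fin l), ∀ s < D.nroots, vec (D.reflectRoot i s) = V.s i • vec s

section Act

variable {F : Type*} [Field F] {D : ChevalleyDatum} {l : ℕ} (vec : ℕ → Vec l)

/-- the matrix `g` maps the root line of `s` into the root line of the root with vector `u • vec s` -/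
def Act (g : Matrix D.Idx D.Idx F) (u : (Mat l)ˣ) : Prop :=
  ∀ (s : Fin D.nroots) (row : D.Idx), g row (Sum.inr s) ≠ 0 →
    ∃ s' : Fin D.nroots, row = Sum.inr s' ∧ vec s' = u • vec s

theorem act_one : Act vec (1 : Matrix D.Idx D.Idx F) 1 := by
  intro s row hne
  refine ⟨s, ?_, by rw [one_smul]⟩
  by_contra hrow
  exact hne (Matrix.one_apply_ne hrow)

theorem act_mul {g g' : Matrix D.Idx D.Idx F} {u u' : (Mat l)ˣ} (hg : Act vec g u)
    (hg' : Act vec g' u') : Act vec (g * g') (u * u') := by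
  intro s row hne
  rw [Matrix.mul_apply] at hne
  obtain ⟨k, _, hk⟩ := Finset.exists_ne_zero_of_sum_ne_zero hne
  have h1 : g row k ≠ 0 := left_ne_zero_of_mul hk
  have h2 : g' k (Sum.inr s) ≠ 0 := right_ne_zero_of_mul hk
  obtain ⟨s'', rfl, hs''⟩ := hg' s k h2
  obtain ⟨s', hrow, hs'⟩ := hg s'' row h1
  exact ⟨s', hrow, by rw [hs', hs'', mul_smul]⟩

/-- diagonal on the root part -/
def DiagE (g : Matrix D.Idx D.Idx F) : Prop :=
  ∀ (s : Fin D.nroots) (row : D.Idx), g row (Sum.inr s) ≠ 0 → row = Sum.inr s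

theorem act_of_diagE {g : Matrix D.Idx D.Idx F} (hg : DiagE g) : Act vec g 1 := by
  intro s row hne
  exact ⟨s, hg s row hne, by rw [one_smul]⟩

theorem diagE_diagonal (d : D.Idx → F) : DiagE (Matrix.diagonal d : Matrix D.Idx D.Idx F) := by
  intro s row hne
  by_contra hrow
  exact hne (Matrix.diagonal_apply_ne _ hrow)

/-- two-sided version for invertible matrices -/
def Act2 (g : GL D.Idx F) (u : (Mat l)ˣ) : Prop :=
  Act vec (g : Matrix D.Idx D.Idx F) u ∧ Act vec ((g⁻¹ : GL D.Idx F) : Matrix D.Idx D.Idx F) u⁻¹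

theorem act2_one : Act2 vec (1 : GL D.Idx F) 1 := by
  refine ⟨act_one vec, ?_⟩
  rw [inv_one, inv_one]
  exact act_one vec

theorem act2_mul {g g' : GL D.Idx F} {u u' : (Mat l)ˣ} (hg : Act2 vec g u) (hg' : Act2 vec g' u') :
    Act2 vec (g * g') (u * u') := by
  refine ⟨?_, ?_⟩
  · rw [Units.val_mul]
    exact act_mul vec hg.1 hg'.1
  · rw [mul_inv_rev, mul_inv_rev, Units.val_mul]
    exact act_mul vec hg'.2 hg.2

theorem act2_inv {g : GL D.Idx F} {u : (Mat l)ˣ} (hg : Act2 vec g u) : Act2 vec g⁻¹ u⁻¹ := by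
  refine ⟨hg.2, ?_⟩
  rw [inv_inv, inv_inv]
  exact hg.1

theorem exists_ne_zero_col (g : GL D.Idx F) (col : D.Idx) :
    ∃ row, (g : Matrix D.Idx D.Idx F) row col ≠ 0 := by
  by_contra hcon
  push Not at hcon
  have h1 : ((g⁻¹ : GL D.Idx F) : Matrix D.Idx D.Idx F) * (g : Matrix D.Idx D.Idx F) = 1 := by
    rw [← Units.val_mul, inv_mul_cancel, Units.val_one]
  have h2 := congrFun (congrFun h1 col) col
  rw [Matrix.mul_apply, Matrix.one_apply_eq] at h2
  rw [Finset.sum_eq_zero (fun k _ => by rw [hcon k, mul_zero])] at h2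
  exact zero_ne_one h2

theorem act_unique {V : VDatum l} (B : Bridge D V vec) (hsl : ∀ i < D.rank, D.simple i < D.nroots)
    (g : GL D.Idx F) {u u' : (Mat l)ˣ}
    (hu : Act vec (g : Matrix D.Idx D.Idx F) u) (hu' : Act vec (g : Matrix D.Idx D.Idx F) u') :
    u = u' := by
  apply Units.ext
  ext a i
  have hi : (i : ℕ) < D.rank := by rw [B.rank_eq]; exact i.2
  obtain ⟨row, hrow⟩ := exists_ne_zero_col g (Sum.inr ⟨D.simple i, hsl i hi⟩)
  obtain ⟨s', hs', h1⟩ := hu _ row hrow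
  obtain ⟨s'', hs'', h2⟩ := hu' _ row hrow
  have : s' = s'' := by
    rw [hs'] at hs''
    exact Sum.inr_injective hs''
  subst this
  have h3 : u • vec (D.simple i) = u' • vec (D.simple i) := by
    change u • vec ((⟨D.simple i, hsl i hi⟩ : Fin D.nroots) : ℕ) = u' • vec ((⟨D.simple i, hsl i hi⟩ : Fin D.nroots) : ℕ)
    rw [← h1, ← h2]
  rw [B.simple i] at h3
  have h4 := congrFun h3 a
  change ((u : Mat l).mulVec (Pi.single i 1)) a = ((u' : Mat l).mulVec (Pi.single i 1)) a at h4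
  rwa [Matrix.mulVec_single_one, Matrix.mulVec_single_one] at h4

end Act

section Main

variable {F : Type*} [Field F] {D : ChevalleyDatum} {η : ℕ → ℕ → ℤ} (h : NData F D η)
  {l : ℕ} {V : VDatum l} {vec : ℕ → Vec l} (B : Bridge D V vec)
  (hsimp : ∀ j < D.rank, ∀ c : F, c ≠ 0 → D.hMat F (D.simple j) c =
    Matrix.diagonal (Sum.elim (fun _ => (1 : F)) (fun s : Fin D.nroots => c ^ (D.cartan j s))))

include h B

theorem lt_rank (i : Fin l) : (i : ℕ) < D.rank := by rw [B.rank_eq]; exact i.2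

theorem act_monoMat (i : Fin l) : Act vec (monoMat (F := F) D i (η i)) (V.s i) := by
  intro s row hne
  rcases row with j' | s'
  · simp [monoMat] at hne
  · simp only [monoMat, Matrix.of_apply, Sum.elim_inr] at hne
    have hs' : (s' : ℕ) = D.reflectRoot i s := by
      by_contra hcon
      rw [if_neg hcon] at hne
      exact hne rfl
    exact ⟨s', rfl, by rw [hs', B.refl i s s.2]⟩

include hsimp

theorem hg_simple_inv (j : ℕ) (hj : j < D.rank) (t : F) (ht : t ≠ 0) :
    (hg h (D.simple j) t)⁻¹ = hg h (D.simple j) t⁻¹ := by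
  apply inv_eq_of_mul_eq_one_right
  apply Units.ext
  rw [Units.val_mul, hg_val, hg_val, hsimp j hj t ht, hsimp j hj t⁻¹ (inv_ne_zero ht),
    Matrix.diagonal_mul_diagonal, Units.val_one, ← Matrix.diagonal_one]
  congr 1
  funext k
  rcases k with k | k
  · simp
  · simp only [Sum.elim_inr]
    rw [inv_zpow, mul_inv_cancel₀ (zpow_ne_zero _ ht)]

theorem act2_hg_simple (j : ℕ) (hj : j < D.rank) (t : F) (ht : t ≠ 0) :
    Act2 vec (hg h (D.simple j) t) 1 := by
  refine ⟨?_, ?_⟩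
  · rw [hg_val, hsimp j hj t ht]
    exact act_of_diagE vec (diagE_diagonal _)
  · rw [hg_simple_inv h B hsimp j hj t ht, hg_val, hsimp j hj t⁻¹ (inv_ne_zero ht), inv_one]
    exact act_of_diagE vec (diagE_diagonal _)

theorem act2_Ni (i : Fin l) : Act2 vec (Ni h i) (V.s i) := by
  have hi := lt_rank h B i
  have h1 : Act vec ((Ni h i : GL D.Idx F) : Matrix D.Idx D.Idx F) (V.s i) := by
    rw [Ni_val h i hi]
    exact act_monoMat h B i
  refine ⟨h1, ?_⟩
  -- Ni⁻¹ = Ni * (Ni⁻¹ * Ni⁻¹) and Ni⁻¹ * Ni⁻¹ = h_i(-1)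
  have e : (Ni h i)⁻¹ = Ni h i * hg h (D.simple i) (-1) := by
    rw [hg, ← Ni_inv]
    group
  rw [e, Units.val_mul, V.s_inv]
  have := act_mul vec h1 (act2_hg_simple h B hsimp i hi (-1) (neg_ne_zero.mpr one_ne_zero)).1
  rwa [mul_one] at this

/-- every `n_r(t)` acts on the root lines through an involution of the Weyl group -/
theorem exists_act_ng (r : ℕ) (hr : r < D.nroots) :
    ∃ u ∈ V.Wf, u * u = 1 ∧ ∀ t : F, t ≠ 0 → Act2 vec (ng h r t) u := by
  refine h.reach (fun r => ∃ u ∈ V.Wf, u * u = 1 ∧ ∀ t : F, t ≠ 0 → Act2 vec (ng h r t) u) ?_ ?_ r hr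
  · intro j hj
    have hjl : j < l := by rw [← B.rank_eq]; exact hj
    refine ⟨V.s ⟨j, hjl⟩, V.s_mem_W VDatum.allJ trivial, V.s_mul_s _, ?_⟩
    intro t ht
    have e : ng h (D.simple j) t = hg h (D.simple j) t * Ni h j := by
      rw [hg, Ni, ← neg_neg (1 : F), ← ng_inv h _ (-1), neg_neg]
      group
    rw [e]
    have := act2_mul vec (act2_hg_simple h B hsimp j hj t ht) (act2_Ni h B hsimp ⟨j, hjl⟩)
    rwa [one_mul] at this
  · rintro i hi s hs ⟨u, huW, huu, hu⟩
    have hil : i < l := by rw [← B.rank_eq]; exact hi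
    have hNi := act2_Ni h B hsimp ⟨i, hil⟩
    refine ⟨V.s ⟨i, hil⟩ * u * (V.s ⟨i, hil⟩)⁻¹,
      mul_mem (mul_mem (V.s_mem_W VDatum.allJ trivial) huW) (inv_mem (V.s_mem_W VDatum.allJ trivial)), ?_, ?_⟩
    · calc V.s ⟨i, hil⟩ * u * (V.s ⟨i, hil⟩)⁻¹ * (V.s ⟨i, hil⟩ * u * (V.s ⟨i, hil⟩)⁻¹)
          = V.s ⟨i, hil⟩ * (u * u) * (V.s ⟨i, hil⟩)⁻¹ := by group
        _ = 1 := by rw [huu, mul_one, mul_inv_cancel]
    · intro t ht
      -- n_{w s}(t) = n_i n_s(η t) n_i⁻¹
      have hη : ((η i s : ℤ) : F) * (((η i s : ℤ) : F) * t) = t := by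
        rcases h.eta_pm i hi s hs with e | e <;> rw [e] <;> simp
      have hne : ((η i s : ℤ) : F) * t ≠ 0 := by
        rcases h.eta_pm i hi s hs with e | e <;> rw [e] <;> simpa using ht
      have e := conj_ng h i hi s hs (((η i s : ℤ) : F) * t)
      rw [hη] at e
      rw [← e]
      exact act2_mul vec (act2_mul vec hNi (hu _ hne)) (act2_inv vec hNi)

/-- every element of `N` acts on the root lines through an element of the Weyl group -/
theorem exists_act_of_mem {g : GL D.Idx F} (hg' : g ∈ D.monomialSubgroup F) :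
    ∃ u ∈ V.Wf, Act2 vec g u := by
  rw [ChevalleyDatum.monomialSubgroup, ChevalleyDatum.diagonalSubgroup, ← Subgroup.closure_union] at hg'
  induction hg' using Subgroup.closure_induction with
  | mem x hx =>
    rcases hx with ⟨r, t, hr, ht, hx⟩ | ⟨r, hr, hx⟩
    · obtain ⟨u, huW, huu, hu⟩ := exists_act_ng h B hsimp r hr
      rw [eq_hg_of_val h hx, hg]
      refine ⟨1, one_mem _, ?_⟩
      have := act2_mul vec (hu t ht) (hu (-1) (neg_ne_zero.mpr one_ne_zero))
      rwa [huu] at this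
    · obtain ⟨u, huW, _, hu⟩ := exists_act_ng h B hsimp r hr
      rw [eq_ng_of_val h hx]
      exact ⟨u, huW, hu 1 one_ne_zero⟩
  | one => exact ⟨1, one_mem _, act2_one vec⟩
  | mul x y _ _ hx hy =>
    obtain ⟨u, hu, hxu⟩ := hx
    obtain ⟨u', hu', hyu⟩ := hy
    exact ⟨u * u', mul_mem hu hu', act2_mul vec hxu hyu⟩
  | inv x _ hx =>
    obtain ⟨u, hu, hxu⟩ := hx
    exact ⟨u⁻¹, inv_mem hu, act2_inv vec hxu⟩

/-- elements of `H` act trivially on the root lines -/
theorem act_of_mem_H {g : GL D.Idx F} (hg' : g ∈ D.diagonalSubgroup F) : Act2 vec g 1 := by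
  rw [ChevalleyDatum.diagonalSubgroup] at hg'
  induction hg' using Subgroup.closure_induction with
  | mem x hx =>
    obtain ⟨r, t, hr, ht, hx⟩ := hx
    obtain ⟨u, huW, huu, hu⟩ := exists_act_ng h B hsimp r hr
    rw [eq_hg_of_val h hx, hg]
    have := act2_mul vec (hu t ht) (hu (-1) (neg_ne_zero.mpr one_ne_zero))
    rwa [huu] at this
  | one => exact act2_one vec
  | mul x y _ _ hx hy =>
    have := act2_mul vec hx hy
    rwa [one_mul] at this
  | inv x _ hx =>
    have := act2_inv vec hx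
    rwa [inv_one] at this

/-- the action map `N → Wf` -/
noncomputable def theta (g : ↥(D.monomialSubgroup F)) : ↥V.Wf :=
  ⟨Classical.choose (exists_act_of_mem h B hsimp g.2),
    (Classical.choose_spec (exists_act_of_mem h B hsimp g.2)).1⟩

theorem theta_spec (g : ↥(D.monomialSubgroup F)) :
    Act2 vec (g : GL D.Idx F) ((theta h B hsimp g : V.Wf) : (Mat l)ˣ) :=
  (Classical.choose_spec (exists_act_of_mem h B hsimp g.2)).2

theorem theta_eq (g : ↥(D.monomialSubgroup F)) {u : (Mat l)ˣ}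
    (hu : Act vec ((g : GL D.Idx F) : Matrix D.Idx D.Idx F) u) :
    ((theta h B hsimp g : V.Wf) : (Mat l)ˣ) = u :=
  act_unique vec B h.simple_lt (g : GL D.Idx F) (theta_spec h B hsimp g).1 hu

/-- the action map as a homomorphism -/
noncomputable def thetaHom : ↥(D.monomialSubgroup F) →* ↥V.Wf :=
  MonoidHom.mk' (theta h B hsimp) (by
    intro a b
    apply Subtype.ext
    rw [Subgroup.coe_mul]
    apply theta_eq h B hsimp (a * b)
    rw [Subgroup.coe_mul, Units.val_mul]
    exact act_mul vec (theta_spec h B hsimp a).1 (theta_spec h B hsimp b).1)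

theorem thetaHom_apply (g : ↥(D.monomialSubgroup F)) : thetaHom h B hsimp g = theta h B hsimp g := rfl

theorem Ni_mem (i : Fin l) : Ni h i ∈ D.monomialSubgroup F :=
  ng_one_mem h _ (h.simple_lt i (lt_rank h B i))

theorem thetaHom_Ni (i : Fin l) : thetaHom h B hsimp ⟨Ni h i, Ni_mem h B hsimp i⟩ = V.σ i := by
  apply Subtype.ext
  rw [thetaHom_apply]
  exact theta_eq h B hsimp _ (act2_Ni h B hsimp i).1

theorem thetaHom_of_mem_H (g : ↥(D.monomialSubgroup F)) (hg' : (g : GL D.Idx F) ∈ D.diagonalSubgroup F) :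
    thetaHom h B hsimp g = 1 := by
  apply Subtype.ext
  rw [thetaHom_apply]
  exact theta_eq h B hsimp _ (act_of_mem_H h B hsimp hg').1

theorem rel_all (M : CoxeterMatrix (Fin l))
    (hrel : ∀ i j : Fin l, i < j → (Ni h i * Ni h j) ^ (M i j) ∈ D.diagonalSubgroup F)
    (i j : Fin l) : (Ni h i * Ni h j) ^ (M i j) ∈ D.diagonalSubgroup F := by
  rcases lt_trichotomy i j with hij | hij | hij
  · exact hrel i j hij
  · subst hij
    rw [M.diagonal, pow_one]
    exact Ni_sq_mem h i (lt_rank h B i)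
  · have h1 := hrel j i hij
    have hs : M j i = M i j := M.symmetric j i
    rw [hs] at h1
    have h2 := conj_inv_mem_H h j (lt_rank h B j) h1
    have e : (Ni h (j : ℕ))⁻¹ * (Ni h j * Ni h i) ^ (M i j) * Ni h j = (Ni h i * Ni h j) ^ (M i j) := by
      have := conj_pow (a := (Ni h (j : ℕ))⁻¹) (b := Ni h j * Ni h i) (i := M i j)
      rw [inv_inv] at this
      rw [← this]
      congr 1
      group
    rwa [e] at h2

/-- an element of `N` whose diagonal entries on the root part do not vanish acts trivially -/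
theorem thetaHom_eq_one_of_diag (g : ↥(D.monomialSubgroup F))
    (hd : ∀ s : Fin D.nroots, ((g : GL D.Idx F) : Matrix D.Idx D.Idx F) (Sum.inr s) (Sum.inr s) ≠ 0) :
    thetaHom h B hsimp g = 1 := by
  apply Subtype.ext
  rw [thetaHom_apply]
  set u : (Mat l)ˣ := ((theta h B hsimp g : V.Wf) : (Mat l)ˣ) with hu
  have hact := (theta_spec h B hsimp g).1
  change u = 1
  apply Units.ext
  ext a i
  have hi : (i : ℕ) < D.rank := lt_rank h B i
  obtain ⟨s', hs', h1⟩ := hact ⟨D.simple i, h.simple_lt i hi⟩ _ (hd ⟨D.simple i, h.simple_lt i hi⟩)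
  have hs'' : s' = ⟨D.simple i, h.simple_lt i hi⟩ := (Sum.inr_injective hs').symm
  rw [hs''] at h1
  change vec (D.simple i) = u • vec (D.simple i) at h1
  rw [B.simple i] at h1
  have h4 := congrFun h1 a
  change (Pi.single i (1 : ℤ) : Vec l) a = ((u : Mat l).mulVec (Pi.single i 1)) a at h4
  rw [Matrix.mulVec_single_one] at h4
  change (Pi.single i (1 : ℤ) : Vec l) a = (u : Mat l) a i at h4
  rw [← h4, Units.val_one, Matrix.one_apply, Pi.single_apply]

/-- the kernel of the action map is `H` -/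
theorem thetaHom_eq_one_iff (M : CoxeterMatrix (Fin l)) (hM : ∀ i j, M i j = orderOf (V.s i * V.s j))
    (hrel : ∀ i j : Fin l, i < j → (Ni h i * Ni h j) ^ (M i j) ∈ D.diagonalSubgroup F)
    (g : ↥(D.monomialSubgroup F)) :
    thetaHom h B hsimp g = 1 ↔ (g : GL D.Idx F) ∈ D.diagonalSubgroup F := by
  refine ⟨fun hg1 => ?_, thetaHom_of_mem_H h B hsimp g⟩
  obtain ⟨e, he⟩ := V.exists_mulEquiv M hM
  let φ : ↥(D.monomialSubgroup F) →* M.Group := e.symm.toMonoidHom.comp (thetaHom h B hsimp)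
  have hφ : ∀ g, φ g = e.symm (thetaHom h B hsimp g) := fun g => rfl
  have hφNi : ∀ i : Fin l, φ ⟨Ni h i, Ni_mem h B hsimp i⟩ = M.simple i := by
    intro i
    rw [hφ, MulEquiv.symm_apply_eq, he i, thetaHom_Ni]
  have hH : ∀ g : ↥(D.monomialSubgroup F), (g : GL D.Idx F) ∈ D.diagonalSubgroup F → φ g = 1 := by
    intro g hg'
    rw [hφ, thetaHom_of_mem_H h B hsimp g hg', map_one]
  have hn : ((D.diagonalSubgroup F).subgroupOf (D.monomialSubgroup F)).Normal :=
    diagonal_normal_in_monomial h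
  let q : ↥(D.monomialSubgroup F) →*
      ↥(D.monomialSubgroup F) ⧸ (D.diagonalSubgroup F).subgroupOf (D.monomialSubgroup F) :=
    QuotientGroup.mk' _
  have hq : ∀ x : ↥(D.monomialSubgroup F), q x = 1 ↔ (x : GL D.Idx F) ∈ D.diagonalSubgroup F := by
    intro x
    rw [QuotientGroup.mk'_apply, QuotientGroup.eq_one_iff, Subgroup.mem_subgroupOf]
  have hf : M.IsLiftable (fun i : Fin l => q ⟨Ni h i, Ni_mem h B hsimp i⟩) := by
    intro i j
    rw [← map_mul, ← map_pow, hq]
    exact rel_all h B hsimp M hrel i j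
  let ψ := M.toCoxeterSystem.lift ⟨_, hf⟩
  have hψ : ∀ i : Fin l, ψ (M.simple i) = q ⟨Ni h i, Ni_mem h B hsimp i⟩ := fun i =>
    M.toCoxeterSystem.lift_apply_simple hf i
  have hle : Subgroup.closure ((D.diagonalSubgroup F : Set (GL D.Idx F)) ∪
      {g | ∃ i < D.rank, g = Ni h i}) = D.monomialSubgroup F := by
    rw [Subgroup.closure_union, Subgroup.closure_eq, monomial_eq_N0 h, N0]
  have key : ∀ (x : GL D.Idx F), x ∈ Subgroup.closure ((D.diagonalSubgroup F : Set (GL D.Idx F)) ∪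
      {g | ∃ i < D.rank, g = Ni h i}) → ∀ hx : x ∈ D.monomialSubgroup F, q ⟨x, hx⟩ = ψ (φ ⟨x, hx⟩) := by
    intro x hx'
    induction hx' using Subgroup.closure_induction with
    | mem y hy =>
      intro hyN
      rcases hy with hy | ⟨i, hi, rfl⟩
      · rw [hH ⟨y, hyN⟩ hy, map_one]
        exact (hq _).mpr hy
      · have hil : i < l := by rw [← B.rank_eq]; exact hi
        have := hφNi ⟨i, hil⟩
        have e1 : (⟨Ni h i, hyN⟩ : ↥(D.monomialSubgroup F)) = ⟨Ni h ((⟨i, hil⟩ : Fin l) : ℕ), Ni_mem h B hsimp ⟨i, hil⟩⟩ := rfl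
        rw [e1, this, hψ]
    | one =>
      intro h1
      have : (⟨1, h1⟩ : ↥(D.monomialSubgroup F)) = 1 := rfl
      rw [this, map_one, map_one, map_one]
    | mul y z hy hz ihy ihz =>
      intro hyz
      have hyN : y ∈ D.monomialSubgroup F := hle ▸ hy
      have hzN : z ∈ D.monomialSubgroup F := hle ▸ hz
      have : (⟨y * z, hyz⟩ : ↥(D.monomialSubgroup F)) = ⟨y, hyN⟩ * ⟨z, hzN⟩ := rfl
      rw [this, map_mul, map_mul, map_mul, ihy hyN, ihz hzN]
    | inv y hy ihy =>
      intro hyi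
      have hyN : y ∈ D.monomialSubgroup F := hle ▸ hy
      have : (⟨y⁻¹, hyi⟩ : ↥(D.monomialSubgroup F)) = (⟨y, hyN⟩)⁻¹ := rfl
      rw [this, map_inv, map_inv, map_inv, ihy hyN]
  have := key g.1 (by rw [hle]; exact g.2) g.2
  rw [hφ, hg1, map_one, map_one] at this
  exact (hq _).mp this

/-- **`N / H ≅ W`**: the homomorphism `N → W` onto the Coxeter group with kernel `H`. -/
theorem exists_phi (M : CoxeterMatrix (Fin l)) (hM : ∀ i j, M i j = orderOf (V.s i * V.s j))
    (hrel : ∀ i j : Fin l, i < j → (Ni h i * Ni h j) ^ (M i j) ∈ D.diagonalSubgroup F) :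
    ∃ φ : ↥(D.monomialSubgroup F) →* M.Group, Function.Surjective φ ∧
      φ.ker = (D.diagonalSubgroup F).subgroupOf (D.monomialSubgroup F) ∧
      ∀ (i : Fin l) (g : ↥(D.monomialSubgroup F)),
        ((g : GL D.Idx F) : Matrix D.Idx D.Idx F) = D.nMat F (D.simple i) 1 → φ g = M.simple i := by
  obtain ⟨e, he⟩ := V.exists_mulEquiv M hM
  let φ : ↥(D.monomialSubgroup F) →* M.Group := e.symm.toMonoidHom.comp (thetaHom h B hsimp)
  have hφ : ∀ g, φ g = e.symm (thetaHom h B hsimp g) := fun g => rfl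
  have hφNi : ∀ i : Fin l, φ ⟨Ni h i, Ni_mem h B hsimp i⟩ = M.simple i := by
    intro i
    rw [hφ, MulEquiv.symm_apply_eq, he i, thetaHom_Ni]
  refine ⟨φ, ?_, ?_, ?_⟩
  · rw [← MonoidHom.range_eq_top, eq_top_iff, ← M.toCoxeterSystem.subgroup_closure_range_simple,
      Subgroup.closure_le]
    rintro _ ⟨i, rfl⟩
    exact ⟨⟨Ni h i, Ni_mem h B hsimp i⟩, hφNi i⟩
  · ext g
    rw [MonoidHom.mem_ker, Subgroup.mem_subgroupOf, hφ, MulEquiv.symm_apply_eq, map_one]
    exact thetaHom_eq_one_iff h B hsimp M hM hrel g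
  · intro i g hg'
    have : g = ⟨Ni h i, Ni_mem h B hsimp i⟩ := Subtype.ext (eq_ng_of_val h hg')
    rw [this, hφNi]

/-- variant of `exists_phi` with the Coxeter integers given by a function on naturals -/
theorem exists_phi' (M : CoxeterMatrix (Fin l)) (hM : ∀ i j, M i j = orderOf (V.s i * V.s j))
    (mf : ℕ → ℕ → ℕ) (hmf : ∀ i j : Fin l, M i j = mf i j)
    (hrel : ∀ i j : ℕ, i < j → j < l → (Ni h i * Ni h j) ^ (mf i j) ∈ D.diagonalSubgroup F) :
    ∃ φ : ↥(D.monomialSubgroup F) →* M.Group, Function.Surjective φ ∧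
      φ.ker = (D.diagonalSubgroup F).subgroupOf (D.monomialSubgroup F) ∧
      ∀ (i : Fin l) (g : ↥(D.monomialSubgroup F)),
        ((g : GL D.Idx F) : Matrix D.Idx D.Idx F) = D.nMat F (D.simple i) 1 → φ g = M.simple i :=
  exists_phi h B hsimp M hM (fun i j hij => by rw [hmf]; exact hrel i j hij j.2)

end Main

end Cfsg.Agent.Helper6.Chev
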