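import Cfsg.Agent.Lib.Helper7.Weights

set_option autoImplicit false

namespace Cfsg.Agent.Helper6

open Cfsg Cfsg.Agent.Helper7 Finset

/-- the systematic encoder keeps the low twelve bits -/
theorem encMask_low_check :
    (List.range 4096).all (fun a => Nat.beq (encMask a % 4096) a) = true := by
  decide +kernel

theorem encMask_low {a : ℕ} (ha : a < 4096) : encMask a % 4096 = a := by
  have h := List.all_eq_true.mp encMask_low_check a (List.mem_range.2 ha)
  exact Nat.eq_of_beq_eq_true h

/-- the code word attached to `a < 4096` -/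
def cw (a : ℕ) : Finset GolayPt := ofMask (encMask a)

theorem cw_injOn : Set.InjOn cw (↑(range 4096) : Set ℕ) := by
  intro a ha b hb h
  rw [coe_range, Set.mem_Iio] at ha hb
  have h1 := ofMask_injOn _ _ (encMask_lt a) (encMask_lt b) h
  rw [← encMask_low ha, ← encMask_low hb, h1]

theorem supports_eq : supports (golayCode : Set W) = ↑((range 4096).image cw) := by
  ext b
  rw [coe_image, Set.mem_image]
  constructor
  · intro hb
    obtain ⟨a, ha, rfl⟩ := exists_of_mem_code b hb
    exact ⟨a, by simpa using ha, rfl⟩
  · rintro ⟨a, _, rfl⟩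
    exact ofMask_encMask_mem a

theorem wordsOfWeight_eq (n : ℕ) : wordsOfWeight (golayCode : Set W) n =
    ↑(((range 4096).filter (fun a => popcF (encMask a) = n)).image cw) := by
  ext b
  unfold wordsOfWeight
  rw [Set.mem_ofPred_eq, supports_eq]
  simp only [coe_image, Set.mem_image, mem_coe, mem_filter, mem_range]
  constructor
  · rintro ⟨⟨a, ha, rfl⟩, hcard⟩
    refine ⟨a, ⟨ha, ?_⟩, rfl⟩
    rw [← card_ofMask']; exact hcard
  · rintro ⟨a, ⟨ha, hn⟩, rfl⟩
    refine ⟨⟨a, ha, rfl⟩, ?_⟩
    unfold cw
    rw [card_ofMask']; exact hn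

theorem ncard_wordsOfWeight (n : ℕ) : (wordsOfWeight (golayCode : Set W) n).ncard =
    ((List.range 4096).filter (fun a => Nat.beq (popcF (encMask a)) n)).length := by
  rw [wordsOfWeight_eq, Set.ncard_coe_finset, card_image_of_injOn]
  · have : (range 4096).filter (fun a => popcF (encMask a) = n) =
        ((List.range 4096).filter (fun a => Nat.beq (popcF (encMask a)) n)).toFinset := by
      ext a
      simp only [mem_filter, mem_range, List.mem_toFinset, List.mem_filter, List.mem_range]
      constructor
      · rintro ⟨h1, h2⟩; exact ⟨h1, by rw [h2]; exact Nat.beq_refl n⟩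
      · rintro ⟨h1, h2⟩; exact ⟨h1, Nat.eq_of_beq_eq_true h2⟩
    rw [this, List.toFinset_card_of_nodup (List.Nodup.filter _ List.nodup_range)]
  · exact cw_injOn.mono (by intro a ha; simp only [coe_filter, Set.mem_ofPred_eq] at ha; exact ha.1)

theorem count8 : ((List.range 4096).filter (fun a => Nat.beq (popcF (encMask a)) 8)).length = 759 := by
  decide +kernel

theorem count12 :
    ((List.range 4096).filter (fun a => Nat.beq (popcF (encMask a)) 12)).length = 2576 := by
  decide +kernel

theorem octads_ncard : octads.ncard = 759 := by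
  unfold octads
  rw [ncard_wordsOfWeight, count8]

theorem dodecads_ncard : dodecads.ncard = 2576 := by
  unfold dodecads
  rw [ncard_wordsOfWeight, count12]

end Cfsg.Agent.Helper6
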