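import Cfsg.Agent.Lib.Helper6.GolayCount

set_option autoImplicit false

namespace Cfsg.Agent.Helper6

open Cfsg Cfsg.Agent.Helper7 Finset

theorem support₂_add_eq (v w : W) : support₂ (v + w) = symmDiff (support₂ v) (support₂ w) := by
  ext p
  rw [mem_symmDiff, mem_support₂, mem_support₂, mem_support₂, Pi.add_apply]
  generalize v p = a
  generalize w p = b
  revert a b
  decide

theorem supports_symmDiff_mem {b b' : Finset GolayPt} (hb : b ∈ supports (golayCode : Set W))
    (hb' : b' ∈ supports (golayCode : Set W)) : symmDiff b b' ∈ supports (golayCode : Set W) := by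
  obtain ⟨w, hw, rfl⟩ := hb
  obtain ⟨w', hw', rfl⟩ := hb'
  exact ⟨w + w', golayCode.add_mem hw hw', support₂_add_eq w w'⟩

theorem card_symmDiff_add' {α : Type*} [DecidableEq α] (X Y : Finset α) :
    #(symmDiff X Y) + 2 * #(X ∩ Y) = #X + #Y := by
  have h1 : symmDiff X Y = X \ Y ∪ Y \ X := rfl
  have hd : Disjoint (X \ Y) (Y \ X) := by
    rw [disjoint_left]
    intro x hx hx'
    exact (mem_sdiff.1 hx).2 (mem_sdiff.1 hx').1
  rw [h1, card_union_of_disjoint hd]
  have h2 := card_sdiff_add_card_inter X Y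
  have h3 := card_sdiff_add_card_inter Y X
  rw [inter_comm Y X] at h3
  omega

theorem octads_unique {b b' s : Finset GolayPt} (hb : b ∈ octads) (hb' : b' ∈ octads)
    (hs : #s = 5) (hsb : s ⊆ b) (hsb' : s ⊆ b') : b = b' := by
  by_contra hne
  have hd := supports_symmDiff_mem hb.1 hb'.1
  have hne' : symmDiff b b' ≠ ∅ := by
    intro h
    exact hne (symmDiff_eq_empty.1 h)
  have h8 := min_weight _ hd hne'
  have h1 := card_symmDiff_add' b b'
  have h2 : #s ≤ #(b ∩ b') := card_le_card (subset_inter hsb hsb')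
  have h3 : #b = 8 := hb.2
  have h4 : #b' = 8 := hb'.2
  omega

theorem octads_steiner : IsSteinerSystem 5 8 octads := by
  classical
  refine ⟨fun b hb => hb.2, ?_⟩
  have hfin : octads.Finite := Set.toFinite _
  set O := hfin.toFinset with hO
  have hOmem : ∀ b, b ∈ O ↔ b ∈ octads := fun b => Set.Finite.mem_toFinset hfin
  have hOcard : #O = 759 := by
    rw [← octads_ncard, Set.ncard_eq_toFinset_card octads hfin]
  set U := O.biUnion (fun b => b.powersetCard 5) with hU
  have hUcard : #U = 42504 := by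
    rw [hU, card_biUnion]
    · have : ∀ b ∈ O, #(b.powersetCard 5) = 56 := by
        intro b hb
        rw [card_powersetCard, ((hOmem b).1 hb).2]
        decide
      rw [sum_congr rfl this, sum_const, hOcard]
      rfl
    · intro b hb b' hb' hne
      rw [Function.onFun, disjoint_left]
      intro s hs hs'
      rw [mem_powersetCard] at hs hs'
      exact hne (octads_unique ((hOmem b).1 hb) ((hOmem b').1 hb') hs.2 hs.1 hs'.1)
  have hsub : U ⊆ (univ : Finset GolayPt).powersetCard 5 := by
    intro s hs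
    rw [hU, mem_biUnion] at hs
    obtain ⟨b, _, hsb⟩ := hs
    rw [mem_powersetCard] at hsb ⊢
    exact ⟨subset_univ _, hsb.2⟩
  have hcard24 : Fintype.card GolayPt = 24 := by decide
  have hUeq : U = (univ : Finset GolayPt).powersetCard 5 := by
    apply eq_of_subset_of_card_le hsub
    rw [card_powersetCard, card_univ, hcard24, hUcard]
    decide
  intro s hs
  have hsU : s ∈ U := by
    rw [hUeq, mem_powersetCard]
    exact ⟨subset_univ _, hs⟩
  rw [hU, mem_biUnion] at hsU
  obtain ⟨b, hbO, hsb⟩ := hsU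
  rw [mem_powersetCard] at hsb
  refine ⟨b, ⟨(hOmem b).1 hbO, hsb.1⟩, ?_⟩
  rintro b' ⟨hb', hsb'⟩
  exact octads_unique hb' ((hOmem b).1 hbO) hs hsb' hsb.1

end Cfsg.Agent.Helper6
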