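import Cfsg.Agent.Lib.Helper59.F4SuzCard
import Cfsg.Agent.S1026

/-!
# `²F₄`: the `σ`-fixed points of the two class subgroups `X_{p₁}X_{p₄}` and `X_a X_b X_{a+b} X_{2a+b}`
-/

set_option autoImplicit false
set_option linter.unusedSectionVars false
set_option linter.unusedVariables false
set_option maxRecDepth 100000

namespace Cfsg.Agent.Helper6.RF4F

open Cfsg Cfsg.Lie Cfsg.Agent.Helper18 Cfsg.Agent.Helper15.Ree4 Cfsg.Agent.Helper6.ChevGraph.F4

/-! ### kernel checks -/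

theorem chk_28_25 : Helper59.F4Suz.wordEqP chevF4 2 [(28, Helper59.F4Suz.wa), (25, Helper59.F4Suz.wb)]
    [(25, Helper59.F4Suz.wb), (28, Helper59.F4Suz.wa)] = true := by decide +kernel

theorem chk_30_25 : Helper59.F4Suz.wordEqP chevF4 2 [(30, Helper59.F4Suz.wa), (25, Helper59.F4Suz.wb)]
    [(25, Helper59.F4Suz.wb), (30, Helper59.F4Suz.wa)] = true := by decide +kernel

theorem posRoots_F4 : chevF4.posRoots = [24, 25, 26, 27, 28, 29, 30, 31, 32, 33, 34, 35, 36, 37, 38, 39,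
    40, 41, 42, 43, 44, 45, 46, 47] := by decide +kernel

theorem pos_vals : chevF4.IsPosRoot 24 ∧ chevF4.IsPosRoot 25 ∧ chevF4.IsPosRoot 27 ∧ chevF4.IsPosRoot 28 ∧
    chevF4.IsPosRoot 30 ∧ chevF4.IsPosRoot 33 := by decide +kernel

theorem sig_vals4 : sig 25 = 27 ∧ sig 27 = 25 ∧ sig 28 = 30 ∧ sig 30 = 28 ∧ sig 33 = 24 ∧ sig 24 = 33 := by
  decide

theorem short_vals : isShort 25 = false ∧ isShort 27 = true ∧ isShort 28 = true ∧ isShort 30 = false ∧
    isShort 33 = true ∧ isShort 24 = false := by decide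

/-! ### abstract rearrangements -/

theorem grp_key {G : Type*} [Group G] (p q r1 s1 r2 s2 : G) (h : s1 * r2 = r2 * s1) :
    p * q * r1 * s1 * r2 * s2 = p * q * (r1 * r2) * (s1 * s2) := by
  simp only [mul_assoc]
  rw [← mul_assoc s1 r2, h, mul_assoc]

theorem grp_move {G : Type*} [Group G] (q s r p : G) (h1 : r * p = p * r) (h2 : s * p = p * s)
    (h3 : s * r = r * s) : q * s * r * p = q * p * r * s := by
  simp only [mul_assoc]
  rw [h1, ← mul_assoc s p r, h2, mul_assoc, h3]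

section

variable {K : Type*} [Field K] [CharP K 2]

theorem two_zero : (2 : K) = 0 := CharTwo.two_eq_zero

theorem add_self' (x : K) : x + x = 0 := by linear_combination x * (two_zero (K := K))

/-- commutation from a kernel check, for all values of the parameters -/
theorem comm_of_chk (r s : ℕ)
    (h : Helper59.F4Suz.wordEqP chevF4 2 [(r, Helper59.F4Suz.wa), (s, Helper59.F4Suz.wb)]
      [(s, Helper59.F4Suz.wb), (r, Helper59.F4Suz.wa)] = true) (a b : K) :
    xg r a * xg s b = xg s b * xg r a := by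
  by_cases ha : a = 0
  · subst ha; simp [xg_zero]
  by_cases hb : b = 0
  · subst hb; simp [xg_zero]
  have h' := Helper59.F4Suz.wordG_eq_of_wordEqP (Units.mk0 a ha) (Units.mk0 b hb) _ _ h
  simpa [evalWord, Helper59.F4Suz.wa, Helper59.F4Suz.wb, LP.eval, LP.evalMono, wordG] using h'

theorem c_28_25 (c a : K) : xg 28 c * xg 25 a = xg 25 a * xg 28 c := comm_of_chk 28 25 chk_28_25 c a

theorem c_30_25 (d a : K) : xg 30 d * xg 25 a = xg 25 a * xg 30 d := comm_of_chk 30 25 chk_30_25 d a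

theorem c_30_28 (d c : K) : xg 30 d * xg 28 c = xg 28 c * xg 30 d :=
  (comm_pair 28 30 (by simp) c d).symm

/-- the commutator relation with the factors in the other order -/
theorem rel_pos' (s t : K) :
    xg 27 s * xg 25 t = xg 25 t * xg 27 s * xg 28 (s * t) * xg 30 (s ^ 2 * t) := by
  rw [Helper59.F4Suz.rel_pos s t]
  have h := grp_key (xg 27 s) (xg 25 t) (xg 28 (s * t)) (xg 30 (s ^ 2 * t)) (xg 28 (s * t))
    (xg 30 (s ^ 2 * t)) (c_30_28 _ _)
  rw [h, xg_add, xg_add, add_self', add_self', xg_zero, xg_zero, mul_one, mul_one]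

/-- the key rearrangement -/
theorem keyL (t u c d : K) : xg 27 t * xg 25 u * xg 28 c * xg 30 d =
    xg 25 u * xg 27 t * xg 28 (t * u + c) * xg 30 (t ^ 2 * u + d) := by
  rw [rel_pos' t u, grp_key _ _ _ _ _ _ (c_30_28 _ _), xg_add, xg_add]

/-- the normal form of helper18 in terms of the ordered normal form -/
theorem nf_conv (t0 t1 t2 t3 : K) : xg 27 t0 * xg 30 t1 * xg 28 t2 * xg 25 t3 =
    xg 25 t3 * xg 27 t0 * xg 28 (t0 * t3 + t2) * xg 30 (t0 ^ 2 * t3 + t1) := by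
  rw [grp_move _ _ _ _ (c_28_25 _ _) (c_30_25 _ _) (c_30_28 _ _), keyL]

/-! ### uniqueness of the ordered normal form -/

theorem nf_fun_unique (t t' : ℕ → K) (ht : ∀ r, ¬ chevF4.IsPosRoot r → t r = 0)
    (ht' : ∀ r, ¬ chevF4.IsPosRoot r → t' r = 0)
    (h : chevF4.wordMat K (chevF4.posRoots.map fun r => (r, t r)) =
      chevF4.wordMat K (chevF4.posRoots.map fun r => (r, t' r))) : t = t' := by
  obtain ⟨h1, h2⟩ := Cfsg.Agent.S1026.result (F := K) chevF4 (by simp)
  obtain ⟨g, hg, hgm⟩ := h2 t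
  obtain ⟨t0, _, huniq⟩ := h1 g hg
  rw [huniq t ⟨ht, hgm⟩, huniq t' ⟨ht', hgm.trans h⟩]

/-- the coefficient function of the ordered normal form of the class `{p₂, p₃}` -/
def tf (a b c d : K) : ℕ → K := fun r =>
  if r = 25 then a else if r = 27 then b else if r = 28 then c else if r = 30 then d else 0

theorem tf_supp (a b c d : K) : ∀ r, ¬ chevF4.IsPosRoot r → tf a b c d r = 0 := by
  intro r hr
  unfold tf
  split_ifs with h1 h2 h3 h4
  · subst h1; exact absurd pos_vals.2.1 hr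
  · subst h2; exact absurd pos_vals.2.2.1 hr
  · subst h3; exact absurd pos_vals.2.2.2.1 hr
  · subst h4; exact absurd pos_vals.2.2.2.2.1 hr
  · rfl

theorem tf_word (a b c d : K) : chevF4.wordMat K (chevF4.posRoots.map fun r => (r, tf a b c d r)) =
    ((xg 25 a * xg 27 b * xg 28 c * xg 30 d : GL chevF4.Idx K) : Matrix chevF4.Idx chevF4.Idx K) := by
  rw [posRoots_F4]
  simp [ChevalleyDatum.wordMat, tf, Cfsg.Agent.Helper18.x_zero, mul_assoc]

theorem nf_unique {a b c d a' b' c' d' : K}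
    (h : xg 25 a * xg 27 b * xg 28 c * xg 30 d = xg 25 a' * xg 27 b' * xg 28 c' * xg 30 d') :
    a = a' ∧ b = b' ∧ c = c' ∧ d = d' := by
  have h' := nf_fun_unique (tf a b c d) (tf a' b' c' d') (tf_supp _ _ _ _) (tf_supp _ _ _ _)
    (by rw [tf_word, tf_word, h])
  have e25 := congrFun h' 25
  have e27 := congrFun h' 27
  have e28 := congrFun h' 28
  have e30 := congrFun h' 30
  simp [tf] at e25 e27 e28 e30
  exact ⟨e25, e27, e28, e30⟩

/-- the coefficient function of the ordered normal form of the class `{p₁, p₄}` -/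
def tf1 (a b : K) : ℕ → K := fun r => if r = 24 then a else if r = 33 then b else 0

theorem tf1_supp (a b : K) : ∀ r, ¬ chevF4.IsPosRoot r → tf1 a b r = 0 := by
  intro r hr
  unfold tf1
  split_ifs with h1 h2
  · subst h1; exact absurd pos_vals.1 hr
  · subst h2; exact absurd pos_vals.2.2.2.2.2 hr
  · rfl

theorem tf1_word (a b : K) : chevF4.wordMat K (chevF4.posRoots.map fun r => (r, tf1 a b r)) =
    ((xg 24 a * xg 33 b : GL chevF4.Idx K) : Matrix chevF4.Idx chevF4.Idx K) := by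
  rw [posRoots_F4]
  simp [ChevalleyDatum.wordMat, tf1, Cfsg.Agent.Helper18.x_zero]

theorem nf1_unique {a b a' b' : K} (h : xg 24 a * xg 33 b = xg 24 a' * xg 33 b') : a = a' ∧ b = b' := by
  have h' := nf_fun_unique (tf1 a b) (tf1 a' b') (tf1_supp _ _) (tf1_supp _ _)
    (by rw [tf1_word, tf1_word, h])
  have e24 := congrFun h' 24
  have e33 := congrFun h' 33
  simp [tf1] at e24 e33
  exact ⟨e24, e33⟩

end

/-! ### the fixed points -/

section

variable {K : Type*} [Field K] [CharP K 2] {e : ℕ} (FD : FieldData K e)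
  (α : ↥(chevF4.group K) ≃* ↥(chevF4.group K))
  (hα : ∀ (r : Fin chevF4.nroots) (t : K),
      α (ChevGraph.xG goodF4 r.val t) = ChevGraph.xG goodF4 (sig r.val) (if isShort r.val then t ^ 2 else t))

include FD hα

/-- `σ` on the ordered normal form of the class `{p₂, p₃}` -/
theorem sigma_nf (a b c d : K) :
    ((Helper59.F4Suz.sigma FD α (Helper59.F4Suz.XG 25 a * Helper59.F4Suz.XG 27 b *
      Helper59.F4Suz.XG 28 c * Helper59.F4Suz.XG 30 d) : ↥(chevF4.group K)) : GL chevF4.Idx K) =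
    xg 25 ((b ^ e) ^ 2) * xg 27 (a ^ e) * xg 28 (a ^ e * (b ^ e) ^ 2 + d ^ e) *
      xg 30 ((a ^ e) ^ 2 * (b ^ e) ^ 2 + (c ^ e) ^ 2) := by
  rw [map_mul, map_mul, map_mul,
    Helper59.F4Suz.sigma_long FD α hα 25 27 (by norm_num) short_vals.1 sig_vals4.1,
    Helper59.F4Suz.sigma_short FD α hα 27 25 (by norm_num) short_vals.2.1 sig_vals4.2.1,
    Helper59.F4Suz.sigma_short FD α hα 28 30 (by norm_num) short_vals.2.2.1 sig_vals4.2.2.1,
    Helper59.F4Suz.sigma_long FD α hα 30 28 (by norm_num) short_vals.2.2.2.1 sig_vals4.2.2.2.1]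
  simp only [Subgroup.coe_mul, Helper59.F4Suz.XG_val]
  rw [mul_assoc (xg 27 (a ^ e) * xg 25 ((b ^ e) ^ 2)), c_30_28, ← mul_assoc, keyL]

/-- a `σ`-fixed element of `X_a X_b X_{a+b} X_{2a+b}` is a class word -/
theorem fix_J2 (x : ↥(chevF4.group K)) (t0 t1 t2 t3 : K)
    (hx : (x : GL chevF4.Idx K) = xg 27 t0 * xg 30 t1 * xg 28 t2 * xg 25 t3)
    (hfix : Helper59.F4Suz.sigma FD α x = x) :
    ∃ t u : K, (x : GL chevF4.Idx K) =
      xg 27 (t ^ e) * xg 25 t * xg 28 (t ^ (e + 1) + u) * xg 30 (u ^ (2 * e)) := by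
  rw [nf_conv] at hx
  set a := t3
  set b := t0
  set c := t0 * t3 + t2
  set d := t0 ^ 2 * t3 + t1
  have hx' : x = Helper59.F4Suz.XG 25 a * Helper59.F4Suz.XG 27 b * Helper59.F4Suz.XG 28 c *
      Helper59.F4Suz.XG 30 d := by
    apply Subtype.ext
    rw [hx]
    simp only [Subgroup.coe_mul, Helper59.F4Suz.XG_val]
  have h1 := congrArg (Subtype.val) hfix
  rw [hx', sigma_nf FD α hα] at h1
  simp only [Subgroup.coe_mul, Helper59.F4Suz.XG_val] at h1
  obtain ⟨e1, e2, e3, e4⟩ := nf_unique h1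
  refine ⟨a, c, ?_⟩
  rw [hx, keyL]
  have f1 : a ^ e * a + (a ^ (e + 1) + c) = c := by
    have : a ^ e * a + (a ^ (e + 1) + c) = (a ^ (e + 1) + a ^ (e + 1)) + c := by ring
    rw [this, add_self', zero_add]
  have f2 : (a ^ e) ^ 2 * a + c ^ (2 * e) = d := by
    rw [← e4, e1]
    ring
  rw [f1, f2, ← e2]

/-- a `σ`-fixed element of `X_a X_b X_{a+b} X_{2a+b}` lies in `²F₄` -/
theorem fix_J2_mem (x : ↥(chevF4.group K)) (t0 t1 t2 t3 : K)
    (hx : (x : GL chevF4.Idx K) = xg 27 t0 * xg 30 t1 * xg 28 t2 * xg 25 t3)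
    (hfix : Helper59.F4Suz.sigma FD α x = x) : (x : GL chevF4.Idx K) ∈ twistedF4 K e := by
  obtain ⟨t, u, h⟩ := fix_J2 FD α hα x t0 t1 t2 t3 hx hfix
  rw [h]
  exact Helper59.F4Suz.class_mem_pos FD t u

/-- a `σ`-fixed element of `X_{p₁} X_{p₄}` is a pair word -/
theorem fix_J1 (x : ↥(chevF4.group K)) (t0 t1 : K)
    (hx : (x : GL chevF4.Idx K) = xg 33 t0 * xg 24 t1)
    (hfix : Helper59.F4Suz.sigma FD α x = x) :
    ∃ t : K, (x : GL chevF4.Idx K) = xg 33 (t ^ e) * xg 24 t := by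
  have hx' : x = Helper59.F4Suz.XG 33 t0 * Helper59.F4Suz.XG 24 t1 := by
    apply Subtype.ext
    rw [hx]
    simp only [Subgroup.coe_mul, Helper59.F4Suz.XG_val]
  have h1 := congrArg (Subtype.val) hfix
  rw [hx', map_mul,
    Helper59.F4Suz.sigma_short FD α hα 33 24 (by norm_num) short_vals.2.2.2.2.1 sig_vals4.2.2.2.2.1,
    Helper59.F4Suz.sigma_long FD α hα 24 33 (by norm_num) short_vals.2.2.2.2.2 sig_vals4.2.2.2.2.2] at h1
  simp only [Subgroup.coe_mul, Helper59.F4Suz.XG_val] at h1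
  rw [comm_pair 33 24 (by simp) t0 t1] at h1
  obtain ⟨e1, e2⟩ := nf1_unique h1
  refine ⟨t1, ?_⟩
  rw [hx, ← e2]

/-- a `σ`-fixed element of `X_{p₁} X_{p₄}` lies in `²F₄` -/
theorem fix_J1_mem (x : ↥(chevF4.group K)) (t0 t1 : K)
    (hx : (x : GL chevF4.Idx K) = xg 33 t0 * xg 24 t1)
    (hfix : Helper59.F4Suz.sigma FD α x = x) : (x : GL chevF4.Idx K) ∈ twistedF4 K e := by
  obtain ⟨t, h⟩ := fix_J1 FD α hα x t0 t1 hx hfix
  rw [h]
  exact FD.pairP_mem t

end

end Cfsg.Agent.Helper6.RF4F
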