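import Cfsg.Agent.Lib.Helper6.BraidSmall
import Cfsg.Agent.Lib.Helper6.ChevBridge
import Cfsg.Agent.Lib.Helper6.WeylDataF4
import Cfsg.Agent.Lib.Helper6.ChevWeylMap
import Cfsg.Agent.Lib.Helper6.ChevFactsS18
import Cfsg.Agent.S1033

/-!
# `²F₄`: light copy of the `F₄` bridge data and the kernel of the action of `N` on the root lines
-/

set_option autoImplicit false
set_option linter.unusedSectionVars false
set_option linter.unusedVariables false
set_option maxRecDepth 100000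

namespace Cfsg.Agent.Helper6.RF4

open Cfsg Cfsg.Lie Cfsg.Agent.Helper18 Cfsg.Agent.Helper6.Weyl

/-- codes of the coroot vectors of `F4` -/
def crCodesF4 : List ℕ := [25959, 30055, 30311, 25686, 30327, 30583, 34679, 25687, 25703, 26215, 34407, 26231, 34423, 34935, 34951, 30328, 30584, 34680, 26232, 34424, 34936, 30600, 34696, 30856, 39048, 35208, 39304, 34968, 35480, 43672, 35224, 39320, 39576, 34953, 34969, 35481, 43673, 35497, 43689, 44201, 44217, 35225, 39321, 39577, 44218, 39593, 39849, 43945]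

theorem bridgeOKF4 : Chev.bridgeCheck chevF4 F4.vd.A Chev.permF4 crCodesF4 = true := by decide +kernel

/-- the coroot vectors -/
def vecF4 : ℕ → Vec 4 := Chev.codeVec 4 crCodesF4

theorem bridgeF4 : Chev.Bridge chevF4 F4.vd vecF4 :=
  Chev.bridge_of_check chevF4 F4.vd Chev.permF4 crCodesF4 rfl (fun i hi => Chev.permOK_F4 i hi) bridgeOKF4

/-- the Coxeter integers of `F4` -/
def mfF4r (i j : ℕ) : ℕ := lget (lget [[1, 3, 2, 2], [3, 1, 4, 2], [2, 4, 1, 3], [2, 2, 3, 1]] i []) j 0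

theorem mfF4r_eq : ∀ i j : Fin 4, (CoxeterMatrix.F₄) i j = mfF4r i j :=
  Chev.mf_of_check _ _ (by decide +kernel)

theorem hrelF4' {F : Type*} [Field F] (h : Chev.NData F chevF4 Chev.etaF4) (i j : ℕ) (hij : i < j) (hj : j < 4) :
    (Chev.Ni h i * Chev.Ni h j) ^ (mfF4r i j) ∈ chevF4.diagonalSubgroup F := by
  interval_cases j <;> interval_cases i
  · exact Chev.rel_of_check h 0 1 3 [] (by decide) Chev.rel_F4_0_1
  · exact Chev.rel_of_comm h 0 2 (by decide) (by decide) Chev.comm_F4_0_2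
  · exact Chev.rel_of_check h 1 2 4 [1] (by decide) Chev.rel_F4_1_2
  · exact Chev.rel_of_comm h 0 3 (by decide) (by decide) Chev.comm_F4_0_3
  · exact Chev.rel_of_comm h 1 3 (by decide) (by decide) Chev.comm_F4_1_3
  · exact Chev.rel_of_check h 2 3 3 [] (by decide) Chev.rel_F4_2_3

theorem hrelF4 {F : Type*} [Field F] (h : Chev.NData F chevF4 Chev.etaF4) (i j : Fin 4) (hij : i < j) :
    (Chev.Ni h i * Chev.Ni h j) ^ ((CoxeterMatrix.F₄) i j) ∈ chevF4.diagonalSubgroup F := by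
  rw [mfF4r_eq]
  exact hrelF4' h i j hij j.2

theorem hsimpF4 {F : Type*} [Field F] : ∀ j < chevF4.rank, ∀ c : F, c ≠ 0 → chevF4.hMat F (chevF4.simple j) c =
    Matrix.diagonal (Sum.elim (fun _ => (1 : F)) (fun s : Fin chevF4.nroots => c ^ (chevF4.cartan j s))) :=
  fun j hj c hc => Cfsg.Agent.S1033.result _ (by simp) j hj c hc

/-- an element of `N` acting trivially on the root lines lies in `H` -/
theorem mem_H_of_act {F : Type*} [Field F] {g : GL chevF4.Idx F} (hgN : g ∈ chevF4.monomialSubgroup F)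
    (hact : Chev.Act vecF4 (g : Matrix chevF4.Idx chevF4.Idx F) 1) : g ∈ chevF4.diagonalSubgroup F := by
  have h1 : Chev.thetaHom Chev.nData_F4 bridgeF4 hsimpF4 ⟨g, hgN⟩ = 1 := by
    apply Subtype.ext
    rw [Chev.thetaHom_apply]
    exact Chev.theta_eq Chev.nData_F4 bridgeF4 hsimpF4 ⟨g, hgN⟩ hact
  exact (Chev.thetaHom_eq_one_iff Chev.nData_F4 bridgeF4 hsimpF4 CoxeterMatrix.F₄
    (ordersOK_spec F4.vd CoxeterMatrix.F₄ F4.orders_ok) (fun i j hij => hrelF4 _ i j hij) ⟨g, hgN⟩).1 h1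

end Cfsg.Agent.Helper6.RF4
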