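import Cfsg.Agent.Lib.Helper6.RF4I
import Cfsg.Agent.Lib.Helper6.TwistTorus
import Cfsg.Agent.Lib.Helper6.ChevGraphGrp
import Cfsg.Agent.Lib.Helper18.TorusAll

/-!
# `²F₄`: every element of `N` permutes the root subgroups compatibly with its action on the root lines
-/

set_option autoImplicit false
set_option linter.unusedSectionVars false
set_option linter.unusedVariables false
set_option maxRecDepth 100000

namespace Cfsg.Agent.Helper6.RF4

open Cfsg Cfsg.Lie Cfsg.Agent.Helper18 Cfsg.Agent.Helper6.Weyl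

section

variable {K : Type*} [Field K]

/-- root elements of `F₄(K)` -/
noncomputable abbrev xf (r : ℕ) (t : K) : GL chevF4.Idx K := Chev.xg (Chev.nData_F4 (F := K)) r t

/-! ### distinguishing the root subgroups -/

theorem cartan_mod2 : ∀ r : Fin chevF4.nroots, ∃ i : Fin chevF4.rank,
    ((chevF4.cartanSR.getD i.val #[]).getD r.val 0) % 2 ≠ 0 := by decide +kernel

theorem xf_root_inj [CharP K 2] {r r' : ℕ} (hr : r < 48) (hr' : r' < 48) {a b : K} (ha : a ≠ 0)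
    (he : xf r a = xf r' b) : r = r' := by
  by_contra hne
  have he' : chevF4.x K r a = chevF4.x K r' b := congrArg Units.val he
  have e1 := ChevGraph.x_eq_xMat chevF4 (K := K) ⟨r, hr⟩ a
  have e2 := ChevGraph.x_eq_xMat chevF4 (K := K) ⟨r', hr'⟩ b
  simp only at e1 e2
  rw [e1, e2] at he'
  obtain ⟨i, hi⟩ := cartan_mod2 ⟨r, hr⟩
  have h1 := congrFun (congrFun he' (Sum.inr ⟨r, hr⟩)) (Sum.inl i)
  have hne' : (⟨r, hr⟩ : Fin chevF4.nroots) ≠ ⟨r', hr'⟩ := fun h => hne (Fin.mk.inj_iff.1 h)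
  simp only [ChevalleyDatum.xMat, Matrix.of_apply, if_true, if_neg hne'] at h1
  rw [neg_mul, neg_eq_zero, mul_eq_zero] at h1
  rcases h1 with h1 | h1
  · rw [CharP.intCast_eq_zero_iff K 2] at h1
    exact hi (Int.emod_eq_zero_of_dvd h1)
  · exact ha h1

/-! ### the conjugation action -/

/-- conjugation by `g` maps `X_s` onto `X_{p s}` -/
def CA (g : GL chevF4.Idx K) (p : ℕ → ℕ) : Prop :=
  ∀ s < 48, p s < 48 ∧ ∃ c : K, c ≠ 0 ∧ ∀ t : K, g * xf s t * g⁻¹ = xf (p s) (c * t)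

theorem ca_one : CA (1 : GL chevF4.Idx K) id := by
  intro s hs
  exact ⟨hs, 1, one_ne_zero, fun t => by rw [one_mul, inv_one, mul_one, one_mul]; rfl⟩

theorem ca_mul {g g' : GL chevF4.Idx K} {p p' : ℕ → ℕ} (h : CA g p) (h' : CA g' p') :
    CA (g * g') (fun s => p (p' s)) := by
  intro s hs
  obtain ⟨hs', c', hc', h1⟩ := h' s hs
  obtain ⟨hs'', c, hc, h2⟩ := h (p' s) hs'
  refine ⟨hs'', c * c', mul_ne_zero hc hc', fun t => ?_⟩
  calc g * g' * xf s t * (g * g')⁻¹ = g * (g' * xf s t * g'⁻¹) * g⁻¹ := by group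
    _ = xf (p (p' s)) (c * c' * t) := by rw [h1, h2, mul_assoc]

theorem ca_congr {g : GL chevF4.Idx K} {p p' : ℕ → ℕ} (h : CA g p) (he : ∀ s < 48, p s = p' s) :
    CA g p' := by
  intro s hs
  rw [← he s hs]
  exact h s hs

/-- two actions of the same element agree -/
theorem ca_unique [CharP K 2] {g : GL chevF4.Idx K} {p p' : ℕ → ℕ} (h : CA g p) (h' : CA g p') :
    ∀ s < 48, p s = p' s := by
  intro s hs
  obtain ⟨h1, c, hc, h2⟩ := h s hs
  obtain ⟨h1', c', hc', h2'⟩ := h' s hs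
  have := (h2 1).symm.trans (h2' 1)
  exact xf_root_inj h1 h1' (mul_ne_zero hc one_ne_zero) this

/-! ### the torus and the fundamental reflections -/

theorem chi_ne_zero (c : ℕ → Kˣ) (s : ℕ) :
    Cfsg.Agent.Helper18.chi chevF4 (fun i => (c i : K)) s ≠ 0 := by
  unfold Cfsg.Agent.Helper18.chi
  apply List.prod_ne_zero
  intro h0
  obtain ⟨i, _, hi⟩ := List.mem_map.1 h0
  exact zpow_ne_zero _ (c i).ne_zero hi

theorem ca_of_mem_H {g : GL chevF4.Idx K} (hg : g ∈ chevF4.diagonalSubgroup K) : CA g id := by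
  obtain ⟨tbl, hT⟩ := Cfsg.Agent.Helper18.torusData_all chevF4 (by simp)
  obtain ⟨c, rfl⟩ := (Twist.mem_H_iff chevF4 hT (Chev.nData_F4 (F := K)) g).1 hg
  intro s hs
  exact ⟨hs, _, chi_ne_zero c s, fun t =>
    Twist.torHom_conj_xg chevF4 hT (Chev.nData_F4 (F := K)) c s hs t⟩

theorem ca_Ni (i : ℕ) (hi : i < 4) :
    CA (Chev.Ni (Chev.nData_F4 (F := K)) i) (chevF4.reflectRoot i) := by
  intro s hs
  have hη := (Chev.nData_F4 (F := K)).eta_pm i hi s hs
  refine ⟨(Chev.nData_F4 (F := K)).refl_lt i hi s hs, ((Chev.etaF4 i s : ℤ) : K), ?_, fun t => ?_⟩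
  · rcases hη with e | e <;> rw [e] <;> simp
  · exact Chev.conj_xg (Chev.nData_F4 (F := K)) i hi s hs t

theorem Ni_inv_eq (i : ℕ) : (Chev.Ni (Chev.nData_F4 (F := K)) i)⁻¹ =
    Chev.Ni (Chev.nData_F4 (F := K)) i * Chev.hg (Chev.nData_F4 (F := K)) (chevF4.simple i) (-1) := by
  rw [Chev.hg, ← Chev.Ni_inv]
  group

theorem ca_Ni_inv (i : ℕ) (hi : i < 4) :
    CA (Chev.Ni (Chev.nData_F4 (F := K)) i)⁻¹ (chevF4.reflectRoot i) := by
  rw [Ni_inv_eq]
  have h1 : Chev.hg (Chev.nData_F4 (F := K)) (chevF4.simple i) (-1) ∈ chevF4.diagonalSubgroup K :=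
    Chev.hg_mem _ _ ((Chev.nData_F4 (F := K)).simple_lt i hi) _ (neg_ne_zero.mpr one_ne_zero)
  exact ca_mul (ca_Ni i hi) (ca_of_mem_H h1)

/-- the integral matrix `u` and the permutation `p` of the roots are compatible -/
def Compat (u : (Mat 4)ˣ) (p : ℕ → ℕ) : Prop := ∀ s < 48, vecF4 (p s) = u • vecF4 s

/-- the element `g` acts on the root lines and the root subgroups compatibly -/
def QN (g : GL chevF4.Idx K) : Prop :=
  ∃ (u : (Mat 4)ˣ) (p q : ℕ → ℕ), Compat u p ∧ Compat u⁻¹ q ∧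
    Chev.Act2 vecF4 g u ∧ CA g p ∧ CA g⁻¹ q

theorem qn_of_mem_H {g : GL chevF4.Idx K} (hg : g ∈ chevF4.diagonalSubgroup K) : QN g := by
  have hc : Compat 1 id := fun s hs => by rw [id, one_smul]
  exact ⟨1, id, id, hc, by rw [inv_one]; exact hc,
    Chev.act_of_mem_H Chev.nData_F4 bridgeF4 hsimpF4 hg, ca_of_mem_H hg, ca_of_mem_H (inv_mem hg)⟩

theorem qn_Ni (i : ℕ) (hi : i < 4) : QN (Chev.Ni (Chev.nData_F4 (F := K)) i) := by
  have hc : Compat (F4.vd.s ⟨i, hi⟩) (chevF4.reflectRoot i) := fun s hs => bridgeF4.refl ⟨i, hi⟩ s hs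
  exact ⟨F4.vd.s ⟨i, hi⟩, chevF4.reflectRoot i, chevF4.reflectRoot i, hc, by rw [VDatum.s_inv]; exact hc,
    Chev.act2_Ni Chev.nData_F4 bridgeF4 hsimpF4 ⟨i, hi⟩, ca_Ni i hi, ca_Ni_inv i hi⟩

theorem qn_mul {g g' : GL chevF4.Idx K} (h : QN g) (h' : QN g') : QN (g * g') := by
  obtain ⟨u, p, q, hca, hcb, hact, hA, hB⟩ := h
  obtain ⟨u', p', q', hca', hcb', hact', hA', hB'⟩ := h'
  refine ⟨u * u', fun s => p (p' s), fun s => q' (q s), ?_, ?_, Chev.act2_mul vecF4 hact hact',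
    ca_mul hA hA', ?_⟩
  · intro s hs
    rw [hca _ (hA' s hs).1, hca' s hs, mul_smul]
  · intro s hs
    rw [hcb' _ (hB s hs).1, hcb s hs, mul_inv_rev, mul_smul]
  · rw [mul_inv_rev]
    exact ca_mul hB' hB

theorem qn_inv {g : GL chevF4.Idx K} (h : QN g) : QN g⁻¹ := by
  obtain ⟨u, p, q, hca, hcb, hact, hA, hB⟩ := h
  exact ⟨u⁻¹, q, p, hcb, by rw [inv_inv]; exact hca, Chev.act2_inv vecF4 hact, hB,
    by rw [inv_inv]; exact hA⟩

theorem qn_of_mem_N {g : GL chevF4.Idx K} (hg : g ∈ chevF4.monomialSubgroup K) : QN g := by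
  have hle : Subgroup.closure ((chevF4.diagonalSubgroup K : Set (GL chevF4.Idx K)) ∪
      {g | ∃ i < chevF4.rank, g = Chev.Ni (Chev.nData_F4 (F := K)) i}) = chevF4.monomialSubgroup K := by
    rw [Subgroup.closure_union, Subgroup.closure_eq, Chev.monomial_eq_N0 Chev.nData_F4, Chev.N0]
  rw [← hle] at hg
  induction hg using Subgroup.closure_induction with
  | mem y hy =>
    rcases hy with hy | ⟨i, hi, rfl⟩
    · exact qn_of_mem_H hy
    · exact qn_Ni i hi
  | one => exact qn_of_mem_H (one_mem _)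
  | mul y z _ _ hy hz => exact qn_mul hy hz
  | inv y _ hy => exact qn_inv hy

end

end Cfsg.Agent.Helper6.RF4
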