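import Cfsg.Agent.Lib.Helper6.RF4J
import Cfsg.Agent.Lib.Helper6.ChevGraphF4A

/-!
# `²F₄`: the centraliser of the graph symmetry in `W(F₄)` as sixteen permutations of the roots
-/

set_option autoImplicit false
set_option linter.unusedSectionVars false
set_option linter.unusedVariables false
set_option maxRecDepth 100000

namespace Cfsg.Agent.Helper6.RF4

open Cfsg Cfsg.Lie Cfsg.Agent.Helper18 Cfsg.Agent.Helper6.Weyl Cfsg.Agent.Helper6.ChevGraph.F4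

/-- the permutation of the roots coded by a list -/
def T (a : List ℕ) : ℕ → ℕ := fun s => a.getD s 0

/-- the sixteen permutations of the roots commuting with the graph symmetry -/
def tbs : List (List ℕ) :=
  [[30, 5, 23, 28, 32, 46, 25, 11, 14, 37, 9, 40, 13, 35, 39, 4, 21, 0, 27, 3, 18, 31, 6, 45, 2, 41, 16, 29, 44, 20, 47, 26, 43, 8, 12, 34, 7, 38, 10, 33, 36, 22, 1, 15, 19, 24, 42, 17],
   [42, 17, 24, 36, 43, 47, 26, 19, 33, 38, 10, 44, 20, 29, 39, 15, 22, 1, 34, 7, 12, 41, 16, 45, 2, 31, 6, 35, 40, 13, 46, 25, 32, 8, 18, 27, 3, 37, 9, 14, 28, 21, 0, 4, 11, 23, 30, 5],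
   [17, 1, 15, 19, 24, 42, 22, 7, 10, 33, 8, 36, 12, 34, 38, 2, 16, 0, 20, 3, 18, 26, 6, 43, 4, 41, 21, 29, 44, 27, 47, 31, 45, 9, 13, 35, 11, 39, 14, 37, 40, 25, 5, 23, 28, 32, 46, 30],
   [46, 30, 32, 40, 45, 47, 31, 28, 37, 39, 14, 44, 27, 29, 38, 23, 25, 5, 35, 11, 13, 41, 21, 43, 4, 26, 6, 34, 36, 12, 42, 22, 24, 9, 18, 20, 3, 33, 8, 10, 19, 16, 0, 2, 7, 15, 17, 1],
   [47, 42, 43, 44, 45, 46, 41, 36, 38, 39, 33, 40, 34, 35, 37, 24, 26, 17, 29, 19, 20, 31, 22, 32, 15, 25, 16, 27, 28, 18, 30, 21, 23, 10, 12, 13, 7, 14, 8, 9, 11, 6, 1, 2, 3, 4, 5, 0],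
   [5, 0, 4, 11, 23, 30, 21, 3, 9, 14, 8, 28, 18, 27, 37, 2, 6, 1, 13, 7, 12, 25, 16, 32, 15, 31, 22, 35, 40, 34, 46, 41, 45, 10, 20, 29, 19, 39, 33, 38, 44, 26, 17, 24, 36, 43, 47, 42],
   [47, 46, 45, 44, 43, 42, 41, 40, 39, 38, 37, 36, 35, 34, 33, 32, 31, 30, 29, 28, 27, 26, 25, 24, 23, 22, 21, 20, 19, 18, 17, 16, 15, 14, 13, 12, 11, 10, 9, 8, 7, 6, 5, 4, 3, 2, 1, 0],
   [1, 0, 2, 7, 15, 17, 16, 3, 8, 10, 9, 19, 18, 20, 33, 4, 6, 5, 12, 11, 13, 22, 21, 24, 23, 26, 25, 34, 36, 35, 42, 41, 43, 14, 27, 29, 28, 38, 37, 39, 44, 31, 30, 32, 40, 45, 47, 46],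
   [46, 47, 45, 40, 32, 30, 31, 44, 39, 37, 38, 28, 29, 27, 14, 43, 41, 42, 35, 36, 34, 25, 26, 23, 24, 21, 22, 13, 11, 12, 5, 6, 4, 33, 20, 18, 19, 9, 10, 8, 3, 16, 17, 15, 7, 2, 0, 1],
   [0, 1, 2, 3, 4, 5, 6, 7, 8, 9, 10, 11, 12, 13, 14, 15, 16, 17, 18, 19, 20, 21, 22, 23, 24, 25, 26, 27, 28, 29, 30, 31, 32, 33, 34, 35, 36, 37, 38, 39, 40, 41, 42, 43, 44, 45, 46, 47],
   [42, 47, 43, 36, 24, 17, 26, 44, 38, 33, 39, 19, 29, 20, 10, 45, 41, 46, 34, 40, 35, 22, 31, 15, 32, 16, 25, 12, 7, 13, 1, 6, 2, 37, 27, 18, 28, 8, 14, 9, 3, 21, 30, 23, 11, 4, 0, 5],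
   [0, 5, 4, 3, 2, 1, 6, 11, 9, 8, 14, 7, 13, 12, 10, 23, 21, 30, 18, 28, 27, 16, 25, 15, 32, 22, 31, 20, 19, 29, 17, 26, 24, 37, 35, 34, 40, 33, 39, 38, 36, 41, 46, 45, 44, 43, 42, 47],
   [1, 17, 15, 7, 2, 0, 16, 19, 10, 8, 33, 3, 20, 18, 9, 24, 22, 42, 12, 36, 34, 6, 26, 4, 43, 21, 41, 13, 11, 35, 5, 25, 23, 38, 29, 27, 44, 14, 39, 37, 28, 31, 47, 45, 40, 32, 30, 46],
   [30, 46, 32, 28, 23, 5, 25, 40, 37, 14, 39, 11, 35, 13, 9, 45, 31, 47, 27, 44, 29, 21, 41, 4, 43, 6, 26, 18, 3, 20, 0, 16, 2, 38, 34, 12, 36, 8, 33, 10, 7, 22, 42, 24, 19, 15, 1, 17],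
   [5, 30, 23, 11, 4, 0, 21, 28, 14, 9, 37, 3, 27, 18, 8, 32, 25, 46, 13, 40, 35, 6, 31, 2, 45, 16, 41, 12, 7, 34, 1, 22, 15, 39, 29, 20, 44, 10, 38, 33, 19, 26, 47, 43, 36, 24, 17, 42],
   [17, 42, 24, 19, 15, 1, 22, 36, 33, 10, 38, 7, 34, 12, 8, 43, 26, 47, 20, 44, 29, 16, 41, 2, 45, 6, 31, 18, 3, 27, 0, 21, 4, 39, 35, 13, 40, 9, 37, 14, 11, 25, 46, 32, 28, 23, 5, 30]]
/-- their images in the dihedral group -/
def dts : List (DihedralGroup 8) :=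
  [DihedralGroup.r 6, DihedralGroup.sr 6, DihedralGroup.sr 7, DihedralGroup.r 5, DihedralGroup.sr 5, DihedralGroup.r 7, DihedralGroup.r 4, DihedralGroup.sr 0, DihedralGroup.sr 4, DihedralGroup.r 0, DihedralGroup.r 3, DihedralGroup.sr 1, DihedralGroup.r 1, DihedralGroup.sr 3, DihedralGroup.sr 2, DihedralGroup.r 2]

/-- the image of a table in the dihedral group -/
def psi (a : List ℕ) : DihedralGroup 8 := dts.getD (tbs.idxOf a) 1

/-- the coroot vectors, as a table -/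
def VL : List (List ℤ) :=
  [[-1, -2, -3, -2], [-1, -2, -3, -1], [-1, -2, -2, -1], [-2, -3, -4, -2], [-1, -1, -2, -1], [-1, -1, -1, -1], [-1, -1, -1, 0], [-1, -3, -4, -2], [-1, -2, -4, -2], [-1, -2, -2, -2], [-1, -2, -2, 0], [-1, -1, -2, -2], [-1, -1, -2, 0], [-1, -1, 0, 0], [-1, 0, 0, 0], [0, -1, -2, -1], [0, -1, -1, -1], [0, -1, -1, 0], [0, -1, -2, -2], [0, -1, -2, 0], [0, -1, 0, 0], [0, 0, -1, -1], [0, 0, -1, 0], [0, 0, 0, -1], [0, 0, 0, 1], [0, 0, 1, 0], [0, 0, 1, 1], [0, 1, 0, 0], [0, 1, 2, 0], [0, 1, 2, 2], [0, 1, 1, 0], [0, 1, 1, 1], [0, 1, 2, 1], [1, 0, 0, 0], [1, 1, 0, 0], [1, 1, 2, 0], [1, 1, 2, 2], [1, 2, 2, 0], [1, 2, 2, 2], [1, 2, 4, 2], [1, 3, 4, 2], [1, 1, 1, 0], [1, 1, 1, 1], [1, 1, 2, 1], [2, 3, 4, 2], [1, 2, 2, 1], [1, 2, 3, 1], [1, 2, 3, 2]]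

/-- fast access to the coordinates of the coroot vectors -/
def vq (s k : ℕ) : ℤ := (VL.getD s []).getD k 0

theorem vq_eq : ∀ s < 48, ∀ k : Fin 4, vecF4 s k = vq s k := by decide +kernel

/-- the image of the root `s` under the linear map given on the fundamental roots by `r1, r2, sig r2, sig r1` -/
def lq (r1 r2 s k : ℕ) : ℤ :=
  vq s 0 * vq r1 k + vq s 1 * vq r2 k + vq s 2 * vq (sig r2) k + vq s 3 * vq (sig r1) k

theorem tbs_lt : ∀ a ∈ tbs, ∀ s < 48, T a s < 48 := by decide +kernel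

theorem tbs_mul : ∀ a ∈ tbs, ∀ b ∈ tbs, ∃ c ∈ tbs, (∀ s < 48, T c s = T a (T b s)) ∧ psi c = psi a * psi b := by
  decide +kernel

theorem tbs_ext : ∀ c ∈ tbs, ∀ c' ∈ tbs, (∀ s < 48, T c s = T c' s) → c = c' := by decide +kernel

theorem psi_one : ∀ a ∈ tbs, psi a = 1 → ∀ s < 48, T a s = s := by decide +kernel

theorem tbs_id : ∃ a ∈ tbs, (∀ s < 48, T a s = s) ∧ psi a = 1 := by decide +kernel

/-- kernel check: the candidates for the images of the first two fundamental roots -/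
def findChk : Bool :=
  (List.range 48).all fun r1 => (List.range 48).all fun r2 => (List.range 48).all fun w =>
    (!(((List.range 4).all fun k => vq w k == lq r1 r2 40 k) &&
      ((List.range 4).all fun k => vq (sig w) k == lq r1 r2 46 k))) ||
    tbs.any fun a => T a 33 == r1 && T a 27 == r2

theorem findChk_ok : findChk = true := by decide +kernel

theorem tbs_find (r1 : ℕ) (hr1 : r1 < 48) (r2 : ℕ) (hr2 : r2 < 48) (w : ℕ) (hw : w < 48)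
    (h1 : ∀ k < 4, vq w k = lq r1 r2 40 k) (h2 : ∀ k < 4, vq (sig w) k = lq r1 r2 46 k) :
    ∃ a ∈ tbs, T a 33 = r1 ∧ T a 27 = r2 := by
  have h := findChk_ok
  rw [findChk, List.all_eq_true] at h
  have h' := h r1 (List.mem_range.2 hr1)
  rw [List.all_eq_true] at h'
  have h'' := h' r2 (List.mem_range.2 hr2)
  rw [List.all_eq_true] at h''
  have h3 := h'' w (List.mem_range.2 hw)
  rw [Bool.or_eq_true] at h3
  rcases h3 with h3 | h3
  · exfalso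
    rw [Bool.not_eq_true', Bool.and_eq_false_iff] at h3
    rcases h3 with h3 | h3
    · have : ((List.range 4).all fun k => vq w k == lq r1 r2 40 k) = true := by
        rw [List.all_eq_true]
        intro k hk
        rw [beq_iff_eq]
        exact h1 k (List.mem_range.1 hk)
      rw [this] at h3
      exact Bool.noConfusion h3
    · have : ((List.range 4).all fun k => vq (sig w) k == lq r1 r2 46 k) = true := by
        rw [List.all_eq_true]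
        intro k hk
        rw [beq_iff_eq]
        exact h2 k (List.mem_range.1 hk)
      rw [this] at h3
      exact Bool.noConfusion h3
  · obtain ⟨a, ha, hh⟩ := List.any_eq_true.1 h3
    rw [Bool.and_eq_true, beq_iff_eq, beq_iff_eq] at hh
    exact ⟨a, ha, hh⟩

theorem tbs_lin : ∀ a ∈ tbs, ∀ s < 48, ∀ k < 4, vq (T a s) k = lq (T a 33) (T a 27) s k := by decide +kernel

theorem vq_inj : ∀ s < 48, ∀ s' < 48, (∀ k < 4, vq s k = vq s' k) → s = s' := by decide +kernel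

theorem sig_lt48 : ∀ s < 48, sig s < 48 := by decide +kernel

theorem sig_vals : sig 40 = 46 ∧ sig 33 = 24 ∧ sig 27 = 25 := by decide

theorem simple_vals : chevF4.simple 0 = 33 ∧ chevF4.simple 1 = 27 ∧ chevF4.simple 2 = 25 ∧
    chevF4.simple 3 = 24 := by decide

end Cfsg.Agent.Helper6.RF4
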