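import Cfsg.Agent.Lib.Helper6.RF4K
import Cfsg.Agent.Lib.Helper59.F4SuzCard

/-!
# `²F₄`: the permutation of the roots attached to an element of `N¹` is one of the sixteen tables
-/

set_option autoImplicit false
set_option linter.unusedSectionVars false
set_option linter.unusedVariables false
set_option maxRecDepth 100000

namespace Cfsg.Agent.Helper6.RF4

open Cfsg Cfsg.Lie Cfsg.Agent.Helper18 Cfsg.Agent.Helper6.Weyl Cfsg.Agent.Helper6.ChevGraph.F4

theorem simple_lt48 : ∀ i : Fin 4, chevF4.simple i < 48 := by decide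

/-- the columns of `u` are the images of the fundamental roots -/
theorem compat_col {u : (Mat 4)ˣ} {p : ℕ → ℕ} (hc : Compat u p) (j a : Fin 4) :
    (u : Mat 4) a j = vecF4 (p (chevF4.simple j)) a := by
  have hlt := simple_lt48 j
  have h1 := hc (chevF4.simple j) hlt
  rw [bridgeF4.simple j] at h1
  have h4 := congrFun h1 a
  change vecF4 (p (chevF4.simple j)) a = ((u : Mat 4).mulVec (Pi.single j 1)) a at h4
  rw [Matrix.mulVec_single_one] at h4
  exact h4.symm

/-- a compatible permutation commuting with the graph symmetry is linear in the images of the first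
two fundamental roots -/
theorem compat_lin {u : (Mat 4)ˣ} {p : ℕ → ℕ} (hc : Compat u p) (hp : ∀ s < 48, p s < 48)
    (hcomm : ∀ s < 48, p (sig s) = sig (p s)) :
    ∀ s < 48, ∀ k < 4, vq (p s) k = lq (p 33) (p 27) s k := by
  intro s hs k hk
  have h1 := congrFun (hc s hs) ⟨k, hk⟩
  change vecF4 (p s) ⟨k, hk⟩ = ((u : Mat 4).mulVec (vecF4 s)) ⟨k, hk⟩ at h1
  rw [Matrix.mulVec, dotProduct, Fin.sum_univ_four] at h1
  simp only [compat_col hc] at h1
  have e0 : chevF4.simple ((0 : Fin 4) : ℕ) = 33 := simple_vals.1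
  have e1 : chevF4.simple ((1 : Fin 4) : ℕ) = 27 := simple_vals.2.1
  have e2 : chevF4.simple ((2 : Fin 4) : ℕ) = 25 := simple_vals.2.2.1
  have e3 : chevF4.simple ((3 : Fin 4) : ℕ) = 24 := simple_vals.2.2.2
  rw [e0, e1, e2, e3] at h1
  have c25 : p 25 = sig (p 27) := by
    have := hcomm 27 (by norm_num)
    rwa [sig_vals.2.2] at this
  have c24 : p 24 = sig (p 33) := by
    have := hcomm 33 (by norm_num)
    rwa [sig_vals.2.1] at this
  rw [c25, c24] at h1
  have hp33 := hp 33 (by norm_num)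
  have hp27 := hp 27 (by norm_num)
  rw [vq_eq (p s) (hp s hs) ⟨k, hk⟩, vq_eq (p 33) hp33 ⟨k, hk⟩, vq_eq (p 27) hp27 ⟨k, hk⟩,
    vq_eq (sig (p 27)) (sig_lt48 _ hp27) ⟨k, hk⟩, vq_eq (sig (p 33)) (sig_lt48 _ hp33) ⟨k, hk⟩,
    vq_eq s hs 0, vq_eq s hs 1, vq_eq s hs 2, vq_eq s hs 3] at h1
  rw [h1, lq]
  simp only [Fin.val_zero, Fin.val_one, Fin.val_two]
  ring_nf
  rfl

/-- a compatible permutation commuting with the graph symmetry is one of the sixteen tables -/
theorem table_of_comm {u : (Mat 4)ˣ} {p : ℕ → ℕ} (hc : Compat u p) (hp : ∀ s < 48, p s < 48)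
    (hcomm : ∀ s < 48, p (sig s) = sig (p s)) :
    ∃ a ∈ tbs, ∀ s < 48, p s = T a s := by
  have hl := compat_lin hc hp hcomm
  have h46 : sig (p 40) = p 46 := by
    have := hcomm 40 (by norm_num)
    rw [sig_vals.1] at this
    exact this.symm
  obtain ⟨a, ha, h33, h27⟩ := tbs_find (p 33) (hp 33 (by norm_num)) (p 27) (hp 27 (by norm_num))
    (p 40) (hp 40 (by norm_num)) (hl 40 (by norm_num)) (by rw [h46]; exact hl 46 (by norm_num))
  refine ⟨a, ha, fun s hs => ?_⟩
  apply vq_inj _ (hp s hs) _ (tbs_lt a ha s hs)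
  intro k hk
  rw [hl s hs k hk, tbs_lin a ha s hs k hk, h33, h27]

theorem compat_id {u : (Mat 4)ˣ} {p : ℕ → ℕ} (hc : Compat u p) (hp : ∀ s < 48, p s = s) : u = 1 := by
  apply Units.ext
  ext a i
  rw [compat_col hc i a, hp _ (simple_lt48 i), bridgeF4.simple i, Units.val_one, Matrix.one_apply,
    Pi.single_apply]

theorem dih_gen : ∀ d : DihedralGroup 8, ∃ k : Fin 8,
    d = (DihedralGroup.sr 0 * DihedralGroup.sr 1) ^ (k : ℕ) ∨
    d = DihedralGroup.sr 0 * (DihedralGroup.sr 0 * DihedralGroup.sr 1) ^ (k : ℕ) := by decide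

section

variable {K : Type*} [Field K] [CharP K 2] {e : ℕ} (FD : Helper15.Ree4.FieldData K e)
  (α : ↥(chevF4.group K) ≃* ↥(chevF4.group K))
  (hα : ∀ (r : Fin chevF4.nroots) (t : K),
      α (ChevGraph.xG goodF4 r.val t) = ChevGraph.xG goodF4 (sig r.val) (if isShort r.val then t ^ 2 else t))

include FD hα

/-- the permutation attached to a `σ`-fixed element commutes with the graph symmetry -/
theorem ca_comm {g : GL chevF4.Idx K} (hg : g ∈ twistedF4 K e) {p : ℕ → ℕ} (hp : CA g p) :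
    ∀ s < 48, p (sig s) = sig (p s) := by
  intro s hs
  obtain ⟨hgG, hfix⟩ := Helper59.F4Suz.twisted_fixed FD α hα g hg
  obtain ⟨hps, c, hc, h1⟩ := hp s hs
  obtain ⟨hps', c', hc', h2⟩ := hp (sig s) (sig_lt48 s hs)
  have e1 : (⟨g, hgG⟩ : ↥(chevF4.group K)) * Helper59.F4Suz.XG s 1 * (⟨g, hgG⟩)⁻¹ =
      Helper59.F4Suz.XG (p s) c := by
    apply Subtype.ext
    rw [Subgroup.coe_mul, Subgroup.coe_mul, Subgroup.coe_inv, Helper59.F4Suz.XG_val,
      Helper59.F4Suz.XG_val, ← Helper59.F4Suz.xg_eq, ← Helper59.F4Suz.xg_eq]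
    have := h1 1
    rwa [mul_one] at this
  have e2 := congrArg (Helper59.F4Suz.sigma FD α) e1
  rw [map_mul, map_mul, map_inv, hfix, Helper59.F4Suz.sigma_XG FD α hα s hs,
    Helper59.F4Suz.sigma_XG FD α hα (p s) hps] at e2
  have e3 := congrArg (Subtype.val) e2
  rw [Subgroup.coe_mul, Subgroup.coe_mul, Subgroup.coe_inv, Helper59.F4Suz.XG_val,
    Helper59.F4Suz.XG_val, ← Helper59.F4Suz.xg_eq, ← Helper59.F4Suz.xg_eq] at e3
  have hone : (if isShort s then ((1 : K) ^ e) ^ 2 else (1 : K) ^ e) = (1 : K) := by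
    split_ifs <;> simp
  rw [hone, h2 1, mul_one] at e3
  exact xf_root_inj hps' (sig_lt48 _ hps) hc' e3

/-- the table of an element of `N¹` -/
theorem exists_table {g : GL chevF4.Idx K} (hgN : g ∈ chevF4.monomialSubgroup K) (hg : g ∈ twistedF4 K e) :
    ∃ a ∈ tbs, CA g (T a) ∧ ∃ u : (Mat 4)ˣ, Compat u (T a) ∧ Chev.Act2 vecF4 g u := by
  obtain ⟨u, p, q, hca, hcb, hact, hA, hB⟩ := qn_of_mem_N hgN
  obtain ⟨a, ha, hpa⟩ := table_of_comm hca (fun s hs => (hA s hs).1) (ca_comm FD α hα hg hA)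
  refine ⟨a, ha, ca_congr hA hpa, u, fun s hs => ?_, hact⟩
  rw [← hpa s hs]
  exact hca s hs

omit FD hα in
theorem table_unique {g : GL chevF4.Idx K} {a a' : List ℕ} (ha : a ∈ tbs) (ha' : a' ∈ tbs)
    (h : CA g (T a)) (h' : CA g (T a')) : a = a' :=
  tbs_ext a ha a' ha' (ca_unique h h')

/-- `N¹ / H¹` is dihedral of order 16, given two elements of `N¹` acting as the two generators -/
theorem exists_hom_of_gens (nA nB : GL chevF4.Idx K)
    (hAN : nA ∈ chevF4.monomialSubgroup K) (hA : nA ∈ twistedF4 K e)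
    (hBN : nB ∈ chevF4.monomialSubgroup K) (hB : nB ∈ twistedF4 K e)
    (a b : List ℕ) (ha : a ∈ tbs) (hb : b ∈ tbs) (hca : CA nA (T a)) (hcb : CA nB (T b))
    (hpa : psi a = DihedralGroup.sr 0) (hpb : psi b = DihedralGroup.sr 1) :
    ∃ φ : ↥(chevF4.monomialSubgroup K ⊓ twistedF4 K e) →* DihedralGroup 8,
      Function.Surjective φ ∧
      φ.ker = (chevF4.diagonalSubgroup K ⊓ twistedF4 K e).subgroupOf
        (chevF4.monomialSubgroup K ⊓ twistedF4 K e) := by
  classical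
  have hex : ∀ g : ↥(chevF4.monomialSubgroup K ⊓ twistedF4 K e), ∃ c, c ∈ tbs ∧
      CA (g : GL chevF4.Idx K) (T c) := fun g => by
    obtain ⟨c, hc, h1, _⟩ := exists_table FD α hα g.2.1 g.2.2
    exact ⟨c, hc, h1⟩
  choose tab htab1 htab2 using hex
  have hmul : ∀ g g', psi (tab (g * g')) = psi (tab g) * psi (tab g') := by
    intro g g'
    obtain ⟨c, hc, hc1, hc2⟩ := tbs_mul (tab g) (htab1 g) (tab g') (htab1 g')
    have h1 : CA ((g * g' : ↥(chevF4.monomialSubgroup K ⊓ twistedF4 K e)) : GL chevF4.Idx K) (T c) := by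
      rw [Subgroup.coe_mul]
      exact ca_congr (ca_mul (htab2 g) (htab2 g')) (fun s hs => (hc1 s hs).symm)
    rw [table_unique (htab1 (g * g')) hc (htab2 (g * g')) h1, hc2]
  let φ : ↥(chevF4.monomialSubgroup K ⊓ twistedF4 K e) →* DihedralGroup 8 :=
    MonoidHom.mk' (fun g => psi (tab g)) hmul
  have hφ : ∀ g, φ g = psi (tab g) := fun g => rfl
  refine ⟨φ, ?_, ?_⟩
  · -- surjectivity
    let gA : ↥(chevF4.monomialSubgroup K ⊓ twistedF4 K e) := ⟨nA, hAN, hA⟩
    let gB : ↥(chevF4.monomialSubgroup K ⊓ twistedF4 K e) := ⟨nB, hBN, hB⟩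
    have hφA : φ gA = DihedralGroup.sr 0 := by
      rw [hφ, table_unique (htab1 gA) ha (htab2 gA) hca, hpa]
    have hφB : φ gB = DihedralGroup.sr 1 := by
      rw [hφ, table_unique (htab1 gB) hb (htab2 gB) hcb, hpb]
    intro d
    obtain ⟨k, hk | hk⟩ := dih_gen d
    · exact ⟨(gA * gB) ^ (k : ℕ), by rw [map_pow, map_mul, hφA, hφB, hk]⟩
    · exact ⟨gA * (gA * gB) ^ (k : ℕ), by rw [map_mul, map_pow, map_mul, hφA, hφB, hk]⟩
  · ext g
    rw [MonoidHom.mem_ker, Subgroup.mem_subgroupOf, hφ]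
    constructor
    · intro h
      have hid := psi_one (tab g) (htab1 g) h
      obtain ⟨c, hc, h1, u, hcu, hact⟩ := exists_table FD α hα g.2.1 g.2.2
      have hcc : c = tab g := table_unique hc (htab1 g) h1 (htab2 g)
      rw [hcc] at hcu
      have hu : u = 1 := compat_id hcu hid
      rw [hu] at hact
      exact ⟨mem_H_of_act g.2.1 hact.1, g.2.2⟩
    · intro h
      obtain ⟨a0, ha0, hid, hp0⟩ := tbs_id
      have h1 : CA (g : GL chevF4.Idx K) (T a0) :=
        ca_congr (ca_of_mem_H h.1) (fun s hs => (hid s hs).symm)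
      rw [table_unique (htab1 g) ha0 (htab2 g) h1, hp0]

end

end Cfsg.Agent.Helper6.RF4
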