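import Cfsg.Agent.Lib.Helper6.RF4L

/-!
# `²F₄`: two elements of `N¹` generating `W¹`, and `N¹ / H¹ ≅ D₁₆`
-/

set_option autoImplicit false
set_option linter.unusedSectionVars false
set_option linter.unusedVariables false
set_option maxRecDepth 100000

namespace Cfsg.Agent.Helper6.RF4

open Cfsg Cfsg.Lie Cfsg.Agent.Helper18 Cfsg.Agent.Helper6.Weyl Cfsg.Agent.Helper6.ChevGraph.F4

/-- `n_{p₁}(1) n_{p₄}(1)` as a word -/
def wA1 : List (ℕ × LP) :=
  [(33, Helper59.F4Suz.kq 1), (14, Helper59.F4Suz.kq 1), (33, Helper59.F4Suz.kq 1),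
   (24, Helper59.F4Suz.kq 1), (23, Helper59.F4Suz.kq 1), (24, Helper59.F4Suz.kq 1)]

/-- the same element as a product of three generators of the twisted group -/
def wA2 : List (ℕ × LP) :=
  [(33, Helper59.F4Suz.kq 1), (24, Helper59.F4Suz.kq 1), (14, Helper59.F4Suz.kq 1),
   (23, Helper59.F4Suz.kq 1), (33, Helper59.F4Suz.kq 1), (24, Helper59.F4Suz.kq 1)]

theorem chkA : Helper59.F4Suz.wordEqP chevF4 2 wA1 wA2 = true := by decide +kernel

/-- `(n_{p₂}(1) n_{p₃}(1))²` as a word -/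
def wB1 : List (ℕ × LP) :=
  [(27, Helper59.F4Suz.kq 1), (20, Helper59.F4Suz.kq 1), (27, Helper59.F4Suz.kq 1),
   (25, Helper59.F4Suz.kq 1), (22, Helper59.F4Suz.kq 1), (25, Helper59.F4Suz.kq 1),
   (27, Helper59.F4Suz.kq 1), (20, Helper59.F4Suz.kq 1), (27, Helper59.F4Suz.kq 1),
   (25, Helper59.F4Suz.kq 1), (22, Helper59.F4Suz.kq 1), (25, Helper59.F4Suz.kq 1)]

theorem chkB : Helper59.F4Suz.wordEqP chevF4 2 wB1 (Helper59.F4Suz.wS1inv 27 25 28 30 19 17) = true := by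
  decide +kernel

theorem tabA : ∃ a ∈ tbs, (∀ s < 48, T a s = chevF4.reflectRoot 0 (chevF4.reflectRoot 3 s)) ∧
    psi a = DihedralGroup.sr 0 := by decide +kernel

theorem tabB : ∃ a ∈ tbs, (∀ s < 48, T a s = chevF4.reflectRoot 1 (chevF4.reflectRoot 2
    (chevF4.reflectRoot 1 (chevF4.reflectRoot 2 s)))) ∧ psi a = DihedralGroup.sr 1 := by decide +kernel

theorem f4_vals : chevF4.simple 0 = 33 ∧ chevF4.simple 1 = 27 ∧ chevF4.simple 2 = 25 ∧
    chevF4.simple 3 = 24 ∧ chevF4.neg 33 = 14 ∧ chevF4.neg 27 = 20 ∧ chevF4.neg 25 = 22 ∧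
    chevF4.neg 24 = 23 := by decide

section

variable {K : Type*} [Field K] [CharP K 2] {e : ℕ} (FD : Helper15.Ree4.FieldData K e)

/-- the first generator of `W¹` -/
noncomputable def nA : GL chevF4.Idx K :=
  Chev.Ni (Chev.nData_F4 (F := K)) 0 * Chev.Ni (Chev.nData_F4 (F := K)) 3

/-- the second generator of `W¹` -/
noncomputable def nB : GL chevF4.Idx K :=
  (Chev.Ni (Chev.nData_F4 (F := K)) 1 * Chev.Ni (Chev.nData_F4 (F := K)) 2) *
  (Chev.Ni (Chev.nData_F4 (F := K)) 1 * Chev.Ni (Chev.nData_F4 (F := K)) 2)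

theorem Ni_mem_N (i : ℕ) (hi : i < 4) :
    Chev.Ni (Chev.nData_F4 (F := K)) i ∈ chevF4.monomialSubgroup K :=
  Chev.ng_one_mem _ _ ((Chev.nData_F4 (F := K)).simple_lt i hi)

theorem nA_mem_N : (nA : GL chevF4.Idx K) ∈ chevF4.monomialSubgroup K :=
  mul_mem (Ni_mem_N 0 (by norm_num)) (Ni_mem_N 3 (by norm_num))

theorem nB_mem_N : (nB : GL chevF4.Idx K) ∈ chevF4.monomialSubgroup K :=
  mul_mem (mul_mem (Ni_mem_N 1 (by norm_num)) (Ni_mem_N 2 (by norm_num)))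
    (mul_mem (Ni_mem_N 1 (by norm_num)) (Ni_mem_N 2 (by norm_num)))

theorem ca_nA : CA (nA : GL chevF4.Idx K)
    (fun s => chevF4.reflectRoot 0 (chevF4.reflectRoot 3 s)) :=
  ca_mul (ca_Ni 0 (by norm_num)) (ca_Ni 3 (by norm_num))

theorem ca_nB : CA (nB : GL chevF4.Idx K)
    (fun s => chevF4.reflectRoot 1 (chevF4.reflectRoot 2 (chevF4.reflectRoot 1 (chevF4.reflectRoot 2 s)))) := by
  have h12 : CA (Chev.Ni (Chev.nData_F4 (F := K)) 1 * Chev.Ni (Chev.nData_F4 (F := K)) 2)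
      (fun s => chevF4.reflectRoot 1 (chevF4.reflectRoot 2 s)) :=
    ca_mul (ca_Ni 1 (by norm_num)) (ca_Ni 2 (by norm_num))
  have h := ca_mul h12 h12
  exact h

include FD

theorem nA_eq : (nA : GL chevF4.Idx K) =
    Helper15.Ree4.wordG (evalWord (1 : Kˣ) 1 wA1) := by
  have h1 : (-(1 : K)⁻¹) = 1 := by rw [inv_one, FD.neg_eq]
  simp only [nA, Chev.Ni, Chev.ng, f4_vals.1, f4_vals.2.2.2.1, f4_vals.2.2.2.2.1,
    f4_vals.2.2.2.2.2.2.2, Helper59.F4Suz.xg_eq, h1]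
  simp [evalWord, wA1, Helper59.F4Suz.kq, LP.eval, LP.evalMono, Helper15.Ree4.wordG,
    mul_assoc]

theorem nB_eq : (nB : GL chevF4.Idx K) =
    Helper15.Ree4.wordG (evalWord (1 : Kˣ) 1 wB1) := by
  have h1 : (-(1 : K)⁻¹) = 1 := by rw [inv_one, FD.neg_eq]
  simp only [nB, Chev.Ni, Chev.ng, f4_vals.2.1, f4_vals.2.2.1, f4_vals.2.2.2.2.2.1,
    f4_vals.2.2.2.2.2.2.1, Helper59.F4Suz.xg_eq, h1]
  simp [evalWord, wB1, Helper59.F4Suz.kq, LP.eval, LP.evalMono, Helper15.Ree4.wordG,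
    mul_assoc]

theorem nA_mem_twisted : (nA : GL chevF4.Idx K) ∈ twistedF4 K e := by
  rw [nA_eq FD, Helper59.F4Suz.wordG_eq_of_wordEqP (1 : Kˣ) 1 _ _ chkA]
  have e1 : Helper15.Ree4.wordG (evalWord (1 : Kˣ) 1 wA2) =
      (Helper15.Ree4.xg 33 ((1 : K) ^ e) * Helper15.Ree4.xg 24 1) *
      (Helper15.Ree4.xg 14 ((1 : K) ^ e) * Helper15.Ree4.xg 23 1) *
      (Helper15.Ree4.xg 33 ((1 : K) ^ e) * Helper15.Ree4.xg 24 1) := by
    simp [evalWord, wA2, Helper59.F4Suz.kq, LP.eval, LP.evalMono, Helper15.Ree4.wordG,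
      mul_assoc]
  rw [e1]
  exact mul_mem (mul_mem (FD.pairP_mem 1) (FD.pairN_mem 1)) (FD.pairP_mem 1)

theorem nB_mem_twisted : (nB : GL chevF4.Idx K) ∈ twistedF4 K e := by
  rw [nB_eq FD, Helper59.F4Suz.wordG_eq_of_wordEqP (1 : Kˣ) 1 _ _ chkB]
  exact Helper59.F4Suz.wS1inv_mem FD 1 1

end

section

variable {K : Type*} [Field K] [CharP K 2] {e : ℕ} (FD : Helper15.Ree4.FieldData K e)
  (α : ↥(chevF4.group K) ≃* ↥(chevF4.group K))
  (hα : ∀ (r : Fin chevF4.nroots) (t : K),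
      α (ChevGraph.xG goodF4 r.val t) = ChevGraph.xG goodF4 (sig r.val) (if isShort r.val then t ^ 2 else t))

include FD hα

/-- `N¹ / H¹` is dihedral of order 16 -/
theorem exists_hom_N1 :
    ∃ φ : ↥(chevF4.monomialSubgroup K ⊓ twistedF4 K e) →* DihedralGroup 8,
      Function.Surjective φ ∧
      φ.ker = (chevF4.diagonalSubgroup K ⊓ twistedF4 K e).subgroupOf
        (chevF4.monomialSubgroup K ⊓ twistedF4 K e) := by
  obtain ⟨a, ha, ha1, ha2⟩ := tabA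
  obtain ⟨b, hb, hb1, hb2⟩ := tabB
  exact exists_hom_of_gens FD α hα nA nB nA_mem_N (nA_mem_twisted FD) nB_mem_N (nB_mem_twisted FD)
    a b ha hb (ca_congr ca_nA (fun s hs => (ha1 s hs).symm))
    (ca_congr ca_nB (fun s hs => (hb1 s hs).symm)) ha2 hb2

end

end Cfsg.Agent.Helper6.RF4
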