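import Cfsg.Agent.Lib.Helper59.F4SuzChk

/-!
# `²F₄`: two kernel-checked relations in `F₄(K)`, characteristic 2

* `[x₂₇(1) x₂₅(1) x₂₈(1), x₃₅(a) x₃₁(b) x₄₀(ab)] = x₃₇(a) x₃₂(b)`;
* `(x₂₇(1) x₂₅(1) x₂₈(1))⁴ = 1`.
-/

set_option autoImplicit false
set_option maxRecDepth 100000

namespace Cfsg.Agent.Helper6.RF4S

open Cfsg Cfsg.Lie Cfsg.Agent.Helper18 Cfsg.Agent.Helper59.F4Suz

/-- `x₂₇(1) x₂₅(1) x₂₈(1)` -/
def wQ1 : List (ℕ × LP) := [(27, kq 1), (25, kq 1), (28, kq 1)]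

/-- its inverse (characteristic 2) -/
def wQ1i : List (ℕ × LP) := [(28, kq 1), (25, kq 1), (27, kq 1)]

/-- `x₃₅(a) x₃₁(b) x₄₀(ab)` -/
def wQ6c : List (ℕ × LP) := [(35, wa), (31, wb), (40, [(1, 1, 1)])]

/-- its inverse (characteristic 2) -/
def wQ6ci : List (ℕ × LP) := [(40, [(1, 1, 1)]), (31, wb), (35, wa)]

theorem chkC : wordEqP chevF4 2 (wQ1 ++ wQ6c ++ wQ1i ++ wQ6ci) [(37, wa), (32, wb)] = true := by
  decide +kernel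

theorem chkQ4 : wordEqP chevF4 2 (wQ1 ++ wQ1 ++ wQ1 ++ wQ1) [] = true := by
  decide +kernel

end Cfsg.Agent.Helper6.RF4S
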