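import Cfsg.Agent.Lib.Helper6.RF4M
import Cfsg.Agent.Lib.Helper6.RF4S
import Cfsg.Agent.Lib.Helper59.F4SuzCard
import Cfsg.Agent.Lib.Helper15.Ree4.Perfect

/-!
# `²F₄(2^(2m+1))` is generated by two elements: the abstract argument
-/

set_option autoImplicit false
set_option linter.unusedSectionVars false
set_option linter.unusedVariables false
set_option maxRecDepth 100000

namespace Cfsg.Agent.Helper6.RF4T

open Cfsg Cfsg.Lie Cfsg.Agent.Helper18 Cfsg.Agent.Helper15.Ree4 Cfsg.Agent.Helper59.F4Suz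
open Cfsg.Agent.Helper6.RF4 Cfsg.Agent.Helper6.RF4S

section

variable {K : Type*} [Field K] [CharP K 2]

/-- conjugation by `n_i` in characteristic 2 -/
theorem conj2_Ni (i : ℕ) (hi : i < 4) (s : ℕ) (hs : s < 48) (t : K) :
    Chev.Ni (Chev.nData_F4 (F := K)) i * xg s t * (Chev.Ni (Chev.nData_F4 (F := K)) i)⁻¹ =
      xg (chevF4.reflectRoot i s) t := by
  have h := Chev.conj_xg (Chev.nData_F4 (F := K)) i hi s hs t
  rw [xg_eq, xg_eq] at h
  rw [h]
  congr 1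
  rcases (Chev.nData_F4 (F := K)).eta_pm i hi s hs with e | e <;> rw [e]
  · simp
  · simp [CharTwo.neg_eq]

/-- a product of fundamental reflections -/
noncomputable def nList (l : List ℕ) : GL chevF4.Idx K :=
  (l.map (Chev.Ni (Chev.nData_F4 (F := K)))).prod

theorem nList_append (l l' : List ℕ) : (nList (l ++ l') : GL chevF4.Idx K) = nList l * nList l' := by
  simp [nList]

theorem foldr_lt (l : List ℕ) (hl : ∀ i ∈ l, i < 4) (s : ℕ) (hs : s < 48) :
    l.foldr chevF4.reflectRoot s < 48 := by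
  induction l with
  | nil => simpa using hs
  | cons i l ih =>
    have hi : i < 4 := hl i List.mem_cons_self
    have hl' : ∀ j ∈ l, j < 4 := fun j hj => hl j (List.mem_cons_of_mem _ hj)
    rw [List.foldr_cons]
    exact (Chev.nData_F4 (F := ℚ)).refl_lt i hi _ (ih hl')

theorem conj_nList (l : List ℕ) (hl : ∀ i ∈ l, i < 4) (s : ℕ) (hs : s < 48) (t : K) :
    nList l * xg s t * (nList l : GL chevF4.Idx K)⁻¹ = xg (l.foldr chevF4.reflectRoot s) t := by
  induction l with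
  | nil => simp [nList]
  | cons i l ih =>
    have hi : i < 4 := hl i List.mem_cons_self
    have hl' : ∀ j ∈ l, j < 4 := fun j hj => hl j (List.mem_cons_of_mem _ hj)
    have e1 : (nList (i :: l) : GL chevF4.Idx K) =
        Chev.Ni (Chev.nData_F4 (F := K)) i * nList l := by simp [nList]
    rw [e1, List.foldr_cons]
    calc Chev.Ni (Chev.nData_F4 (F := K)) i * nList l * xg s t *
          (Chev.Ni (Chev.nData_F4 (F := K)) i * nList l)⁻¹
        = Chev.Ni (Chev.nData_F4 (F := K)) i * (nList l * xg s t * (nList l)⁻¹) *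
          (Chev.Ni (Chev.nData_F4 (F := K)) i)⁻¹ := by group
      _ = _ := by rw [ih hl', conj2_Ni i hi _ (foldr_lt l hl' s hs)]

/-- the list of `n = n_A n_B` -/
def l6 : List ℕ := [0, 3, 1, 2, 1, 2]

theorem l6_lt : ∀ i ∈ l6, i < 4 := by decide

theorem l24_lt : ∀ i ∈ l6 ++ l6 ++ l6 ++ l6, i < 4 := by decide

theorem n_eq : (nA * nB : GL chevF4.Idx K) = nList l6 := by
  simp [nList, l6, nA, nB, mul_assoc]

theorem n4_eq : ((nA * nB) ^ 4 : GL chevF4.Idx K) = nList (l6 ++ l6 ++ l6 ++ l6) := by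
  rw [nList_append, nList_append, nList_append, ← n_eq]
  simp [pow_succ, mul_assoc]

theorem conj_n (s : ℕ) (hs : s < 48) (t : K) :
    (nA * nB) * xg s t * (nA * nB : GL chevF4.Idx K)⁻¹ = xg (l6.foldr chevF4.reflectRoot s) t := by
  rw [n_eq]
  exact conj_nList l6 l6_lt s hs t

theorem conj_n4 (s : ℕ) (hs : s < 48) (t : K) :
    (nA * nB) ^ 4 * xg s t * ((nA * nB : GL chevF4.Idx K) ^ 4)⁻¹ =
      xg ((l6 ++ l6 ++ l6 ++ l6).foldr chevF4.reflectRoot s) t := by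
  rw [n4_eq]
  exact conj_nList _ l24_lt s hs t

theorem pi_vals : l6.foldr chevF4.reflectRoot 35 = 27 ∧ l6.foldr chevF4.reflectRoot 31 = 25 ∧
    l6.foldr chevF4.reflectRoot 40 = 28 ∧ l6.foldr chevF4.reflectRoot 37 = 14 ∧
    l6.foldr chevF4.reflectRoot 32 = 23 := by decide

theorem pi4_vals : (l6 ++ l6 ++ l6 ++ l6).foldr chevF4.reflectRoot 14 = 33 ∧
    (l6 ++ l6 ++ l6 ++ l6).foldr chevF4.reflectRoot 23 = 24 ∧
    (l6 ++ l6 ++ l6 ++ l6).foldr chevF4.reflectRoot 27 = 20 ∧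
    (l6 ++ l6 ++ l6 ++ l6).foldr chevF4.reflectRoot 25 = 22 ∧
    (l6 ++ l6 ++ l6 ++ l6).foldr chevF4.reflectRoot 28 = 19 ∧
    (l6 ++ l6 ++ l6 ++ l6).foldr chevF4.reflectRoot 30 = 17 := by decide

end


/-! ### The Suzuki closure -/

section

variable {K : Type*} [Field K] {e : ℕ} (FD : FieldData K e)

include FD

theorem theta_surj (y : K) : ∃ x : K, x ^ e = y :=
  ⟨(y ^ e) ^ 2, by rw [← pow_mul, mul_comm 2 e, pow_mul]; exact FD.sq y⟩

theorem add_ne_zero_of_ne {x y : K} (h : x ≠ y) : y + x ≠ 0 := by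
  intro h0
  apply h
  have : x = -y := by linear_combination h0
  rw [this, FD.neg_eq]

/-- if all `Q(c, 0)`, `c ≠ 0`, lie in `M`, then all `Q(t, u)` do -/
theorem suz_closure (hK : ∀ a b c d : K, ∃ x : K, x ≠ a ∧ x ≠ b ∧ x ≠ c ∧ x ≠ d)
    (M : Subgroup (GL chevF4.Idx K)) (hM : ∀ c : K, c ≠ 0 → FD.Q FD.sideP c 0 ∈ M) :
    ∀ t u : K, FD.Q FD.sideP t u ∈ M := by
  have h1 : ∀ t τ : K, τ ≠ 0 → τ ≠ t → FD.Q FD.sideP t (τ ^ e * t) ∈ M := by
    intro t τ hτ hτt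
    have hs : t + τ ≠ 0 := add_ne_zero_of_ne FD hτt
    have hν0 : (t + τ) / τ ≠ 0 := div_ne_zero hs hτ
    have key := FD.key_step FD.sideP (Units.mk0 _ hν0) (Units.mk0 τ hτ)
    simp only [Units.val_mk0] at key
    have e1 : (t + τ) / τ * τ = t + τ := by field_simp
    have e2 : τ * ((t + τ) / τ + 1) = t := by
      have : τ * ((t + τ) / τ + 1) = (t + τ) + τ := by field_simp
      rw [this]
      linear_combination τ * FD.h2
    have e3 : τ ^ e * τ * ((t + τ) / τ + 1) = τ ^ e * t := by rw [mul_assoc, e2]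
    rw [e1, e2, e3] at key
    rw [← key]
    exact mul_mem (inv_mem (hM τ hτ)) (hM (t + τ) hs)
  have h2 : ∀ w : K, FD.Z FD.sideP w ∈ M := by
    intro w
    obtain ⟨σ, hσ⟩ := theta_surj FD w
    obtain ⟨τ, h0, h1', hs, hs1⟩ := hK 0 1 σ (1 + σ)
    have hτ' : τ + σ ≠ 0 := by
      intro h
      apply hs
      have : τ = -σ := by linear_combination h
      rw [this, FD.neg_eq]
    have hτ'1 : τ + σ ≠ 1 := by
      intro h
      apply hs1
      have : τ = 1 + -σ := by linear_combination h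
      rw [this, FD.neg_eq]
    have a := h1 1 τ h0 h1'
    have b := h1 1 (τ + σ) hτ' hτ'1
    have d := FD.Q_decomp FD.sideP 1 (τ ^ e * 1) ((τ + σ) ^ e * 1)
    have e1 : τ ^ e * 1 + (τ + σ) ^ e * 1 = w := by
      rw [FD.add, ← hσ]
      linear_combination τ ^ e * FD.h2
    rw [e1] at d
    have e2 : FD.Z FD.sideP w =
        (FD.Q FD.sideP 1 ((τ + σ) ^ e * 1))⁻¹ * FD.Q FD.sideP 1 (τ ^ e * 1) := by
      rw [d]; group
    rw [e2]
    exact mul_mem (inv_mem b) a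
  intro t u
  by_cases ht : t = 0
  · subst ht
    rw [FD.Q_zero]
    exact h2 u
  obtain ⟨τ, h0, ht', -, -⟩ := hK 0 t 0 0
  rw [FD.Q_decomp FD.sideP t u (τ ^ e * t)]
  exact mul_mem (h1 t τ h0 ht') (h2 _)

/-- `h(λ)` lies in any subgroup containing the pairs -/
theorem hl_mem_of (L : Subgroup (GL chevF4.Idx K))
    (hP : ∀ t : K, xg 33 (t ^ e) * xg 24 t ∈ L) (hN : ∀ t : K, xg 14 (t ^ e) * xg 23 t ∈ L)
    (l : Kˣ) : FD.hl l ∈ L := by
  unfold FieldData.hl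
  rw [Hh_eq]
  have a1 : xg 33 (((l ^ e : Kˣ) : K)) * xg 24 (l : K) ∈ L := by
    rw [Units.val_pow_eq_pow_val]
    exact hP _
  have a2 : xg 14 (-(((l ^ e : Kˣ)⁻¹ : Kˣ) : K)) * xg 23 (-((l⁻¹ : Kˣ) : K)) ∈ L := by
    have := hN ((l⁻¹ : Kˣ) : K)
    have e1 : (((l ^ e : Kˣ)⁻¹ : Kˣ) : K) = (((l⁻¹ : Kˣ) : K)) ^ e := by
      rw [← inv_pow, Units.val_pow_eq_pow_val]
    rw [FD.neg_eq, FD.neg_eq, e1]
    exact this
  have a3 : xg 33 (-1 : K) * xg 24 (-1 : K) ∈ L := by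
    have := hP (1 : K)
    rw [one_pow] at this
    rw [FD.neg_eq]
    exact this
  have a4 : xg 14 (1 : K) * xg 23 (1 : K) ∈ L := by
    have := hN (1 : K)
    rw [one_pow] at this
    exact this
  exact mul_mem (mul_mem (mul_mem (mul_mem (mul_mem a1 a2) a1) a3) a4) a3

end


/-! ### The generation argument -/

section

variable {K : Type*} [Field K] [CharP K 2] {e : ℕ} (FD : FieldData K e)

/-- `Q(1, 0) = x₂₇(1) x₂₅(1) x₂₈(1)` -/
noncomputable def Q1 : GL chevF4.Idx K := xg 27 1 * xg 25 1 * xg 28 1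

/-- the elements `x₃₅(c^θ) x₃₁(c) x₄₀(c^θ c)` -/
noncomputable def q6c (e : ℕ) (c : K) : GL chevF4.Idx K :=
  xg 35 (c ^ e) * xg 31 c * xg 40 (c ^ e * c)

theorem Q1_pow4 : (Q1 : GL chevF4.Idx K) * Q1 * Q1 * Q1 = 1 := by
  have h := wordG_eq_of_wordEqP (1 : Kˣ) 1 _ _ chkQ4
  simpa [evalWord, wQ1, kq, LP.eval, LP.evalMono, wordG, mul_assoc, Q1] using h

theorem comm_rel (a b : Kˣ) :
    (Q1 : GL chevF4.Idx K) * (xg 35 (a : K) * xg 31 (b : K) * xg 40 ((a : K) * b)) *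
      (xg 28 1 * xg 25 1 * xg 27 1) * (xg 40 ((a : K) * b) * xg 31 (b : K) * xg 35 (a : K)) =
      xg 37 (a : K) * xg 32 (b : K) := by
  have h := wordG_eq_of_wordEqP a b _ _ chkC
  simpa [evalWord, wQ1, wQ1i, wQ6c, wQ6ci, wa, wb, kq, LP.eval, LP.evalMono, wordG, mul_assoc, Q1]
    using h

include FD

theorem Q1_inv : (Q1 : GL chevF4.Idx K)⁻¹ = xg 28 1 * xg 25 1 * xg 27 1 := by
  unfold Q1
  rw [mul_inv_rev, mul_inv_rev, xg_inv, xg_inv, xg_inv, FD.neg_eq, mul_assoc]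

theorem q6c_inv (c : K) :
    (q6c e c : GL chevF4.Idx K)⁻¹ = xg 40 (c ^ e * c) * xg 31 c * xg 35 (c ^ e) := by
  unfold q6c
  rw [mul_inv_rev, mul_inv_rev, xg_inv, xg_inv, xg_inv, FD.neg_eq, FD.neg_eq, FD.neg_eq, mul_assoc]

theorem Q_one_zero : FD.Q FD.sideP (1 : K) 0 = Q1 := by
  unfold FieldData.Q Q1
  rw [zero_pow FD.epos, zero_pow two_ne_zero, xg_zero, one_pow, mul_one, add_zero, mul_one]
  rfl

/-- the main step: a subgroup containing `z Q(1,0)` and `n` contains the twisted group -/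
theorem twisted_le (hK : ∀ a b c d : K, ∃ x : K, x ≠ a ∧ x ≠ b ∧ x ≠ c ∧ x ≠ d)
    (z : GL chevF4.Idx K) (ζ : K)
    (hgen : ∀ c : K, c ≠ 0 → ∃ k : ℕ, c = ζ ^ k)
    (hz27 : ∀ t : K, z * xg 27 t * z⁻¹ = xg 27 t)
    (hz25 : ∀ t : K, z * xg 25 t * z⁻¹ = xg 25 t)
    (hz28 : ∀ t : K, z * xg 28 t * z⁻¹ = xg 28 t)
    (hz35 : ∀ t : K, z * xg 35 t * z⁻¹ = xg 35 (ζ ^ e * t))
    (hz31 : ∀ t : K, z * xg 31 t * z⁻¹ = xg 31 (ζ * t))
    (hz40 : ∀ t : K, z * xg 40 t * z⁻¹ = xg 40 (ζ ^ e * ζ * t))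
    (N : ℕ) (hN : z ^ N = 1) (hN4 : N % 4 = 3)
    (L : Subgroup (GL chevF4.Idx K)) (ha : z * Q1 ∈ L) (hb : (nA * nB : GL chevF4.Idx K) ∈ L) :
    twistedF4 K e ≤ L := by
  -- `z` commutes with `Q(1,0)`
  have hc : ∀ r : ℕ, (∀ t : K, z * xg r t * z⁻¹ = xg r t) → ∀ t : K, Commute z (xg r t) := by
    intro r h t
    have := h t
    rw [mul_inv_eq_iff_eq_mul] at this
    exact this
  have hcz : Commute z (Q1 : GL chevF4.Idx K) :=
    ((hc 27 hz27 1).mul_right (hc 25 hz25 1)).mul_right (hc 28 hz28 1)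
  -- `Q(1,0)` and `z` lie in `L`
  have hQ4 : (Q1 : GL chevF4.Idx K) ^ 4 = 1 := by
    rw [pow_succ, pow_succ, pow_succ, pow_one]
    exact Q1_pow4
  have hQ3 : (Q1 : GL chevF4.Idx K) ^ 3 ∈ L := by
    have h1 : (z * Q1) ^ N ∈ L := pow_mem ha N
    rw [hcz.mul_pow, hN, one_mul] at h1
    have h2 : N = 4 * (N / 4) + 3 := by omega
    rw [h2, pow_add, pow_mul, hQ4, one_pow, one_mul] at h1
    exact h1
  have hQ1 : (Q1 : GL chevF4.Idx K) ∈ L := by
    have h1 : (Q1 : GL chevF4.Idx K) = ((Q1 : GL chevF4.Idx K) ^ 3)⁻¹ := by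
      rw [eq_inv_iff_mul_eq_one, ← pow_succ']
      exact hQ4
    rw [h1]
    exact inv_mem hQ3
  have hz : z ∈ L := by
    have h1 : z = z * Q1 * (Q1 : GL chevF4.Idx K)⁻¹ := by group
    rw [h1]
    exact mul_mem ha (inv_mem hQ1)
  -- conjugation by `n`
  have hconj : ∀ g x : GL chevF4.Idx K, g ∈ L → x ∈ L → g * x * g⁻¹ ∈ L :=
    fun g x hg hx => mul_mem (mul_mem hg hx) (inv_mem hg)
  obtain ⟨p35, p31, p40, p37, p32⟩ := pi_vals
  obtain ⟨p14, p23, p27, p25, p28, p30⟩ := pi4_vals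
  -- `q₆(1) ∈ L`
  have hq1 : (q6c e (1 : K) : GL chevF4.Idx K) ∈ L := by
    have h1 : (nA * nB) * q6c e (1 : K) * (nA * nB : GL chevF4.Idx K)⁻¹ = Q1 := by
      have e1 : (nA * nB) * q6c e (1 : K) * (nA * nB : GL chevF4.Idx K)⁻¹ =
          ((nA * nB) * xg 35 ((1 : K) ^ e) * (nA * nB : GL chevF4.Idx K)⁻¹) *
          ((nA * nB) * xg 31 (1 : K) * (nA * nB : GL chevF4.Idx K)⁻¹) *
          ((nA * nB) * xg 40 ((1 : K) ^ e * 1) * (nA * nB : GL chevF4.Idx K)⁻¹) := by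
        unfold q6c; group
      rw [e1, conj_n 35 (by norm_num), conj_n 31 (by norm_num), conj_n 40 (by norm_num),
        p35, p31, p40, one_pow, one_mul]
      rfl
    have h2 : (q6c e (1 : K) : GL chevF4.Idx K) =
        (nA * nB : GL chevF4.Idx K)⁻¹ * Q1 * ((nA * nB : GL chevF4.Idx K)⁻¹)⁻¹ := by
      rw [← h1]; group
    rw [h2]
    exact hconj _ _ (inv_mem hb) hQ1
  -- `q₆(c) ∈ L`
  have hzq : ∀ c : K, z * q6c e c * z⁻¹ = q6c e (ζ * c) := by
    intro c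
    have e1 : z * q6c e c * z⁻¹ =
        (z * xg 35 (c ^ e) * z⁻¹) * (z * xg 31 c * z⁻¹) * (z * xg 40 (c ^ e * c) * z⁻¹) := by
      unfold q6c; group
    rw [e1, hz35, hz31, hz40]
    unfold q6c
    rw [mul_pow]
    congr 2
    ring
  have hqk : ∀ k : ℕ, (q6c e (ζ ^ k) : GL chevF4.Idx K) ∈ L := by
    intro k
    induction k with
    | zero => rw [pow_zero]; exact hq1
    | succ k ih =>
      rw [pow_succ', ← hzq]
      exact hconj _ _ hz ih
  -- the pairs at `37, 32`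
  have hP7 : ∀ c : K, xg 37 (c ^ e) * xg 32 c ∈ L := by
    intro c
    by_cases hc0 : c = 0
    · subst hc0
      rw [zero_pow FD.epos, xg_zero, xg_zero, one_mul]
      exact one_mem L
    obtain ⟨k, hk⟩ := hgen c hc0
    have h1 := comm_rel (K := K) ((Units.mk0 c hc0) ^ e) (Units.mk0 c hc0)
    rw [Units.val_pow_eq_pow_val, Units.val_mk0] at h1
    rw [← h1]
    have h2 : xg 35 (c ^ e) * xg 31 c * xg 40 (c ^ e * c) = q6c e c := rfl
    rw [h2, ← Q1_inv FD, ← q6c_inv FD]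
    have h3 : (q6c e c : GL chevF4.Idx K) ∈ L := by rw [hk]; exact hqk k
    exact mul_mem (mul_mem (mul_mem hQ1 h3) (inv_mem hQ1)) (inv_mem h3)
  -- the negative pairs
  have hPN : ∀ c : K, xg 14 (c ^ e) * xg 23 c ∈ L := by
    intro c
    have e1 : (nA * nB) * (xg 37 (c ^ e) * xg 32 c) * (nA * nB : GL chevF4.Idx K)⁻¹ =
        ((nA * nB) * xg 37 (c ^ e) * (nA * nB : GL chevF4.Idx K)⁻¹) *
        ((nA * nB) * xg 32 c * (nA * nB : GL chevF4.Idx K)⁻¹) := by group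
    have h1 := hconj _ _ hb (hP7 c)
    rw [e1, conj_n 37 (by norm_num), conj_n 32 (by norm_num), p37, p32] at h1
    exact h1
  have hb4 : ((nA * nB : GL chevF4.Idx K)) ^ 4 ∈ L := pow_mem hb 4
  -- the positive pairs
  have hPP : ∀ c : K, xg 33 (c ^ e) * xg 24 c ∈ L := by
    intro c
    have e1 : (nA * nB) ^ 4 * (xg 14 (c ^ e) * xg 23 c) * ((nA * nB : GL chevF4.Idx K) ^ 4)⁻¹ =
        ((nA * nB) ^ 4 * xg 14 (c ^ e) * ((nA * nB : GL chevF4.Idx K) ^ 4)⁻¹) *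
        ((nA * nB) ^ 4 * xg 23 c * ((nA * nB : GL chevF4.Idx K) ^ 4)⁻¹) := by group
    have h1 := hconj _ _ hb4 (hPN c)
    rw [e1, conj_n4 14 (by norm_num), conj_n4 23 (by norm_num), p14, p23] at h1
    exact h1
  -- the torus
  have hhl : ∀ l : Kˣ, FD.hl l ∈ L := hl_mem_of FD L hPP hPN
  -- the positive class
  have hQc : ∀ c : K, c ≠ 0 → FD.Q FD.sideP c 0 ∈ L := by
    intro c hc0
    have h1 := FD.conj_Q FD.sideP (Units.mk0 c hc0) 1 0
    rw [Units.val_mk0, mul_one, mul_zero, MulAut.conj_apply, Q_one_zero FD] at h1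
    rw [← h1]
    exact hconj _ _ (hhl _) hQ1
  have hQall : ∀ t u : K, FD.Q FD.sideP t u ∈ L := suz_closure FD hK L hQc
  -- the negative class
  have hQneg : ∀ t u : K, FD.Q FD.sideN t u ∈ L := by
    intro t u
    have h1 := hconj _ _ hb4 (hQall t u)
    have e1 : (nA * nB) ^ 4 * FD.Q FD.sideP t u * ((nA * nB : GL chevF4.Idx K) ^ 4)⁻¹ =
        ((nA * nB) ^ 4 * xg 27 (t ^ e) * ((nA * nB : GL chevF4.Idx K) ^ 4)⁻¹) *
        ((nA * nB) ^ 4 * xg 25 t * ((nA * nB : GL chevF4.Idx K) ^ 4)⁻¹) *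
        ((nA * nB) ^ 4 * xg 28 (t * t ^ e + u) * ((nA * nB : GL chevF4.Idx K) ^ 4)⁻¹) *
        ((nA * nB) ^ 4 * xg 30 ((u ^ e) ^ 2) * ((nA * nB : GL chevF4.Idx K) ^ 4)⁻¹) := by
      unfold FieldData.Q
      simp only [FieldData.sideP]
      group
    rw [e1, conj_n4 27 (by norm_num), conj_n4 25 (by norm_num), conj_n4 28 (by norm_num),
      conj_n4 30 (by norm_num), p27, p25, p28, p30] at h1
    exact h1
  -- conclusion
  conv_lhs => unfold twistedF4 ChevalleyDatum.genSubgroup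
  rw [Subgroup.closure_le]
  rintro g ⟨w, hw, hgw⟩
  have hg' : g = wordG w := Units.ext (by rw [hgw, wordG_val])
  rcases hw with ⟨t, rfl | rfl⟩ | ⟨t, u, rfl | rfl⟩
  · have := hPP t
    rw [hg']
    simpa [wordG, f4PairWord, f4p1, f4p4] using this
  · have := hPN t
    rw [hg']
    simpa [wordG, f4PairWord, f4m1, f4m4] using this
  · have := hQall t u
    rw [hg']
    unfold FieldData.Q at this
    simp only [FieldData.sideP] at this
    rw [show t * t ^ e = t ^ (e + 1) by ring, show (u ^ e) ^ 2 = u ^ (2 * e) by ring] at this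
    simpa [wordG, b2ClassWord, f4a, f4b, f4ab, f4aab, mul_assoc] using this
  · have := hQneg t u
    rw [hg']
    unfold FieldData.Q at this
    simp only [FieldData.sideN] at this
    rw [show t * t ^ e = t ^ (e + 1) by ring, show (u ^ e) ^ 2 = u ^ (2 * e) by ring] at this
    simpa [wordG, b2ClassWord, f4ma, f4mb, f4mab, f4maab, mul_assoc] using this

end

end Cfsg.Agent.Helper6.RF4T
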