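import Mathlib

/-!
# Abstract computations in the unipotent group of type `G₂` in characteristic 3

Six one-parameter subgroups `x 0 = x_a`, `x 1 = x_b`, `x 2 = x_{a+b}`, `x 3 = x_{2a+b}`, `x 4 = x_{3a+b}`,
`x 5 = x_{3a+2b}`, the last four commuting with each other.
-/

set_option autoImplicit false

namespace Cfsg.Agent.Helper6.ReeSix

variable {K G : Type*} [Field K] [Group G]

/-- the abstract relations -/
structure Rel (x : Fin 6 → K → G) (ε : K) : Prop where
  add : ∀ i s s', x i (s + s') = x i s * x i s'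
  comm : ∀ i j, 2 ≤ i → 2 ≤ j → ∀ s s', x i s * x j s' = x j s' * x i s
  h10 : ∀ A B, x 0 B * x 1 A = x 1 A * x 0 B * x 2 (-ε * A * B) * x 3 (-A * B ^ 2) * x 4 (ε * A * B ^ 3) *
    x 5 (A ^ 2 * B ^ 3)

variable {x : Fin 6 → K → G} {ε : K}

/-- the normal form in the abelian part -/
def u2 (x : Fin 6 → K → G) (a b c d : K) : G := x 2 a * x 3 b * x 4 c * x 5 d

theorem u2_mul (R : Rel x ε) (a b c d a' b' c' d' : K) :
    u2 x a b c d * u2 x a' b' c' d' = u2 x (a + a') (b + b') (c + c') (d + d') := by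
  unfold u2
  rw [R.add 2, R.add 3, R.add 4, R.add 5]
  have c52 := R.comm 5 2 (by decide) (by decide) d a'
  have c42 := R.comm 4 2 (by decide) (by decide) c a'
  have c32 := R.comm 3 2 (by decide) (by decide) b a'
  have c53 := R.comm 5 3 (by decide) (by decide) d b'
  have c43 := R.comm 4 3 (by decide) (by decide) c b'
  have c54 := R.comm 5 4 (by decide) (by decide) d c'
  calc x 2 a * x 3 b * x 4 c * x 5 d * (x 2 a' * x 3 b' * x 4 c' * x 5 d')
      = x 2 a * x 3 b * x 4 c * (x 5 d * x 2 a') * x 3 b' * x 4 c' * x 5 d' := by simp only [mul_assoc]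
    _ = x 2 a * x 3 b * (x 4 c * x 2 a') * x 5 d * x 3 b' * x 4 c' * x 5 d' := by
        rw [c52]; simp only [mul_assoc]
    _ = x 2 a * (x 3 b * x 2 a') * x 4 c * x 5 d * x 3 b' * x 4 c' * x 5 d' := by
        rw [c42]; simp only [mul_assoc]
    _ = x 2 a * x 2 a' * x 3 b * x 4 c * (x 5 d * x 3 b') * x 4 c' * x 5 d' := by
        rw [c32]; simp only [mul_assoc]
    _ = x 2 a * x 2 a' * x 3 b * (x 4 c * x 3 b') * x 5 d * x 4 c' * x 5 d' := by
        rw [c53]; simp only [mul_assoc]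
    _ = x 2 a * x 2 a' * x 3 b * x 3 b' * x 4 c * (x 5 d * x 4 c') * x 5 d' := by
        rw [c43]; simp only [mul_assoc]
    _ = x 2 a * x 2 a' * (x 3 b * x 3 b') * (x 4 c * x 4 c') * (x 5 d * x 5 d') := by
        rw [c54]; simp only [mul_assoc]

/-- the abelian part written in the other order -/
theorem u2_swap (R : Rel x ε) (a b c d : K) : x 4 c * x 5 d * x 2 a * x 3 b = u2 x a b c d := by
  unfold u2
  have c52 := R.comm 5 2 (by decide) (by decide) d a
  have c42 := R.comm 4 2 (by decide) (by decide) c a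
  have c53 := R.comm 5 3 (by decide) (by decide) d b
  have c43 := R.comm 4 3 (by decide) (by decide) c b
  calc x 4 c * x 5 d * x 2 a * x 3 b = x 4 c * (x 5 d * x 2 a) * x 3 b := by simp only [mul_assoc]
    _ = (x 4 c * x 2 a) * (x 5 d * x 3 b) := by rw [c52]; simp only [mul_assoc]
    _ = x 2 a * (x 4 c * x 3 b) * x 5 d := by rw [c42, c53]; simp only [mul_assoc]
    _ = x 2 a * x 3 b * x 4 c * x 5 d := by rw [c43]; simp only [mul_assoc]

/-- the canonical form -/
def can (x : Fin 6 → K → G) (a b c d f g : K) : G := x 1 a * x 0 b * u2 x c d f g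

/-- reordering of the first two factors -/
theorem swap01 (R : Rel x ε) (A B c d f g : K) :
    x 0 B * x 1 A * u2 x c d f g =
      can x A B (-ε * A * B + c) (-A * B ^ 2 + d) (ε * A * B ^ 3 + f) (A ^ 2 * B ^ 3 + g) := by
  unfold can
  rw [R.h10, ← u2_mul R]
  unfold u2
  simp only [mul_assoc]

/-- the `σ`-fixed words: canonical form -/
theorem word_can (R : Rel x ε) (hε : ε * ε = 1) (t T u U v V : K) :
    x 0 (ε * T) * x 1 (ε * t) * x 2 (ε * (t * T + U)) * x 3 (ε * (t * T ^ 2 + V)) * x 4 (ε * u) * x 5 (ε * v) =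
      can x (ε * t) (ε * T) (ε * U) (ε * V) (ε * (t * T ^ 3 + u)) (ε * (t ^ 2 * T ^ 3 + v)) := by
  have h := swap01 R (ε * t) (ε * T) (ε * (t * T + U)) (ε * (t * T ^ 2 + V)) (ε * u) (ε * v)
  have e2 : ε ^ 2 = 1 := by rw [pow_two]; exact hε
  have e1 : -ε * (ε * t) * (ε * T) + ε * (t * T + U) = ε * U := by
    linear_combination (-ε * t * T) * e2
  have e3 : -(ε * t) * (ε * T) ^ 2 + ε * (t * T ^ 2 + V) = ε * V := by
    linear_combination (-ε * t * T ^ 2) * e2
  have e4 : ε * (ε * t) * (ε * T) ^ 3 + ε * u = ε * (t * T ^ 3 + u) := by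
    linear_combination (ε * t * T ^ 3) * (ε ^ 2 + 1) * e2
  have e5 : (ε * t) ^ 2 * (ε * T) ^ 3 + ε * v = ε * (t ^ 2 * T ^ 3 + v) := by
    linear_combination (ε * t ^ 2 * T ^ 3) * (ε ^ 2 + 1) * e2
  rw [e1, e3, e4, e5] at h
  rw [← h]
  unfold u2
  simp only [mul_assoc]

/-- the image of a `σ`-fixed word under `σ`: the same canonical form -/
theorem word_sigma_can (R : Rel x ε) (t T u U v V : K) :
    x 1 (ε * t) * x 0 (ε * T) * x 4 (ε * (t * T ^ 3 + u)) * x 5 (ε * (t ^ 2 * T ^ 3 + v)) * x 2 (ε * U) *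
        x 3 (ε * V) =
      can x (ε * t) (ε * T) (ε * U) (ε * V) (ε * (t * T ^ 3 + u)) (ε * (t ^ 2 * T ^ 3 + v)) := by
  unfold can
  rw [← u2_swap R]
  simp only [mul_assoc]

end Cfsg.Agent.Helper6.ReeSix
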