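import Cfsg.Agent.Lib.Helper15.Ree.Perfect
import Cfsg.Agent.Lib.Helper6.ReeSix

/-!
# `²G₂`: the relations among the positive (negative) root subgroups of `G₂` in characteristic 3
-/

set_option autoImplicit false
set_option linter.unusedSectionVars false
set_option linter.unusedVariables false
set_option maxRecDepth 100000

namespace Cfsg.Agent.Helper6.ReeS

open Cfsg Cfsg.Lie Cfsg.Agent.Helper18 Cfsg.Agent.Helper15.Ree Cfsg.Agent.Helper6.ReeSix

theorem chk_pos : wordEqCheck chevG2 [(7, vb), (6, va)]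
    [(6, va), (7, vb), (8, [(-1, 1, 1)]), (9, [(-1, 1, 2)]), (10, [(1, 1, 3)]), (11, [(-2, 2, 3)])] = true := by
  decide +kernel

theorem chk_neg : wordEqCheck chevG2 [(4, vb), (5, va)]
    [(5, va), (4, vb), (3, [(1, 1, 1)]), (2, [(-1, 1, 2)]), (1, [(-1, 1, 3)]), (0, [(-2, 2, 3)])] = true := by
  decide +kernel

theorem chk_commN : ([(3, 1), (3, 0), (2, 1), (2, 0), (1, 0)].all fun p : ℕ × ℕ =>
    wordEqCheck chevG2 [(p.1, va), (p.2, vb)] [(p.2, vb), (p.1, va)]) = true := by
  decide +kernel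

theorem chk_comm32 : wordEqCheck chevG2 [(2, vb), (3, va)]
    [(3, va), (2, vb), (0, [(3, 1, 1)])] = true := by
  decide +kernel

variable {K : Type*} [Field K]

theorem commN_pair (r s : ℕ) (hp : (r, s) ∈ [(3, 1), (3, 0), (2, 1), (2, 0), (1, 0)])
    (x y : K) : xg r x * xg s y = xg s y * xg r x := by
  by_cases hx : x = 0
  · subst hx; simp [xg_zero]
  by_cases hy : y = 0
  · subst hy; simp [xg_zero]
  have hc := (List.all_eq_true.mp chk_commN) (r, s) hp
  have h := wordG_eq_of_check (Units.mk0 x hx) (Units.mk0 y hy) _ _ hc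
  simpa [evalWord, va, vb, LP.eval, LP.evalMono, wordG] using h

theorem comm_3_2 (h3 : (3 : K) = 0) (x y : K) : xg 3 x * xg 2 y = xg 2 y * xg 3 x := by
  by_cases hx : x = 0
  · subst hx; simp [xg_zero]
  by_cases hy : y = 0
  · subst hy; simp [xg_zero]
  have h := wordG_eq_of_check (Units.mk0 x hx) (Units.mk0 y hy) _ _ chk_comm32
  have e : ((3 : ℤ) : K) = 0 := by push_cast; rw [h3]
  simp only [evalWord, va, vb, LP.eval, LP.evalMono, wordG, List.map_cons, List.map_nil,
    List.sum_cons, List.sum_nil, List.prod_cons, List.prod_nil, e, zero_mul, zero_add, xg_zero,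
    mul_one] at h
  simpa using h.symm

theorem comm76 (h3 : (3 : K) = 0) (A B : K) :
    xg 7 B * xg 6 A = xg 6 A * xg 7 B * xg 8 (-1 * A * B) * xg 9 (-A * B ^ 2) * xg 10 (1 * A * B ^ 3) *
      xg 11 (A ^ 2 * B ^ 3) := by
  by_cases hA : A = 0
  · subst hA; simp [xg_zero]
  by_cases hB : B = 0
  · subst hB; simp [xg_zero, hA]
  have h := wordG_eq_of_check (Units.mk0 A hA) (Units.mk0 B hB) _ _ chk_pos
  have e : ((-2 : ℤ) : K) = 1 := by push_cast; linear_combination -h3
  simp only [evalWord, va, vb, LP.eval, LP.evalMono, wordG, List.map_cons, List.map_nil,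
    List.sum_cons, List.sum_nil, List.prod_cons, List.prod_nil, e, mul_one] at h
  simp only [Units.val_mul, Units.val_pow_eq_pow_val, Units.val_mk0, zpow_zero, zpow_one, mul_one, one_mul,
    add_zero, Int.cast_neg, Int.cast_one, zpow_ofNat, Int.cast_ofNat, pow_zero, pow_one, Units.val_one] at h
  rw [h]
  have e1 : -1 * A * B = -1 * (A * B) := by ring
  have e2 : -A * B ^ 2 = -1 * (A * B ^ 2) := by ring
  have e3 : 1 * A * B ^ 3 = A * B ^ 3 := by ring
  rw [e1, e2, e3]
  simp only [mul_assoc]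

theorem comm45 (h3 : (3 : K) = 0) (A B : K) :
    xg 4 B * xg 5 A = xg 5 A * xg 4 B * xg 3 (-(-1) * A * B) * xg 2 (-A * B ^ 2) * xg 1 (-1 * A * B ^ 3) *
      xg 0 (A ^ 2 * B ^ 3) := by
  by_cases hA : A = 0
  · subst hA; simp [xg_zero]
  by_cases hB : B = 0
  · subst hB; simp [xg_zero, hA]
  have h := wordG_eq_of_check (Units.mk0 A hA) (Units.mk0 B hB) _ _ chk_neg
  have e : ((-2 : ℤ) : K) = 1 := by push_cast; linear_combination -h3
  simp only [evalWord, va, vb, LP.eval, LP.evalMono, wordG, List.map_cons, List.map_nil,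
    List.sum_cons, List.sum_nil, List.prod_cons, List.prod_nil, e, mul_one] at h
  simp only [Units.val_mul, Units.val_pow_eq_pow_val, Units.val_mk0, zpow_zero, zpow_one, mul_one, one_mul,
    add_zero, Int.cast_neg, Int.cast_one, zpow_ofNat, Int.cast_ofNat, pow_zero, pow_one, Units.val_one] at h
  rw [h]
  have e1 : -(-1) * A * B = A * B := by ring
  have e2 : -A * B ^ 2 = -1 * (A * B ^ 2) := by ring
  have e3 : -1 * A * B ^ 3 = -1 * (A * B ^ 3) := by ring
  rw [e1, e2, e3]
  simp only [mul_assoc]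

end Cfsg.Agent.Helper6.ReeS
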