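import Cfsg.Agent.Lib.Helper6.ReeA

/-!
# `²G₂`: the abstract relations hold for the positive and for the negative root subgroups
-/

set_option autoImplicit false
set_option linter.unusedSectionVars false
set_option linter.unusedVariables false
set_option maxRecDepth 100000

namespace Cfsg.Agent.Helper6.ReeS

open Cfsg Cfsg.Lie Cfsg.Agent.Helper18 Cfsg.Agent.Helper15.Ree Cfsg.Agent.Helper6.ReeSix

variable {K : Type*} [Field K]

/-- the roots `a, b, a+b, 2a+b, 3a+b, 3a+2b` -/
def rp : Fin 6 → ℕ := ![7, 6, 8, 9, 10, 11]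
/-- their negatives -/
def rn : Fin 6 → ℕ := ![4, 5, 3, 2, 1, 0]

/-- the positive root subgroups -/
noncomputable def xp : Fin 6 → K → GL chevG2.Idx K := fun i s => xg (rp i) s
/-- the negative root subgroups -/
noncomputable def xn : Fin 6 → K → GL chevG2.Idx K := fun i s => xg (rn i) s

theorem comm_same (r : ℕ) (x y : K) : xg r x * xg r y = xg r y * xg r x := by
  rw [xg_add, xg_add, add_comm]

theorem comm_pos (h3 : (3 : K) = 0) (r s : ℕ) (hr : r ∈ [8, 9, 10, 11]) (hs : s ∈ [8, 9, 10, 11]) (x y : K) :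
    xg r x * xg s y = xg s y * xg r x := by
  simp only [List.mem_cons, List.not_mem_nil, or_false] at hr hs
  rcases hr with rfl | rfl | rfl | rfl <;> rcases hs with rfl | rfl | rfl | rfl <;>
  first
  | exact comm_same _ x y
  | exact comm_8_9 h3 x y
  | exact (comm_8_9 h3 y x).symm
  | exact comm_8_10 x y
  | exact (comm_8_10 y x).symm
  | exact comm_8_11 x y
  | exact (comm_8_11 y x).symm
  | exact comm_9_10 x y
  | exact (comm_9_10 y x).symm
  | exact comm_9_11 x y
  | exact (comm_9_11 y x).symm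
  | exact comm_10_11 x y
  | exact (comm_10_11 y x).symm

theorem comm_neg (h3 : (3 : K) = 0) (r s : ℕ) (hr : r ∈ [3, 2, 1, 0]) (hs : s ∈ [3, 2, 1, 0]) (x y : K) :
    xg r x * xg s y = xg s y * xg r x := by
  simp only [List.mem_cons, List.not_mem_nil, or_false] at hr hs
  rcases hr with rfl | rfl | rfl | rfl <;> rcases hs with rfl | rfl | rfl | rfl <;>
  first
  | exact comm_same _ x y
  | exact comm_3_2 h3 x y
  | exact (comm_3_2 h3 y x).symm
  | exact commN_pair 3 1 (by simp) x y
  | exact (commN_pair 3 1 (by simp) y x).symm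
  | exact commN_pair 3 0 (by simp) x y
  | exact (commN_pair 3 0 (by simp) y x).symm
  | exact commN_pair 2 1 (by simp) x y
  | exact (commN_pair 2 1 (by simp) y x).symm
  | exact commN_pair 2 0 (by simp) x y
  | exact (commN_pair 2 0 (by simp) y x).symm
  | exact commN_pair 1 0 (by simp) x y
  | exact (commN_pair 1 0 (by simp) y x).symm

theorem rp_mem : ∀ i : Fin 6, 2 ≤ i → rp i ∈ [8, 9, 10, 11] := by decide
theorem rn_mem : ∀ i : Fin 6, 2 ≤ i → rn i ∈ [3, 2, 1, 0] := by decide

theorem rel_pos (h3 : (3 : K) = 0) : Rel (xp (K := K)) 1 where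
  add i s s' := (xg_add _ s s').symm
  comm i j hi hj s s' := comm_pos h3 _ _ (rp_mem i hi) (rp_mem j hj) s s'
  h10 A B := comm76 h3 A B

theorem rel_neg (h3 : (3 : K) = 0) : Rel (xn (K := K)) (-1) where
  add i s s' := (xg_add _ s s').symm
  comm i j hi hj s s' := comm_neg h3 _ _ (rn_mem i hi) (rn_mem j hj) s s'
  h10 A B := comm45 h3 A B

end Cfsg.Agent.Helper6.ReeS
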