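import Cfsg.Agent.Lib.Helper6.ReeSix

/-!
# Abstract computations for `²G₂`: the endomorphism `σ` and its fixed points in the unipotent group
-/

set_option autoImplicit false

namespace Cfsg.Agent.Helper6.ReeSix

variable {K H : Type*} [Field K] [Group H]

/-- the action of `σ` on the six root subgroups -/
structure Sig (X : Fin 6 → K → H) (σ : H →* H) (φ ψ : K →+* K) : Prop where
  s0 : ∀ s, σ (X 0 s) = X 1 (ψ s)
  s1 : ∀ s, σ (X 1 s) = X 0 (φ s)
  s2 : ∀ s, σ (X 2 s) = X 4 (ψ s)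
  s3 : ∀ s, σ (X 3 s) = X 5 (ψ s)
  s4 : ∀ s, σ (X 4 s) = X 2 (φ s)
  s5 : ∀ s, σ (X 5 s) = X 3 (φ s)
  ψφ : ∀ x, ψ (φ x) = x
  ψ3 : ∀ x, ψ x = (φ x) ^ 3

/-- the `σ`-fixed words -/
def word (X : Fin 6 → K → H) (ε : K) (φ : K →+* K) (t u v : K) : H :=
  X 0 (ε * φ t) * X 1 (ε * t) * X 2 (ε * (t * φ t + φ u)) * X 3 (ε * (t * (φ t) ^ 2 + φ v)) * X 4 (ε * u) *
    X 5 (ε * v)

variable {X : Fin 6 → K → H} {ε : K} {σ : H →* H} {φ ψ : K →+* K}

theorem word_eq_can (R : Rel X ε) (hε : ε * ε = 1) (t u v : K) :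
    word X ε φ t u v =
      can X (ε * t) (ε * φ t) (ε * φ u) (ε * φ v) (ε * (t * (φ t) ^ 3 + u)) (ε * (t ^ 2 * (φ t) ^ 3 + v)) :=
  word_can R hε t (φ t) u (φ u) v (φ v)

theorem word_fixed (R : Rel X ε) (S : Sig X σ φ ψ) (hε : ε * ε = 1) (hφε : φ ε = ε) (hψε : ψ ε = ε)
    (t u v : K) : σ (word X ε φ t u v) = word X ε φ t u v := by
  conv_rhs => rw [word_eq_can R hε]
  unfold word
  rw [map_mul, map_mul, map_mul, map_mul, map_mul, S.s0, S.s1, S.s2, S.s3, S.s4, S.s5]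
  have a0 : ψ (ε * φ t) = ε * t := by rw [map_mul, hψε, S.ψφ]
  have a1 : φ (ε * t) = ε * φ t := by rw [map_mul, hφε]
  have a2 : ψ (ε * (t * φ t + φ u)) = ε * (t * (φ t) ^ 3 + u) := by
    rw [map_mul, map_add, map_mul, hψε, S.ψφ, S.ψφ, S.ψ3 t]; ring
  have a3 : ψ (ε * (t * (φ t) ^ 2 + φ v)) = ε * (t ^ 2 * (φ t) ^ 3 + v) := by
    rw [map_mul, map_add, map_mul, map_pow, hψε, S.ψφ, S.ψφ, S.ψ3 t]; ring
  have a4 : φ (ε * u) = ε * φ u := by rw [map_mul, hφε]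
  have a5 : φ (ε * v) = ε * φ v := by rw [map_mul, hφε]
  rw [a0, a1, a2, a3, a4, a5]
  exact word_sigma_can R t (φ t) u (φ u) v (φ v)

theorem sigma_can (R : Rel X ε) (S : Sig X σ φ ψ) (a b c d f g : K) :
    σ (can X a b c d f g) =
      can X (ψ b) (φ a) (-ε * ψ b * φ a + φ f) (-(ψ b) * (φ a) ^ 2 + φ g) (ε * ψ b * (φ a) ^ 3 + ψ c)
        ((ψ b) ^ 2 * (φ a) ^ 3 + ψ d) := by
  have h : σ (can X a b c d f g) = X 0 (φ a) * X 1 (ψ b) * (X 4 (ψ c) * X 5 (ψ d) * X 2 (φ f) * X 3 (φ g)) := by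
    unfold can u2
    rw [map_mul, map_mul, map_mul, map_mul, map_mul, S.s0, S.s1, S.s2, S.s3, S.s4, S.s5]
  rw [h, u2_swap R]
  exact swap01 R _ _ _ _ _ _

/-- the fixed points of `σ` in the unipotent group are the words -/
theorem fixed_can (R : Rel X 1) (S : Sig X σ φ ψ)
    (hinj : ∀ a b c d f g a' b' c' d' f' g' : K, can X a b c d f g = can X a' b' c' d' f' g' →
      a = a' ∧ b = b' ∧ c = c' ∧ d = d')
    (a b c d f g : K) (hfix : σ (can X a b c d f g) = can X a b c d f g) :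
    ∃ t u v, can X a b c d f g = word X 1 φ t u v := by
  rw [sigma_can R S] at hfix
  obtain ⟨ha, hb, hc, hd⟩ := hinj _ _ _ _ _ _ _ _ _ _ _ _ hfix
  refine ⟨a, f - a * b ^ 3, g - a ^ 2 * b ^ 3, ?_⟩
  rw [word_eq_can R (by ring)]
  have hb3 : (φ b) ^ 3 = a := by rw [← S.ψ3, ha]
  have e1 : (1 : K) * a = a := one_mul a
  have e2 : (1 : K) * φ a = b := by rw [one_mul, hb]
  have e3 : (1 : K) * φ (f - a * b ^ 3) = c := by
    rw [one_mul, map_sub, map_mul, map_pow, hb3, hb, ← hc, ha, hb]; ring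
  have e4 : (1 : K) * φ (g - a ^ 2 * b ^ 3) = d := by
    rw [one_mul, map_sub, map_mul, map_pow, map_pow, hb3, hb, ← hd, ha, hb]; ring
  have e5 : (1 : K) * (a * (φ a) ^ 3 + (f - a * b ^ 3)) = f := by rw [hb]; ring
  have e6 : (1 : K) * (a ^ 2 * (φ a) ^ 3 + (g - a ^ 2 * b ^ 3)) = g := by rw [hb]; ring
  rw [e1, e2, e3, e4, e5, e6]

/-- the parameters of a word are determined by it -/
theorem word_injective (R : Rel X 1)
    (hinj : ∀ a b c d f g a' b' c' d' f' g' : K, can X a b c d f g = can X a' b' c' d' f' g' →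
      a = a' ∧ f = f' ∧ g = g')
    (t u v t' u' v' : K) (h : word X 1 φ t u v = word X 1 φ t' u' v') : t = t' ∧ u = u' ∧ v = v' := by
  rw [word_eq_can R (by ring), word_eq_can R (by ring)] at h
  obtain ⟨h1, h2, h3⟩ := hinj _ _ _ _ _ _ _ _ _ _ _ _ h
  have ht : t = t' := by simpa using h1
  subst ht
  refine ⟨rfl, ?_, ?_⟩
  · have := h2
    simp only [one_mul] at this
    exact add_left_cancel this
  · have := h3
    simp only [one_mul] at this
    exact add_left_cancel this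

end Cfsg.Agent.Helper6.ReeSix
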