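import Cfsg.Agent.Lib.Helper6.ReeB
import Cfsg.Agent.Lib.Helper6.ReeSix2
import Cfsg.Agent.Lib.Helper6.G2Char3C
import Cfsg.Agent.Lib.Helper6.ChevGraphGrp

/-!
# `²G₂`: the endomorphism `σ` of `G₂(K)` and the `σ`-fixed generators
-/

set_option autoImplicit false
set_option linter.unusedSectionVars false
set_option linter.unusedVariables false
set_option maxRecDepth 100000

namespace Cfsg.Agent.Helper6.ReeS

open Cfsg Cfsg.Lie Cfsg.Agent.Helper18 Cfsg.Agent.Helper15.Ree Cfsg.Agent.Helper6.ReeSix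
open Cfsg.Agent.S1043 Cfsg.Agent.Helper6.G2C3

section

variable {K : Type*} [Field K]

theorem xG_val' (r : ℕ) (t : K) : ((xG r t : ↥(chevG2.group K)) : GL chevG2.Idx K) = xg r t := Units.ext rfl

/-- the six positive root subgroups inside the group -/
noncomputable def XP : Fin 6 → K → ↥(chevG2.group K) := fun i s => xG (rp i) s
/-- the six negative root subgroups inside the group -/
noncomputable def XN : Fin 6 → K → ↥(chevG2.group K) := fun i s => xG (rn i) s

theorem XP_val (i : Fin 6) (s : K) : ((XP i s : ↥(chevG2.group K)) : GL chevG2.Idx K) = xp i s := Units.ext rfl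
theorem XN_val (i : Fin 6) (s : K) : ((XN i s : ↥(chevG2.group K)) : GL chevG2.Idx K) = xn i s := Units.ext rfl

theorem rel_lift {x : Fin 6 → K → GL chevG2.Idx K} {X : Fin 6 → K → ↥(chevG2.group K)} {ε : K}
    (hX : ∀ i s, ((X i s : ↥(chevG2.group K)) : GL chevG2.Idx K) = x i s) (R : Rel x ε) : Rel X ε where
  add i s s' := Subtype.ext (by rw [Subgroup.coe_mul, hX, hX, hX]; exact R.add i s s')
  comm i j hi hj s s' := Subtype.ext (by
    rw [Subgroup.coe_mul, Subgroup.coe_mul, hX, hX]; exact R.comm i j hi hj s s')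
  h10 A B := Subtype.ext (by simp only [Subgroup.coe_mul, hX]; exact R.h10 A B)

theorem can_val {x : Fin 6 → K → GL chevG2.Idx K} {X : Fin 6 → K → ↥(chevG2.group K)}
    (hX : ∀ i s, ((X i s : ↥(chevG2.group K)) : GL chevG2.Idx K) = x i s) (a b c d f g : K) :
    ((can X a b c d f g : ↥(chevG2.group K)) : GL chevG2.Idx K) = can x a b c d f g := by
  simp only [can, u2, Subgroup.coe_mul, hX]

theorem word_val {x : Fin 6 → K → GL chevG2.Idx K} {X : Fin 6 → K → ↥(chevG2.group K)}
    (hX : ∀ i s, ((X i s : ↥(chevG2.group K)) : GL chevG2.Idx K) = x i s) (ε : K) (φ : K →+* K) (t u v : K) :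
    ((word X ε φ t u v : ↥(chevG2.group K)) : GL chevG2.Idx K) = word x ε φ t u v := by
  simp only [word, Subgroup.coe_mul, hX]

theorem iota_xG (f : K →+* K) (r : ℕ) (hr : r < 12) (t : K) :
    ChevGraph.iota f (xG r t) = xG r (f t) := by
  apply Subtype.ext
  apply Units.ext
  rw [ChevGraph.iota_val]
  change (chevG2.x K r t).map f = chevG2.x K r (f t)
  rw [ChevGraph.x_eq_xMat chevG2 ⟨r, hr⟩, ChevGraph.x_eq_xMat chevG2 ⟨r, hr⟩, ChevGraph.xMat_map]

end

section

variable {K : Type*} [Field K] [CharP K 3] {e : ℕ} (FD : FieldData K e)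
  (α : ↥(chevG2.group K) ≃* ↥(chevG2.group K))
  (hα : ∀ (r : Fin chevG2.nroots) (t : K),
      α (xG r.val t) = xG (sig r.val) (if isShort r.val then t ^ 3 else t))

/-- the endomorphism `σ` -/
noncomputable def sigma : ↥(chevG2.group K) →* ↥(chevG2.group K) :=
  α.toMonoidHom.comp (ChevGraph.iota FD.phi)

/-- `x ↦ (x ^ θ) ^ 3` -/
noncomputable def psi : K →+* K := (frobenius K 3).comp FD.phi

theorem psi_apply (x : K) : psi FD x = (FD.phi x) ^ 3 := rfl

include hα

theorem sigma_xG (r : ℕ) (hr : r < 12) (t : K) :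
    sigma FD α (xG r t) = xG (sig r) (if isShort r then (FD.phi t) ^ 3 else FD.phi t) := by
  change α (ChevGraph.iota FD.phi (xG r t)) = _
  rw [iota_xG _ r hr, hα ⟨r, hr⟩]

theorem sigma_short (r r' : ℕ) (hr : r < 12) (hs : isShort r = true) (hr' : sig r = r') (t : K) :
    sigma FD α (xG r t) = xG r' (psi FD t) := by
  rw [sigma_xG FD α hα r hr, if_pos hs, hr']
  rfl

theorem sigma_long (r r' : ℕ) (hr : r < 12) (hs : isShort r = false) (hr' : sig r = r') (t : K) :
    sigma FD α (xG r t) = xG r' (FD.phi t) := by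
  rw [sigma_xG FD α hα r hr, hs, hr']
  rfl

theorem sig_pos : Sig (XP (K := K)) (sigma FD α) FD.phi (psi FD) where
  s0 s := sigma_short FD α hα 7 6 (by decide) (by decide) (by decide) s
  s1 s := sigma_long FD α hα 6 7 (by decide) (by decide) (by decide) s
  s2 s := sigma_short FD α hα 8 10 (by decide) (by decide) (by decide) s
  s3 s := sigma_short FD α hα 9 11 (by decide) (by decide) (by decide) s
  s4 s := sigma_long FD α hα 10 8 (by decide) (by decide) (by decide) s
  s5 s := sigma_long FD α hα 11 9 (by decide) (by decide) (by decide) s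
  ψφ x := FD.phi_cube x
  ψ3 x := rfl

theorem sig_neg : Sig (XN (K := K)) (sigma FD α) FD.phi (psi FD) where
  s0 s := sigma_short FD α hα 4 5 (by decide) (by decide) (by decide) s
  s1 s := sigma_long FD α hα 5 4 (by decide) (by decide) (by decide) s
  s2 s := sigma_short FD α hα 3 1 (by decide) (by decide) (by decide) s
  s3 s := sigma_short FD α hα 2 0 (by decide) (by decide) (by decide) s
  s4 s := sigma_long FD α hα 1 3 (by decide) (by decide) (by decide) s
  s5 s := sigma_long FD α hα 0 2 (by decide) (by decide) (by decide) s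
  ψφ x := FD.phi_cube x
  ψ3 x := rfl

theorem wordP_fixed (t u v : K) :
    sigma FD α (word XP 1 FD.phi t u v) = word XP 1 FD.phi t u v :=
  word_fixed (rel_lift XP_val (rel_pos FD.h3)) (sig_pos FD α hα) (by ring) (map_one _) (map_one _) t u v

theorem wordN_fixed (t u v : K) :
    sigma FD α (word XN (-1) FD.phi t u v) = word XN (-1) FD.phi t u v :=
  word_fixed (rel_lift XN_val (rel_neg FD.h3)) (sig_neg FD α hα) (by ring)
    (by rw [map_neg, map_one]) (by rw [map_neg, map_one]) t u v

omit hα in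
theorem wordU_eq (t u v : K) :
    wordG (reeWordU e t u v) = ((word XP 1 FD.phi t u v : ↥(chevG2.group K)) : GL chevG2.Idx K) := by
  rw [word_val XP_val, wordG_reeWordU]
  simp only [word, Ap, xp, rp, one_mul, FD.phi_apply]
  rfl

omit hα in
theorem wordV_eq (t u v : K) :
    wordG (reeWordV e t u v) = ((word XN (-1) FD.phi t u v : ↥(chevG2.group K)) : GL chevG2.Idx K) := by
  rw [word_val XN_val]
  have h1 : t ^ (e + 1) = t * t ^ e := by ring
  have h2 : t ^ (2 * e + 1) = t * (t ^ e) ^ 2 := by ring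
  have hn : reeWordV e t u v = [(4, -(t ^ e)), (5, -t), (3, -(t ^ (e + 1) + u ^ e)),
      (2, -(t ^ (2 * e + 1) + v ^ e)), (1, -u), (0, -v)] := by
    simp only [reeWordV, reeWordU, ChevalleyDatum.negWord, List.map_cons, List.map_nil, g2a, g2b, g2ab, g2aab,
      g2aaab, g2aaabb]
    rfl
  rw [hn, h1, h2]
  simp only [word, xn, rn, neg_one_mul, FD.phi_apply, wordG, List.map_cons, List.map_nil, List.prod_cons,
    List.prod_nil, mul_one, mul_assoc]
  rfl

/-- the twisted group consists of `σ`-fixed elements -/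
theorem twisted_fixed : ∀ g ∈ twistedG2 K e, ∃ hg : g ∈ chevG2.group K,
    sigma FD α ⟨g, hg⟩ = ⟨g, hg⟩ := by
  intro g hg
  unfold twistedG2 ChevalleyDatum.genSubgroup at hg
  induction hg using Subgroup.closure_induction with
  | mem x hx =>
    obtain ⟨w, hw, hxw⟩ := hx
    have hxw' : x = wordG w := Units.ext (by rw [hxw, wordG_val])
    rcases hw with ⟨t, u, v, rfl | rfl⟩
    · rw [hxw', wordU_eq FD]
      exact ⟨Subtype.property _, wordP_fixed FD α hα t u v⟩
    · rw [hxw', wordV_eq FD]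
      exact ⟨Subtype.property _, wordN_fixed FD α hα t u v⟩
  | one => exact ⟨Subgroup.one_mem _, map_one _⟩
  | mul x y _ _ ihx ihy =>
    obtain ⟨hx, ex⟩ := ihx
    obtain ⟨hy, ey⟩ := ihy
    refine ⟨mul_mem hx hy, ?_⟩
    have : (⟨x * y, mul_mem hx hy⟩ : ↥(chevG2.group K)) = ⟨x, hx⟩ * ⟨y, hy⟩ := rfl
    rw [this, map_mul, ex, ey]
  | inv x _ ihx =>
    obtain ⟨hx, ex⟩ := ihx
    refine ⟨inv_mem hx, ?_⟩
    have : (⟨x⁻¹, inv_mem hx⟩ : ↥(chevG2.group K)) = ⟨x, hx⟩⁻¹ := rfl
    rw [this, map_inv, ex]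

end

end Cfsg.Agent.Helper6.ReeS
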