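import Cfsg.Agent.Lib.Helper6.ReeC

/-!
# `²G₂`: a check of word identities modulo `p`, and the involution of the torus as a word in the generators
-/

set_option autoImplicit false
set_option linter.unusedSectionVars false
set_option linter.unusedVariables false
set_option maxRecDepth 100000

namespace Cfsg.Agent.Helper6.ReeS

open Cfsg Cfsg.Lie Cfsg.Agent.Helper18 Cfsg.Agent.Helper15.Ree Cfsg.Agent.Helper6.ReeSix
open Cfsg.Agent.S1043 Cfsg.Agent.Helper6.G2C3

/-- Check that two words in root elements have the same matrix modulo `p`. -/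
def wordEqCheckP (D : ChevalleyDatum) (p : ℕ) (w1 w2 : List (ℕ × LP)) : Bool :=
  (List.range (D.rank + D.nroots)).all fun c =>
    (List.range (D.rank + D.nroots)).all fun r =>
      ChevGraph.divp p (svlp (applyWord D w1 (basisVec c)) r ++ LP.neg (svlp (applyWord D w2 (basisVec c)) r))

theorem wordMat_eq_of_checkP {F : Type*} [Field F] (D : ChevalleyDatum) (p : ℕ) [CharP F p] (a b : Fˣ)
    (w1 w2 : List (ℕ × LP)) (h : wordEqCheckP D p w1 w2 = true) :
    D.wordMat F (evalWord a b w1) = D.wordMat F (evalWord a b w2) := by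
  apply mat_eq_of_mulVec_single
  intro col
  rw [← toVec_basisVec D a b col, applyWord_sound, applyWord_sound]
  funext row
  unfold toVec
  rw [coeff_eq_eval, coeff_eq_eval]
  rw [wordEqCheckP, List.all_eq_true] at h
  have h1 := h _ (List.mem_range.mpr (code_lt D col))
  rw [List.all_eq_true] at h1
  have h2 := ChevGraph.eval_of_divp p a b _ (h1 _ (List.mem_range.mpr (code_lt D row)))
  rw [LP.eval_append, LP.eval_neg] at h2
  exact sub_eq_zero.1 (by rw [sub_eq_add_neg]; exact h2)

/-- a constant parameter -/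
def kk (n : ℤ) : LP := [(n, 0, 0)]

/-- the word `reeWordU` with parameters in the prime field (`t, u, v ∈ {0, 1, -1}`) -/
def wU (t u v : ℤ) : List (ℕ × LP) :=
  [(7, kk t), (6, kk t), (8, kk (t * t + u)), (9, kk (t * t * t + v)), (10, kk u), (11, kk v)]

/-- the word `reeWordV` with parameters in the prime field -/
def wV (t u v : ℤ) : List (ℕ × LP) :=
  [(4, kk (-t)), (5, kk (-t)), (3, kk (-(t * t + u))), (2, kk (-(t * t * t + v))), (1, kk (-u)), (0, kk (-v))]

/-- `h_{a+b}(-1)` as a word -/
def wH : List (ℕ × LP) := [(8, kk (-1)), (3, kk 1), (8, kk (-1)), (8, kk (-1)), (3, kk 1), (8, kk (-1))]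

theorem chk_invol : wordEqCheckP chevG2 3 wH (wU 0 0 1 ++ wV 0 0 1 ++ wU 1 1 1 ++ wV (-1) 1 (-1)) = true := by
  decide +kernel

end Cfsg.Agent.Helper6.ReeS
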