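import Cfsg.Agent.Lib.Helper6.ReeE
import Cfsg.Agent.Lib.Helper6.TwistTorus
import Cfsg.Agent.Lib.Helper6.ChevFactsS18
import Cfsg.Agent.Lib.Helper18.TorusAll

/-!
# `²G₂`: the torus `H¹ = G¹ ∩ H`
-/

set_option autoImplicit false
set_option linter.unusedSectionVars false
set_option linter.unusedVariables false
set_option maxRecDepth 100000

namespace Cfsg.Agent.Helper6.ReeS

open Cfsg Cfsg.Lie Cfsg.Agent.Helper18 Cfsg.Agent.Helper15.Ree Cfsg.Agent.Helper6.ReeSix
open Cfsg.Agent.S1043 Cfsg.Agent.Helper6.G2C3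

section

variable {K : Type*} [Field K]

theorem xg_eq (r : ℕ) (t : K) : Chev.xg (Chev.nData_G2 (F := K)) r t = xg r t := Units.ext rfl

theorem cartan_vals : chevG2.cartan 0 11 = 0 ∧ chevG2.cartan 1 11 = 1 ∧ chevG2.cartan 0 9 = 1 ∧
    chevG2.cartan 1 9 = 0 := by decide

theorem chi_11 (c : ℕ → K) : Cfsg.Agent.Helper18.chi chevG2 c 11 = c 1 := by
  have h2 : chevG2.rank = 2 := rfl
  simp only [Cfsg.Agent.Helper18.chi, h2, List.range_succ, List.range_zero, List.nil_append, List.cons_append,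
    List.map_cons, List.map_nil, List.prod_cons, List.prod_nil, cartan_vals.1, cartan_vals.2.1, zpow_zero,
    zpow_one, one_mul, mul_one]

theorem chi_9 (c : ℕ → K) : Cfsg.Agent.Helper18.chi chevG2 c 9 = c 0 := by
  have h2 : chevG2.rank = 2 := rfl
  simp only [Cfsg.Agent.Helper18.chi, h2, List.range_succ, List.range_zero, List.nil_append, List.cons_append,
    List.map_cons, List.map_nil, List.prod_cons, List.prod_nil, cartan_vals.2.2.1, cartan_vals.2.2.2, zpow_zero,
    zpow_one, one_mul, mul_one]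

/-- the torus elements act on the root subgroups `X₉` and `X₁₁` through the two coordinates -/
theorem tor_conj {tbl : List ℕ} (hT : TorusData chevG2 tbl) (c : ℕ → Kˣ) (s : K) :
    Twist.torHom chevG2 c * xg 11 s = xg 11 ((c 1 : K) * s) * Twist.torHom chevG2 c ∧
    Twist.torHom chevG2 c * xg 9 s = xg 9 ((c 0 : K) * s) * Twist.torHom chevG2 c := by
  have h11 := Twist.torHom_conj_xg chevG2 hT (Chev.nData_G2 (F := K)) c 11 (by decide) s
  have h9 := Twist.torHom_conj_xg chevG2 hT (Chev.nData_G2 (F := K)) c 9 (by decide) s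
  rw [chi_11, xg_eq, xg_eq, mul_inv_eq_iff_eq_mul] at h11
  rw [chi_9, xg_eq, xg_eq, mul_inv_eq_iff_eq_mul] at h9
  exact ⟨h11, h9⟩

theorem xg_inj' (r : ℕ) (hr : r < 12) {a b : K} (he : xg r a = xg r b) : a = b := by
  have hn : chevG2.neg r < chevG2.nroots ∧ chevG2.neg r ≠ r := by
    interval_cases r <;> decide
  apply Twist.xg_inj chevG2 goodG2 (Chev.nData_G2 (F := K)) (r := r) hr hn
  rw [xg_eq, xg_eq, he]

theorem H8_mem (p : Kˣ) : H8 p ∈ chevG2.diagonalSubgroup K := by
  apply Subgroup.subset_closure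
  refine ⟨8, (p : K), by decide, p.ne_zero, ?_⟩
  unfold H8
  rw [wordG_val]
  simp only [ChevalleyDatum.hMat, ChevalleyDatum.hWord, ChevalleyDatum.nWord, neg8, List.cons_append,
    List.nil_append, Units.val_inv_eq_inv_val, inv_neg, inv_one, neg_neg]

theorem H10_mem (q : Kˣ) : H10 q ∈ chevG2.diagonalSubgroup K := by
  apply Subgroup.subset_closure
  refine ⟨10, (q : K), by decide, q.ne_zero, ?_⟩
  unfold H10
  rw [wordG_val]
  simp only [ChevalleyDatum.hMat, ChevalleyDatum.hWord, ChevalleyDatum.nWord, neg10, List.cons_append,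
    List.nil_append, Units.val_inv_eq_inv_val, inv_neg, inv_one, neg_neg]

end

section

variable {K : Type*} [Field K] [CharP K 3] {e : ℕ} (FD : FieldData K e)
  (α : ↥(chevG2.group K) ≃* ↥(chevG2.group K))
  (hα : ∀ (r : Fin chevG2.nroots) (t : K),
      α (xG r.val t) = xG (sig r.val) (if isShort r.val then t ^ 3 else t))

include FD hα

/-- a `σ`-fixed torus element: the first coordinate is `θ` of the second -/
theorem tor_fixed {tbl : List ℕ} (hT : TorusData chevG2 tbl) (c : ℕ → Kˣ)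
    (hg : Twist.torHom chevG2 c ∈ twistedG2 K e) : (c 0 : K) = FD.phi (c 1 : K) := by
  obtain ⟨hmem, hfix⟩ := twisted_fixed FD α hα _ hg
  have h1 : (⟨Twist.torHom chevG2 c, hmem⟩ : ↥(chevG2.group K)) * xG 11 1 =
      xG 11 ((c 1 : K) * 1) * ⟨Twist.torHom chevG2 c, hmem⟩ :=
    Subtype.ext (by
      rw [Subgroup.coe_mul, Subgroup.coe_mul, xG_val', xG_val']
      exact (tor_conj hT c 1).1)
  have h2 := congrArg (sigma FD α) h1
  rw [map_mul, map_mul, hfix, sigma_long FD α hα 11 9 (by decide) (by decide) (by decide),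
    sigma_long FD α hα 11 9 (by decide) (by decide) (by decide), map_one, mul_one] at h2
  have h3 : (⟨Twist.torHom chevG2 c, hmem⟩ : ↥(chevG2.group K)) * xG 9 1 =
      xG 9 ((c 0 : K) * 1) * ⟨Twist.torHom chevG2 c, hmem⟩ :=
    Subtype.ext (by
      rw [Subgroup.coe_mul, Subgroup.coe_mul, xG_val', xG_val']
      exact (tor_conj hT c 1).2)
  rw [h3, mul_one] at h2
  have h4 := mul_right_cancel h2
  have h5 := congrArg (fun g : ↥(chevG2.group K) => (g : GL chevG2.Idx K)) h4
  simp only [xG_val'] at h5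
  exact xg_inj' 9 (by decide) h5

theorem tor_eq_of_fixed {tbl : List ℕ} (hT : TorusData chevG2 tbl) (c c' : ℕ → Kˣ)
    (hg : Twist.torHom chevG2 c ∈ twistedG2 K e) (hg' : Twist.torHom chevG2 c' ∈ twistedG2 K e)
    (h1 : c 1 = c' 1) : Twist.torHom (F := K) chevG2 c = Twist.torHom chevG2 c' := by
  apply Twist.torHom_congr
  intro i hi
  have hi' : i < 2 := hi
  interval_cases i
  · apply Units.ext
    rw [tor_fixed FD α hα hT c hg, tor_fixed FD α hα hT c' hg', h1]
  · exact h1

end

end Cfsg.Agent.Helper6.ReeS
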