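import Cfsg.Agent.Lib.Helper6.ReeF

/-!
# `²G₂`: `|H¹| = q - 1`
-/

set_option autoImplicit false
set_option linter.unusedSectionVars false
set_option linter.unusedVariables false
set_option maxRecDepth 100000

namespace Cfsg.Agent.Helper6.ReeS

open Cfsg Cfsg.Lie Cfsg.Agent.Helper18 Cfsg.Agent.Helper15.Ree Cfsg.Agent.Helper6.ReeSix
open Cfsg.Agent.S1043 Cfsg.Agent.Helper6.G2C3

section

variable {K : Type*} [Field K] {e : ℕ}

/-- `μ` is the multiplier on `X₁₁` of an element of `H¹` -/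
def Mul11 (K : Type*) [Field K] (e : ℕ) (μ : K) : Prop :=
  ∃ g ∈ chevG2.diagonalSubgroup K ⊓ twistedG2 K e, ∀ s : K, g * xg 11 s = xg 11 (μ * s) * g

theorem Mul11.mul {μ ν : K} (h1 : Mul11 K e μ) (h2 : Mul11 K e ν) : Mul11 K e (μ * ν) := by
  obtain ⟨g1, hg1, h1⟩ := h1
  obtain ⟨g2, hg2, h2⟩ := h2
  refine ⟨g1 * g2, mul_mem hg1 hg2, fun s => ?_⟩
  rw [mul_assoc, h2, ← mul_assoc, h1, mul_assoc, mul_assoc]

theorem reeWordV_eq (t u v : K) : reeWordV e t u v = [(4, -(t ^ e)), (5, -t), (3, -(t ^ (e + 1) + u ^ e)),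
    (2, -(t ^ (2 * e + 1) + v ^ e)), (1, -u), (0, -v)] := by
  simp only [reeWordV, reeWordU, ChevalleyDatum.negWord, List.map_cons, List.map_nil, g2a, g2b, g2ab, g2aab,
    g2aaab, g2aaabb]
  rfl

variable (FD : FieldData K e)

include FD

theorem mul11_hl (l : Kˣ) : Mul11 K e ((((l : K) ^ e) ^ 3) * (l : K)) := by
  refine ⟨FieldData.hl (e := e) l, ⟨?_, FD.hl_mem l⟩, fun s => ?_⟩
  · exact mul_mem (H8_mem _) (H10_mem _)
  · have := Hh_mul_xg (l ^ e) l 11 (by norm_num) (by norm_num) s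
    simp only [Cfsg.Agent.Helper15.Ree.chi, Units.val_pow_eq_pow_val] at this
    exact this

theorem invol_mem [CharP K 3] : H8 (-1 : Kˣ) ∈ twistedG2 K e := by
  have hm1 : ((-1 : K)) ^ e = -1 := FD.odd.neg_one_pow
  have h0 : (0 : K) ^ e = 0 := zero_pow FD.epos
  have hw : H8 (-1 : Kˣ) = wordG (evalWord (1 : Kˣ) 1 wH) := by
    unfold H8
    congr 1
    simp [evalWord, wH, kk, LP.eval, LP.evalMono]
  have hc : wordG (evalWord (1 : Kˣ) 1 wH) =
      wordG (evalWord (1 : Kˣ) 1 (wU 0 0 1 ++ wV 0 0 1 ++ wU 1 1 1 ++ wV (-1) 1 (-1))) :=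
    Units.ext (by rw [wordG_val, wordG_val]; exact wordMat_eq_of_checkP chevG2 3 1 1 _ _ chk_invol)
  have e1 : evalWord (1 : Kˣ) 1 (wU 0 0 1) = reeWordU e (0 : K) 0 1 := by
    simp [evalWord, wU, kk, LP.eval, LP.evalMono, reeWordU, g2a, g2b, g2ab, g2aab, g2aaab, g2aaabb, h0]
  have e2 : evalWord (1 : Kˣ) 1 (wV 0 0 1) = reeWordV e (0 : K) 0 1 := by
    have h2 : (0 : K) ^ (e + 1) = 0 := zero_pow (by omega)
    have h3 : (0 : K) ^ (2 * e + 1) = 0 := zero_pow (by omega)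
    rw [reeWordV_eq]
    simp [evalWord, wV, kk, LP.eval, LP.evalMono, h0, h2, h3]
  have e3 : evalWord (1 : Kˣ) 1 (wU 1 1 1) = reeWordU e (1 : K) 1 1 := by
    simp [evalWord, wU, kk, LP.eval, LP.evalMono, reeWordU, g2a, g2b, g2ab, g2aab, g2aaab, g2aaabb]
    norm_num
  have e4 : evalWord (1 : Kˣ) 1 (wV (-1) 1 (-1)) = reeWordV e (-1 : K) 1 (-1) := by
    have h2 : (-1 : K) ^ (e + 1) = 1 := by rw [pow_succ, hm1]; ring
    have h3 : (-1 : K) ^ (2 * e + 1) = -1 := by rw [pow_succ, pow_mul, neg_one_sq, one_pow]; ring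
    rw [reeWordV_eq]
    simp [evalWord, wV, kk, LP.eval, LP.evalMono, hm1, h2, h3]
    constructor <;> norm_num
  rw [hw, hc, evalWord_append, evalWord_append, evalWord_append, wordG_append, wordG_append, wordG_append,
    e1, e2, e3, e4]
  exact mul_mem (mul_mem (mul_mem (FieldData.wordU_mem _ _ _) (FieldData.wordV_mem _ _ _))
    (FieldData.wordU_mem _ _ _)) (FieldData.wordV_mem _ _ _)

theorem mul11_neg_one [CharP K 3] : Mul11 K e (-1 : K) := by
  refine ⟨H8 (-1 : Kˣ), ⟨H8_mem _, invol_mem FD⟩, fun s => ?_⟩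
  have := h8_conj (-1 : Kˣ) 11 (by norm_num) s
  simp only [e8, List.getD_cons_succ, List.getD_cons_zero] at this
  rw [this]
  congr 2
  have h3' : (((-1 : Kˣ) ^ (3 : ℤ) : Kˣ) : K) = -1 := by
    first
    | norm_num
    | (rw [zpow_ofNat, Units.val_pow_eq_pow_val, Units.val_neg, Units.val_one]; ring)
  rw [h3']

end

end Cfsg.Agent.Helper6.ReeS
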