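import Cfsg.Agent.Lib.Helper6.ReeG

/-!
# `²G₂`: `|H¹| = q - 1` (the count)
-/

set_option autoImplicit false
set_option linter.unusedSectionVars false
set_option linter.unusedVariables false
set_option maxRecDepth 100000

namespace Cfsg.Agent.Helper6.ReeS

open Cfsg Cfsg.Lie Cfsg.Agent.Helper18 Cfsg.Agent.Helper15.Ree Cfsg.Agent.Helper6.ReeSix
open Cfsg.Agent.S1043 Cfsg.Agent.Helper6.G2C3

section

variable {K : Type*} [Field K] [Fintype K] {m : ℕ} (hK : Fintype.card K = 3 ^ (2 * m + 1))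

include hK

theorem pow_q (x : K) : x ^ (3 * 3 ^ m * 3 ^ m) = x := by
  have h : 3 * 3 ^ m * 3 ^ m = Fintype.card K := by rw [hK]; ring
  rw [h, FiniteField.pow_card]

theorem q_mod4 : ∃ j : ℕ, 3 * 3 ^ m * 3 ^ m = 4 * j + 3 := by
  have h1 : 3 * 3 ^ m * 3 ^ m = 3 * 9 ^ m := by
    rw [show (9 : ℕ) = 3 * 3 by norm_num, mul_pow]; ring
  have h2 : 9 ^ m % 4 = 1 := by
    rw [Nat.pow_mod]; norm_num
  refine ⟨(3 * 9 ^ m) / 4, ?_⟩
  rw [h1]
  omega

theorem mul11_sq [CharP K 3] (FD : FieldData K (3 ^ m)) (ν : K) (hν : ν ≠ 0) : Mul11 K (3 ^ m) (ν ^ 2) := by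
  obtain ⟨a, ha⟩ : ∃ a : ℕ, a + 1 = 3 * 3 ^ m := ⟨3 * 3 ^ m - 1, Nat.sub_add_cancel (Nat.succ_le_of_lt (by positivity))⟩
  have h := mul11_hl FD (Units.mk0 (ν ^ a) (pow_ne_zero _ hν))
  rw [Units.val_mk0] at h
  have e1 : ((ν ^ a) ^ 3 ^ m) ^ 3 * ν ^ a = ν ^ 2 := by
    have h2 : (((ν ^ a) ^ 3 ^ m) ^ 3 * ν ^ a) * ν = ν ^ 2 * ν := by
      have h3 : (((ν ^ a) ^ 3 ^ m) ^ 3 * ν ^ a) * ν = (ν ^ (3 * 3 ^ m * 3 ^ m)) ^ 3 := by
        rw [← pow_mul, ← pow_mul, ← pow_add, ← pow_succ, ← pow_mul]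
        congr 1
        rw [show 3 ^ m * 3 = a + 1 by rw [ha]; ring,
          show 3 * 3 ^ m * 3 ^ m * 3 = (a + 1) * (a + 1) by rw [ha]; ring]
        ring
      rw [h3, pow_q hK]; ring
    exact mul_right_cancel₀ hν h2
  rw [e1] at h
  exact h

theorem mul11_all [CharP K 3] (FD : FieldData K (3 ^ m)) (μ : K) (hμ : μ ≠ 0) : Mul11 K (3 ^ m) μ := by
  obtain ⟨j, hj⟩ := q_mod4 hK
  have h1 : (μ ^ (2 * j + 1)) ^ 2 = 1 := by
    have h2 : (μ ^ (2 * j + 1)) ^ 2 * μ = μ := by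
      rw [← pow_mul, ← pow_succ]
      have : (2 * j + 1) * 2 + 1 = 3 * 3 ^ m * 3 ^ m := by omega
      rw [this, pow_q hK]
    have h3 : (μ ^ (2 * j + 1)) ^ 2 * μ = 1 * μ := by rw [h2, one_mul]
    exact mul_right_cancel₀ hμ h3
  have hsq := mul11_sq hK FD (μ ^ (j + 1)) (pow_ne_zero _ hμ)
  have e2 : (μ ^ (j + 1)) ^ 2 = μ ^ (2 * j + 1) * μ := by
    rw [← pow_mul, ← pow_succ]; congr 1; ring
  rw [e2] at hsq
  rw [pow_two] at h1
  rcases mul_self_eq_one_iff.1 h1 with h | h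
  · rw [h, one_mul] at hsq
    exact hsq
  · rw [h] at hsq
    have := Mul11.mul (mul11_neg_one FD) hsq
    rw [neg_one_mul, neg_one_mul, neg_neg] at this
    exact this

/-- `|H¹| = q - 1` -/
theorem card_H1 [CharP K 3] (FD : FieldData K (3 ^ m))
    (α : ↥(chevG2.group K) ≃* ↥(chevG2.group K))
    (hα : ∀ (r : Fin chevG2.nroots) (t : K),
      α (xG r.val t) = xG (sig r.val) (if isShort r.val then t ^ 3 else t)) :
    Nat.card ↥(chevG2.diagonalSubgroup K ⊓ twistedG2 K (3 ^ m)) = Fintype.card K - 1 := by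
  obtain ⟨tbl, hT⟩ := torusData_all chevG2 (by simp)
  have hmem : ∀ g : ↥(chevG2.diagonalSubgroup K ⊓ twistedG2 K (3 ^ m)),
      ∃ c : ℕ → Kˣ, Twist.torHom chevG2 c = g.1 :=
    fun g => (Twist.mem_H_iff chevG2 hT (Chev.nData_G2 (F := K)) g.1).1 g.2.1
  choose cc hcc using hmem
  have finj : Function.Injective (fun g : ↥(chevG2.diagonalSubgroup K ⊓ twistedG2 K (3 ^ m)) => cc g 1) := by
    intro g g' h
    apply Subtype.ext
    rw [← hcc g, ← hcc g']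
    exact tor_eq_of_fixed FD α hα hT _ _ (by rw [hcc g]; exact g.2.2) (by rw [hcc g']; exact g'.2.2) h
  have fsurj : Function.Surjective
      (fun g : ↥(chevG2.diagonalSubgroup K ⊓ twistedG2 K (3 ^ m)) => cc g 1) := by
    intro μ
    obtain ⟨g, hg, hgs⟩ := mul11_all hK FD (μ : K) μ.ne_zero
    refine ⟨⟨g, hg⟩, ?_⟩
    apply Units.ext
    have h1 := (tor_conj hT (cc ⟨g, hg⟩) (1 : K)).1
    rw [hcc ⟨g, hg⟩] at h1
    have h2 := hgs 1
    change g * xg 11 1 = _ at h1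
    rw [h1] at h2
    have h3 := mul_right_cancel h2
    have h4 := xg_inj' 11 (by decide) h3
    simpa using h4
  classical
  rw [Nat.card_congr (Equiv.ofBijective _ ⟨finj, fsurj⟩), Nat.card_eq_fintype_card, Fintype.card_units]

end

end Cfsg.Agent.Helper6.ReeS
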