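import Cfsg.Agent.Lib.Helper6.ReeH
import Cfsg.Agent.Lib.Helper6.BraidSmall
import Cfsg.Agent.Lib.Helper6.ChevBridge
import Cfsg.Agent.Lib.Helper6.WeylDualG2
import Cfsg.Agent.Lib.Helper6.ChevWeylMap
import Cfsg.Agent.S1033

/-!
# `²G₂`: the action of `N` on the root subgroups of `G₂`
-/

set_option autoImplicit false
set_option linter.unusedSectionVars false
set_option linter.unusedVariables false
set_option maxRecDepth 100000

namespace Cfsg.Agent.Helper6.ReeS

open Cfsg Cfsg.Lie Cfsg.Agent.Helper18 Cfsg.Agent.Helper15.Ree Cfsg.Agent.Helper6.ReeSix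
open Cfsg.Agent.S1043 Cfsg.Agent.Helper6.G2C3 Cfsg.Agent.Helper6.Weyl

/-! ### light copy of the `G₂` bridge data -/

/-- codes of the coroot vectors of `G2` -/
def crCodesG2 : List ℕ := [103, 119, 86, 87, 135, 120, 152, 137, 185, 186, 153, 169]

theorem bridgeOKG2 : Chev.bridgeCheck chevG2 G2d.vd.A Chev.permG2 crCodesG2 = true := by decide +kernel

/-- the coroot vectors -/
def vecG2 : ℕ → Vec 2 := Chev.codeVec 2 crCodesG2

theorem bridgeG2 : Chev.Bridge chevG2 G2d.vd vecG2 :=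
  Chev.bridge_of_check chevG2 G2d.vd Chev.permG2 crCodesG2 rfl (fun i hi => Chev.permOK_G2 i hi) bridgeOKG2

/-- the Coxeter integers of `G2` -/
def mfG2r (i j : ℕ) : ℕ := lget (lget [[1, 6], [6, 1]] i []) j 0

theorem mfG2r_eq : ∀ i j : Fin 2, (CoxeterMatrix.G₂) i j = mfG2r i j :=
  Chev.mf_of_check _ _ (by decide +kernel)

theorem hrelG2 {F : Type*} [Field F] (h : Chev.NData F chevG2 Chev.etaG2) (i j : Fin 2) (hij : i < j) :
    (Chev.Ni h i * Chev.Ni h j) ^ ((CoxeterMatrix.G₂) i j) ∈ chevG2.diagonalSubgroup F := by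
  rw [mfG2r_eq]
  have hj : (j : ℕ) < 2 := j.2
  have hij' : (i : ℕ) < j := hij
  generalize (i : ℕ) = i' at *
  generalize (j : ℕ) = j' at *
  interval_cases j' <;> interval_cases i'
  · exact Chev.rel_of_check h 0 1 6 [] (by decide) Chev.rel_G2_0_1

theorem hsimpG2 {F : Type*} [Field F] : ∀ j < chevG2.rank, ∀ c : F, c ≠ 0 → chevG2.hMat F (chevG2.simple j) c =
    Matrix.diagonal (Sum.elim (fun _ => (1 : F)) (fun s : Fin chevG2.nroots => c ^ (chevG2.cartan j s))) :=
  fun j hj c hc => Cfsg.Agent.S1033.result _ (by simp) j hj c hc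

/-- an element of `N` acting trivially on the root lines lies in `H` -/
theorem mem_H_of_act {F : Type*} [Field F] {g : GL chevG2.Idx F} (hgN : g ∈ chevG2.monomialSubgroup F)
    (hact : Chev.Act vecG2 (g : Matrix chevG2.Idx chevG2.Idx F) 1) : g ∈ chevG2.diagonalSubgroup F := by
  have h1 : Chev.thetaHom Chev.nData_G2 bridgeG2 hsimpG2 ⟨g, hgN⟩ = 1 := by
    apply Subtype.ext
    rw [Chev.thetaHom_apply]
    exact Chev.theta_eq Chev.nData_G2 bridgeG2 hsimpG2 ⟨g, hgN⟩ hact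
  exact (Chev.thetaHom_eq_one_iff Chev.nData_G2 bridgeG2 hsimpG2 CoxeterMatrix.G₂
    (ordersOK_spec G2d.vd CoxeterMatrix.G₂ G2d.orders_ok) (fun i j hij => hrelG2 _ i j hij) ⟨g, hgN⟩).1 h1

end Cfsg.Agent.Helper6.ReeS
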