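import Cfsg.Agent.Lib.Helper6.ReeI

/-!
# `²G₂`: every element of `N` permutes the root subgroups through one of twelve tables
-/

set_option autoImplicit false
set_option linter.unusedSectionVars false
set_option linter.unusedVariables false
set_option maxRecDepth 100000

namespace Cfsg.Agent.Helper6.ReeS

open Cfsg Cfsg.Lie Cfsg.Agent.Helper18 Cfsg.Agent.Helper15.Ree Cfsg.Agent.Helper6.ReeSix
open Cfsg.Agent.S1043 Cfsg.Agent.Helper6.G2C3 Cfsg.Agent.Helper6.Weyl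

section

variable {K : Type*} [Field K]

/-! ### distinguishing the root subgroups -/

theorem cartan_mod3 : ∀ r : Fin chevG2.nroots, ∃ i : Fin chevG2.rank,
    ((chevG2.cartanSR.getD i.val #[]).getD r.val 0) % 3 ≠ 0 := by decide

theorem xg_root_inj [CharP K 3] {r r' : ℕ} (hr : r < 12) (hr' : r' < 12) {a b : K} (ha : a ≠ 0)
    (he : xg r a = xg r' b) : r = r' := by
  by_contra hne
  have he' : chevG2.x K r a = chevG2.x K r' b := congrArg Units.val he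
  have e1 := ChevGraph.x_eq_xMat chevG2 (K := K) ⟨r, hr⟩ a
  have e2 := ChevGraph.x_eq_xMat chevG2 (K := K) ⟨r', hr'⟩ b
  simp only at e1 e2
  rw [e1, e2] at he'
  obtain ⟨i, hi⟩ := cartan_mod3 ⟨r, hr⟩
  have h1 := congrFun (congrFun he' (Sum.inr ⟨r, hr⟩)) (Sum.inl i)
  have hne' : (⟨r, hr⟩ : Fin chevG2.nroots) ≠ ⟨r', hr'⟩ := fun h => hne (Fin.mk.inj_iff.1 h)
  simp only [ChevalleyDatum.xMat, Matrix.of_apply, if_true, if_neg hne'] at h1
  rw [neg_mul, neg_eq_zero, mul_eq_zero] at h1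
  rcases h1 with h1 | h1
  · rw [CharP.intCast_eq_zero_iff K 3] at h1
    exact hi (Int.emod_eq_zero_of_dvd h1)
  · exact ha h1

/-! ### the conjugation action -/

/-- conjugation by `g` maps `X_s` onto `X_{p s}` -/
def CA (g : GL chevG2.Idx K) (p : ℕ → ℕ) : Prop :=
  ∀ s < 12, p s < 12 ∧ ∃ c : K, c ≠ 0 ∧ ∀ t : K, g * xg s t * g⁻¹ = xg (p s) (c * t)

theorem ca_one : CA (1 : GL chevG2.Idx K) id := by
  intro s hs
  exact ⟨hs, 1, one_ne_zero, fun t => by rw [one_mul, inv_one, mul_one, one_mul]; rfl⟩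

theorem ca_mul {g g' : GL chevG2.Idx K} {p p' : ℕ → ℕ} (h : CA g p) (h' : CA g' p') :
    CA (g * g') (fun s => p (p' s)) := by
  intro s hs
  obtain ⟨hs', c', hc', h1⟩ := h' s hs
  obtain ⟨hs'', c, hc, h2⟩ := h (p' s) hs'
  refine ⟨hs'', c * c', mul_ne_zero hc hc', fun t => ?_⟩
  calc g * g' * xg s t * (g * g')⁻¹ = g * (g' * xg s t * g'⁻¹) * g⁻¹ := by group
    _ = xg (p (p' s)) (c * c' * t) := by rw [h1, h2, mul_assoc]

theorem ca_congr {g : GL chevG2.Idx K} {p p' : ℕ → ℕ} (h : CA g p) (he : ∀ s < 12, p s = p' s) :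
    CA g p' := by
  intro s hs
  rw [← he s hs]
  exact h s hs

/-- two actions of the same element agree -/
theorem ca_unique [CharP K 3] {g : GL chevG2.Idx K} {p p' : ℕ → ℕ} (h : CA g p) (h' : CA g p') :
    ∀ s < 12, p s = p' s := by
  intro s hs
  obtain ⟨h1, c, hc, h2⟩ := h s hs
  obtain ⟨h1', c', hc', h2'⟩ := h' s hs
  have := (h2 1).symm.trans (h2' 1)
  exact xg_root_inj h1 h1' (mul_ne_zero hc one_ne_zero) this


/-! ### the torus and the fundamental reflections -/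

theorem chi_ne_zero (c : ℕ → Kˣ) (s : ℕ) :
    Cfsg.Agent.Helper18.chi chevG2 (fun i => (c i : K)) s ≠ 0 := by
  unfold Cfsg.Agent.Helper18.chi
  apply List.prod_ne_zero
  intro h0
  obtain ⟨i, _, hi⟩ := List.mem_map.1 h0
  exact zpow_ne_zero _ (c i).ne_zero hi

theorem ca_of_mem_H {g : GL chevG2.Idx K} (hg : g ∈ chevG2.diagonalSubgroup K) : CA g id := by
  obtain ⟨tbl, hT⟩ := Cfsg.Agent.Helper18.torusData_all chevG2 (by simp)
  obtain ⟨c, rfl⟩ := (Twist.mem_H_iff chevG2 hT (Chev.nData_G2 (F := K)) g).1 hg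
  intro s hs
  refine ⟨hs, _, chi_ne_zero c s, fun t => ?_⟩
  have := Twist.torHom_conj_xg chevG2 hT (Chev.nData_G2 (F := K)) c s hs t
  rwa [xg_eq, xg_eq] at this

theorem ca_Ni (i : ℕ) (hi : i < 2) :
    CA (Chev.Ni (Chev.nData_G2 (F := K)) i) (chevG2.reflectRoot i) := by
  intro s hs
  have hη := (Chev.nData_G2 (F := K)).eta_pm i hi s hs
  refine ⟨(Chev.nData_G2 (F := K)).refl_lt i hi s hs, ((Chev.etaG2 i s : ℤ) : K), ?_, fun t => ?_⟩
  · rcases hη with e | e <;> rw [e] <;> simp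
  · have := Chev.conj_xg (Chev.nData_G2 (F := K)) i hi s hs t
    rwa [xg_eq, xg_eq] at this

theorem Ni_inv_eq (i : ℕ) : (Chev.Ni (Chev.nData_G2 (F := K)) i)⁻¹ =
    Chev.Ni (Chev.nData_G2 (F := K)) i * Chev.hg (Chev.nData_G2 (F := K)) (chevG2.simple i) (-1) := by
  rw [Chev.hg, ← Chev.Ni_inv]
  group

theorem ca_Ni_inv (i : ℕ) (hi : i < 2) :
    CA (Chev.Ni (Chev.nData_G2 (F := K)) i)⁻¹ (chevG2.reflectRoot i) := by
  rw [Ni_inv_eq]
  have h1 : Chev.hg (Chev.nData_G2 (F := K)) (chevG2.simple i) (-1) ∈ chevG2.diagonalSubgroup K :=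
    Chev.hg_mem _ _ ((Chev.nData_G2 (F := K)).simple_lt i hi) _ (neg_ne_zero.mpr one_ne_zero)
  exact ca_mul (ca_Ni i hi) (ca_of_mem_H h1)

/-! ### the twelve tables -/

/-- the permutation of the roots coded by a list -/
def T (a : List ℕ) : ℕ → ℕ := fun s => a.getD s 0

/-- the twelve permutations of the roots induced by the Weyl group -/
def tbs : List (List ℕ) :=
  [[0, 1, 2, 3, 4, 5, 6, 7, 8, 9, 10, 11], [0, 5, 3, 2, 7, 1, 10, 4, 9, 8, 6, 11],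
   [1, 0, 2, 4, 3, 6, 5, 8, 7, 9, 11, 10], [5, 0, 3, 7, 2, 10, 1, 9, 4, 8, 11, 6],
   [1, 6, 4, 2, 8, 0, 11, 3, 9, 7, 5, 10], [5, 10, 7, 3, 9, 0, 11, 2, 8, 4, 1, 6],
   [6, 1, 4, 8, 2, 11, 0, 9, 3, 7, 10, 5], [10, 5, 7, 9, 3, 11, 0, 8, 2, 4, 6, 1],
   [6, 11, 8, 4, 9, 1, 10, 2, 7, 3, 0, 5], [10, 11, 9, 7, 8, 5, 6, 3, 4, 2, 0, 1],
   [11, 6, 8, 9, 4, 10, 1, 7, 2, 3, 5, 0], [11, 10, 9, 8, 7, 6, 5, 4, 3, 2, 1, 0]]

theorem tbs_comp : ∀ a ∈ tbs, ∀ b ∈ tbs, ∃ c ∈ tbs, ∀ s < 12, T c s = T a (T b s) := by decide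

theorem tbs_refl : ∀ i < 2, ∃ a ∈ tbs, ∀ s < 12, T a s = chevG2.reflectRoot i s := by decide

theorem tbs_id : ∃ a ∈ tbs, ∀ s < 12, T a s = s := by decide

/-- the integral matrix `u` and the permutation `p` of the roots are compatible -/
def Compat (u : (Mat 2)ˣ) (p : ℕ → ℕ) : Prop := ∀ s < 12, vecG2 (p s) = u • vecG2 s

/-- the element `g` acts on the root lines and the root subgroups through a table -/
def QN (g : GL chevG2.Idx K) : Prop :=
  ∃ (u : (Mat 2)ˣ) (a b : List ℕ), a ∈ tbs ∧ b ∈ tbs ∧ Compat u (T a) ∧ Compat u⁻¹ (T b) ∧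
    Chev.Act2 vecG2 g u ∧ CA g (T a) ∧ CA g⁻¹ (T b)

theorem qn_of_mem_H {g : GL chevG2.Idx K} (hg : g ∈ chevG2.diagonalSubgroup K) : QN g := by
  obtain ⟨a, ha, hid⟩ := tbs_id
  have hc : Compat 1 (T a) := fun s hs => by rw [hid s hs, one_smul]
  refine ⟨1, a, a, ha, ha, hc, by rw [inv_one]; exact hc,
    Chev.act_of_mem_H Chev.nData_G2 bridgeG2 hsimpG2 hg,
    ca_congr (ca_of_mem_H hg) (fun s hs => (hid s hs).symm),
    ca_congr (ca_of_mem_H (inv_mem hg)) (fun s hs => (hid s hs).symm)⟩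

theorem qn_Ni (i : ℕ) (hi : i < 2) : QN (Chev.Ni (Chev.nData_G2 (F := K)) i) := by
  obtain ⟨a, ha, hr⟩ := tbs_refl i hi
  have hc : Compat (G2d.vd.s ⟨i, hi⟩) (T a) := fun s hs => by
    rw [hr s hs]
    exact bridgeG2.refl ⟨i, hi⟩ s hs
  refine ⟨G2d.vd.s ⟨i, hi⟩, a, a, ha, ha, hc, by rw [VDatum.s_inv]; exact hc,
    Chev.act2_Ni Chev.nData_G2 bridgeG2 hsimpG2 ⟨i, hi⟩,
    ca_congr (ca_Ni i hi) (fun s hs => (hr s hs).symm),
    ca_congr (ca_Ni_inv i hi) (fun s hs => (hr s hs).symm)⟩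

theorem qn_mul {g g' : GL chevG2.Idx K} (h : QN g) (h' : QN g') : QN (g * g') := by
  obtain ⟨u, a, b, ha, hb, hca, hcb, hact, hA, hB⟩ := h
  obtain ⟨u', a', b', ha', hb', hca', hcb', hact', hA', hB'⟩ := h'
  obtain ⟨c, hc, hcc⟩ := tbs_comp a ha a' ha'
  obtain ⟨d, hd, hdd⟩ := tbs_comp b' hb' b hb
  refine ⟨u * u', c, d, hc, hd, ?_, ?_, Chev.act2_mul vecG2 hact hact',
    ca_congr (ca_mul hA hA') (fun s hs => (hcc s hs).symm), ?_⟩
  · intro s hs
    rw [hcc s hs, hca _ (hA' s hs).1, hca' s hs, mul_smul]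
  · intro s hs
    rw [hdd s hs, hcb' _ (hB s hs).1, hcb s hs, mul_inv_rev, mul_smul]
  · rw [mul_inv_rev]
    exact ca_congr (ca_mul hB' hB) (fun s hs => (hdd s hs).symm)

theorem qn_inv {g : GL chevG2.Idx K} (h : QN g) : QN g⁻¹ := by
  obtain ⟨u, a, b, ha, hb, hca, hcb, hact, hA, hB⟩ := h
  exact ⟨u⁻¹, b, a, hb, ha, hcb, by rw [inv_inv]; exact hca, Chev.act2_inv vecG2 hact, hB,
    by rw [inv_inv]; exact hA⟩

theorem qn_of_mem_N {g : GL chevG2.Idx K} (hg : g ∈ chevG2.monomialSubgroup K) : QN g := by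
  have hle : Subgroup.closure ((chevG2.diagonalSubgroup K : Set (GL chevG2.Idx K)) ∪
      {g | ∃ i < chevG2.rank, g = Chev.Ni (Chev.nData_G2 (F := K)) i}) = chevG2.monomialSubgroup K := by
    rw [Subgroup.closure_union, Subgroup.closure_eq, Chev.monomial_eq_N0 Chev.nData_G2, Chev.N0]
  rw [← hle] at hg
  induction hg using Subgroup.closure_induction with
  | mem y hy =>
    rcases hy with hy | ⟨i, hi, rfl⟩
    · exact qn_of_mem_H hy
    · exact qn_Ni i hi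
  | one => exact qn_of_mem_H (one_mem _)
  | mul y z _ _ hy hz => exact qn_mul hy hz
  | inv y _ hy => exact qn_inv hy

end

end Cfsg.Agent.Helper6.ReeS
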