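import Cfsg.Agent.Lib.Helper6.ReeK
import Cfsg.Agent.Lib.Helper59.TwFixC
import Cfsg.Agent.Lib.Helper18.UiData
import Cfsg.Agent.Lib.Helper18.CommSmall

/-!
# `²G₂`: the ambient group `G₂(K)` with its Bruhat normal form, restricted to the group itself
-/

set_option autoImplicit false
set_option linter.unusedSectionVars false
set_option linter.unusedVariables false
set_option maxRecDepth 100000

namespace Cfsg.Agent.Helper6.ReeS

open Cfsg Cfsg.Lie Cfsg.Agent.Helper18 Cfsg.Agent.Helper15.Ree Cfsg.Agent.Helper6.ReeSix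
open Cfsg.Agent.S1043 Cfsg.Agent.Helper6.G2C3 Cfsg.Agent.Helper6.Weyl Cfsg.Agent.Helper17
open Cfsg.Agent.Helper59.TwFix

section Transport

variable {G : Type*} [Group G]

/-- restriction of an ambient structure to its group `Γ` -/
def ambSub (A : Amb G) (hU : A.U ≤ A.Γ) (hH : A.H ≤ A.Γ) (hN : A.N ≤ A.Γ) : Amb ↥A.Γ where
  Γ := ⊤
  U := A.U.subgroupOf A.Γ
  H := A.H.subgroupOf A.Γ
  N := A.N.subgroupOf A.Γ
  B := A.B.subgroupOf A.Γ
  Uw n := (A.Uw (n : G)).subgroupOf A.Γ
  U_le_B := fun x hx => A.U_le_B hx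
  H_le_B := fun x hx => A.H_le_B hx
  B_decomp := by
    intro b hb
    obtain ⟨u, hu, h, hh, e⟩ := A.B_decomp (b : G) hb
    exact ⟨⟨u, hU hu⟩, hu, ⟨h, hH hh⟩, hh, Subtype.ext e⟩
  UH_bot := by
    intro x hxU hxH
    exact Subtype.ext (A.UH_bot (x : G) hxU hxH)
  H_le_N := fun x hx => A.H_le_N hx
  H_normal := by
    intro n hn h hh
    exact A.H_normal (n : G) hn (h : G) hh
  BN := fun x hxB hxN => A.BN (x : G) hxB hxN
  Uw_le := fun n x hx => A.Uw_le (n : G) hx
  Uw_H := by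
    intro n h hh
    show (A.Uw ((h * n : ↥A.Γ) : G)).subgroupOf A.Γ = _
    rw [Subgroup.coe_mul, A.Uw_H (n : G) (h : G) hh]
  Uw_one := by
    show (A.Uw ((1 : ↥A.Γ) : G)).subgroupOf A.Γ = ⊥
    rw [Subgroup.coe_one, A.Uw_one]
    exact Subgroup.bot_subgroupOf A.Γ
  nf_exists := by
    intro g _
    obtain ⟨b, hb, n, hn, u, hu, e⟩ := A.nf_exists (g : G) g.2
    have hbΓ : b ∈ A.Γ := by
      obtain ⟨u', hu', h', hh', rfl⟩ := A.B_decomp b hb
      exact mul_mem (hU hu') (hH hh')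
    exact ⟨⟨b, hbΓ⟩, hb, ⟨n, hN hn⟩, hn, ⟨u, hU (A.Uw_le n hu)⟩, hu, Subtype.ext e⟩
  nf_unique := by
    intro b b' n n' u u' hb hb' hn hn' hu hu' e
    have := A.nf_unique (b : G) b' n n' u u' hb hb' hn hn' hu hu' (congrArg Subtype.val e)
    refine ⟨this.1, fun hnn => ?_⟩
    obtain ⟨h1, h2⟩ := this.2 (congrArg Subtype.val hnn)
    exact ⟨Subtype.ext h1, Subtype.ext h2⟩

end Transport

/-! ### the hypotheses for `G₂` -/

theorem posRangeG2 : ∀ s, chevG2.IsPosRoot s → 6 ≤ s ∧ s < 12 := by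
  intro s hs
  have h1 : s < 12 := hs.1
  have : ∀ s < 12, chevG2.IsPosRoot s → 6 ≤ s := by decide +kernel
  exact ⟨this s h1 hs, h1⟩

theorem commAllG2 (i : ℕ) (hi : i < 2) (s : ℕ) (hs : chevG2.IsPosRoot s) :
    Cfsg.Agent.Helper18.commCheck chevG2 (chevG2.simple i) s = true := by
  obtain ⟨h1, h2⟩ := posRangeG2 s hs
  have h : i = 0 ∨ i = 1 := by omega
  rcases h with rfl | rfl
  · change Cfsg.Agent.Helper18.commCheck chevG2 7 s = true
    exact commG2_0_from6 s h1 h2
  · change Cfsg.Agent.Helper18.commCheck chevG2 6 s = true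
    exact commG2_1_from6 s h1 h2

theorem uiG2 : UiFacts chevG2 :=
  ⟨(uiFacts12_all chevG2 goodG2).1, (uiFacts12_all chevG2 goodG2).2,
    fun i hi s hs => commAllG2 i hi s hs⟩

section

variable {K : Type*} [Field K]

theorem conjS_G2 : ∀ i < chevG2.rank, ConjGoalS' K chevG2 i := by
  intro i hi
  have h := Chev.nData_G2 (F := K)
  refine ⟨fun s => if s < chevG2.nroots then Chev.etaG2 i s else 1, ?_, ?_, ?_⟩
  · intro s
    by_cases hs : s < chevG2.nroots
    · simp only [hs, if_true]; exact h.eta_pm i hi s hs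
    · simp only [hs, if_false]; left; trivial
  · intro s hs
    simp only [hs, h.neg_lt s hs, if_true]
    rw [h.eta_neg i hi s hs]
    rcases h.eta_pm i hi s hs with e | e <;> rw [e] <;> norm_num
  · intro s hs t
    simp only [hs, if_true]
    rw [h.mono i hi]
    exact h.conj i hi s hs t

theorem hconjG2 : ∀ i < chevG2.rank, ∀ s < chevG2.nroots, ConjGoal' K chevG2 i s := by
  intro i hi s hs
  refine ⟨Chev.etaG2 i s, (Chev.nData_G2 (F := K)).eta_pm i hi s hs, fun t => ?_⟩
  rw [(Chev.nData_G2 (F := K)).mono i hi]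
  exact (Chev.nData_G2 (F := K)).conj i hi s hs t

/-- the exponent table of the torus -/
noncomputable def tblG2 : List ℕ := Classical.choose (torusData_all chevG2 (by simp))

theorem torusG2 : TorusData chevG2 tblG2 := Classical.choose_spec (torusData_all chevG2 (by simp))

theorem hypG2 : ChevHyp K chevG2 tblG2 where
  hB := bnFacts_all chevG2 goodG2
  hU := uiG2
  hT := torusG2
  hTri := triOK_G2
  hNeg := negTriOK_G2
  hconj := hconjG2
  hS := conjS_G2
  hNH := Chev.monomial_le_normalizer (Chev.nData_G2 (F := K))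

/-- `G₂(K)` inside the general linear group -/
noncomputable def ambGL : Amb (GL chevG2.Idx K) := chevAmb goodG2 (hypG2 (K := K))

end

end Cfsg.Agent.Helper6.ReeS
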