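import Cfsg.Agent.Lib.Helper6.ReeL

/-!
# `²G₂`: the endomorphism `σ` as a twist of the ambient group
-/

set_option autoImplicit false
set_option linter.unusedSectionVars false
set_option linter.unusedVariables false
set_option maxRecDepth 100000

namespace Cfsg.Agent.Helper6.ReeS

open Cfsg Cfsg.Lie Cfsg.Agent.Helper18 Cfsg.Agent.Helper15.Ree Cfsg.Agent.Helper6.ReeSix
open Cfsg.Agent.S1043 Cfsg.Agent.Helper6.G2C3 Cfsg.Agent.Helper6.Weyl Cfsg.Agent.Helper17
open Cfsg.Agent.Helper59.TwFix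

section

variable {K : Type*} [Field K]

theorem B_le_group : chevG2.borelSubgroup K ≤ chevG2.group K := borel_le chevG2 goodG2

theorem N_le_group : chevG2.monomialSubgroup K ≤ chevG2.group K := monomial_le chevG2 goodG2

theorem U_le_group : chevG2.posUnipotent K ≤ chevG2.group K := le_trans le_sup_left B_le_group

theorem H_le_group : chevG2.diagonalSubgroup K ≤ chevG2.group K := le_trans le_sup_right B_le_group

/-- `G₂(K)` with its Bruhat normal form -/
noncomputable def ambΓ : Amb ↥(chevG2.group K) :=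
  ambSub (ambGL (K := K)) U_le_group H_le_group N_le_group

theorem xg_mem_group (r : ℕ) (t : K) : xg r t ∈ chevG2.group K := by
  rw [← xG_val']
  exact Subtype.property _

/-- the sets of roots are stable under the symmetry -/
theorem sig_posRoot : ∀ r, chevG2.IsPosRoot r → chevG2.IsPosRoot (sig r) := by
  intro r hr
  have : ∀ r < 12, chevG2.IsPosRoot r → chevG2.IsPosRoot (sig r) := by decide +kernel
  exact this r hr.1 hr

theorem sig_negRoot : ∀ r, chevG2.IsNegRoot r → chevG2.IsNegRoot (sig r) := by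
  intro r hr
  have : ∀ r < 12, chevG2.IsNegRoot r → chevG2.IsNegRoot (sig r) := by decide +kernel
  exact this r hr.1 hr

theorem sig_neg12 : ∀ r < 12, sig (chevG2.neg r) = chevG2.neg (sig r) ∧
    isShort (chevG2.neg r) = isShort r ∧ chevG2.neg r < 12 := by decide +kernel

end

section

variable {K : Type*} [Field K] [CharP K 3] {e : ℕ} (FD : FieldData K e)
  (α : ↥(chevG2.group K) ≃* ↥(chevG2.group K))
  (hα : ∀ (r : Fin chevG2.nroots) (t : K),
      α (xG r.val t) = xG (sig r.val) (if isShort r.val then t ^ 3 else t))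

/-- the parameter map of the root `r` -/
noncomputable def lam (r : ℕ) : K →+* K := if isShort r then psi FD else FD.phi

theorem lam_surj (r : ℕ) : Function.Surjective (lam FD r) := by
  intro x
  unfold lam
  split_ifs
  · exact ⟨FD.phi x, by rw [psi_apply]; exact FD.phi_cube x⟩
  · refine ⟨psi FD x, ?_⟩
    rw [psi_apply, map_pow]
    exact FD.phi_cube x

include hα

theorem sigma_xG' (r : ℕ) (hr : r < 12) (t : K) :
    sigma FD α (xG r t) = xG (sig r) (lam FD r t) := by
  rw [sigma_xG FD α hα r hr]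
  unfold lam
  split_ifs <;> rfl

/-- induction principle: `σ` maps a closure into a subgroup as soon as it does so on generators -/
theorem sigma_closure {X : Set (GL chevG2.Idx K)} (hX : X ⊆ chevG2.group K)
    (S' : Subgroup (GL chevG2.Idx K))
    (hgen : ∀ y ∈ X, ∀ hy : y ∈ chevG2.group K,
      ((sigma FD α ⟨y, hy⟩ : ↥(chevG2.group K)) : GL chevG2.Idx K) ∈ S') :
    ∀ y ∈ Subgroup.closure X, ∀ hy : y ∈ chevG2.group K,
      ((sigma FD α ⟨y, hy⟩ : ↥(chevG2.group K)) : GL chevG2.Idx K) ∈ S' := by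
  intro y hyc
  have hle : Subgroup.closure X ≤ chevG2.group K := (Subgroup.closure_le _).2 hX
  induction hyc using Subgroup.closure_induction with
  | mem y hy => exact hgen y hy
  | one =>
    intro hy
    have : (⟨1, hy⟩ : ↥(chevG2.group K)) = 1 := rfl
    rw [this, map_one]
    exact S'.one_mem
  | mul a b ha hb iha ihb =>
    intro hy
    have : (⟨a * b, hy⟩ : ↥(chevG2.group K)) = ⟨a, hle ha⟩ * ⟨b, hle hb⟩ := rfl
    rw [this, map_mul, Subgroup.coe_mul]
    exact S'.mul_mem (iha _) (ihb _)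
  | inv a ha iha =>
    intro hy
    have : (⟨a⁻¹, hy⟩ : ↥(chevG2.group K)) = (⟨a, hle ha⟩)⁻¹ := rfl
    rw [this, map_inv, Subgroup.coe_inv]
    exact S'.inv_mem (iha _)

omit hα in
theorem eq_xG {y : GL chevG2.Idx K} (hy : y ∈ chevG2.group K) {r : ℕ} {t : K}
    (h : (y : Matrix chevG2.Idx chevG2.Idx K) = chevG2.x K r t) :
    (⟨y, hy⟩ : ↥(chevG2.group K)) = xG r t :=
  Subtype.ext (Units.ext h)

theorem sigma_U : ∀ y ∈ chevG2.posUnipotent K, ∀ hy : y ∈ chevG2.group K,
    ((sigma FD α ⟨y, hy⟩ : ↥(chevG2.group K)) : GL chevG2.Idx K) ∈ chevG2.posUnipotent K := by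
  apply sigma_closure FD α hα
  · rintro y ⟨r, t, hr, h⟩
    have : y = xg r t := Units.ext h
    rw [this]
    exact xg_mem_group r t
  · rintro y ⟨r, t, hr, h⟩ hy
    rw [eq_xG hy h, sigma_xG' FD α hα r hr.1, xG_val']
    exact Subgroup.subset_closure ⟨sig r, _, sig_posRoot r hr, rfl⟩

theorem sigma_V : ∀ y ∈ chevG2.negUnipotent K, ∀ hy : y ∈ chevG2.group K,
    ((sigma FD α ⟨y, hy⟩ : ↥(chevG2.group K)) : GL chevG2.Idx K) ∈ chevG2.negUnipotent K := by
  apply sigma_closure FD α hα
  · rintro y ⟨r, t, hr, h⟩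
    have : y = xg r t := Units.ext h
    rw [this]
    exact xg_mem_group r t
  · rintro y ⟨r, t, hr, h⟩ hy
    rw [eq_xG hy h, sigma_xG' FD α hα r hr.1, xG_val']
    exact Subgroup.subset_closure ⟨sig r, _, sig_negRoot r hr, rfl⟩

/-- `n_r(t)` inside the group -/
noncomputable def nG (r : ℕ) (t : K) : ↥(chevG2.group K) := xG r t * xG (chevG2.neg r) (-t⁻¹) * xG r t

omit hα in
theorem nG_val (r : ℕ) (t : K) :
    ((nG r t : ↥(chevG2.group K)) : GL chevG2.Idx K) = Chev.ng (Chev.nData_G2 (F := K)) r t := by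
  unfold nG Chev.ng
  rw [Subgroup.coe_mul, Subgroup.coe_mul, xG_val', xG_val', xg_eq, xg_eq]

theorem sigma_nG (r : ℕ) (hr : r < 12) (t : K) :
    sigma FD α (nG r t) = nG (sig r) (lam FD r t) := by
  obtain ⟨h1, h2, h3⟩ := sig_neg12 r hr
  unfold nG
  rw [map_mul, map_mul, sigma_xG' FD α hα r hr, sigma_xG' FD α hα _ h3, h1]
  have : lam FD (chevG2.neg r) = lam FD r := by unfold lam; rw [h2]
  rw [this, map_neg, map_inv₀]

theorem sigma_H : ∀ y ∈ chevG2.diagonalSubgroup K, ∀ hy : y ∈ chevG2.group K,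
    ((sigma FD α ⟨y, hy⟩ : ↥(chevG2.group K)) : GL chevG2.Idx K) ∈ chevG2.diagonalSubgroup K := by
  apply sigma_closure FD α hα
  · intro y hy
    exact H_le_group (Subgroup.subset_closure hy)
  · rintro y ⟨r, t, hr, ht, h⟩ hy
    have e1 : (⟨y, hy⟩ : ↥(chevG2.group K)) = nG r t * nG r (-1) := by
      apply Subtype.ext
      rw [Subgroup.coe_mul, nG_val, nG_val]
      exact Chev.eq_hg_of_val (Chev.nData_G2 (F := K)) h
    rw [e1, map_mul, sigma_nG FD α hα r hr, sigma_nG FD α hα r hr, Subgroup.coe_mul, nG_val, nG_val,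
      map_neg, map_one]
    exact Chev.hg_mem _ _ (sig_lt12 r hr) _ ((map_ne_zero _).2 ht)

theorem sigma_N : ∀ y ∈ chevG2.monomialSubgroup K, ∀ hy : y ∈ chevG2.group K,
    ((sigma FD α ⟨y, hy⟩ : ↥(chevG2.group K)) : GL chevG2.Idx K) ∈ chevG2.monomialSubgroup K := by
  have hle : Subgroup.closure ((chevG2.diagonalSubgroup K : Set (GL chevG2.Idx K)) ∪
      {g | ∃ r : ℕ, r < chevG2.nroots ∧ (g : Matrix chevG2.Idx chevG2.Idx K) = chevG2.nMat K r 1}) =
      chevG2.monomialSubgroup K := by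
    rw [Subgroup.closure_union, Subgroup.closure_eq]
    rfl
  intro y hyN
  rw [← hle] at hyN
  revert y
  apply sigma_closure FD α hα
  · rintro y (hy | ⟨r, hr, h⟩)
    · exact H_le_group hy
    · exact N_le_group (Subgroup.mem_sup_right (Subgroup.subset_closure ⟨r, hr, h⟩))
  · rintro y (hy | ⟨r, hr, h⟩) hyG
    · exact Subgroup.mem_sup_left (sigma_H FD α hα y hy hyG)
    · have e1 : (⟨y, hyG⟩ : ↥(chevG2.group K)) = nG r 1 := by
        apply Subtype.ext
        rw [nG_val]
        exact Chev.eq_ng_of_val (Chev.nData_G2 (F := K)) h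
      rw [e1, sigma_nG FD α hα r hr, nG_val, map_one]
      exact Chev.ng_one_mem _ _ (sig_lt12 r hr)

end

end Cfsg.Agent.Helper6.ReeS
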