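import Cfsg.Agent.Lib.Helper6.ReeM
import Cfsg.Agent.Lib.Helper6.ReeD

/-!
# `²G₂`: the twist structure, lifting of Weyl elements and fixed points of `U`
-/

set_option autoImplicit false
set_option linter.unusedSectionVars false
set_option linter.unusedVariables false
set_option maxRecDepth 100000

namespace Cfsg.Agent.Helper6.ReeS

open Cfsg Cfsg.Lie Cfsg.Agent.Helper18 Cfsg.Agent.Helper15.Ree Cfsg.Agent.Helper6.ReeSix
open Cfsg.Agent.S1043 Cfsg.Agent.Helper6.G2C3 Cfsg.Agent.Helper6.Weyl Cfsg.Agent.Helper17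
open Cfsg.Agent.Helper59.TwFix

section

variable {K : Type*} [Field K] [CharP K 3] {e : ℕ} (FD : FieldData K e)
  (α : ↥(chevG2.group K) ≃* ↥(chevG2.group K))
  (hα : ∀ (r : Fin chevG2.nroots) (t : K),
      α (xG r.val t) = xG (sig r.val) (if isShort r.val then t ^ 3 else t))

include hα

theorem sigma_Uw (n : ↥(chevG2.group K)) :
    ∀ y ∈ Uw chevG2 (n : GL chevG2.Idx K), ∀ hy : y ∈ chevG2.group K,
      ((sigma FD α ⟨y, hy⟩ : ↥(chevG2.group K)) : GL chevG2.Idx K) ∈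
        Uw chevG2 ((sigma FD α n : ↥(chevG2.group K)) : GL chevG2.Idx K) := by
  unfold Uw
  apply sigma_closure FD α hα
  · rintro y ⟨r, t, hr, _, h⟩
    have : y = xg r t := Units.ext h
    rw [this]
    exact xg_mem_group r t
  · rintro y ⟨r, t, hr, hle, h⟩ hy
    rw [eq_xG hy h, sigma_xG' FD α hα r hr.1, xG_val']
    apply Subgroup.subset_closure
    refine ⟨sig r, _, sig_posRoot r hr, ?_, rfl⟩
    rw [Subgroup.map_le_iff_le_comap, ChevalleyDatum.rootSubgroup, Subgroup.closure_le]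
    rintro g ⟨s, hg⟩
    have hgeq : g = xg (sig r) s := Units.ext hg
    obtain ⟨s0, rfl⟩ := lam_surj FD r s
    rw [SetLike.mem_coe, Subgroup.mem_comap, hgeq]
    simp only [MulEquiv.toMonoidHom_eq_coe, MonoidHom.coe_coe, MulAut.conj_apply]
    have h1 : (n : GL chevG2.Idx K) * xg r s0 * (n : GL chevG2.Idx K)⁻¹ ∈ chevG2.negUnipotent K := by
      apply hle
      refine Subgroup.mem_map.2 ⟨xg r s0, Subgroup.subset_closure ⟨s0, rfl⟩, ?_⟩
      simp only [MulEquiv.toMonoidHom_eq_coe, MonoidHom.coe_coe, MulAut.conj_apply]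
    have hmem : (n : GL chevG2.Idx K) * xg r s0 * (n : GL chevG2.Idx K)⁻¹ ∈ chevG2.group K :=
      mul_mem (mul_mem n.2 (xg_mem_group r s0)) (inv_mem n.2)
    have h2 := sigma_V FD α hα _ h1 hmem
    have e : (⟨(n : GL chevG2.Idx K) * xg r s0 * (n : GL chevG2.Idx K)⁻¹, hmem⟩ : ↥(chevG2.group K)) =
        n * xG r s0 * n⁻¹ :=
      Subtype.ext (by rw [Subgroup.coe_mul, Subgroup.coe_mul, Subgroup.coe_inv, xG_val'])
    rw [e, map_mul, map_mul, map_inv, sigma_xG' FD α hα r hr.1, Subgroup.coe_mul, Subgroup.coe_mul,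
      Subgroup.coe_inv, xG_val'] at h2
    exact h2

/-- the twist of `G₂(K)` defining `²G₂` -/
noncomputable def twG2 : Twist (ambΓ (K := K)) where
  τ := sigma FD α
  G1 := (twistedG2 K e).subgroupOf (chevG2.group K)
  G1_le := fun _ _ => Subgroup.mem_top _
  fix := by
    intro g hg
    obtain ⟨hg', hfix⟩ := twisted_fixed FD α hα (g : GL chevG2.Idx K) hg
    exact hfix
  τU := fun u hu => sigma_U FD α hα (u : GL chevG2.Idx K) hu u.2
  τH := fun u hu => sigma_H FD α hα (u : GL chevG2.Idx K) hu u.2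
  τN := fun u hu => sigma_N FD α hα (u : GL chevG2.Idx K) hu u.2
  τUw := fun n u hu => sigma_Uw FD α hα n (u : GL chevG2.Idx K) hu u.2

/-- the permutation attached to an element `g` with `σ g ∈ g H` commutes with the graph symmetry -/
theorem ca_comm_gen {g h : ↥(chevG2.group K)} {p : ℕ → ℕ} (hp : CA (g : GL chevG2.Idx K) p)
    (hh : (h : GL chevG2.Idx K) ∈ chevG2.diagonalSubgroup K) (hσ : sigma FD α g = g * h) :
    ∀ s < 12, p (sig s) = sig (p s) := by
  intro s hs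
  obtain ⟨hps, c, hc, h1⟩ := hp s hs
  obtain ⟨hps', c', hc', h2⟩ := hp (sig s) (sig_lt12 s hs)
  obtain ⟨_, c₁, hc₁, h3⟩ := ca_of_mem_H hh (sig s) (sig_lt12 s hs)
  have e1 : g * xG s 1 * g⁻¹ = xG (p s) c := by
    apply Subtype.ext
    rw [Subgroup.coe_mul, Subgroup.coe_mul, Subgroup.coe_inv, xG_val', xG_val']
    have := h1 1
    rwa [mul_one] at this
  have e2 := congrArg (sigma FD α) e1
  rw [map_mul, map_mul, map_inv, hσ, sigma_xG' FD α hα s hs, sigma_xG' FD α hα (p s) hps, map_one] at e2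
  have e3 := congrArg (Subtype.val) e2
  rw [Subgroup.coe_mul, Subgroup.coe_mul, Subgroup.coe_inv, Subgroup.coe_mul, xG_val', xG_val'] at e3
  have e4 : (g : GL chevG2.Idx K) * (h : GL chevG2.Idx K) * xg (sig s) 1 *
      ((g : GL chevG2.Idx K) * (h : GL chevG2.Idx K))⁻¹ = xg (p (sig s)) (c' * (c₁ * 1)) := by
    calc (g : GL chevG2.Idx K) * (h : GL chevG2.Idx K) * xg (sig s) 1 *
        ((g : GL chevG2.Idx K) * (h : GL chevG2.Idx K))⁻¹
        = (g : GL chevG2.Idx K) * ((h : GL chevG2.Idx K) * xg (sig s) 1 * (h : GL chevG2.Idx K)⁻¹) *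
          (g : GL chevG2.Idx K)⁻¹ := by group
      _ = xg (p (sig s)) (c' * (c₁ * 1)) := by rw [h3 1, id, h2]
  rw [e4] at e3
  exact xg_root_inj hps' (sig_lt12 _ hps) (mul_ne_zero hc' (mul_ne_zero hc₁ one_ne_zero)) e3

omit hα in
/-- an element of `N` normalising every root subgroup lies in `H` -/
theorem mem_H_of_ca_id {g : GL chevG2.Idx K} (hgN : g ∈ chevG2.monomialSubgroup K) {p : ℕ → ℕ}
    (hp : CA g p) (hid : ∀ s < 12, p s = s) : g ∈ chevG2.diagonalSubgroup K := by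
  obtain ⟨u, a, b, ha, hb, hca, hcb, hact, hA, hB⟩ := qn_of_mem_N hgN
  have h1 : ∀ s < 12, T a s = s := fun s hs => (ca_unique hA hp s hs).trans (hid s hs)
  have hu : u = 1 := compat_id hca h1
  rw [hu] at hact
  exact mem_H_of_act hgN hact.1

include FD in
/-- lifting the `σ`-stable cosets of `H` in `N` to `N¹` -/
theorem lift_N {n : ↥(chevG2.group K)} (hn : (n : GL chevG2.Idx K) ∈ chevG2.monomialSubgroup K)
    (hh : ((n⁻¹ * sigma FD α n : ↥(chevG2.group K)) : GL chevG2.Idx K) ∈ chevG2.diagonalSubgroup K) :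
    ∃ n₁ : GL chevG2.Idx K, n₁ ∈ chevG2.monomialSubgroup K ∧ n₁ ∈ twistedG2 K e ∧
      n₁⁻¹ * (n : GL chevG2.Idx K) ∈ chevG2.diagonalSubgroup K := by
  obtain ⟨u, a, b, ha, hb, hca, hcb, hact, hA, hB⟩ := qn_of_mem_N hn
  have hσ : sigma FD α n = n * (n⁻¹ * sigma FD α n) := by group
  rcases tbs_comm a ha (ca_comm_gen FD α hα hA hh hσ) with h | h
  · refine ⟨1, one_mem _, one_mem _, ?_⟩
    rw [inv_one, one_mul]
    exact mem_H_of_ca_id hn hA h
  · refine ⟨n0, n0_mem_N, n0_mem_twisted FD, ?_⟩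
    have hn0i : (n0 : GL chevG2.Idx K)⁻¹ ∉ chevG2.diagonalSubgroup K := fun hcon =>
      n0_not_mem_H (by have := inv_mem hcon; rwa [inv_inv] at this)
    have h1 := (n1_cases FD α hα (inv_mem n0_mem_N) (inv_mem (n0_mem_twisted FD))).resolve_left hn0i
    have h2 : CA (n : GL chevG2.Idx K) chevG2.neg := ca_congr hA h
    exact mem_H_of_ca_id (mul_mem (inv_mem n0_mem_N) hn) (ca_mul h1 h2) (fun s hs => neg_neg12 s hs)

include FD in
/-- the `σ`-fixed elements of `U` lie in `G¹` -/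
theorem fixU_mem {u : ↥(chevG2.group K)} (hU : (u : GL chevG2.Idx K) ∈ chevG2.posUnipotent K)
    (hfix : sigma FD α u = u) : (u : GL chevG2.Idx K) ∈ twistedG2 K e := by
  obtain ⟨a, b, c, d, f, g', hcan⟩ := exists_can (u : GL chevG2.Idx K) hU
  have e1 : u = can XP a b c d f g' := Subtype.ext (hcan.trans (can_val XP_val a b c d f g').symm)
  rw [e1] at hfix
  obtain ⟨t, u', v, h⟩ := fixed_can (rel_lift XP_val (rel_pos FD.h3)) (sig_pos FD α hα)
    (fun a b c d f g a' b' c' d' f' g' h => by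
      obtain ⟨h1, h2, h3, h4, _, _⟩ := can_inj_lift a b c d f g a' b' c' d' f' g' h
      exact ⟨h1, h2, h3, h4⟩) a b c d f g' hfix
  have e2 : (u : GL chevG2.Idx K) = wordG (reeWordU e t u' v) := by
    rw [wordU_eq FD, ← h, ← e1]
  rw [e2]
  apply Subgroup.subset_closure
  exact ⟨reeWordU e t u' v, ⟨t, u', v, Or.inl rfl⟩, wordG_val _⟩

end

end Cfsg.Agent.Helper6.ReeS
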