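import Cfsg.Agent.Lib.Helper6.ReeO

/-!
# `²G₂`: the twisted Bruhat decomposition `G¹ = B¹ ∪ B¹ n₀ U¹`
-/

set_option autoImplicit false
set_option linter.unusedSectionVars false
set_option linter.unusedVariables false
set_option maxRecDepth 100000

namespace Cfsg.Agent.Helper6.ReeS

open Cfsg Cfsg.Lie Cfsg.Agent.Helper18 Cfsg.Agent.Helper15.Ree Cfsg.Agent.Helper6.ReeSix
open Cfsg.Agent.S1043 Cfsg.Agent.Helper6.G2C3 Cfsg.Agent.Helper6.Weyl Cfsg.Agent.Helper17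
open Cfsg.Agent.Helper59.TwFix

section

variable {K : Type*} [Field K] [CharP K 3] {e : ℕ} (FD : FieldData K e)
  (α : ↥(chevG2.group K) ≃* ↥(chevG2.group K))
  (hα : ∀ (r : Fin chevG2.nroots) (t : K),
      α (xG r.val t) = xG (sig r.val) (if isShort r.val then t ^ 3 else t))

include FD hα

theorem twisted_le_group : twistedG2 K e ≤ chevG2.group K := fun g hg =>
  (twisted_fixed FD α hα g hg).1

theorem lift_tw : ∀ n ∈ (ambΓ (K := K)).N, n⁻¹ * (twG2 FD α hα).τ n ∈ (ambΓ (K := K)).H →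
    ∃ n₁ ∈ (ambΓ (K := K)).N, n₁ ∈ (twG2 FD α hα).G1 ∧ n₁⁻¹ * n ∈ (ambΓ (K := K)).H := by
  intro n hn hh
  obtain ⟨n₁, h1, h2, h3⟩ := lift_N FD α hα hn hh
  exact ⟨⟨n₁, N_le_group h1⟩, h1, h2, h3⟩

theorem fixUw_tw : ∀ n ∈ (ambΓ (K := K)).N, n ∈ (twG2 FD α hα).G1 →
    ∀ u ∈ (ambΓ (K := K)).Uw n, (twG2 FD α hα).τ u = u → u ∈ (twG2 FD α hα).G1 :=
  fun n _ _ u hu hfix => fixU_mem FD α hα (Uw_le_pos chevG2 _ hu) hfix

/-- the normal form of the elements of `G¹` -/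
theorem ree_nf (g : GL chevG2.Idx K) (hg : g ∈ twistedG2 K e) :
    ∃ n ∈ chevG2.monomialSubgroup K ⊓ twistedG2 K e, ∃ b ∈ chevG2.borelSubgroup K ⊓ twistedG2 K e,
      ∃ u ∈ chevG2.posUnipotent K ⊓ twistedG2 K e, u ∈ Uw chevG2 n ∧ g = b * n * u := by
  obtain ⟨n, hn, hnG, b, hb, hbG, u, hu, e1⟩ :=
    (twG2 FD α hα).nf1 (lift_tw FD α hα) (fixUw_tw FD α hα) ⟨g, twisted_le_group FD α hα hg⟩ hg
  have huw : (u : GL chevG2.Idx K) ∈ Uw chevG2 (n : GL chevG2.Idx K) := hu.1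
  refine ⟨n, ⟨hn, hnG⟩, b, ⟨hb, hbG⟩, u, ⟨Uw_le_pos chevG2 _ huw, fixU_mem FD α hα (Uw_le_pos chevG2 _ huw) hu.2⟩,
    huw, ?_⟩
  have := congrArg Subtype.val e1
  rwa [Subgroup.coe_mul, Subgroup.coe_mul] at this

/-- the twisted Bruhat decomposition -/
theorem ree_bruhat :
    (∀ g ∈ twistedG2 K e, g ∈ chevG2.borelSubgroup K ∨
      ∃ b ∈ chevG2.borelSubgroup K ⊓ twistedG2 K e, ∃ u ∈ chevG2.posUnipotent K ⊓ twistedG2 K e,
        g = b * n0 * u) ∧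
    (∀ b ∈ chevG2.borelSubgroup K, ∀ b' ∈ chevG2.borelSubgroup K, ∀ u ∈ chevG2.posUnipotent K,
      ∀ u' ∈ chevG2.posUnipotent K, b * n0 * u = b' * n0 * u' → b = b' ∧ u = u') ∧
    (n0 : GL chevG2.Idx K) ∈ twistedG2 K e ∧ (n0 : GL chevG2.Idx K) ∈ chevG2.monomialSubgroup K ∧
    (n0 : GL chevG2.Idx K) ∉ chevG2.borelSubgroup K := by
  refine ⟨?_, ?_, n0_mem_twisted FD, n0_mem_N, ?_⟩
  · intro g hg
    obtain ⟨n, hn, b, hb, u, hu, huw, e1⟩ := ree_nf FD α hα g hg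
    by_cases h : n ∈ chevG2.diagonalSubgroup K
    · left
      have h2 : Uw chevG2 n = ⊥ := (ambGL (K := K)).Uw_of_mem_H h
      rw [h2, Subgroup.mem_bot] at huw
      rw [e1, huw, mul_one]
      exact mul_mem hb.1 (Subgroup.mem_sup_right h)
    · right
      have hn0i : (n0 : GL chevG2.Idx K)⁻¹ ∉ chevG2.diagonalSubgroup K := fun hcon =>
        n0_not_mem_H ((Subgroup.inv_mem_iff _).1 hcon)
      have h1 : n * (n0 : GL chevG2.Idx K)⁻¹ ∈ chevG2.diagonalSubgroup K :=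
        mul_mem_H FD α hα hn.1 hn.2 (inv_mem n0_mem_N) (inv_mem (n0_mem_twisted FD)) h hn0i
      refine ⟨b * (n * (n0 : GL chevG2.Idx K)⁻¹), Subgroup.mem_inf.2
        ⟨(chevG2.borelSubgroup K).mul_mem hb.1 (Subgroup.mem_sup_right h1),
        (twistedG2 K e).mul_mem hb.2 ((twistedG2 K e).mul_mem hn.2
          ((twistedG2 K e).inv_mem (n0_mem_twisted FD)))⟩, u, hu, ?_⟩
      rw [e1]
      group
  · intro b hb b' hb' u hu u' hu' e1
    have hu1 : u ∈ Uw chevG2 (n0 : GL chevG2.Idx K) := by rw [Uw_n0 FD α hα]; exact hu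
    have hu2 : u' ∈ Uw chevG2 (n0 : GL chevG2.Idx K) := by rw [Uw_n0 FD α hα]; exact hu'
    exact ((ambGL (K := K)).nf_unique b b' n0 n0 u u' hb hb' n0_mem_N n0_mem_N hu1 hu2 e1).2 rfl
  · intro hB
    exact n0_not_mem_H ((ambGL (K := K)).BN n0 hB n0_mem_N)

end

end Cfsg.Agent.Helper6.ReeS
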