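import Cfsg.Agent.Lib.Helper6.ReeP
import Cfsg.Agent.Lib.Helper6.TwistBNChev
import Cfsg.Agent.Lib.Helper6.TwistSimple

/-!
# `²G₂`: the (B,N)-pair and the simplicity criterion
-/

set_option autoImplicit false
set_option linter.unusedSectionVars false
set_option linter.unusedVariables false
set_option maxRecDepth 100000

namespace Cfsg.Agent.Helper6.ReeS

open Cfsg Cfsg.Lie Cfsg.Agent.Helper18 Cfsg.Agent.Helper15.Ree Cfsg.Agent.Helper6.ReeSix
open Cfsg.Agent.S1043 Cfsg.Agent.Helper6.G2C3 Cfsg.Agent.Helper6.Weyl Cfsg.Agent.Helper17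
open Cfsg.Agent.Helper59.TwFix

/-- `n_a(1)` as a word -/
def wA : List (ℕ × LP) := [(7, kk 1), (4, kk (-1)), (7, kk 1)]
/-- `n_b(1)` as a word -/
def wB : List (ℕ × LP) := [(6, kk 1), (5, kk (-1)), (6, kk 1)]

theorem chk_long : wordEqCheckP chevG2 3 (wA ++ wB ++ wA ++ wB ++ wA ++ wB) wN0 = true := by
  decide +kernel

section

variable {K : Type*} [Field K]

theorem nGL_eq_Ni (i : ℕ) : nGL (F := K) chevG2 goodG2 i = Chev.Ni (Chev.nData_G2 (F := K)) i := by
  apply Units.ext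
  rw [nGL_val, Chev.Ni, Chev.ng_val]

theorem nGL_zero : nGL (F := K) chevG2 goodG2 0 = wordG (evalWord (1 : Kˣ) 1 wA) := by
  have h3 : chevG2.neg 7 = 4 := by decide
  have hs : chevG2.simple 0 = 7 := by decide
  rw [nGL_eq_Ni, Chev.Ni, hs]
  simp only [Chev.ng, h3, xg_eq]
  simp [evalWord, wA, kk, LP.eval, LP.evalMono, wordG, mul_assoc]

theorem nGL_one : nGL (F := K) chevG2 goodG2 1 = wordG (evalWord (1 : Kˣ) 1 wB) := by
  have h3 : chevG2.neg 6 = 5 := by decide
  have hs : chevG2.simple 1 = 6 := by decide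
  rw [nGL_eq_Ni, Chev.Ni, hs]
  simp only [Chev.ng, h3, xg_eq]
  simp [evalWord, wB, kk, LP.eval, LP.evalMono, wordG, mul_assoc]

/-- the word of the longest element -/
noncomputable def wLong : List (GL chevG2.Idx K) := ([0, 1, 0, 1, 0, 1] : List ℕ).map (nGL chevG2 goodG2)

theorem wLong_prod [CharP K 3] : (wLong (K := K)).prod = n0 := by
  have hc : wordG (evalWord (1 : Kˣ) 1 (wA ++ wB ++ wA ++ wB ++ wA ++ wB)) =
      wordG (evalWord (1 : Kˣ) 1 wN0) :=
    Units.ext (by rw [wordG_val, wordG_val]; exact wordMat_eq_of_checkP chevG2 3 1 1 _ _ chk_long)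
  rw [n0, ← hc]
  simp only [wLong, List.map_cons, List.map_nil, List.prod_cons, List.prod_nil, mul_one, nGL_zero, nGL_one,
    evalWord_append, wordG_append, mul_assoc]

end

section

variable {K : Type*} [Field K] [Fintype K] [CharP K 3] {e : ℕ} (FD : FieldData K e)
  (α : ↥(chevG2.group K) ≃* ↥(chevG2.group K))
  (hα : ∀ (r : Fin chevG2.nroots) (t : K),
      α (xG r.val t) = xG (sig r.val) (if isShort r.val then t ^ 3 else t))

include FD hα

/-- **the (B,N)-pair of `²G₂`** -/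
theorem exists_bnPair_ree :
    ∃ P : Cfsg.BNPair ↥(twistedG2 K e),
      P.B = (chevG2.borelSubgroup K ⊓ twistedG2 K e).subgroupOf (twistedG2 K e) ∧
      P.N = (chevG2.monomialSubgroup K ⊓ twistedG2 K e).subgroupOf (twistedG2 K e) ∧
      P.S = {s : ↥(twistedG2 K e) | ∃ j : Unit, (s : GL chevG2.Idx K) = (wLong (K := K)).prod} := by
  classical
  have CH := hypG2 (K := K)
  have hBN : chevG2.borelSubgroup K ⊓ chevG2.monomialSubgroup K = chevG2.diagonalSubgroup K :=
    Cfsg.Agent.Helper6.TwBN.borel_inf_mono goodG2 CH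
  have hHB : chevG2.diagonalSubgroup K ≤ chevG2.borelSubgroup K := le_sup_right
  have hUB : chevG2.posUnipotent K ≤ chevG2.borelSubgroup K := le_sup_left
  have hn0N := n0_mem_N (K := K)
  have hn0G := n0_mem_twisted (K := K) FD
  have hn0H := n0_not_mem_H (K := K)
  have hn0i : (n0 : GL chevG2.Idx K)⁻¹ ∉ chevG2.diagonalSubgroup K := fun hcon =>
    hn0H ((Subgroup.inv_mem_iff _).1 hcon)
  have hprod := wLong_prod (K := K)
  apply Cfsg.Agent.Helper6.Twist.exists_bnPair_fixed (chevG2.borelSubgroup K) (chevG2.monomialSubgroup K)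
    {s : GL chevG2.Idx K | ∃ i < chevG2.rank, s = nGL chevG2 goodG2 i}
    (ι := Unit) (w := fun _ => wLong (K := K))
  · -- hSN
    rintro s ⟨i, hi, rfl⟩
    exact nGL_mem chevG2 goodG2 i (CH.hB.hsimp i hi)
  · -- hT3
    rintro s ⟨i, hi, rfl⟩ n hn b hb
    exact bn_mul_mem chevG2 goodG2 CH.hB CH.hU CH.hT CH.hconj CH.hS CH.hNH i hi n hn b hb
  · -- huniq
    exact Cfsg.Agent.Helper6.TwBN.huniq_chev goodG2 CH
  · -- hconjT
    intro n hn t ht
    rw [hBN] at ht
    exact hHB ((Subgroup.mem_normalizer_iff.mp (CH.hNH hn) t).mp ht)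
  · -- hnf
    intro g hg
    obtain ⟨n, hn, b, hb, u, hu, _, e1⟩ := ree_nf FD α hα g hg
    exact ⟨n, hn, b, hb, u, ⟨hUB hu.1, hu.2⟩, e1⟩
  · -- hw
    intro j x hx
    obtain ⟨i, hi, rfl⟩ := List.mem_map.1 hx
    refine ⟨i, ?_, rfl⟩
    have : ∀ i ∈ ([0, 1, 0, 1, 0, 1] : List ℕ), i < chevG2.rank := by decide
    exact this i hi
  · -- hwG
    intro j
    rw [hprod]
    exact hn0G
  · -- hfix
    intro j L' hsub x hx hxL
    rw [hprod]
    by_cases h : x ∈ chevG2.diagonalSubgroup K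
    · left
      have : L'.prod = x * (x⁻¹ * L'.prod) := by group
      rw [this]
      exact mul_mem (hHB h) hxL
    · right
      have h1 : (n0 : GL chevG2.Idx K)⁻¹ * x ∈ chevG2.diagonalSubgroup K :=
        mul_mem_H FD α hα (inv_mem hn0N) (inv_mem hn0G) hx.1 hx.2 hn0i h
      have : (n0 : GL chevG2.Idx K)⁻¹ * L'.prod = ((n0 : GL chevG2.Idx K)⁻¹ * x) * (x⁻¹ * L'.prod) := by
        group
      rw [this]
      exact mul_mem (hHB h1) hxL
  · -- hsq
    intro j
    rw [hprod]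
    exact hHB (mul_mem_H FD α hα hn0N hn0G hn0N hn0G hn0H hn0H)
  · -- hinj
    intro j j' _
    rfl
  · -- hgen
    intro n hn
    by_cases h : n ∈ chevG2.diagonalSubgroup K
    · refine ⟨[], ?_⟩
      simp only [List.map_nil, List.prod_nil, inv_one, one_mul]
      exact hHB h
    · refine ⟨[()], ?_⟩
      simp only [List.map_cons, List.map_nil, List.prod_cons, List.prod_nil, mul_one]
      rw [hprod]
      exact hHB (mul_mem_H FD α hα (inv_mem hn0N) (inv_mem hn0G) hn.1 hn.2 hn0i h)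
  · -- hne
    intro j
    rw [hprod]
    have hcard := card_U1 FD α hα
    have hnt : ∃ x ∈ chevG2.posUnipotent K ⊓ twistedG2 K e, x ≠ 1 := by
      by_contra hcon
      have hbot : chevG2.posUnipotent K ⊓ twistedG2 K e = ⊥ := by
        rw [eq_bot_iff]
        intro x hx
        by_contra hx1
        exact hcon ⟨x, hx, fun h1 => hx1 (Subgroup.mem_bot.2 h1)⟩
      rw [hbot, Subgroup.card_bot] at hcard
      have h2 : 1 < Fintype.card K := Fintype.one_lt_card
      have h3 : 1 < Fintype.card K ^ 3 := Nat.one_lt_pow (by norm_num) h2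
      omega
    obtain ⟨x, hx, hx1⟩ := hnt
    refine ⟨x, ⟨hUB hx.1, hx.2⟩, ?_⟩
    intro hmem
    apply hx1
    have h4 : (n0 : GL chevG2.Idx K) * x * (n0 : GL chevG2.Idx K)⁻¹ ∈ chevG2.borelSubgroup K := by
      have e1 : (n0 : GL chevG2.Idx K) * x * (n0 : GL chevG2.Idx K)⁻¹ =
          ((n0 : GL chevG2.Idx K) * x * n0) * ((n0 : GL chevG2.Idx K) * n0)⁻¹ := by group
      rw [e1]
      exact mul_mem hmem (inv_mem (hHB (mul_mem_H FD α hα hn0N hn0G hn0N hn0G hn0H hn0H)))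
    have h5 : (n0 : GL chevG2.Idx K) * x * (n0 : GL chevG2.Idx K)⁻¹ ∈ chevG2.negUnipotent K := by
      apply conj_Uw_mem_neg chevG2 n0 x
      rw [Uw_n0 FD α hα]
      exact hx.1
    have hbot := (borel_inf_neg (F := K) chevG2 CH.hT CH.hTri CH.hNeg).1
    have h6 : (n0 : GL chevG2.Idx K) * x * (n0 : GL chevG2.Idx K)⁻¹ = 1 := by
      rw [← Subgroup.mem_bot, ← hbot]
      exact ⟨h4, h5⟩
    have : x = (n0 : GL chevG2.Idx K)⁻¹ * ((n0 : GL chevG2.Idx K) * x * (n0 : GL chevG2.Idx K)⁻¹) * n0 := by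
      group
    rw [this, h6]
    group

/-- `²G₂` is simple as soon as it is perfect and the core of `B¹` is trivial -/
theorem simple_ree (hperf : commutator ↥(twistedG2 K e) = ⊤)
    (hcore : ((chevG2.borelSubgroup K ⊓ twistedG2 K e).subgroupOf (twistedG2 K e)).normalCore = ⊥) :
    IsSimpleGroup ↥(twistedG2 K e) ∧ ¬ IsMulCommutative ↥(twistedG2 K e) := by
  obtain ⟨P, hPB, hPN, hPS⟩ := exists_bnPair_ree FD α hα
  have hnt : Nontrivial ↥(twistedG2 K e) := by
    refine ⟨⟨⟨n0, n0_mem_twisted FD⟩, 1, ?_⟩⟩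
    intro h
    have h1 : (n0 : GL chevG2.Idx K) = 1 := congrArg Subtype.val h
    exact n0_not_mem_H (h1 ▸ one_mem _)
  have hirr : P.Irreducible := by
    intro J hJ hJne hJc
    exfalso
    obtain ⟨s, hs⟩ := hJne
    obtain ⟨s', hs', hs'J⟩ := hJc
    have h1 := hJ hs
    rw [hPS] at h1 hs'
    obtain ⟨_, e1⟩ := h1
    obtain ⟨_, e2⟩ := hs'
    have : s = s' := Subtype.ext (e1.trans e2.symm)
    exact hs'J (this ▸ hs)
  exact Cfsg.Agent.Helper6.Twist.simple_of_bnPair chevG2 (by simp) (twistedG2 K e) P hPB hirr hperf hcore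

end

end Cfsg.Agent.Helper6.ReeS
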