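import Mathlib
import Cfsg.Prelude.Def_Sporadic_a

set_option autoImplicit false

namespace Cfsg.Agent.Helper6

open Cfsg Finset

variable {α : Type*} [Fintype α] [DecidableEq α]

open Classical in
/-- the blocks, as a finset -/
noncomputable def blocks (B : Set (Finset α)) : Finset (Finset α) := univ.filter (· ∈ B)

omit [DecidableEq α] in
theorem mem_blocks {B : Set (Finset α)} {b : Finset α} : b ∈ blocks B ↔ b ∈ B := by
  unfold blocks; simp

omit [DecidableEq α] in
theorem ncard_eq_card_blocks (B : Set (Finset α)) : B.ncard = #(blocks B) := by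
  have : B = ((blocks B : Finset (Finset α)) : Set (Finset α)) := by
    ext b; simp [mem_blocks]
  conv_lhs => rw [this]
  exact Set.ncard_coe_finset _

/-- the number of blocks through a `j`-set (`j ≤ t`) -/
theorem card_blocksThrough_mul {t k : ℕ} {B : Set (Finset α)} (hB : IsSteinerSystem t k B)
    {s : Finset α} {j : ℕ} (hs : #s = j) (hj : j ≤ t) :
    #((blocks B).filter (s ⊆ ·)) * (k - j).choose (t - j) =
      (Fintype.card α - j).choose (t - j) := by
  classical
  set 𝒯 := ((univ : Finset α).powersetCard t).filter (s ⊆ ·) with h𝒯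
  set ℬ := (blocks B).filter (s ⊆ ·) with hℬ
  have hdc := sum_card_bipartiteAbove_eq_sum_card_bipartiteBelow
    (s := 𝒯) (t := ℬ) (fun (T b : Finset α) => T ⊆ b)
  have hL : ∀ T ∈ 𝒯, #(ℬ.bipartiteAbove (fun (T b : Finset α) => T ⊆ b) T) = 1 := by
    intro T hT
    rw [h𝒯, mem_filter, mem_powersetCard] at hT
    obtain ⟨b, ⟨hbB, hTb⟩, huniq⟩ := hB.2 T hT.1.2
    rw [card_eq_one]
    refine ⟨b, ?_⟩
    ext c
    simp only [bipartiteAbove, hℬ, mem_filter, mem_blocks, mem_singleton]
    constructor
    · rintro ⟨⟨hc, _⟩, hTc⟩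
      exact huniq c ⟨hc, hTc⟩
    · rintro rfl
      exact ⟨⟨hbB, hT.2.trans hTb⟩, hTb⟩
  have hR : ∀ b ∈ ℬ, #(𝒯.bipartiteBelow (fun (T b : Finset α) => T ⊆ b) b) =
      (k - j).choose (t - j) := by
    intro b hb
    rw [hℬ, mem_filter, mem_blocks] at hb
    have hbk : #b = k := hB.1 b hb.1
    have : 𝒯.bipartiteBelow (fun (T b : Finset α) => T ⊆ b) b =
        (b.powersetCard t).filter (s ⊆ ·) := by
      ext T
      simp only [bipartiteBelow, h𝒯, mem_filter, mem_powersetCard, subset_univ, true_and]
      tauto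
    rw [this, card_filter_powersetCard_subset s b t hb.2 (hs ▸ hj), hbk, hs]
  rw [sum_congr rfl hL, sum_congr rfl hR] at hdc
  simp only [sum_const, smul_eq_mul, mul_one] at hdc
  rw [← hdc, h𝒯, card_filter_powersetCard_subset s univ t (subset_univ _) (hs ▸ hj), hs,
    card_univ]

/-- the moment equations for the intersection numbers with a fixed block -/
theorem moment_eq {t k : ℕ} {B : Set (Finset α)} (hB : IsSteinerSystem t k B)
    {b0 : Finset α} (hb0 : b0 ∈ B) {j : ℕ} (hj : j ≤ t) :
    (∑ c ∈ blocks B, (#(b0 ∩ c)).choose j) * (k - j).choose (t - j) =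
      k.choose j * (Fintype.card α - j).choose (t - j) := by
  classical
  have hdc := sum_card_bipartiteAbove_eq_sum_card_bipartiteBelow
    (s := b0.powersetCard j) (t := blocks B) (fun (s c : Finset α) => s ⊆ c)
  have hR : ∀ c ∈ blocks B, #((b0.powersetCard j).bipartiteBelow (fun (s c : Finset α) => s ⊆ c) c)
      = (#(b0 ∩ c)).choose j := by
    intro c _
    rw [← card_powersetCard]
    congr 1
    ext s
    simp only [bipartiteBelow, mem_filter, mem_powersetCard, subset_inter_iff]
    tauto
  rw [sum_congr rfl hR] at hdc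
  rw [← hdc, sum_mul]
  have hL : ∀ s ∈ b0.powersetCard j,
      #((blocks B).bipartiteAbove (fun (s c : Finset α) => s ⊆ c) s) * (k - j).choose (t - j) =
        (Fintype.card α - j).choose (t - j) := by
    intro s hs
    rw [mem_powersetCard] at hs
    exact card_blocksThrough_mul hB hs.2 hj
  rw [sum_congr rfl hL, sum_const, card_powersetCard, hB.1 b0 hb0, smul_eq_mul]

/-- moments over the other blocks -/
theorem moment_erase {t k : ℕ} {B : Set (Finset α)} (hB : IsSteinerSystem t k B)
    {b0 : Finset α} (hb0 : b0 ∈ B) {j : ℕ} (hj : j ≤ t) :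
    ((∑ c ∈ (blocks B).erase b0, (#(b0 ∩ c)).choose j) + k.choose j) * (k - j).choose (t - j) =
      k.choose j * (Fintype.card α - j).choose (t - j) := by
  rw [← moment_eq hB hb0 hj, ← sum_erase_add _ _ (mem_blocks.2 hb0), inter_self, hB.1 b0 hb0]

theorem steiner_block_count {t k : ℕ} {B : Set (Finset α)} (hB : IsSteinerSystem t k B) :
    B.ncard * Nat.choose k t = Nat.choose (Fintype.card α) t := by
  have h := card_blocksThrough_mul hB (s := ∅) (j := 0) card_empty (Nat.zero_le _)
  simp only [empty_subset, filter_true, Nat.sub_zero] at h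
  rw [ncard_eq_card_blocks]
  convert h using 2

end Cfsg.Agent.Helper6
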