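import Cfsg.Agent.Lib.Helper6.Steiner

set_option autoImplicit false

namespace Cfsg.Agent.Helper6

open Cfsg Finset

variable {α : Type*} [Fintype α] [DecidableEq α]

/-- the `j`-th moment of the intersection sizes of `b` with the other blocks -/
noncomputable def Mom (B : Set (Finset α)) (b : Finset α) (j : ℕ) : ℕ :=
  ∑ c ∈ (blocks B).erase b, (#(b ∩ c)).choose j

section S5824

variable (hα : Fintype.card α = 24) {B : Set (Finset α)} (hB : IsSteinerSystem 5 8 B)
  {b : Finset α} (hb : b ∈ B)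

include hα hB hb

theorem mom24_0 : Mom B b 0 = 758 := by
  have h := moment_erase hB hb (j := 0) (by norm_num)
  rw [hα] at h
  have e1 : Nat.choose 8 0 = 1 := by decide
  have e2 : Nat.choose (8 - 0) (5 - 0) = 56 := by decide
  have e3 : Nat.choose (24 - 0) (5 - 0) = 42504 := by decide
  rw [e1, e2, e3] at h
  unfold Mom; omega

theorem mom24_1 : Mom B b 1 = 2016 := by
  have h := moment_erase hB hb (j := 1) (by norm_num)
  rw [hα] at h
  have e1 : Nat.choose 8 1 = 8 := by decide
  have e2 : Nat.choose (8 - 1) (5 - 1) = 35 := by decide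
  have e3 : Nat.choose (24 - 1) (5 - 1) = 8855 := by decide
  rw [e1, e2, e3] at h
  unfold Mom; omega

theorem mom24_2 : Mom B b 2 = 2128 := by
  have h := moment_erase hB hb (j := 2) (by norm_num)
  rw [hα] at h
  have e1 : Nat.choose 8 2 = 28 := by decide
  have e2 : Nat.choose (8 - 2) (5 - 2) = 20 := by decide
  have e3 : Nat.choose (24 - 2) (5 - 2) = 1540 := by decide
  rw [e1, e2, e3] at h
  unfold Mom; omega

theorem mom24_3 : Mom B b 3 = 1120 := by
  have h := moment_erase hB hb (j := 3) (by norm_num)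
  rw [hα] at h
  have e1 : Nat.choose 8 3 = 56 := by decide
  have e2 : Nat.choose (8 - 3) (5 - 3) = 10 := by decide
  have e3 : Nat.choose (24 - 3) (5 - 3) = 210 := by decide
  rw [e1, e2, e3] at h
  unfold Mom; omega

theorem mom24_4 : Mom B b 4 = 280 := by
  have h := moment_erase hB hb (j := 4) (by norm_num)
  rw [hα] at h
  have e1 : Nat.choose 8 4 = 70 := by decide
  have e2 : Nat.choose (8 - 4) (5 - 4) = 4 := by decide
  have e3 : Nat.choose (24 - 4) (5 - 4) = 20 := by decide
  rw [e1, e2, e3] at h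
  unfold Mom; omega

theorem mom24_5 : Mom B b 5 = 0 := by
  have h := moment_erase hB hb (j := 5) (by norm_num)
  rw [hα] at h
  have e1 : Nat.choose 8 5 = 56 := by decide
  have e2 : Nat.choose (8 - 5) (5 - 5) = 1 := by decide
  have e3 : Nat.choose (24 - 5) (5 - 5) = 1 := by decide
  rw [e1, e2, e3] at h
  unfold Mom; omega

theorem inter24_le {c : Finset α} (hc : c ∈ B) (hbc : b ≠ c) : #(b ∩ c) ≤ 4 := by
  have h := mom24_5 hα hB hb
  unfold Mom at h
  rw [sum_eq_zero_iff] at h
  have hc' : c ∈ (blocks B).erase b := mem_erase.2 ⟨hbc.symm, mem_blocks.2 hc⟩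
  have := h c hc'
  rw [Nat.choose_eq_zero_iff] at this
  omega

theorem inter24_cases {c : Finset α} (hc : c ∈ B) (hbc : b ≠ c) :
    #(b ∩ c) = 0 ∨ #(b ∩ c) = 2 ∨ #(b ∩ c) = 4 := by
  by_contra hcon
  have hle := inter24_le hα hB hb hc hbc
  have hc' : c ∈ (blocks B).erase b := mem_erase.2 ⟨hbc.symm, mem_blocks.2 hc⟩
  have h1 := mom24_1 hα hB hb
  have h2 := mom24_2 hα hB hb
  have h3 := mom24_3 hα hB hb
  have h4 := mom24_4 hα hB hb
  unfold Mom at h1 h2 h3 h4
  have hlt : ∑ c ∈ (blocks B).erase b, (6 * (#(b ∩ c)).choose 2 + 24 * (#(b ∩ c)).choose 4) <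
      ∑ c ∈ (blocks B).erase b, (3 * (#(b ∩ c)).choose 1 + 12 * (#(b ∩ c)).choose 3) := by
    apply sum_lt_sum
    · intro d hd
      have hd' := mem_erase.1 hd
      have hdle := inter24_le hα hB hb (mem_blocks.1 hd'.2) hd'.1.symm
      generalize #(b ∩ d) = x at hdle
      interval_cases x <;> decide
    · refine ⟨c, hc', ?_⟩
      generalize #(b ∩ c) = x at hle hcon
      interval_cases x <;> first | (exfalso; apply hcon; decide) | decide
  simp only [sum_add_distrib, ← mul_sum] at hlt
  omega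

theorem disjoint24_count : {c : Finset α | c ∈ B ∧ Disjoint b c}.ncard = 30 := by
  classical
  have hbcard : #b = 8 := hB.1 b hb
  have hset : {c : Finset α | c ∈ B ∧ Disjoint b c} =
      ((((blocks B).erase b).filter (fun c => #(b ∩ c) = 0) : Finset (Finset α)) :
        Set (Finset α)) := by
    ext c
    simp only [Set.mem_ofPred_eq, coe_filter, mem_erase, mem_blocks, card_eq_zero,
      ← disjoint_iff_inter_eq_empty]
    constructor
    · rintro ⟨hc, hd⟩
      refine ⟨⟨?_, hc⟩, hd⟩
      rintro rfl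
      rw [disjoint_self] at hd
      rw [hd] at hbcard
      simp at hbcard
    · rintro ⟨⟨_, hc⟩, hd⟩
      exact ⟨hc, hd⟩
  rw [hset, Set.ncard_coe_finset, card_filter]
  have h0 := mom24_0 hα hB hb
  have h1 := mom24_1 hα hB hb
  have h2 := mom24_2 hα hB hb
  have h3 := mom24_3 hα hB hb
  have h4 := mom24_4 hα hB hb
  unfold Mom at h0 h1 h2 h3 h4
  have heq : ∑ c ∈ (blocks B).erase b, ((if #(b ∩ c) = 0 then 1 else 0) +
        (#(b ∩ c)).choose 1 + (#(b ∩ c)).choose 3) =
      ∑ c ∈ (blocks B).erase b, ((#(b ∩ c)).choose 0 + (#(b ∩ c)).choose 2 +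
        (#(b ∩ c)).choose 4) := by
    apply sum_congr rfl
    intro d hd
    have hd' := mem_erase.1 hd
    have hdle := inter24_le hα hB hb (mem_blocks.1 hd'.2) hd'.1.symm
    generalize #(b ∩ d) = x at hdle
    interval_cases x <;> decide
  simp only [sum_add_distrib] at heq
  omega

end S5824

end Cfsg.Agent.Helper6
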