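import Cfsg.Agent.Lib.Helper6.Steiner24

set_option autoImplicit false

namespace Cfsg.Agent.Helper6

open Cfsg Finset

variable {α : Type*} [Fintype α] [DecidableEq α]

omit [Fintype α] in
theorem card_symmDiff_add (X Y : Finset α) : #(symmDiff X Y) + 2 * #(X ∩ Y) = #X + #Y := by
  have h1 : symmDiff X Y = X \ Y ∪ Y \ X := rfl
  have hd : Disjoint (X \ Y) (Y \ X) := by
    rw [disjoint_left]
    intro x hx hx'
    exact (mem_sdiff.1 hx).2 (mem_sdiff.1 hx').1
  rw [h1, card_union_of_disjoint hd]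
  have h2 := card_sdiff_add_card_inter X Y
  have h3 := card_sdiff_add_card_inter Y X
  rw [inter_comm Y X] at h3
  omega

omit [Fintype α] in
theorem symmDiff_inter_eq (X Y e : Finset α) : symmDiff X Y ∩ e = symmDiff (X ∩ e) (Y ∩ e) := by
  ext x
  simp only [mem_inter, mem_symmDiff]
  tauto

omit [Fintype α] in
theorem even_card_symmDiff_inter {X Y e : Finset α} (hX : Even #(X ∩ e)) (hY : Even #(Y ∩ e)) :
    Even #(symmDiff X Y ∩ e) := by
  rw [symmDiff_inter_eq]
  have := card_symmDiff_add (X ∩ e) (Y ∩ e)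
  rw [Nat.even_iff] at *
  omega

section S5824

variable (hα : Fintype.card α = 24) {B : Set (Finset α)} (hB : IsSteinerSystem 5 8 B)

include hα hB

theorem even24_inter {b e : Finset α} (hb : b ∈ B) (he : e ∈ B) : Even #(b ∩ e) := by
  by_cases hbe : b = e
  · subst hbe
    rw [inter_self, hB.1 b hb]; decide
  · rcases inter24_cases hα hB hb he hbe with h | h | h <;> rw [h] <;> decide

theorem lambda24_1 (p : α) : #((blocks B).filter ({p} ⊆ ·)) = 253 := by
  have h := card_blocksThrough_mul hB (s := {p}) (j := 1) (card_singleton p) (by norm_num)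
  rw [hα] at h
  have e2 : Nat.choose (8 - 1) (5 - 1) = 35 := by decide
  have e3 : Nat.choose (24 - 1) (5 - 1) = 8855 := by decide
  rw [e2, e3] at h
  omega

theorem lambda24_2 {p q : α} (hpq : p ≠ q) : #((blocks B).filter ({p, q} ⊆ ·)) = 77 := by
  have h := card_blocksThrough_mul hB (s := {p, q}) (j := 2) (card_pair hpq) (by norm_num)
  rw [hα] at h
  have e2 : Nat.choose (8 - 2) (5 - 2) = 20 := by decide
  have e3 : Nat.choose (24 - 2) (5 - 2) = 1540 := by decide
  rw [e2, e3] at h
  omega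

/-- a set of at most four points meeting every block evenly is empty -/
theorem eq_empty_of_even_inter {u : Finset α} (hu : #u ≤ 4)
    (heven : ∀ e ∈ B, Even #(u ∩ e)) : u = ∅ := by
  classical
  by_contra hne
  obtain ⟨p, hp⟩ := nonempty_iff_ne_empty.2 hne
  have hsub : (blocks B).filter ({p} ⊆ ·) ⊆
      (u.erase p).biUnion (fun q => (blocks B).filter ({p, q} ⊆ ·)) := by
    intro e he
    rw [mem_filter, mem_blocks, singleton_subset_iff] at he
    have hev := heven e he.1
    have hpe : p ∈ u ∩ e := mem_inter.2 ⟨hp, he.2⟩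
    have h1 : 1 < #(u ∩ e) := by
      have : 0 < #(u ∩ e) := card_pos.2 ⟨p, hpe⟩
      rcases hev with ⟨r, hr⟩
      omega
    obtain ⟨q, hq, hqp⟩ := exists_mem_ne h1 p
    rw [mem_biUnion]
    refine ⟨q, mem_erase.2 ⟨hqp, (mem_inter.1 hq).1⟩, ?_⟩
    rw [mem_filter, mem_blocks]
    refine ⟨he.1, ?_⟩
    intro x hx
    rw [mem_insert, mem_singleton] at hx
    rcases hx with rfl | rfl
    · exact he.2
    · exact (mem_inter.1 hq).2
  have h1 := card_le_card hsub
  have h2 := card_biUnion_le (s := u.erase p) (t := fun q => (blocks B).filter ({p, q} ⊆ ·))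
  have h3 : ∑ q ∈ u.erase p, #((blocks B).filter ({p, q} ⊆ ·)) = ∑ q ∈ u.erase p, 77 := by
    apply sum_congr rfl
    intro q hq
    exact lambda24_2 hα hB (ne_of_mem_erase hq).symm
  rw [lambda24_1 hα hB p] at h1
  rw [h3, sum_const, smul_eq_mul, card_erase_of_mem hp] at h2
  omega

theorem symmDiff24_mem {b c : Finset α} (hb : b ∈ B) (hc : c ∈ B) (h4 : #(b ∩ c) = 4) :
    symmDiff b c ∈ B := by
  classical
  have hbcard : #b = 8 := hB.1 b hb
  have hccard : #c = 8 := hB.1 c hc
  have hbc : b ≠ c := by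
    rintro rfl
    rw [inter_self, hbcard] at h4
    omega
  have hA : #(b \ c) = 4 := by
    have := card_sdiff_add_card_inter b c
    omega
  have hA' : #(c \ b) = 4 := by
    have := card_sdiff_add_card_inter c b
    rw [inter_comm c b] at this
    omega
  obtain ⟨y1, hy1⟩ : (c \ b).Nonempty := card_pos.1 (by omega)
  have hy1c : y1 ∈ c := (mem_sdiff.1 hy1).1
  have hy1b : y1 ∉ b := (mem_sdiff.1 hy1).2
  have hy1A : y1 ∉ b \ c := fun h => hy1b (mem_sdiff.1 h).1
  have hT : #(insert y1 (b \ c)) = 5 := by rw [card_insert_of_notMem hy1A, hA]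
  obtain ⟨d, ⟨hdB, hTd⟩, _⟩ := hB.2 _ hT
  have hdcard : #d = 8 := hB.1 d hdB
  have hy1d : y1 ∈ d := hTd (mem_insert_self _ _)
  have hAd : b \ c ⊆ d := fun x hx => hTd (mem_insert_of_mem hx)
  have hbd : b ≠ d := by rintro rfl; exact hy1b hy1d
  -- b ∩ d = b \ c
  have hbd_eq : b ∩ d = b \ c := by
    have hsub : b \ c ⊆ b ∩ d := fun x hx => mem_inter.2 ⟨(mem_sdiff.1 hx).1, hAd hx⟩
    have hle := card_le_card hsub
    have h4' : #(b ∩ d) ≤ 4 := inter24_le hα hB hb hdB hbd
    exact (eq_of_subset_of_card_le hsub (by omega)).symm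
  have hdisj : ∀ x, x ∈ d → x ∈ b → x ∉ c := by
    intro x hxd hxb
    have : x ∈ b ∩ d := mem_inter.2 ⟨hxb, hxd⟩
    rw [hbd_eq] at this
    exact (mem_sdiff.1 this).2
  obtain ⟨a, ha⟩ : (b \ c).Nonempty := card_pos.1 (by omega)
  have hcd : c ≠ d := by
    rintro rfl
    exact (mem_sdiff.1 ha).2 (hAd ha)
  have hcd_sub : c ∩ d ⊆ c \ b := by
    intro x hx
    rw [mem_inter] at hx
    rw [mem_sdiff]
    exact ⟨hx.1, fun hxb => hdisj x hx.2 hxb hx.1⟩
  have hcd_pos : 0 < #(c ∩ d) := card_pos.2 ⟨y1, mem_inter.2 ⟨hy1c, hy1d⟩⟩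
  have hsd_card : #(symmDiff b c) = 8 := by
    have := card_symmDiff_add b c
    omega
  rcases inter24_cases hα hB hc hdB hcd with h | h | h
  · omega
  · -- contradiction
    exfalso
    set u := symmDiff (symmDiff b c) d with hu
    have hinter : symmDiff b c ∩ d = (b \ c) ∪ (c ∩ d) := by
      ext x
      simp only [mem_inter, mem_symmDiff, mem_union, mem_sdiff]
      constructor
      · rintro ⟨h1 | h1, h2⟩
        · exact Or.inl h1
        · exact Or.inr ⟨h1.1, h2⟩
      · rintro (h1 | h1)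
        · exact ⟨Or.inl h1, hAd (mem_sdiff.2 h1)⟩
        · exact ⟨Or.inr ⟨h1.1, fun hxb => hdisj x h1.2 hxb h1.1⟩, h1.2⟩
    have hinter_card : #(symmDiff b c ∩ d) = 6 := by
      rw [hinter, card_union_of_disjoint, hA, h]
      rw [disjoint_left]
      intro x hx hx'
      exact (mem_sdiff.1 hx).2 (mem_inter.1 hx').1
    have hucard : #u = 4 := by
      have := card_symmDiff_add (symmDiff b c) d
      rw [hinter_card, hsd_card, hdcard] at this
      rw [hu]
      omega
    have hueven : ∀ e ∈ B, Even #(u ∩ e) := by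
      intro e he
      apply even_card_symmDiff_inter
      · exact even_card_symmDiff_inter (even24_inter hα hB hb he) (even24_inter hα hB hc he)
      · exact even24_inter hα hB hdB he
    have := eq_empty_of_even_inter hα hB (by omega) hueven
    rw [this] at hucard
    simp at hucard
  · -- c ∩ d = c \ b, so symmDiff b c ⊆ d
    have hcd_eq : c ∩ d = c \ b := eq_of_subset_of_card_le hcd_sub (by omega)
    have hsub : symmDiff b c ⊆ d := by
      intro x hx
      have h1 : symmDiff b c = b \ c ∪ c \ b := rfl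
      rw [h1, mem_union] at hx
      rcases hx with hx | hx
      · exact hAd hx
      · rw [← hcd_eq] at hx
        exact (mem_inter.1 hx).2
    have : symmDiff b c = d := eq_of_subset_of_card_le hsub (by omega)
    rw [this]; exact hdB

end S5824

end Cfsg.Agent.Helper6
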