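import Cfsg.Agent.Lib.Helper6.Steiner24

set_option autoImplicit false

namespace Cfsg.Agent.Helper6

open Cfsg Finset

variable {α : Type*} [Fintype α] [DecidableEq α]

section S4723

variable (hα : Fintype.card α = 23) {B : Set (Finset α)} (hB : IsSteinerSystem 4 7 B)
  {b : Finset α} (hb : b ∈ B)

include hα hB hb

theorem mom23_0 : Mom B b 0 = 252 := by
  have h := moment_erase hB hb (j := 0) (by norm_num)
  rw [hα] at h
  have e1 : Nat.choose 7 0 = 1 := by decide
  have e2 : Nat.choose (7 - 0) (4 - 0) = 35 := by decide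
  have e3 : Nat.choose (23 - 0) (4 - 0) = 8855 := by decide
  rw [e1, e2, e3] at h
  unfold Mom; omega

theorem mom23_1 : Mom B b 1 = 532 := by
  have h := moment_erase hB hb (j := 1) (by norm_num)
  rw [hα] at h
  have e1 : Nat.choose 7 1 = 7 := by decide
  have e2 : Nat.choose (7 - 1) (4 - 1) = 20 := by decide
  have e3 : Nat.choose (23 - 1) (4 - 1) = 1540 := by decide
  rw [e1, e2, e3] at h
  unfold Mom; omega

theorem mom23_2 : Mom B b 2 = 420 := by
  have h := moment_erase hB hb (j := 2) (by norm_num)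
  rw [hα] at h
  have e1 : Nat.choose 7 2 = 21 := by decide
  have e2 : Nat.choose (7 - 2) (4 - 2) = 10 := by decide
  have e3 : Nat.choose (23 - 2) (4 - 2) = 210 := by decide
  rw [e1, e2, e3] at h
  unfold Mom; omega

theorem mom23_3 : Mom B b 3 = 140 := by
  have h := moment_erase hB hb (j := 3) (by norm_num)
  rw [hα] at h
  have e1 : Nat.choose 7 3 = 35 := by decide
  have e2 : Nat.choose (7 - 3) (4 - 3) = 4 := by decide
  have e3 : Nat.choose (23 - 3) (4 - 3) = 20 := by decide
  rw [e1, e2, e3] at h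
  unfold Mom; omega

theorem mom23_4 : Mom B b 4 = 0 := by
  have h := moment_erase hB hb (j := 4) (by norm_num)
  rw [hα] at h
  have e1 : Nat.choose 7 4 = 35 := by decide
  have e2 : Nat.choose (7 - 4) (4 - 4) = 1 := by decide
  have e3 : Nat.choose (23 - 4) (4 - 4) = 1 := by decide
  rw [e1, e2, e3] at h
  unfold Mom; omega

theorem inter23_le {c : Finset α} (hc : c ∈ B) (hbc : b ≠ c) : #(b ∩ c) ≤ 3 := by
  have h := mom23_4 hα hB hb
  unfold Mom at h
  rw [sum_eq_zero_iff] at h
  have hc' : c ∈ (blocks B).erase b := mem_erase.2 ⟨hbc.symm, mem_blocks.2 hc⟩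
  have := h c hc'
  rw [Nat.choose_eq_zero_iff] at this
  omega

theorem inter23_cases {c : Finset α} (hc : c ∈ B) (hbc : b ≠ c) :
    #(b ∩ c) = 1 ∨ #(b ∩ c) = 3 := by
  by_contra hcon
  have hle := inter23_le hα hB hb hc hbc
  have hc' : c ∈ (blocks B).erase b := mem_erase.2 ⟨hbc.symm, mem_blocks.2 hc⟩
  have h0 := mom23_0 hα hB hb
  have h1 := mom23_1 hα hB hb
  have h2 := mom23_2 hα hB hb
  have h3 := mom23_3 hα hB hb
  unfold Mom at h0 h1 h2 h3
  have hlt : ∑ c ∈ (blocks B).erase b, (3 * (#(b ∩ c)).choose 1 + 6 * (#(b ∩ c)).choose 3) <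
      ∑ c ∈ (blocks B).erase b, (3 * (#(b ∩ c)).choose 0 + 4 * (#(b ∩ c)).choose 2) := by
    apply sum_lt_sum
    · intro d hd
      have hd' := mem_erase.1 hd
      have hdle := inter23_le hα hB hb (mem_blocks.1 hd'.2) hd'.1.symm
      generalize #(b ∩ d) = x at hdle
      interval_cases x <;> decide
    · refine ⟨c, hc', ?_⟩
      generalize #(b ∩ c) = x at hle hcon
      interval_cases x <;> first | (exfalso; apply hcon; decide) | decide
  simp only [sum_add_distrib, ← mul_sum] at hlt
  omega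

end S4723

section S3622

variable (hα : Fintype.card α = 22) {B : Set (Finset α)} (hB : IsSteinerSystem 3 6 B)
  {b : Finset α} (hb : b ∈ B)

include hα hB hb

theorem mom22_1 : Mom B b 1 = 120 := by
  have h := moment_erase hB hb (j := 1) (by norm_num)
  rw [hα] at h
  have e1 : Nat.choose 6 1 = 6 := by decide
  have e2 : Nat.choose (6 - 1) (3 - 1) = 10 := by decide
  have e3 : Nat.choose (22 - 1) (3 - 1) = 210 := by decide
  rw [e1, e2, e3] at h
  unfold Mom; omega

theorem mom22_2 : Mom B b 2 = 60 := by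
  have h := moment_erase hB hb (j := 2) (by norm_num)
  rw [hα] at h
  have e1 : Nat.choose 6 2 = 15 := by decide
  have e2 : Nat.choose (6 - 2) (3 - 2) = 4 := by decide
  have e3 : Nat.choose (22 - 2) (3 - 2) = 20 := by decide
  rw [e1, e2, e3] at h
  unfold Mom; omega

theorem mom22_3 : Mom B b 3 = 0 := by
  have h := moment_erase hB hb (j := 3) (by norm_num)
  rw [hα] at h
  have e1 : Nat.choose 6 3 = 20 := by decide
  have e2 : Nat.choose (6 - 3) (3 - 3) = 1 := by decide
  have e3 : Nat.choose (22 - 3) (3 - 3) = 1 := by decide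
  rw [e1, e2, e3] at h
  unfold Mom; omega

theorem inter22_le {c : Finset α} (hc : c ∈ B) (hbc : b ≠ c) : #(b ∩ c) ≤ 2 := by
  have h := mom22_3 hα hB hb
  unfold Mom at h
  rw [sum_eq_zero_iff] at h
  have hc' : c ∈ (blocks B).erase b := mem_erase.2 ⟨hbc.symm, mem_blocks.2 hc⟩
  have := h c hc'
  rw [Nat.choose_eq_zero_iff] at this
  omega

theorem inter22_cases {c : Finset α} (hc : c ∈ B) (hbc : b ≠ c) :
    #(b ∩ c) = 0 ∨ #(b ∩ c) = 2 := by
  by_contra hcon
  have hle := inter22_le hα hB hb hc hbc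
  have hc' : c ∈ (blocks B).erase b := mem_erase.2 ⟨hbc.symm, mem_blocks.2 hc⟩
  have h1 := mom22_1 hα hB hb
  have h2 := mom22_2 hα hB hb
  unfold Mom at h1 h2
  have hlt : ∑ c ∈ (blocks B).erase b, (2 * (#(b ∩ c)).choose 2) <
      ∑ c ∈ (blocks B).erase b, ((#(b ∩ c)).choose 1) := by
    apply sum_lt_sum
    · intro d hd
      have hd' := mem_erase.1 hd
      have hdle := inter22_le hα hB hb (mem_blocks.1 hd'.2) hd'.1.symm
      generalize #(b ∩ d) = x at hdle
      interval_cases x <;> decide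
    · refine ⟨c, hc', ?_⟩
      generalize #(b ∩ c) = x at hle hcon
      interval_cases x <;> first | (exfalso; apply hcon; decide) | decide
  simp only [← mul_sum] at hlt
  omega

end S3622

section S5612

variable (hα : Fintype.card α = 12) {B : Set (Finset α)} (hB : IsSteinerSystem 5 6 B)
  {b : Finset α} (hb : b ∈ B)

include hα hB hb

theorem mom12_0 : Mom B b 0 = 131 := by
  have h := moment_erase hB hb (j := 0) (by norm_num)
  rw [hα] at h
  have e1 : Nat.choose 6 0 = 1 := by decide
  have e2 : Nat.choose (6 - 0) (5 - 0) = 6 := by decide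
  have e3 : Nat.choose (12 - 0) (5 - 0) = 792 := by decide
  rw [e1, e2, e3] at h
  unfold Mom; omega

theorem mom12_1 : Mom B b 1 = 390 := by
  have h := moment_erase hB hb (j := 1) (by norm_num)
  rw [hα] at h
  have e1 : Nat.choose 6 1 = 6 := by decide
  have e2 : Nat.choose (6 - 1) (5 - 1) = 5 := by decide
  have e3 : Nat.choose (12 - 1) (5 - 1) = 330 := by decide
  rw [e1, e2, e3] at h
  unfold Mom; omega

theorem mom12_2 : Mom B b 2 = 435 := by
  have h := moment_erase hB hb (j := 2) (by norm_num)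
  rw [hα] at h
  have e1 : Nat.choose 6 2 = 15 := by decide
  have e2 : Nat.choose (6 - 2) (5 - 2) = 4 := by decide
  have e3 : Nat.choose (12 - 2) (5 - 2) = 120 := by decide
  rw [e1, e2, e3] at h
  unfold Mom; omega

theorem mom12_3 : Mom B b 3 = 220 := by
  have h := moment_erase hB hb (j := 3) (by norm_num)
  rw [hα] at h
  have e1 : Nat.choose 6 3 = 20 := by decide
  have e2 : Nat.choose (6 - 3) (5 - 3) = 3 := by decide
  have e3 : Nat.choose (12 - 3) (5 - 3) = 36 := by decide
  rw [e1, e2, e3] at h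
  unfold Mom; omega

theorem mom12_4 : Mom B b 4 = 45 := by
  have h := moment_erase hB hb (j := 4) (by norm_num)
  rw [hα] at h
  have e1 : Nat.choose 6 4 = 15 := by decide
  have e2 : Nat.choose (6 - 4) (5 - 4) = 2 := by decide
  have e3 : Nat.choose (12 - 4) (5 - 4) = 8 := by decide
  rw [e1, e2, e3] at h
  unfold Mom; omega

theorem mom12_5 : Mom B b 5 = 0 := by
  have h := moment_erase hB hb (j := 5) (by norm_num)
  rw [hα] at h
  have e1 : Nat.choose 6 5 = 6 := by decide
  have e2 : Nat.choose (6 - 5) (5 - 5) = 1 := by decide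
  have e3 : Nat.choose (12 - 5) (5 - 5) = 1 := by decide
  rw [e1, e2, e3] at h
  unfold Mom; omega

theorem inter12_le {c : Finset α} (hc : c ∈ B) (hbc : b ≠ c) : #(b ∩ c) ≤ 4 := by
  have h := mom12_5 hα hB hb
  unfold Mom at h
  rw [sum_eq_zero_iff] at h
  have hc' : c ∈ (blocks B).erase b := mem_erase.2 ⟨hbc.symm, mem_blocks.2 hc⟩
  have := h c hc'
  rw [Nat.choose_eq_zero_iff] at this
  omega

theorem compl12_mem : bᶜ ∈ B := by
  classical
  have hbcard : #b = 6 := hB.1 b hb
  have h0 := mom12_0 hα hB hb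
  have h1 := mom12_1 hα hB hb
  have h2 := mom12_2 hα hB hb
  have h3 := mom12_3 hα hB hb
  have h4 := mom12_4 hα hB hb
  unfold Mom at h0 h1 h2 h3 h4
  have heq : ∑ c ∈ (blocks B).erase b, ((if #(b ∩ c) = 0 then 1 else 0) +
        (#(b ∩ c)).choose 1 + (#(b ∩ c)).choose 3) =
      ∑ c ∈ (blocks B).erase b, ((#(b ∩ c)).choose 0 + (#(b ∩ c)).choose 2 +
        (#(b ∩ c)).choose 4) := by
    apply sum_congr rfl
    intro d hd
    have hd' := mem_erase.1 hd
    have hdle := inter12_le hα hB hb (mem_blocks.1 hd'.2) hd'.1.symm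
    generalize #(b ∩ d) = x at hdle
    interval_cases x <;> decide
  simp only [sum_add_distrib] at heq
  have hpos : 0 < ∑ c ∈ (blocks B).erase b, (if #(b ∩ c) = 0 then 1 else 0) := by omega
  rw [← card_filter, card_pos] at hpos
  obtain ⟨c, hc⟩ := hpos
  rw [mem_filter, mem_erase, mem_blocks, card_eq_zero, ← disjoint_iff_inter_eq_empty] at hc
  obtain ⟨⟨_, hcB⟩, hdisj⟩ := hc
  have hccard : #c = 6 := hB.1 c hcB
  have hsub : c ⊆ bᶜ := by
    intro x hx
    rw [mem_compl]
    exact fun hxb => (disjoint_left.1 hdisj) hxb hx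
  have hcompl : #(bᶜ) = 6 := by rw [card_compl, hα, hbcard]
  have : c = bᶜ := eq_of_subset_of_card_le hsub (by rw [hcompl, hccard])
  rw [← this]; exact hcB

end S5612

end Cfsg.Agent.Helper6
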