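import Mathlib
import Cfsg.Prelude.Def_LieExceptional

set_option autoImplicit false

namespace Cfsg.Agent.Helper6

open Cfsg

section Abstract

variable {F : Type*} [Field F] (e : ℕ)

/-- the Tits form -/
def szf (x y : F) : F := x * y + x ^ (e + 2) + y ^ e

/-- the hypotheses on the exponent: char 2, additivity, `σ² = Frobenius` -/
structure SzHyp (F : Type*) [Field F] (e : ℕ) : Prop where
  two : (2 : F) = 0
  add : ∀ x y : F, (x + y) ^ e = x ^ e + y ^ e
  sq : ∀ x : F, (x ^ e) ^ e = x ^ 2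
  pos : e ≠ 0

variable {e}

theorem SzHyp.add_self (h : SzHyp F e) (x : F) : x + x = 0 := by
  have : x + x = 2 * x := by ring
  rw [this, h.two, zero_mul]

theorem SzHyp.eq_of_add_eq_zero (h : SzHyp F e) {x y : F} (hxy : x + y = 0) : x = y := by
  have : x = x + (y + y) := by rw [h.add_self y, add_zero]
  rw [this, ← add_assoc, hxy, zero_add]

theorem SzHyp.szf_pow (h : SzHyp F e) (x y : F) :
    (szf e x y) ^ e = x ^ e * y ^ e + x ^ 2 * (x ^ e) ^ 2 + y ^ 2 := by
  unfold szf
  rw [h.add, h.add, mul_pow, h.sq y]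
  have : (x ^ (e + 2)) ^ e = x ^ 2 * (x ^ e) ^ 2 := by
    rw [pow_add, mul_pow, h.sq, ← pow_mul, mul_comm 2 e, pow_mul]
  rw [this]

/-- anisotropy of the Tits form -/
theorem SzHyp.szf_eq_zero (h : SzHyp F e) {x y : F} (hf : szf e x y = 0) : x = 0 ∧ y = 0 := by
  have h2 := h.two
  have h1 : x * y + x ^ e * x ^ 2 + y ^ e = 0 := by
    have := hf; unfold szf at this; rw [pow_add] at this; exact this
  have hs := h.szf_pow x y
  rw [hf, zero_pow h.pos] at hs
  -- y * (x^(e+1) + y) = 0
  have h3 : y * (x ^ e * x + y) = 0 := by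
    linear_combination (x ^ e) * h1 - hs - ((x ^ e) ^ 2 * x ^ 2 + x ^ e * y ^ e) * h2
  rcases mul_eq_zero.1 h3 with hy | hy
  · subst hy
    rw [mul_zero, zero_add, zero_pow h.pos, add_zero] at h1
    rcases mul_eq_zero.1 h1 with hx | hx
    · exact ⟨pow_eq_zero_iff h.pos |>.1 hx, rfl⟩
    · exact ⟨pow_eq_zero_iff (two_ne_zero) |>.1 hx, rfl⟩
  · have hy' : y = x ^ e * x := (h.eq_of_add_eq_zero hy).symm
    have h4 : y ^ e = x ^ 2 * x ^ e := by rw [hy', mul_pow, h.sq]
    have h5 : x ^ e * x ^ 2 = 0 := by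
      linear_combination h1 - x * hy' - h4 - (x ^ e * x ^ 2) * h2
    have hx : x = 0 := by
      rcases mul_eq_zero.1 h5 with hx | hx
      · exact pow_eq_zero_iff h.pos |>.1 hx
      · exact pow_eq_zero_iff (two_ne_zero) |>.1 hx
    refine ⟨hx, ?_⟩
    rw [hy', hx, mul_zero]

/-- the inversion identity (polynomial form) -/
theorem SzHyp.inv_identity (h : SzHyp F e) (x y : F) :
    x * y * (szf e x y) ^ e + y ^ e * y ^ 2 + x ^ e * (szf e x y) ^ 2 =
      (szf e x y) ^ e * szf e x y := by
  rw [h.szf_pow]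
  unfold szf
  rw [pow_add]
  linear_combination ((x ^ e) ^ 2 * x ^ 3 * y + x ^ e * x * y * y ^ e) * h.two

/-- the core statement: no three collinear points through the origin -/
theorem SzHyp.core (h : SzHyp F e) {u v l : F} (huv : ¬ (u = 0 ∧ v = 0)) (hl : l ≠ 0)
    (hf : szf e (l * u) (l * v) = l * szf e u v) : l = 1 := by
  have hf0 : szf e u v ≠ 0 := fun h0 => huv (h.szf_eq_zero h0)
  have hf0e : (szf e u v) ^ e ≠ 0 := pow_ne_zero _ hf0
  have hle : l ^ e ≠ 0 := pow_ne_zero _ hl
  have I1 := h.inv_identity u v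
  have I2 := h.inv_identity (l * u) (l * v)
  rw [hf] at I2
  simp only [mul_pow] at I2
  have key : l ^ e * l * (l - 1) * ((szf e u v) ^ e * szf e u v) = 0 := by
    linear_combination I2 - (l ^ e * l ^ 2) * I1
  have : l - 1 = 0 := by
    rcases mul_eq_zero.1 key with h1 | h1
    · rcases mul_eq_zero.1 h1 with h2 | h2
      · rcases mul_eq_zero.1 h2 with h3 | h3
        · exact absurd h3 hle
        · exact absurd h3 hl
      · exact h2
    · rcases mul_eq_zero.1 h1 with h2 | h2
      · exact absurd h2 hf0e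
      · exact absurd h2 hf0
  exact sub_eq_zero.1 this

/-- translation identity -/
theorem SzHyp.translate (h : SzHyp F e) (a b u v : F) :
    szf e (a + u) (b + v) + szf e a b =
      szf e u (v + a ^ e * u) + a * (v + a ^ e * u) + (a ^ e * a + b) * u := by
  unfold szf
  rw [pow_add, pow_add, pow_add, h.add, h.add, h.add, mul_pow, h.sq]
  linear_combination (a * b + a ^ e * a ^ 2 + b ^ e + u ^ e * a * u) * h.two

end Abstract

end Cfsg.Agent.Helper6
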