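import Cfsg.Agent.Lib.Helper6.TwistE6Hyp
import Cfsg.Agent.Lib.Helper6.TwistBNChev
import Cfsg.Agent.Lib.Helper6.WeylDataE6

/-!
# The (B,N)-pair of `²E₆(q)`
-/

set_option autoImplicit false
set_option linter.unusedSectionVars false
set_option linter.unusedVariables false
set_option maxRecDepth 100000

namespace Cfsg.Agent.Helper6.TwBN.E6

open Cfsg Cfsg.Lie Cfsg.Agent.S1043 Cfsg.Agent.Helper17 Cfsg.Agent.Helper18
open Cfsg.Agent.Helper6.Twist Cfsg.Agent.Helper6.Twist.E6 Cfsg.Agent.Helper6.Chev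
open Cfsg.Agent.Helper6.ChevS Cfsg.Agent.Helper6.ChevLen Cfsg.Agent.Helper6.Weyl
open Cfsg.Agent.Helper59.TwFix Matrix

theorem orbTable1 : ∀ j, (orb j).map (fun i : Fin 6 => (i : ℕ)) = orbE j := by decide +kernel

theorem orbTable2 : ∀ j, ∀ L0 ∈ (orb j).sublists,
    ((Pm * (Weyl.E6.vd).wpM L0 : (Mat 6)ˣ) : Mat 6) = (((Weyl.E6.vd).wpM L0 * Pm : (Mat 6)ˣ) : Mat 6) →
      L0 = [] ∨ L0 = orb j := by decide +kernel

theorem orbTable3 : ∀ j, (((Weyl.E6.vd).wpM (orb j) * (Weyl.E6.vd).wpM (orb j) : (Mat 6)ˣ) : Mat 6) = 1 := by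
  decide +kernel

theorem orbTable4 : ∀ j j', (((Weyl.E6.vd).wpM (orb j) : (Mat 6)ˣ) : Mat 6) =
    (((Weyl.E6.vd).wpM (orb j') : (Mat 6)ˣ) : Mat 6) → j = j' := by decide +kernel

section

variable {K : Type*} [Field K] [Fintype K] (p k : ℕ) [ExpChar K p]
  (hK : Fintype.card K = (p ^ k) ^ 2) (hq : 1 < p ^ k)

include hK hq in
/-- **the (B,N)-pair of `²E₆(q)`** -/
theorem bnPair_twistedE6 :
    ∃ P : Cfsg.BNPair ↥(twistedE6 K (p ^ k)),
      P.B = (chevE6.borelSubgroup K ⊓ twistedE6 K (p ^ k)).subgroupOf (twistedE6 K (p ^ k)) ∧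
      P.N = (chevE6.monomialSubgroup K ⊓ twistedE6 K (p ^ k)).subgroupOf (twistedE6 K (p ^ k)) ∧
      P.S = {s : ↥(twistedE6 K (p ^ k)) | ∃ j, (s : GL chevE6.Idx K) = nWordGL chevE6 goodE6 (orbE j)} :=
  exists_bnPair_twisted goodE6 (hypE6 (K := K)) (frob (K := K) p k) (frob_surj p k) Pg Rf etaf hconjP
    tauFactsE6 (twistedE6 K (p ^ k)) (twisted_le_group p k) (twisted_le_fix p k hK)
    orbE orthE6 orbFacts.1 orbFacts.2.1 pif orbFacts.2.2.1 orbFacts.2.2.2.1 orbFacts.2.2.2.2.1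
    hπtransE6 (hnJ p k) (hfixX p k) (p ^ k) 2 (by norm_num) hK (hdE6 p k hK hq)
    (nData_E6 (F := K)) bridge_E6 hsimpE6 CoxeterMatrix.E₆
    (ordersOK_spec Cfsg.Agent.Helper6.Weyl.E6.vd CoxeterMatrix.E₆ Cfsg.Agent.Helper6.Weyl.E6.orders_ok)
    (fun i j hij => by rw [mf_E6]; exact hrel_E6 nData_E6 i j hij j.2)
    Pm hPact piFun hPsingle hPpos orb horb_cover horb_trans horb_orth hg_comm (hgen p k)
    orbTable1
    (fun j L0 hL0 hc => orbTable2 j L0 (List.mem_sublists.2 hL0) (congrArg Units.val hc))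
    (fun j => Units.ext (orbTable3 j))
    (fun j j' hjj => orbTable4 j j' (congrArg Units.val hjj))

end

end Cfsg.Agent.Helper6.TwBN.E6
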