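import Cfsg.Agent.Lib.Helper6.TwistE6Hyp
import Cfsg.Agent.Lib.Helper18.UCardData

/-!
# The twisted group `²E₆(q)`: the orders of `U¹` and `B¹`
-/

set_option autoImplicit false
set_option linter.unusedSectionVars false
set_option linter.unusedVariables false
set_option maxRecDepth 100000

namespace Cfsg.Agent.Helper6.TwBN.E6

open Cfsg Cfsg.Lie Cfsg.Agent.S1043 Cfsg.Agent.Helper17 Cfsg.Agent.Helper18
open Cfsg.Agent.Helper6.Twist Cfsg.Agent.Helper6.Twist.E6 Cfsg.Agent.Helper6.Chev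
open Cfsg.Agent.Helper6.ChevS Cfsg.Agent.Helper6.ChevLen Cfsg.Agent.Helper6.Weyl
open Cfsg.Agent.Helper59.TwFix

section

variable {K : Type*} [Field K] [Fintype K] (p k : ℕ) [ExpChar K p]
  (hK : Fintype.card K = (p ^ k) ^ 2) (hq : 1 < p ^ k)

theorem card_U_E6 : Nat.card ↥(chevE6.posUnipotent K) = Fintype.card K ^ 36 := by
  obtain ⟨tbls, l, hperm, hred, hw0, hlen⟩ := w0Data_all chevE6 goodE6
  have hl : l.length = 36 := by
    rw [hlen]
    decide +kernel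
  have C := hypE6 (K := K)
  rw [← hl, ← Nat.card_eq_fintype_card]
  exact posUnipotent_card chevE6 goodE6 C.hB C.hU C.hT C.hTri C.hNeg C.hconj C.hS C.hNH tbls hperm l
    hred hw0

include hK hq in
theorem card_unipE6 :
    Nat.card ↥(chevE6.posUnipotent K ⊓ twistedE6 K (p ^ k)) = (p ^ k) ^ 36 :=
  card_unip1 goodE6 (hypE6 (K := K)) (frob (K := K) p k) (frob_surj p k) Pg Rf etaf hconjP tauFactsE6
    (twistedE6 K (p ^ k)) (twisted_le_group p k) (twisted_le_fix p k hK)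
    orbE orthE6 orbFacts.1 orbFacts.2.1 pif orbFacts.2.2.1 orbFacts.2.2.2.1 orbFacts.2.2.2.2.1
    hπtransE6 (hnJ p k) (hfixX p k) (p ^ k) 2 (by norm_num) hK (hdE6 p k hK hq)
    (nData_E6 (F := K)) bridge_E6 hsimpE6 CoxeterMatrix.E₆
    (ordersOK_spec Cfsg.Agent.Helper6.Weyl.E6.vd CoxeterMatrix.E₆ Cfsg.Agent.Helper6.Weyl.E6.orders_ok)
    (fun i j hij => by rw [mf_E6]; exact hrel_E6 nData_E6 i j hij j.2)
    n0 n0_mem_N (n0_mem_G p k) n0_conj 36 card_U_E6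

include hK hq in
theorem card_borelE6 :
    Nat.card ↥(chevE6.borelSubgroup K ⊓ twistedE6 K (p ^ k)) =
      Nat.card ↥(chevE6.posUnipotent K ⊓ twistedE6 K (p ^ k)) *
        Nat.card ↥(chevE6.diagonalSubgroup K ⊓ twistedE6 K (p ^ k)) :=
  card_borel1 goodE6 (hypE6 (K := K)) (frob (K := K) p k) (frob_surj p k) Pg Rf etaf hconjP tauFactsE6
    (twistedE6 K (p ^ k)) (twisted_le_group p k) (twisted_le_fix p k hK)
    orbE orthE6 orbFacts.1 orbFacts.2.1 pif orbFacts.2.2.1 orbFacts.2.2.2.1 orbFacts.2.2.2.2.1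
    hπtransE6 (hnJ p k) (hfixX p k) (p ^ k) 2 (by norm_num) hK (hdE6 p k hK hq)
    (nData_E6 (F := K)) bridge_E6 hsimpE6 CoxeterMatrix.E₆
    (ordersOK_spec Cfsg.Agent.Helper6.Weyl.E6.vd CoxeterMatrix.E₆ Cfsg.Agent.Helper6.Weyl.E6.orders_ok)
    (fun i j hij => by rw [mf_E6]; exact hrel_E6 nData_E6 i j hij j.2)
    n0 n0_mem_N (n0_mem_G p k) n0_conj

end

end Cfsg.Agent.Helper6.TwBN.E6
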