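import Cfsg.Agent.Lib.Helper6.ChevNorm
import Cfsg.Agent.Lib.Helper18.ChevCore

/-!
# Trivial core of `B ⊓ G1` in a subgroup `G1` generated by products of root elements

`G1` contains a representative `n0 ∈ N` of the longest element and, for each block `o` of a
partition of the nodes into pairwise orthogonal blocks, the product `∏_{i ∈ o} x_{p_i}(1)`.
Then the normal core of `B ⊓ G1` in `G1` is trivial.
-/

set_option autoImplicit false
set_option linter.unusedSectionVars false

namespace Cfsg.Agent.Helper6.Twist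

open Cfsg.Lie Cfsg.Agent.Helper18 Cfsg.Agent.Helper17 Cfsg.Agent.Helper6.Chev Cfsg.Agent.S1043
open scoped Pointwise

section Core

variable {F : Type*} [Field F] (D : ChevalleyDatum) (hD : Good D) {tbl : List ℕ}
  (hT : TorusData D tbl) {η : ℕ → ℕ → ℤ} (h : NData F D η)

/-! ### characters of diagonal elements -/

theorem prod_zpow_sub (L : List ℕ) (c : ℕ → F) (hc : ∀ i, c i ≠ 0) (a b : ℕ → ℤ) (m : ℤ) :
    (L.map fun i => c i ^ (a i - m * b i)).prod =
      (L.map fun i => c i ^ a i).prod * ((L.map fun i => c i ^ b i).prod ^ m)⁻¹ := by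
  induction L with
  | nil => simp
  | cons i L ih =>
    rw [List.map_cons, List.prod_cons, ih, List.map_cons, List.prod_cons, List.map_cons, List.prod_cons,
      zpow_sub₀ (hc i), mul_zpow, mul_inv, mul_comm m (b i), zpow_mul, div_eq_mul_inv]
    ring

include h in
/-- the character is trivial on all roots as soon as it is trivial on the fundamental roots -/
theorem chi_eq_one (hcart : ∀ i < D.rank, ∀ i' < D.rank, ∀ s < D.nroots,
      D.cartan i' (D.reflectRoot i s) = D.cartan i' s - D.cartan i s * D.cartan i' (D.simple i))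
    (c : ℕ → F) (hc : ∀ i, c i ≠ 0) (h1 : ∀ j < D.rank, chi D c (D.simple j) = 1)
    (s : ℕ) (hs : s < D.nroots) : chi D c s = 1 := by
  refine h.reach (fun s => chi D c s = 1) h1 ?_ s hs
  intro i hi s hs ih
  have e : chi D c (D.reflectRoot i s) =
      chi D c s * ((chi D c (D.simple i)) ^ (D.cartan i s))⁻¹ := by
    unfold chi
    rw [← prod_zpow_sub (List.range D.rank) c hc]
    congr 1
    apply List.map_congr_left
    intro i' hi'
    rw [hcart i hi i' (List.mem_range.mp hi') s hs]
  rw [e, ih, h1 i hi, one_zpow, inv_one, mul_one]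

/-! ### separation of commuting orthogonal root elements -/

/-- the fundamental nodes `a`, `b` are orthogonal -/
def NOrth (a b : ℕ) : Prop := D.cartan a (D.simple b) = 0

include hT h in
theorem hg_conj (i : ℕ) (hi : i < D.rank) (s : ℕ) (hs : s < D.nroots) (lam : F) (hlam : lam ≠ 0)
    (t : F) :
    hg h (D.simple i) lam * xg h s t * (hg h (D.simple i) lam)⁻¹ =
      xg h s (lam ^ (D.cartan i s) * t) := by
  rw [mul_inv_eq_iff_eq_mul]
  apply Units.ext
  rw [Units.val_mul, Units.val_mul, hg_val, xg_val, xg_val]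
  exact hMat_simple_mul_x D i _ (hT.simp i hi) (hT.conj i hi) s hs lam hlam t

include hD h in
theorem xg_eq_one {r : ℕ} (hr : r < D.nroots) (hn : D.neg r < D.nroots ∧ D.neg r ≠ r) {u : F}
    (hu : xg h r u = 1) : u = 0 := by
  have h1 : D.x F r u = torMat D (fun _ => (1 : F)) := by
    rw [torMat_one, ← xg_val h, hu, Units.val_one]
  exact x_eq_torMat D r hr hn.1 hn.2 u _ h1

include h in
theorem xg_mul (r : ℕ) (a b : F) : xg h r a * xg h r b = xg h r (a + b) := by
  apply Units.ext
  rw [Units.val_mul, xg_val, xg_val, xg_val, h.add]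

include hD hT h in
/-- products of root elements over pairwise orthogonal fundamental roots determine the parameters -/
theorem sep (hneg : ∀ r < D.nroots, D.neg r < D.nroots ∧ D.neg r ≠ r)
    (lam : F) (hlam : lam ≠ 0) (hlam2 : lam ^ 2 ≠ 1) :
    ∀ (o : List ℕ) (a b : ℕ → F), o.Pairwise (NOrth D) →
      (∀ i ∈ o, i < D.rank ∧ D.cartan i (D.simple i) = 2) →
      (o.map fun i => xg h (D.simple i) (a i)).prod = (o.map fun i => xg h (D.simple i) (b i)).prod →
      ∀ i ∈ o, a i = b i := by
  intro o
  induction o with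
  | nil => intro a b _ _ _ i hi; simp at hi
  | cons i o ih =>
    intro a b hpw hin heq
    rw [List.pairwise_cons] at hpw
    obtain ⟨hi, hii⟩ := hin i List.mem_cons_self
    rw [List.map_cons, List.prod_cons, List.map_cons, List.prod_cons] at heq
    set A := (o.map fun i => xg h (D.simple i) (a i)).prod with hA
    set B := (o.map fun i => xg h (D.simple i) (b i)).prod with hB
    set hh := hg h (D.simple i) lam with hhh
    -- `hh` commutes with the tails
    have hcomm : ∀ (f : ℕ → F), hh * (o.map fun j => xg h (D.simple j) (f j)).prod * hh⁻¹ =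
        (o.map fun j => xg h (D.simple j) (f j)).prod := by
      intro f
      have : ∀ (o' : List ℕ), (∀ j ∈ o', NOrth D i j ∧ j < D.rank) →
          hh * (o'.map fun j => xg h (D.simple j) (f j)).prod * hh⁻¹ =
            (o'.map fun j => xg h (D.simple j) (f j)).prod := by
        intro o'
        induction o' with
        | nil => intro _; simp
        | cons j o' ih' =>
          intro hj
          rw [List.map_cons, List.prod_cons]
          have h1 : hh * xg h (D.simple j) (f j) * hh⁻¹ = xg h (D.simple j) (f j) := by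
            rw [hhh, hg_conj D hT h i hi _ (h.simple_lt j (hj j List.mem_cons_self).2) lam hlam,
              (hj j List.mem_cons_self).1, zpow_zero, one_mul]
          have h2 := ih' (fun j' hj' => hj j' (List.mem_cons_of_mem _ hj'))
          calc hh * (xg h (D.simple j) (f j) * (o'.map fun j => xg h (D.simple j) (f j)).prod) * hh⁻¹
              = (hh * xg h (D.simple j) (f j) * hh⁻¹) *
                  (hh * (o'.map fun j => xg h (D.simple j) (f j)).prod * hh⁻¹) := by group
            _ = _ := by rw [h1, h2]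
      exact this o (fun j hj => ⟨hpw.1 j hj, (hin j (List.mem_cons_of_mem _ hj)).1⟩)
    have hconjA : hh * A * hh⁻¹ = A := hcomm a
    have hconjB : hh * B * hh⁻¹ = B := hcomm b
    have hconj1 : ∀ t : F, hh * xg h (D.simple i) t * hh⁻¹ = xg h (D.simple i) (lam ^ 2 * t) := by
      intro t
      rw [hhh, hg_conj D hT h i hi _ (h.simple_lt i hi) lam hlam, hii]
      norm_cast
    -- conjugate the equation
    have heq2 : xg h (D.simple i) (lam ^ 2 * a i) * A = xg h (D.simple i) (lam ^ 2 * b i) * B := by
      have : hh * (xg h (D.simple i) (a i) * A) * hh⁻¹ = hh * (xg h (D.simple i) (b i) * B) * hh⁻¹ := by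
        rw [heq]
      have e1 : hh * (xg h (D.simple i) (a i) * A) * hh⁻¹ =
          (hh * xg h (D.simple i) (a i) * hh⁻¹) * (hh * A * hh⁻¹) := by group
      have e2 : hh * (xg h (D.simple i) (b i) * B) * hh⁻¹ =
          (hh * xg h (D.simple i) (b i) * hh⁻¹) * (hh * B * hh⁻¹) := by group
      rw [e1, e2, hconj1, hconj1, hconjA, hconjB] at this
      exact this
    -- `B * A⁻¹` in two ways
    have k1 : B * A⁻¹ = xg h (D.simple i) (a i - b i) := by
      have : B = (xg h (D.simple i) (b i))⁻¹ * (xg h (D.simple i) (a i) * A) := by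
        rw [heq]; group
      rw [this, xg_inv, ← mul_assoc, xg_mul]
      have : -b i + a i = a i - b i := by ring
      rw [this]; group
    have k2 : B * A⁻¹ = xg h (D.simple i) (lam ^ 2 * (a i - b i)) := by
      have : B = (xg h (D.simple i) (lam ^ 2 * b i))⁻¹ * (xg h (D.simple i) (lam ^ 2 * a i) * A) := by
        rw [heq2]; group
      rw [this, xg_inv, ← mul_assoc, xg_mul]
      have : -(lam ^ 2 * b i) + lam ^ 2 * a i = lam ^ 2 * (a i - b i) := by ring
      rw [this]; group
    have k3 : xg h (D.simple i) ((lam ^ 2 - 1) * (a i - b i)) = 1 := by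
      have : xg h (D.simple i) ((lam ^ 2 - 1) * (a i - b i)) =
          xg h (D.simple i) (lam ^ 2 * (a i - b i)) * (xg h (D.simple i) (a i - b i))⁻¹ := by
        rw [xg_inv, xg_mul]
        congr 1
        ring
      rw [this, ← k1, ← k2, mul_inv_cancel]
    have k4 := xg_eq_one D hD h (h.simple_lt i hi) (hneg _ (h.simple_lt i hi)) k3
    have hab : a i = b i := by
      rcases mul_eq_zero.1 k4 with h0 | h0
      · exact absurd (sub_eq_zero.1 h0) hlam2
      · exact sub_eq_zero.1 h0
    intro j hj
    rcases List.mem_cons.1 hj with rfl | hj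
    · exact hab
    · have hAB : A = B := by
        rw [hab] at heq
        exact mul_left_cancel heq
      exact ih a b hpw.2 (fun j hj => hin j (List.mem_cons_of_mem _ hj)) hAB j hj

theorem conj_list_prod {G : Type*} [Group G] (k : G) {ι : Type*} (L : List ι) (f : ι → G) :
    k * (L.map f).prod * k⁻¹ = (L.map fun i => k * f i * k⁻¹).prod := by
  induction L with
  | nil => simp
  | cons i L ih =>
    rw [List.map_cons, List.prod_cons, List.map_cons, List.prod_cons, ← ih]
    group

include hD hT h in
/-- **the normal core of `B ⊓ G1` in `G1` is trivial** -/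
theorem core_trivial (hTri : TriOK D) (hNeg : NegTriOK D)
    (hneg : ∀ r < D.nroots, D.neg r < D.nroots ∧ D.neg r ≠ r)
    (hsp : ∀ i < D.rank, D.IsPosRoot (D.simple i))
    (hcart : ∀ i < D.rank, ∀ i' < D.rank, ∀ s < D.nroots,
      D.cartan i' (D.reflectRoot i s) = D.cartan i' s - D.cartan i s * D.cartan i' (D.simple i))
    (G1 : Subgroup (GL D.Idx F))
    (n0 : GL D.Idx F) (hn0N : n0 ∈ D.monomialSubgroup F) (hn0G : n0 ∈ G1)
    (hn0U : (D.posUnipotent F).map (MulAut.conj n0).toMonoidHom = D.negUnipotent F)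
    (orbs : List (List ℕ)) (hcover : ∀ j < D.rank, ∃ o ∈ orbs, j ∈ o)
    (horth : ∀ o ∈ orbs, o.Pairwise (NOrth D))
    (hin : ∀ o ∈ orbs, ∀ i ∈ o, i < D.rank ∧ D.cartan i (D.simple i) = 2)
    (hgen : ∀ o ∈ orbs, (o.map fun i => xg h (D.simple i) (1 : F)).prod ∈ G1)
    (lam : F) (hlam : lam ≠ 0) (hlam2 : lam ^ 2 ≠ 1) :
    ((D.borelSubgroup F ⊓ G1).subgroupOf G1).normalCore = ⊥ := by
  have hnorm : ((D.diagonalSubgroup F).subgroupOf (D.monomialSubgroup F)).Normal :=
    diagonal_normal_in_monomial h
  have hNH : D.monomialSubgroup F ≤ Subgroup.normalizer (D.diagonalSubgroup F : Set (GL D.Idx F)) :=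
    Subgroup.le_normalizer_of_normal_subgroupOf le_sup_left
  have hB : ((D.borelSubgroup F : Subgroup (GL D.Idx F)) : Set (GL D.Idx F)) =
      (D.posUnipotent F : Set (GL D.Idx F)) * (D.diagonalSubgroup F : Set (GL D.Idx F)) :=
    Subgroup.coe_mul_of_right_le_normalizer_left _ _ (diag_le_normalizer D hT)
  -- an element all of whose `G1`-conjugates lie in `B` lies in `H`
  have key : ∀ k : GL D.Idx F, (∀ g ∈ G1, g * k * g⁻¹ ∈ D.borelSubgroup F) →
      k ∈ D.diagonalSubgroup F := by
    intro k hk
    have hkB : k ∈ D.borelSubgroup F := by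
      have := hk 1 (Subgroup.one_mem _)
      simpa using this
    have h1 : n0⁻¹ * k * n0⁻¹⁻¹ ∈ D.borelSubgroup F := hk n0⁻¹ (Subgroup.inv_mem _ hn0G)
    have h1' : n0⁻¹ * k * n0⁻¹⁻¹ ∈ ((D.borelSubgroup F : Subgroup (GL D.Idx F)) : Set (GL D.Idx F)) := h1
    rw [hB] at h1'
    obtain ⟨u, hu, h', hh', e⟩ := h1'
    have e' : u * h' = n0⁻¹ * k * n0⁻¹⁻¹ := e
    have hv : n0 * u * n0⁻¹ ∈ D.negUnipotent F := by
      rw [← hn0U]
      exact Subgroup.mem_map.mpr ⟨u, hu, rfl⟩
    have hh'' : n0 * h' * n0⁻¹ ∈ D.diagonalSubgroup F :=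
      ((Subgroup.mem_normalizer_iff.mp (hNH hn0N)) h').mp hh'
    have ek : k = (n0 * u * n0⁻¹) * (n0 * h' * n0⁻¹) := by
      have : k = n0 * (n0⁻¹ * k * n0⁻¹⁻¹) * n0⁻¹ := by group
      rw [this, ← e']
      group
    have hkVH : k ∈ D.negUnipotent F ⊔ D.diagonalSubgroup F := by
      rw [ek]
      exact Subgroup.mul_mem _ (Subgroup.mem_sup_left hv) (Subgroup.mem_sup_right hh'')
    have := (borel_inf_neg (F := F) D hT hTri hNeg).2
    rw [← this]
    exact Subgroup.mem_inf.mpr ⟨hkB, hkVH⟩
  rw [eq_bot_iff]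
  rintro ⟨k, hkG⟩ hk
  rw [Subgroup.mem_bot]
  apply Subtype.ext
  change k = 1
  have hk' : ∀ g ∈ G1, g * k * g⁻¹ ∈ D.borelSubgroup F := by
    intro g hg
    have := hk ⟨g, hg⟩
    exact (Subgroup.mem_subgroupOf.1 this).1
  have hkH : k ∈ D.diagonalSubgroup F := key k hk'
  have hconjH : ∀ g ∈ G1, g * k * g⁻¹ ∈ D.diagonalSubgroup F := by
    intro g hg
    apply key
    intro g' hg'
    have := hk' (g' * g) (mul_mem hg' hg)
    have e : g' * g * k * (g' * g)⁻¹ = g' * (g * k * g⁻¹) * g'⁻¹ := by group
    rwa [e] at this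
  obtain ⟨c, hc, hkc⟩ := mem_diag_eq_torMat D hT k hkH
  -- conjugation of root elements by `k`
  have kconj : ∀ s < D.nroots, ∀ t : F, k * xg h s t * k⁻¹ = xg h s (chi D c s * t) := by
    intro s hs t
    rw [mul_inv_eq_iff_eq_mul]
    apply Units.ext
    rw [Units.val_mul, Units.val_mul, xg_val, xg_val, hkc]
    exact torMat_mul_x D s (fun i hi => hT.addOK D i hi s hs) c hc t
  -- the character is trivial on the fundamental roots
  have hchi1 : ∀ j < D.rank, chi D c (D.simple j) = 1 := by
    intro j hj
    obtain ⟨o, ho, hjo⟩ := hcover j hj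
    set g := (o.map fun i => xg h (D.simple i) (1 : F)).prod with hg
    have hgG : g ∈ G1 := hgen o ho
    have hgU : g ∈ D.posUnipotent F := by
      apply Subgroup.list_prod_mem
      intro x hx
      obtain ⟨i, hi, rfl⟩ := List.mem_map.1 hx
      have hpos : D.IsPosRoot (D.simple i) := hsp i (hin o ho i hi).1
      exact Subgroup.subset_closure ⟨D.simple i, 1, hpos, xg_val h _ _⟩
    -- the commutator lies in `U ⊓ H`
    set u := g * k * g⁻¹ * k⁻¹ with hu
    have huH : u ∈ D.diagonalSubgroup F := mul_mem (hconjH g hgG) (inv_mem hkH)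
    have huU : u ∈ D.posUnipotent F := by
      have h1 : k * g⁻¹ * k⁻¹ ∈ D.posUnipotent F :=
        ((Subgroup.mem_normalizer_iff.mp (diag_le_normalizer D hT hkH)) g⁻¹).mp (inv_mem hgU)
      have : u = g * (k * g⁻¹ * k⁻¹) := by rw [hu]; group
      rw [this]
      exact mul_mem hgU h1
    have hu1 : u = 1 :=
      (uhv_trivial D hT hTri hNeg u u⁻¹ 1 huU (inv_mem huH) (one_mem _) (mul_inv_cancel u)).1
    have hcomm : k * g * k⁻¹ = g := by
      have : g * k * g⁻¹ = k := by
        have := hu1
        rw [hu, mul_inv_eq_one] at this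
        exact this
      calc k * g * k⁻¹ = (g * k * g⁻¹) * g * k⁻¹ := by rw [this]
        _ = g := by group
    rw [hg, conj_list_prod] at hcomm
    have hcomm' : (o.map fun i => xg h (D.simple i) (chi D c (D.simple i) * 1)).prod =
        (o.map fun i => xg h (D.simple i) ((fun _ => (1 : F)) i)).prod := by
      rw [← hcomm]
      congr 1
      apply List.map_congr_left
      intro i hi
      exact (kconj _ (h.simple_lt i (hin o ho i hi).1) 1).symm
    have := sep D hD hT h hneg lam hlam hlam2 o (fun i => chi D c (D.simple i) * 1) (fun _ => 1)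
      (horth o ho) (hin o ho) hcomm' j hjo
    simpa using this
  have hchi : ∀ s < D.nroots, chi D c s = 1 := chi_eq_one D h hcart c hc hchi1
  apply Units.ext
  rw [hkc, Units.val_one, torMat, ← Matrix.diagonal_one]
  congr 1
  funext i
  rcases i with i | s
  · rfl
  · exact hchi s.val s.2

end Core

/-- a field with more than three elements has an element `λ ≠ 0` with `λ² ≠ 1` -/
theorem exists_lam {K : Type*} [Field K] [Fintype K] (hK : 3 < Fintype.card K) :
    ∃ lam : K, lam ≠ 0 ∧ lam ^ 2 ≠ 1 := by
  classical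
  by_contra hcon
  push_neg at hcon
  have hsub : (Finset.univ : Finset K) ⊆ {0, 1, -1} := by
    intro x _
    by_cases hx : x = 0
    · simp [hx]
    · have h2 := hcon x hx
      have h3 : (x - 1) * (x + 1) = 0 := by
        have : (x - 1) * (x + 1) = x ^ 2 - 1 := by ring
        rw [this, h2, sub_self]
      rcases mul_eq_zero.mp h3 with h | h
      · simp [sub_eq_zero.mp h]
      · simp [eq_neg_of_add_eq_zero_left h]
  have h1 := Finset.card_le_card hsub
  rw [Finset.card_univ] at h1
  have h3 : ({0, 1, -1} : Finset K).card ≤ 3 := Finset.card_le_three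
  omega

end Cfsg.Agent.Helper6.Twist
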