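import Cfsg.Agent.Lib.Helper59.TwFixF
import Cfsg.Agent.Lib.Helper59.TwFixG
import Cfsg.Agent.Lib.Helper59.TwFld
import Cfsg.Agent.Lib.Helper59.TwMain
import Cfsg.Agent.Lib.Helper6.TwistCoreE6
import Cfsg.Agent.Lib.Helper18.UiData
import Cfsg.Agent.Lib.Helper18.CommE6_0
import Cfsg.Agent.Lib.Helper18.CommE6_1

/-!
# The twisted group `²E₆(q)`: instantiating the fixed-point recursion
-/

set_option autoImplicit false
set_option linter.unusedSectionVars false
set_option linter.unusedVariables false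
set_option maxRecDepth 100000

namespace Cfsg.Agent.Helper6.TwBN.E6

open Cfsg Cfsg.Lie Cfsg.Agent.S1043 Cfsg.Agent.Helper17 Cfsg.Agent.Helper18
open Cfsg.Agent.Helper6.Twist Cfsg.Agent.Helper6.Twist.E6 Cfsg.Agent.Helper6.Chev
open Cfsg.Agent.Helper6.ChevS Cfsg.Agent.Helper6.ChevLen
open Cfsg.Agent.Helper59.TwFix

theorem posRangeE6' : ∀ s, chevE6.IsPosRoot s → 36 ≤ s ∧ s < 72 := by
  intro s hs
  have h1 : s < 72 := hs.1
  have : ∀ s < 72, chevE6.IsPosRoot s → 36 ≤ s := by decide +kernel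
  exact ⟨this s h1 hs, h1⟩

theorem commAllE6' (i : ℕ) (hi : i < 6) (s : ℕ) (hs : chevE6.IsPosRoot s) :
    Cfsg.Agent.Helper18.commCheck chevE6 (chevE6.simple i) s = true := by
  obtain ⟨h1, h2⟩ := posRangeE6' s hs
  have h : i = 0 ∨ i = 1 ∨ i = 2 ∨ i = 3 ∨ i = 4 ∨ i = 5 := by omega
  rcases h with rfl | rfl | rfl | rfl | rfl | rfl
  · change Cfsg.Agent.Helper18.commCheck chevE6 56 s = true
    exact commE6_0_from36 s (by omega) h2
  · change Cfsg.Agent.Helper18.commCheck chevE6 46 s = true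
    exact commE6_1_from36 s (by omega) h2
  · change Cfsg.Agent.Helper18.commCheck chevE6 42 s = true
    exact commE6_2_from36 s (by omega) h2
  · change Cfsg.Agent.Helper18.commCheck chevE6 39 s = true
    exact commE6_3_from36 s (by omega) h2
  · change Cfsg.Agent.Helper18.commCheck chevE6 37 s = true
    exact commE6_4_from36 s (by omega) h2
  · change Cfsg.Agent.Helper18.commCheck chevE6 36 s = true
    exact commE6_5_from36 s (by omega) h2

theorem uiE6 : UiFacts chevE6 :=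
  ⟨(uiFacts12_all chevE6 goodE6).1, (uiFacts12_all chevE6 goodE6).2,
    fun i hi s hs => commAllE6' i hi s hs⟩

section

variable {K : Type*} [Field K]

theorem conjS_E6 : ∀ i < chevE6.rank, ConjGoalS' K chevE6 i := by
  intro i hi
  have h := nData_E6 (F := K)
  refine ⟨fun s => if s < chevE6.nroots then etaE6 i s else 1, ?_, ?_, ?_⟩
  · intro s
    by_cases hs : s < chevE6.nroots
    · simp only [hs, if_true]; exact h.eta_pm i hi s hs
    · simp only [hs, if_false]; left; trivial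
  · intro s hs
    simp only [hs, h.neg_lt s hs, if_true]
    rw [h.eta_neg i hi s hs]
    rcases h.eta_pm i hi s hs with e | e <;> rw [e] <;> norm_num
  · intro s hs t
    simp only [hs, if_true]
    rw [h.mono i hi]
    exact h.conj i hi s hs t

theorem hypE6 : ChevHyp K chevE6 expE6 where
  hB := bnFacts_all chevE6 goodE6
  hU := uiE6
  hT := torusE6
  hTri := triOK_E6
  hNeg := negTriOK_E6
  hconj := hconj'
  hS := conjS_E6
  hNH := monomial_le_normalizer (nData_E6 (F := K))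

/-- the permutation of the roots and the signs of the graph automorphism -/
def Rf : ℕ → ℕ := dec8 gRE6a
def etaf : ℕ → ℤ := fun s => etaOf gSE6a (chevE6.rank + s)

theorem tauFactsE6 : TauFacts chevE6 Rf etaf where
  R_lt := by unfold Rf; decide +kernel
  R_pos := by
    intro s hs
    have : ∀ s < 72, chevE6.IsPosRoot s → chevE6.IsPosRoot (Rf s) := by unfold Rf; decide +kernel
    exact this s hs.1 hs
  R_neg := by
    intro s hs
    have : ∀ s < 72, chevE6.IsNegRoot s → chevE6.IsNegRoot (Rf s) := by unfold Rf; decide +kernel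
    exact this s hs.1 hs
  R_negIdx := by unfold Rf; decide +kernel
  eta_pm := by unfold etaf; decide +kernel
  eta_neg := by unfold etaf; decide +kernel

theorem hconjP (s : ℕ) (hs : s < chevE6.nroots) (t : K) :
    ((Pg : GL chevE6.Idx K) : Matrix chevE6.Idx chevE6.Idx K) * chevE6.x K s t =
      chevE6.x K (Rf s) ((etaf s : K) * t) * ((Pg : GL chevE6.Idx K) : Matrix chevE6.Idx chevE6.Idx K) :=
  hconj s hs t

theorem xg_eq_xU (r : ℕ) (t : K) : xg (nData_E6 (F := K)) r t = xU chevE6 goodE6 r t :=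
  Units.ext rfl

/-- the orbits of the graph automorphism on the fundamental roots -/
def orbE : Fin 4 → List ℕ := ![[0, 5], [2, 4], [3], [1]]

/-- the permutation of the nodes -/
def pif : ℕ → ℕ := fun i => ([5, 1, 4, 3, 2, 0] : List ℕ).getD i i

theorem orthE6 : ∀ j, OrthList chevE6 (orbE j) := by
  have h : ∀ j : Fin 4, (∀ i ∈ orbE j, i < chevE6.rank) ∧ (orbE j).Nodup ∧
      ∀ i ∈ orbE j, ∀ i' ∈ orbE j, i ≠ i' → chevE6.reflectRoot i' (chevE6.simple i) = chevE6.simple i := by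
    decide +kernel
  exact fun j => ⟨(h j).1, (h j).2.1, (h j).2.2⟩

theorem orbFacts :
    (∀ j, orbE j ≠ []) ∧ (∀ i < chevE6.rank, ∃ j, i ∈ orbE j) ∧
    (∀ i < chevE6.rank, Rf (chevE6.simple i) = chevE6.simple (pif i)) ∧
    (∀ i < chevE6.rank, etaf (chevE6.simple i) = 1) ∧
    (∀ j, ∀ a ∈ orbE j, pif a ∈ orbE j) ∧
    (∀ j, ∀ a ∈ orbE j, ∀ b ∈ orbE j, ∃ k < 2, pif^[k] a = b) := by
  unfold Rf etaf
  decide +kernel

theorem hπtransE6 : ∀ j, ∀ a ∈ orbE j, ∀ b ∈ orbE j, ∃ k : ℕ, pif^[k] a = b := by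
  intro j a ha b hb
  obtain ⟨k, _, hk⟩ := orbFacts.2.2.2.2.2 j a ha b hb
  exact ⟨k, hk⟩

end

section

variable {K : Type*} [Field K] [Fintype K] (p k : ℕ) [ExpChar K p]

theorem frob_surj : Function.Surjective (frob (K := K) p k) :=
  Finite.surjective_of_injective (frob (K := K) p k).injective

theorem twisted_le_group : twistedE6 K (p ^ k) ≤ chevE6.group K := by
  apply gen_le (nData_E6 (F := K))
  intro w _
  apply Subgroup.list_prod_mem
  intro x hx
  obtain ⟨pr, _, rfl⟩ := List.mem_map.1 hx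
  rw [xg_eq_xU]
  exact xU_mem_group chevE6 goodE6 _ _

theorem simpleVals : chevE6.simple 0 = 56 ∧ chevE6.simple 1 = 46 ∧ chevE6.simple 2 = 42 ∧
    chevE6.simple 3 = 39 ∧ chevE6.simple 4 = 37 ∧ chevE6.simple 5 = 36 ∧ chevE6.rank = 6 := by
  decide +kernel

theorem hnJ (j : Fin 4) : nWordGL chevE6 goodE6 (orbE j) ∈ twistedE6 K (p ^ k) := by
  fin_cases j
  · have := hgen (K := K) p k 0
    change ((([0, 5] : List (Fin 6)).map (NiN (nData_E6 (F := K)) bridge_E6 hsimpE6)).prod :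
      GL chevE6.Idx K) ∈ _ at this
    simp only [List.map_cons, List.map_nil, List.prod_cons, List.prod_nil, mul_one, Subgroup.coe_mul,
      NiN_coe] at this
    change nWordGL chevE6 goodE6 [0, 5] ∈ _
    simp only [nWordGL, List.map_cons, List.map_nil, List.prod_cons, List.prod_nil, mul_one,
      nGL_eq_Ni]
    exact this
  · have := hgen (K := K) p k 1
    change ((([2, 4] : List (Fin 6)).map (NiN (nData_E6 (F := K)) bridge_E6 hsimpE6)).prod :
      GL chevE6.Idx K) ∈ _ at this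
    simp only [List.map_cons, List.map_nil, List.prod_cons, List.prod_nil, mul_one, Subgroup.coe_mul,
      NiN_coe] at this
    change nWordGL chevE6 goodE6 [2, 4] ∈ _
    simp only [nWordGL, List.map_cons, List.map_nil, List.prod_cons, List.prod_nil, mul_one,
      nGL_eq_Ni]
    exact this
  · have := hgen (K := K) p k 2
    change ((([3] : List (Fin 6)).map (NiN (nData_E6 (F := K)) bridge_E6 hsimpE6)).prod :
      GL chevE6.Idx K) ∈ _ at this
    simp only [List.map_cons, List.map_nil, List.prod_cons, List.prod_nil, mul_one, NiN_coe] at this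
    change nWordGL chevE6 goodE6 [3] ∈ _
    simp only [nWordGL, List.map_cons, List.map_nil, List.prod_cons, List.prod_nil, mul_one,
      nGL_eq_Ni]
    exact this
  · have := hgen (K := K) p k 3
    change ((([1] : List (Fin 6)).map (NiN (nData_E6 (F := K)) bridge_E6 hsimpE6)).prod :
      GL chevE6.Idx K) ∈ _ at this
    simp only [List.map_cons, List.map_nil, List.prod_cons, List.prod_nil, mul_one, NiN_coe] at this
    change nWordGL chevE6 goodE6 [1] ∈ _
    simp only [nWordGL, List.map_cons, List.map_nil, List.prod_cons, List.prod_nil, mul_one,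
      nGL_eq_Ni]
    exact this

theorem tau_xs (i : ℕ) (hi : i < chevE6.rank) (t : K) :
    tau (frob (K := K) p k) Pg (xs goodE6 i t) = xs goodE6 (pif i) (frob p k t) := by
  unfold xs
  rw [tau_xU goodE6 _ Pg Rf etaf hconjP _ ((hypE6 (K := K)).hB.hsimp i hi), orbFacts.2.2.1 i hi,
    orbFacts.2.2.2.1 i hi]
  simp

theorem xs_comm (i j r s : ℕ) (hi : chevE6.simple i = r) (hj : chevE6.simple j = s)
    (hrs : (r, s) ∈ commPairs) (a b : K) :
    xs goodE6 i a * xs goodE6 j b = xs goodE6 j b * xs goodE6 i a := by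
  unfold xs
  rw [hi, hj, ← xg_eq_xU, ← xg_eq_xU]
  exact xcomm r s hrs a b

theorem hfixX (j : Fin 4) (x : GL chevE6.Idx K) (hx : x ∈ XJ goodE6 (F := K) (orbE j))
    (hτ : tau (frob (K := K) p k) Pg x = x) : x ∈ twistedE6 K (p ^ k) := by
  obtain ⟨hs0, hs1, hs2, hs3, hs4, hs5, hrk⟩ := simpleVals
  fin_cases j
  · change x ∈ XJ goodE6 (F := K) [0, 5] at hx
    rw [XJ_two] at hx
    obtain ⟨t, ht, rfl⟩ := Cfsg.Agent.Helper59.TwOrb.fix_form2 (xs goodE6 0) (xs goodE6 5)
      (xs_add goodE6 0) (xs_add goodE6 5)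
      (xs_comm 0 5 56 36 hs0 hs5 (by simp [commPairs]))
      (uniq_two goodE6 (hypE6 (K := K)) (orthE6 0)) (tau (frob (K := K) p k) Pg)
      (frob (K := K) p k) (fun t => tau_xs p k 0 (by rw [hrk]; norm_num) t)
      (fun t => tau_xs p k 5 (by rw [hrk]; norm_num) t) x hx hτ
    change xU chevE6 goodE6 (chevE6.simple 0) t * xU chevE6 goodE6 (chevE6.simple 5) _ ∈ _
    rw [hs0, hs5, ← xg_eq_xU, ← xg_eq_xU, frob_apply]
    exact mem_gen_two (nData_E6 (F := K)) (e6Words K (p ^ k)) 56 36 t (t ^ (p ^ k))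
      (Or.inr ⟨t, (56, 36), by simp [e6p1, e6p6], rfl⟩)
  · change x ∈ XJ goodE6 (F := K) [2, 4] at hx
    rw [XJ_two] at hx
    obtain ⟨t, ht, rfl⟩ := Cfsg.Agent.Helper59.TwOrb.fix_form2 (xs goodE6 2) (xs goodE6 4)
      (xs_add goodE6 2) (xs_add goodE6 4)
      (xs_comm 2 4 42 37 hs2 hs4 (by simp [commPairs]))
      (uniq_two goodE6 (hypE6 (K := K)) (orthE6 1)) (tau (frob (K := K) p k) Pg)
      (frob (K := K) p k) (fun t => tau_xs p k 2 (by rw [hrk]; norm_num) t)
      (fun t => tau_xs p k 4 (by rw [hrk]; norm_num) t) x hx hτ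
    change xU chevE6 goodE6 (chevE6.simple 2) t * xU chevE6 goodE6 (chevE6.simple 4) _ ∈ _
    rw [hs2, hs4, ← xg_eq_xU, ← xg_eq_xU, frob_apply]
    exact mem_gen_two (nData_E6 (F := K)) (e6Words K (p ^ k)) 42 37 t (t ^ (p ^ k))
      (Or.inr ⟨t, (42, 37), by simp [e6p3, e6p5], rfl⟩)
  · change x ∈ XJ goodE6 (F := K) [3] at hx
    rw [XJ_one] at hx
    obtain ⟨t, ht, rfl⟩ := Cfsg.Agent.Helper59.TwOrb.fix_form1 (xs goodE6 3) (xs_add goodE6 3)
      (uniq_one goodE6 (hypE6 (K := K)) (by rw [hrk]; norm_num)) (tau (frob (K := K) p k) Pg)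
      (frob (K := K) p k) (fun t => tau_xs p k 3 (by rw [hrk]; norm_num) t) x hx hτ
    change xU chevE6 goodE6 (chevE6.simple 3) t ∈ _
    rw [hs3, ← xg_eq_xU]
    exact mem_gen_one nData_E6 _ 39 t
      (Or.inl ⟨t, by rw [← frob_apply (K := K) p k]; exact ht, 39, by simp [e6p4], rfl⟩)
  · change x ∈ XJ goodE6 (F := K) [1] at hx
    rw [XJ_one] at hx
    obtain ⟨t, ht, rfl⟩ := Cfsg.Agent.Helper59.TwOrb.fix_form1 (xs goodE6 1) (xs_add goodE6 1)
      (uniq_one goodE6 (hypE6 (K := K)) (by rw [hrk]; norm_num)) (tau (frob (K := K) p k) Pg)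
      (frob (K := K) p k) (fun t => tau_xs p k 1 (by rw [hrk]; norm_num) t) x hx hτ
    change xU chevE6 goodE6 (chevE6.simple 1) t ∈ _
    rw [hs1, ← xg_eq_xU]
    exact mem_gen_one nData_E6 _ 46 t
      (Or.inl ⟨t, by rw [← frob_apply (K := K) p k]; exact ht, 46, by simp [e6p2], rfl⟩)

variable (hK : Fintype.card K = (p ^ k) ^ 2) (hq : 1 < p ^ k)

include hK in
theorem frob2' (t : K) : frob (K := K) p k (frob p k t) = t := by
  rw [frob_apply, frob_apply, ← pow_mul, ← sq, ← hK, FiniteField.pow_card]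

include hK hq in
theorem hdE6 (j : Fin 4) (Y : Subgroup (GL chevE6.Idx K))
    (hY : ∀ g, g ∈ Y ↔ g ∈ XJ goodE6 (F := K) (orbE j) ∧ tau (frob (K := K) p k) Pg g = g) :
    Nat.card ↥Y ^ 2 = Nat.card ↥(XJ goodE6 (F := K) (orbE j)) := by
  obtain ⟨hs0, hs1, hs2, hs3, hs4, hs5, hrk⟩ := simpleVals
  fin_cases j
  · change ∀ g, g ∈ Y ↔ g ∈ XJ goodE6 (F := K) [0, 5] ∧ _ at hY
    change _ = Nat.card ↥(XJ goodE6 (F := K) [0, 5])
    rw [XJ_two] at hY ⊢
    rw [Cfsg.Agent.Helper59.TwOrb.card_fix2 (xs goodE6 0) (xs goodE6 5)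
      (xs_add goodE6 0) (xs_add goodE6 5)
      (xs_comm 0 5 56 36 hs0 hs5 (by simp [commPairs]))
      (uniq_two goodE6 (hypE6 (K := K)) (orthE6 0)) (tau (frob (K := K) p k) Pg)
      (frob (K := K) p k) (fun t => tau_xs p k 0 (by rw [hrk]; norm_num) t)
      (fun t => tau_xs p k 5 (by rw [hrk]; norm_num) t) Y hY,
      Cfsg.Agent.Helper59.TwOrb.card_X2 (xs goodE6 0) (xs goodE6 5)
      (xs_add goodE6 0) (xs_add goodE6 5)
      (xs_comm 0 5 56 36 hs0 hs5 (by simp [commPairs]))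
      (uniq_two goodE6 (hypE6 (K := K)) (orthE6 0))]
    congr 1
    exact Nat.card_congr (Equiv.subtypeUnivEquiv (fun t => frob2' p k hK t))
  · change ∀ g, g ∈ Y ↔ g ∈ XJ goodE6 (F := K) [2, 4] ∧ _ at hY
    change _ = Nat.card ↥(XJ goodE6 (F := K) [2, 4])
    rw [XJ_two] at hY ⊢
    rw [Cfsg.Agent.Helper59.TwOrb.card_fix2 (xs goodE6 2) (xs goodE6 4)
      (xs_add goodE6 2) (xs_add goodE6 4)
      (xs_comm 2 4 42 37 hs2 hs4 (by simp [commPairs]))
      (uniq_two goodE6 (hypE6 (K := K)) (orthE6 1)) (tau (frob (K := K) p k) Pg)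
      (frob (K := K) p k) (fun t => tau_xs p k 2 (by rw [hrk]; norm_num) t)
      (fun t => tau_xs p k 4 (by rw [hrk]; norm_num) t) Y hY,
      Cfsg.Agent.Helper59.TwOrb.card_X2 (xs goodE6 2) (xs goodE6 4)
      (xs_add goodE6 2) (xs_add goodE6 4)
      (xs_comm 2 4 42 37 hs2 hs4 (by simp [commPairs]))
      (uniq_two goodE6 (hypE6 (K := K)) (orthE6 1))]
    congr 1
    exact Nat.card_congr (Equiv.subtypeUnivEquiv (fun t => frob2' p k hK t))
  · change ∀ g, g ∈ Y ↔ g ∈ XJ goodE6 (F := K) [3] ∧ _ at hY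
    change _ = Nat.card ↥(XJ goodE6 (F := K) [3])
    rw [XJ_one] at hY ⊢
    rw [Cfsg.Agent.Helper59.TwOrb.card_fix1 (xs goodE6 3) (xs_add goodE6 3)
      (uniq_one goodE6 (hypE6 (K := K)) (by rw [hrk]; norm_num)) (tau (frob (K := K) p k) Pg)
      (frob (K := K) p k) (fun t => tau_xs p k 3 (by rw [hrk]; norm_num) t) Y hY,
      Cfsg.Agent.Helper59.TwOrb.card_X1 (xs goodE6 3) (xs_add goodE6 3)
      (uniq_one goodE6 (hypE6 (K := K)) (by rw [hrk]; norm_num)), Nat.card_eq_fintype_card (α := K), hK]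
    congr 1
    rw [← Cfsg.Agent.Helper59.TwOrb.card_fixed_pow (K := K) (p ^ k) 2 hq hK]
    exact Nat.card_congr (Equiv.subtypeEquivRight (fun t => by rw [frob_apply]))
  · change ∀ g, g ∈ Y ↔ g ∈ XJ goodE6 (F := K) [1] ∧ _ at hY
    change _ = Nat.card ↥(XJ goodE6 (F := K) [1])
    rw [XJ_one] at hY ⊢
    rw [Cfsg.Agent.Helper59.TwOrb.card_fix1 (xs goodE6 1) (xs_add goodE6 1)
      (uniq_one goodE6 (hypE6 (K := K)) (by rw [hrk]; norm_num)) (tau (frob (K := K) p k) Pg)
      (frob (K := K) p k) (fun t => tau_xs p k 1 (by rw [hrk]; norm_num) t) Y hY,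
      Cfsg.Agent.Helper59.TwOrb.card_X1 (xs goodE6 1) (xs_add goodE6 1)
      (uniq_one goodE6 (hypE6 (K := K)) (by rw [hrk]; norm_num)), Nat.card_eq_fintype_card (α := K), hK]
    congr 1
    rw [← Cfsg.Agent.Helper59.TwOrb.card_fixed_pow (K := K) (p ^ k) 2 hq hK]
    exact Nat.card_congr (Equiv.subtypeEquivRight (fun t => by rw [frob_apply]))

/-- reduction of the hypotheses of the statements to `q = p ^ k` with `p` the characteristic -/
theorem exists_charE6 {q : ℕ} (hq : IsPrimePow q) (hK : Fintype.card K = q ^ 2) :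
    ∃ (p k : ℕ) (_ : ExpChar K p), q = p ^ k ∧ 1 < p ^ k := by
  obtain ⟨p, k, hp, hk, rfl⟩ := (isPrimePow_nat_iff q).1 hq
  obtain ⟨p', hchar⟩ := CharP.exists K
  have := hchar
  obtain ⟨n, hp', hn⟩ := FiniteField.card K p'
  have hpp : p' = p := by
    have h1 : p' ∣ (p ^ k) ^ 2 := by
      rw [← hK, hn]
      exact dvd_pow_self p' n.ne_zero
    exact (Nat.prime_dvd_prime_iff_eq hp' hp).1 (hp'.dvd_of_dvd_pow (hp'.dvd_of_dvd_pow h1))
  subst hpp
  refine ⟨p', k, ExpChar.prime hp', rfl, ?_⟩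
  exact Nat.one_lt_pow hk.ne' hp'.one_lt

end

end Cfsg.Agent.Helper6.TwBN.E6
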