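import Cfsg.Agent.Lib.Helper6.TwistSimple

/-!
# Irreducibility of a (B,N)-pair whose distinguished generators form a chain of non-commuting
reflections
-/

set_option autoImplicit false

namespace Cfsg.Agent.Helper6.Twist

/-- in a list containing an element of `J` and an element outside `J`, two consecutive elements are
separated by `J` -/
theorem exists_adjacent_sep {α : Type*} (J : Set α) :
    ∀ (L : List α), (∃ x ∈ L, x ∈ J) → (∃ y ∈ L, y ∉ J) →
      ∃ L1 L2 : List α, ∃ x y : α, L = L1 ++ x :: y :: L2 ∧ ((x ∈ J ∧ y ∉ J) ∨ (x ∉ J ∧ y ∈ J)) := by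
  intro L
  induction L with
  | nil =>
    rintro ⟨x, hx, -⟩
    simp at hx
  | cons a L ih =>
    intro h1 h2
    rcases L with _ | ⟨b, L⟩
    · obtain ⟨x, hx, hxJ⟩ := h1
      obtain ⟨y, hy, hyJ⟩ := h2
      simp only [List.mem_cons, List.not_mem_nil, or_false] at hx hy
      subst hx hy
      exact absurd hxJ hyJ
    · by_cases ha : a ∈ J
      · by_cases hb : b ∈ J
        · -- recurse
          have h1' : ∃ x ∈ b :: L, x ∈ J := ⟨b, by simp, hb⟩
          have h2' : ∃ y ∈ b :: L, y ∉ J := by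
            obtain ⟨y, hy, hyJ⟩ := h2
            rcases List.mem_cons.1 hy with rfl | hy'
            · exact absurd ha hyJ
            · exact ⟨y, hy', hyJ⟩
          obtain ⟨L1, L2, x, y, hL, hsep⟩ := ih h1' h2'
          exact ⟨a :: L1, L2, x, y, by rw [hL]; rfl, hsep⟩
        · exact ⟨[], L, a, b, rfl, Or.inl ⟨ha, hb⟩⟩
      · by_cases hb : b ∈ J
        · exact ⟨[], L, a, b, rfl, Or.inr ⟨ha, hb⟩⟩
        · have h2' : ∃ y ∈ b :: L, y ∉ J := ⟨b, by simp, hb⟩
          have h1' : ∃ x ∈ b :: L, x ∈ J := by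
            obtain ⟨x, hx, hxJ⟩ := h1
            rcases List.mem_cons.1 hx with rfl | hx'
            · exact absurd hxJ ha
            · exact ⟨x, hx', hxJ⟩
          obtain ⟨L1, L2, x, y, hL, hsep⟩ := ih h1' h2'
          exact ⟨a :: L1, L2, x, y, by rw [hL]; rfl, hsep⟩

/-- a (B,N)-pair whose distinguished generators can be listed so that consecutive ones have their
commutator outside `B` is irreducible -/
theorem irreducible_of_chain {G : Type*} [Group G] (P : Cfsg.BNPair G) (reps : List G)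
    (hS : ∀ s, s ∈ P.S ↔ s ∈ reps)
    (hchain : ∀ L1 L2 : List G, ∀ x y : G, reps = L1 ++ x :: y :: L2 →
      x * y * x⁻¹ * y⁻¹ ∉ P.B) : P.Irreducible := by
  intro J hJ hne hne'
  obtain ⟨x0, hx0⟩ := hne
  obtain ⟨y0, hy0S, hy0J⟩ := hne'
  obtain ⟨L1, L2, x, y, hL, hsep⟩ := exists_adjacent_sep J reps
    ⟨x0, (hS x0).1 (hJ hx0), hx0⟩ ⟨y0, (hS y0).1 hy0S, hy0J⟩
  have hxS : x ∈ P.S := (hS x).2 (by rw [hL]; simp)
  have hyS : y ∈ P.S := (hS y).2 (by rw [hL]; simp)
  have hc := hchain L1 L2 x y hL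
  rcases hsep with ⟨hxJ, hyJ⟩ | ⟨hxJ, hyJ⟩
  · exact ⟨x, hxJ, y, ⟨hyS, hyJ⟩, hc⟩
  · refine ⟨y, hyJ, x, ⟨hxS, hxJ⟩, ?_⟩
    intro hmem
    apply hc
    have : x * y * x⁻¹ * y⁻¹ = (y * x * y⁻¹ * x⁻¹)⁻¹ := by group
    rw [this]
    exact inv_mem hmem

end Cfsg.Agent.Helper6.Twist
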