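import Cfsg.Agent.Lib.Helper6.TwistPerf
import Cfsg.Agent.Lib.Helper6.TwistTrace
import Cfsg.Agent.Lib.Helper6.TwistCoreE6

/-!
# `²E₆(q)` is perfect
-/

set_option autoImplicit false
set_option maxRecDepth 100000

namespace Cfsg.Agent.Helper6.Twist.E6

open Cfsg.Lie Cfsg.Agent.Helper18 Cfsg.Agent.Helper17 Cfsg.Agent.Helper6.Weyl Cfsg.Agent.Helper6.Chev
open Cfsg.Agent.Helper6.ChevS Cfsg.Agent.Helper6.ChevLen Cfsg.Agent.S1043 Matrix

/-- the Frobenius exponents of the nodes -/
def ex : ℕ → ℕ := fun j => if j = 5 then 1 else if j = 4 then 1 else 0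

/-- the structure constants in the commutator relations used -/
def Mp : ℕ → ℤ := fun j => if j = 2 then 1 else -1
def Mm : ℕ → ℤ := fun j => if j = 2 then -1 else 1

theorem perfTable1 : BlockOK chevE6 [0, 5] := by decide +kernel

theorem perfTable2 : BlockOK chevE6 [2, 4] := by decide +kernel

theorem perfTable3 :
    (∀ j ∈ [2, 4], chevE6.simple j < chevE6.nroots ∧ chevE6.neg (chevE6.simple j) < chevE6.nroots) ∧
    (∀ j ∈ [2, 4], Cfsg.Agent.Helper18.commCheck chevE6 (chevE6.reflectRoot 3 (chevE6.simple j)) (chevE6.neg (chevE6.simple j)) = true ∧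
      chevE6.commTerms (chevE6.reflectRoot 3 (chevE6.simple j)) (chevE6.neg (chevE6.simple j)) =
        [(39, Mp j, 1, 1)]) ∧
    ([2, 4].Pairwise fun j k =>
      CommOK chevE6 [chevE6.reflectRoot 3 (chevE6.simple j), chevE6.neg (chevE6.simple j), 39]
        [chevE6.reflectRoot 3 (chevE6.simple k), chevE6.neg (chevE6.simple k), 39]) := by
  decide +kernel

theorem perfTable4 :
    (∀ j ∈ [2, 4], Cfsg.Agent.Helper18.commCheck chevE6 (chevE6.reflectRoot 3 (chevE6.neg (chevE6.simple j))) (chevE6.simple j) = true ∧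
      chevE6.commTerms (chevE6.reflectRoot 3 (chevE6.neg (chevE6.simple j))) (chevE6.simple j) =
        [(32, Mm j, 1, 1)]) ∧
    ([2, 4].Pairwise fun j k =>
      CommOK chevE6 [chevE6.reflectRoot 3 (chevE6.neg (chevE6.simple j)), chevE6.simple j, 32]
        [chevE6.reflectRoot 3 (chevE6.neg (chevE6.simple k)), chevE6.simple k, 32]) := by
  decide +kernel

theorem perfTable5 :
    (chevE6.simple 1 < chevE6.nroots ∧ chevE6.neg (chevE6.simple 1) < chevE6.nroots) ∧
    (Cfsg.Agent.Helper18.commCheck chevE6 (chevE6.reflectRoot 3 (chevE6.simple 1)) 32 = true ∧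
      chevE6.commTerms (chevE6.reflectRoot 3 (chevE6.simple 1)) 32 = [(46, -1, 1, 1)]) ∧
    (Cfsg.Agent.Helper18.commCheck chevE6 (chevE6.reflectRoot 3 (chevE6.neg (chevE6.simple 1))) 39 = true ∧
      chevE6.commTerms (chevE6.reflectRoot 3 (chevE6.neg (chevE6.simple 1))) 39 = [(25, 1, 1, 1)]) ∧
    (etaE6 3 42 = 1 ∧ etaE6 3 37 = -1 ∧ etaE6 3 29 = 1 ∧ etaE6 3 34 = -1 ∧ etaE6 3 46 = 1 ∧
      etaE6 3 25 = 1) := by
  decide +kernel

section

variable {K : Type*} [Field K] (p k : ℕ) [ExpChar K p]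

theorem hXmem05 (t : K) : PR (nData_E6 (F := K)) chevE6.simple [0, 5]
    (fun j => (frob (K := K) p k)^[ex j] t) ∈ twistedE6 K (p ^ k) := by
  obtain ⟨-, -, -, ⟨hs0, hs1, hs2, hs3, hs4, hs5⟩, ⟨hn0, hn1, hn2, hn3, hn4, hn5⟩, -⟩ := tableOK
  have := mem_gen_two (nData_E6 (F := K)) (e6Words K (p ^ k)) 56 36 t (t ^ (p ^ k))
    (Or.inr ⟨t, (56, 36), by simp [e6p1, e6p6], rfl⟩)
  have e0 : (frob (K := K) p k)^[ex 0] t = t := rfl
  have e1 : (frob (K := K) p k)^[ex 5] t = t ^ (p ^ k) := frob_apply p k t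
  simp only [PR, List.map_cons, List.map_nil, List.prod_cons, List.prod_nil, mul_one, hs0, hs5,
    e0, e1]
  exact this

theorem hYmem05 (t : K) : PR (nData_E6 (F := K)) (fun i => chevE6.neg (chevE6.simple i)) [0, 5]
    (fun j => (frob (K := K) p k)^[ex j] t) ∈ twistedE6 K (p ^ k) := by
  obtain ⟨-, -, -, ⟨hs0, hs1, hs2, hs3, hs4, hs5⟩, ⟨hn0, hn1, hn2, hn3, hn4, hn5⟩, -⟩ := tableOK
  have := mem_gen_two (nData_E6 (F := K)) (e6Words K (p ^ k)) 15 35 t (t ^ (p ^ k))
    (Or.inr ⟨t, (15, 35), by simp [e6m1, e6m6], rfl⟩)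
  have e0 : (frob (K := K) p k)^[ex 0] t = t := rfl
  have e1 : (frob (K := K) p k)^[ex 5] t = t ^ (p ^ k) := frob_apply p k t
  simp only [PR, List.map_cons, List.map_nil, List.prod_cons, List.prod_nil, mul_one, hs0, hs5, hn0, hn5,
    e0, e1]
  exact this

theorem hXmem24 (t : K) : PR (nData_E6 (F := K)) chevE6.simple [2, 4]
    (fun j => (frob (K := K) p k)^[ex j] t) ∈ twistedE6 K (p ^ k) := by
  obtain ⟨-, -, -, ⟨hs0, hs1, hs2, hs3, hs4, hs5⟩, ⟨hn0, hn1, hn2, hn3, hn4, hn5⟩, -⟩ := tableOK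
  have := mem_gen_two (nData_E6 (F := K)) (e6Words K (p ^ k)) 42 37 t (t ^ (p ^ k))
    (Or.inr ⟨t, (42, 37), by simp [e6p3, e6p5], rfl⟩)
  have e0 : (frob (K := K) p k)^[ex 2] t = t := rfl
  have e1 : (frob (K := K) p k)^[ex 4] t = t ^ (p ^ k) := frob_apply p k t
  simp only [PR, List.map_cons, List.map_nil, List.prod_cons, List.prod_nil, mul_one, hs2, hs4,
    e0, e1]
  exact this

theorem hYmem24 (t : K) : PR (nData_E6 (F := K)) (fun i => chevE6.neg (chevE6.simple i)) [2, 4]
    (fun j => (frob (K := K) p k)^[ex j] t) ∈ twistedE6 K (p ^ k) := by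
  obtain ⟨-, -, -, ⟨hs0, hs1, hs2, hs3, hs4, hs5⟩, ⟨hn0, hn1, hn2, hn3, hn4, hn5⟩, -⟩ := tableOK
  have := mem_gen_two (nData_E6 (F := K)) (e6Words K (p ^ k)) 29 34 t (t ^ (p ^ k))
    (Or.inr ⟨t, (29, 34), by simp [e6m3, e6m5], rfl⟩)
  have e0 : (frob (K := K) p k)^[ex 2] t = t := rfl
  have e1 : (frob (K := K) p k)^[ex 4] t = t ^ (p ^ k) := frob_apply p k t
  simp only [PR, List.map_cons, List.map_nil, List.prod_cons, List.prod_nil, mul_one, hs2, hs4, hn2, hn4,
    e0, e1]
  exact this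

theorem Ni3_mem : Ni (nData_E6 (F := K)) 3 ∈ twistedE6 K (p ^ k) := by
  have := hgen (K := K) p k 2
  change ((([3] : List (Fin 6)).map (NiN (nData_E6 (F := K)) bridge_E6 hsimpE6)).prod :
    GL chevE6.Idx K) ∈ _ at this
  simp only [List.map_cons, List.map_nil, List.prod_cons, List.prod_nil, mul_one, NiN_coe] at this
  exact this

theorem single_gen (r : ℕ) (hr : r ∈ [e6p2, e6m2, e6p4, e6m4]) (s : K) (hs : s ^ (p ^ k) = s) :
    xg (nData_E6 (F := K)) r s ∈ twistedE6 K (p ^ k) :=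
  mem_gen_one nData_E6 _ r s (Or.inl ⟨s, hs, r, hr, rfl⟩)

theorem two_le_q (hk : 0 < k) (hp : p.Prime) : 2 ≤ p ^ k := by
  calc 2 ≤ p := hp.two_le
    _ = p ^ 1 := (pow_one p).symm
    _ ≤ p ^ k := Nat.pow_le_pow_right hp.pos hk

/-- the short generators are commutators -/
theorem short_mem [Fintype K] (hk : 0 < k) (hp : p.Prime) (hK : Fintype.card K = (p ^ k) ^ 2) (t : K) :
    (PR (nData_E6 (F := K)) chevE6.simple [0, 5] (fun j => (frob (K := K) p k)^[ex j] t) ∈
      ⁅twistedE6 K (p ^ k), twistedE6 K (p ^ k)⁆ ∧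
    PR (nData_E6 (F := K)) (fun i => chevE6.neg (chevE6.simple i)) [0, 5]
      (fun j => (frob (K := K) p k)^[ex j] t) ∈ ⁅twistedE6 K (p ^ k), twistedE6 K (p ^ k)⁆) ∧
    (PR (nData_E6 (F := K)) chevE6.simple [2, 4] (fun j => (frob (K := K) p k)^[ex j] t) ∈
      ⁅twistedE6 K (p ^ k), twistedE6 K (p ^ k)⁆ ∧
    PR (nData_E6 (F := K)) (fun i => chevE6.neg (chevE6.simple i)) [2, 4]
      (fun j => (frob (K := K) p k)^[ex j] t) ∈ ⁅twistedE6 K (p ^ k), twistedE6 K (p ^ k)⁆) := by
  have hcard : 3 < Fintype.card K := by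
    rw [hK]
    calc 3 < 2 ^ 2 := by norm_num
      _ ≤ (p ^ k) ^ 2 := Nat.pow_le_pow_left (two_le_q p k hk hp) 2
  obtain ⟨lam, hlam, hlam2⟩ := exists_lam hcard
  exact ⟨torus_comm_frob chevE6 torusE6 (nData_E6 (F := K)) (frob (K := K) p k) ex [0, 5]
      perfTable1 (twistedE6 K (p ^ k)) (hXmem05 p k) (hYmem05 p k) lam hlam hlam2 t,
    torus_comm_frob chevE6 torusE6 (nData_E6 (F := K)) (frob (K := K) p k) ex [2, 4]
      perfTable2 (twistedE6 K (p ^ k)) (hXmem24 p k) (hYmem24 p k) lam hlam hlam2 t⟩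

/-- the long generators of the central node are commutators -/
theorem long_mem4 [Fintype K] (hk : 0 < k) (hp : p.Prime) (hK : Fintype.card K = (p ^ k) ^ 2) (s : K)
    (hs : s ^ (p ^ k) = s) :
    xg (nData_E6 (F := K)) 39 s ∈ ⁅twistedE6 K (p ^ k), twistedE6 K (p ^ k)⁆ ∧
    xg (nData_E6 (F := K)) 32 s ∈ ⁅twistedE6 K (p ^ k), twistedE6 K (p ^ k)⁆ := by
  obtain ⟨hlt, hrelp, hcrossp⟩ := perfTable3
  obtain ⟨hrelm, hcrossm⟩ := perfTable4
  obtain ⟨-, -, -, e42, e37, e29, e34, -, -⟩ := perfTable5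
  obtain ⟨-, -, -, ⟨hs0, hs1, hs2, hs3, hs4, hs5⟩, ⟨hn0, hn1, hn2, hn3, hn4, hn5⟩, -⟩ := tableOK
  have h2 := two_le_q p k hk hp
  have hfix : frob (K := K) p k s = s := by rw [frob_apply, hs]
  have hone : ∀ j, (frob (K := K) p k)^[ex j] (1 : K) = 1 := by
    intro j
    rw [← RingHom.coe_pow, map_one]
  constructor
  · obtain ⟨T, hT⟩ := exists_trace_eq (frob (K := K) p k) (p ^ k) 2 (frob_apply p k) h2 (by norm_num) hK
      (-s) (by rw [map_neg, hfix])
    have hT' : T + frob (K := K) p k T = -s := by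
      simpa [Finset.sum_range_succ] using hT
    have := long_comm chevE6 (nData_E6 (F := K)) [2, 4] 3 (by decide) chevE6.simple
      (fun j => chevE6.neg (chevE6.simple j)) 39 Mp (fun j hj => (hlt j hj).1) hrelp hcrossp
      (twistedE6 K (p ^ k)) (Ni3_mem p k) (fun j => (frob (K := K) p k)^[ex j] T)
      (fun j => (frob (K := K) p k)^[ex j] 1) (hXmem24 p k T) (hYmem24 p k 1)
    have e : ([2, 4].map fun j => ((Mp j : ℤ) : K) * (-(((etaE6 3 (chevE6.simple j) : ℤ) : K) *
        (frob (K := K) p k)^[ex j] T)) * (frob (K := K) p k)^[ex j] 1).sum = s := by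
      have e0 : (frob (K := K) p k)^[ex 2] T = T := rfl
      have e1 : (frob (K := K) p k)^[ex 4] T = frob (K := K) p k T := rfl
      simp only [List.map_cons, List.map_nil, List.sum_cons, List.sum_nil, hone, hs2, hs4, e42, e37,
        e0, e1, Mp]
      have : s = -(T + frob (K := K) p k T) := by rw [hT', neg_neg]
      rw [this]
      push_cast
      first | ring | (simp; ring) | simp
    rwa [e] at this
  · obtain ⟨T, hT⟩ := exists_trace_eq (frob (K := K) p k) (p ^ k) 2 (frob_apply p k) h2 (by norm_num) hK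
      s hfix
    have hT' : T + frob (K := K) p k T = s := by
      simpa [Finset.sum_range_succ] using hT
    have := long_comm chevE6 (nData_E6 (F := K)) [2, 4] 3 (by decide)
      (fun j => chevE6.neg (chevE6.simple j)) chevE6.simple 32 Mm (fun j hj => (hlt j hj).2) hrelm hcrossm
      (twistedE6 K (p ^ k)) (Ni3_mem p k) (fun j => (frob (K := K) p k)^[ex j] T)
      (fun j => (frob (K := K) p k)^[ex j] 1) (hYmem24 p k T) (hXmem24 p k 1)
    have e : ([2, 4].map fun j => ((Mm j : ℤ) : K) *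
        (-(((etaE6 3 (chevE6.neg (chevE6.simple j)) : ℤ) : K) *
        (frob (K := K) p k)^[ex j] T)) * (frob (K := K) p k)^[ex j] 1).sum = s := by
      have e0 : (frob (K := K) p k)^[ex 2] T = T := rfl
      have e1 : (frob (K := K) p k)^[ex 4] T = frob (K := K) p k T := rfl
      simp only [List.map_cons, List.map_nil, List.sum_cons, List.sum_nil, hone, hs2, hs4, hn2, hn4,
        e29, e34, e0, e1, Mm]
      rw [← hT']
      push_cast
      first | ring | (simp; ring) | simp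
    rwa [e] at this

/-- the long generators of the end node are commutators -/
theorem long_mem2 (s : K) (hs : s ^ (p ^ k) = s) :
    xg (nData_E6 (F := K)) 46 s ∈ ⁅twistedE6 K (p ^ k), twistedE6 K (p ^ k)⁆ ∧
    xg (nData_E6 (F := K)) 25 s ∈ ⁅twistedE6 K (p ^ k), twistedE6 K (p ^ k)⁆ := by
  obtain ⟨hlt, hrelp, hrelm, -, -, -, -, e46, e25⟩ := perfTable5
  obtain ⟨-, -, -, ⟨hs0, hs1, hs2, hs3, hs4, hs5⟩, ⟨hn0, hn1, hn2, hn3, hn4, hn5⟩, -⟩ := tableOK
  have hone' : (1 : K) ^ (p ^ k) = 1 := one_pow _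
  have hnegs : (-s) ^ (p ^ k) = -s := by
    rw [← frob_apply, map_neg, frob_apply, hs]
  constructor
  · have := long_comm chevE6 (nData_E6 (F := K)) [1] 3 (by decide) chevE6.simple
      (fun _ => 32) 46 (fun _ => -1) (fun j hj => by
        rw [List.mem_singleton.1 hj]; exact hlt.1)
      (fun j hj => by rw [List.mem_singleton.1 hj]; exact hrelp) (List.pairwise_singleton _ _)
      (twistedE6 K (p ^ k)) (Ni3_mem p k) (fun _ => s) (fun _ => 1)
      (by
        simp only [PR, List.map_cons, List.map_nil, List.prod_cons, List.prod_nil, mul_one, hs1]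
        exact single_gen p k 46 (by simp [e6p2]) s hs)
      (by
        simp only [PR, List.map_cons, List.map_nil, List.prod_cons, List.prod_nil, mul_one]
        exact single_gen p k 32 (by simp [e6m4]) 1 hone')
    have e : ([1].map fun j => (((fun _ => -1 : ℕ → ℤ) j : ℤ) : K) *
        (-(((etaE6 3 (chevE6.simple j) : ℤ) : K) * (fun _ => s) j)) * (fun _ => (1 : K)) j).sum = s := by
      simp only [List.map_cons, List.map_nil, List.sum_cons, List.sum_nil, hs1, e46]
      push_cast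
      ring
    rwa [e] at this
  · have := long_comm chevE6 (nData_E6 (F := K)) [1] 3 (by decide)
      (fun j => chevE6.neg (chevE6.simple j)) (fun _ => 39) 25 (fun _ => 1) (fun j hj => by
        rw [List.mem_singleton.1 hj]; exact hlt.2)
      (fun j hj => by rw [List.mem_singleton.1 hj]; exact hrelm) (List.pairwise_singleton _ _)
      (twistedE6 K (p ^ k)) (Ni3_mem p k) (fun _ => -s) (fun _ => 1)
      (by
        simp only [PR, List.map_cons, List.map_nil, List.prod_cons, List.prod_nil, mul_one, hs1, hn1]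
        exact single_gen p k 25 (by simp [e6m2]) (-s) hnegs)
      (by
        simp only [PR, List.map_cons, List.map_nil, List.prod_cons, List.prod_nil, mul_one]
        exact single_gen p k 39 (by simp [e6p4]) 1 hone')
    have e : ([1].map fun j => (((fun _ => 1 : ℕ → ℤ) j : ℤ) : K) *
        (-(((etaE6 3 (chevE6.neg (chevE6.simple j)) : ℤ) : K) * (fun _ => -s) j)) *
          (fun _ => (1 : K)) j).sum = s := by
      simp only [List.map_cons, List.map_nil, List.sum_cons, List.sum_nil, hs1, hn1, e25]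
      push_cast
      ring
    rwa [e] at this

/-- **`²E₆(q)` is perfect** -/
theorem perfect_twistedE6 [Fintype K] (hk : 0 < k) (hp : p.Prime)
    (hK : Fintype.card K = (p ^ k) ^ 2) : commutator ↥(twistedE6 K (p ^ k)) = ⊤ := by
  apply commutator_eq_top_of_le
  conv_lhs => rw [twistedE6]
  apply gen_le (nData_E6 (F := K))
  obtain ⟨-, -, -, ⟨hs0, hs1, hs2, hs3, hs4, hs5⟩, ⟨hn0, hn1, hn2, hn3, hn4, hn5⟩, -⟩ := tableOK
  intro w hw
  rcases hw with ⟨t, ht, r, hr, rfl⟩ | ⟨t, rs, hrs, rfl⟩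
  · simp only [e6p2, e6m2, e6p4, e6m4, List.mem_cons, List.not_mem_nil, or_false] at hr
    simp only [List.map_cons, List.map_nil, List.prod_cons, List.prod_nil, mul_one]
    rcases hr with rfl | rfl | rfl | rfl
    · exact (long_mem2 p k t ht).1
    · exact (long_mem2 p k t ht).2
    · exact (long_mem4 p k hk hp hK t ht).1
    · exact (long_mem4 p k hk hp hK t ht).2
  · simp only [e6p1, e6p6, e6m1, e6m6, e6p3, e6p5, e6m3, e6m5, List.mem_cons, List.not_mem_nil,
      or_false] at hrs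
    have e0 : (frob (K := K) p k)^[ex 0] t = t := rfl
    have e5 : (frob (K := K) p k)^[ex 5] t = t ^ (p ^ k) := frob_apply p k t
    have e2 : (frob (K := K) p k)^[ex 2] t = t := rfl
    have e4 : (frob (K := K) p k)^[ex 4] t = t ^ (p ^ k) := frob_apply p k t
    obtain ⟨⟨m1, m2⟩, m3, m4⟩ := short_mem p k hk hp hK t
    simp only [PR, List.map_cons, List.map_nil, List.prod_cons, List.prod_nil, mul_one, hs0, hs5, hs2,
      hs4, hn0, hn5, hn2, hn4, e0, e5, e2, e4] at m1 m2 m3 m4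
    rcases hrs with rfl | rfl | rfl | rfl
    · simpa only [List.map_cons, List.map_nil, List.prod_cons, List.prod_nil, mul_one] using m1
    · simpa only [List.map_cons, List.map_nil, List.prod_cons, List.prod_nil, mul_one] using m2
    · simpa only [List.map_cons, List.map_nil, List.prod_cons, List.prod_nil, mul_one] using m3
    · simpa only [List.map_cons, List.map_nil, List.prod_cons, List.prod_nil, mul_one] using m4

end

end Cfsg.Agent.Helper6.Twist.E6
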