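import Cfsg.Agent.Lib.Helper6.TwistBNChev
import Cfsg.Agent.Lib.Helper6.TwistIrr

/-!
# Simplicity of a twisted group from its (B,N)-pair (generic part)
-/

set_option autoImplicit false
set_option linter.unusedSectionVars false
set_option linter.unusedVariables false

namespace Cfsg.Agent.Helper6.TwBN

open Cfsg Cfsg.Lie Cfsg.Agent.S1043 Cfsg.Agent.Helper17 Cfsg.Agent.Helper18
open Cfsg.Agent.Helper6 Cfsg.Agent.Helper6.Weyl Cfsg.Agent.Helper6.Chev Cfsg.Agent.Helper6.ChevLen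
open Cfsg.Agent.Helper6.Twist

section

variable {F : Type*} [Field F] [Fintype F] {D : ChevalleyDatum} (hD : Good D)
  (G1 : Subgroup (GL D.Idx F))
  {l' : ℕ} (orb : Fin l' → List ℕ)
  (hnJ : ∀ j, nWordGL D hD (orb j) ∈ G1)
  {η : ℕ → ℕ → ℤ} (h : NData F D η)
  {l : ℕ} {V : VDatum l} {vec : ℕ → Vec l} (B : Bridge D V vec)
  (hsimp : ∀ j < D.rank, ∀ c : F, c ≠ 0 → D.hMat F (D.simple j) c =
    Matrix.diagonal (Sum.elim (fun _ => (1 : F)) (fun s : Fin D.nroots => c ^ (D.cartan j s))))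
  (orbW : Fin l' → List (Fin l))
  (horbW : ∀ j, (orbW j).map (fun i : Fin l => (i : ℕ)) = orb j)
  (hBN : D.borelSubgroup F ⊓ D.monomialSubgroup F = D.diagonalSubgroup F)
  (hchainW : ∀ (j : ℕ) (hj : j + 1 < l'), V.wpM (orbW ⟨j, by omega⟩ ++ orbW ⟨j + 1, hj⟩) ≠
    V.wpM (orbW ⟨j + 1, hj⟩ ++ orbW ⟨j, by omega⟩))

include hnJ h B hsimp horbW hBN hchainW in
/-- irreducibility of the (B,N)-pair of a twisted group whose orbit reflections form a chain -/
theorem irreducible_twisted (P : Cfsg.BNPair ↥G1)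
    (hPB : P.B = (D.borelSubgroup F ⊓ G1).subgroupOf G1)
    (hPS : P.S = {s : ↥G1 | ∃ j, (s : GL D.Idx F) = nWordGL D hD (orb j)}) : P.Irreducible := by
  set f : Fin l' → ↥G1 := fun j => ⟨nWordGL D hD (orb j), hnJ j⟩ with hf
  apply irreducible_of_chain P (List.ofFn f)
  · intro s
    rw [hPS, List.mem_ofFn]
    constructor
    · rintro ⟨j, hj⟩
      exact ⟨j, Subtype.ext hj.symm⟩
    · rintro ⟨j, rfl⟩
      exact ⟨j, rfl⟩
  · intro L1 L2 x y hL
    have hlen : (List.ofFn f).length = L1.length + (L2.length + 2) := by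
      rw [hL]
      simp
    rw [List.length_ofFn] at hlen
    have hj : L1.length + 1 < l' := by omega
    have hx : x = f ⟨L1.length, by omega⟩ := by
      have h1 : (List.ofFn f)[L1.length]'(by rw [List.length_ofFn]; omega) = x := by
        simp [hL]
      rw [← h1, List.getElem_ofFn]
    have hy : y = f ⟨L1.length + 1, hj⟩ := by
      have h1 : (List.ofFn f)[L1.length + 1]'(by rw [List.length_ofFn]; omega) = y := by
        simp [hL]
      rw [← h1, List.getElem_ofFn]
    rw [hPB, Subgroup.mem_subgroupOf, hx, hy]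
    intro hmem
    have hmem' := hmem.1
    simp only [Subgroup.coe_mul, Subgroup.coe_inv, hf] at hmem'
    rw [← horbW ⟨L1.length, by omega⟩, ← horbW ⟨L1.length + 1, hj⟩,
      nWordGL_map hD h B hsimp, nWordGL_map hD h B hsimp] at hmem'
    exact comm_notin_borel h B hsimp hBN _ _ (hchainW L1.length hj) hmem'

include hnJ h B hsimp horbW hBN hchainW in
/-- **simplicity of a twisted group** -/
theorem simple_twisted (hD' : D ∈ [chevG2, chevB2, chevD4, chevF4, chevE6, chevE7, chevE8])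
    (hl' : 2 ≤ l') (P : Cfsg.BNPair ↥G1)
    (hPB : P.B = (D.borelSubgroup F ⊓ G1).subgroupOf G1)
    (hPS : P.S = {s : ↥G1 | ∃ j, (s : GL D.Idx F) = nWordGL D hD (orb j)})
    (hperf : commutator ↥G1 = ⊤)
    (hcore : ((D.borelSubgroup F ⊓ G1).subgroupOf G1).normalCore = ⊥) :
    IsSimpleGroup ↥G1 ∧ ¬ IsMulCommutative ↥G1 := by
  have hirr := irreducible_twisted hD G1 orb hnJ h B hsimp orbW horbW hBN hchainW P hPB hPS
  have hnt : Nontrivial ↥G1 := by
    by_contra hcon
    rw [not_nontrivial_iff_subsingleton] at hcon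
    have hj0 : 0 + 1 < l' := by omega
    set s0 : ↥G1 := ⟨nWordGL D hD (orb ⟨0, by omega⟩), hnJ _⟩
    set s1 : ↥G1 := ⟨nWordGL D hD (orb ⟨0 + 1, hj0⟩), hnJ _⟩
    have hs0 : s0 ∈ P.S := by rw [hPS]; exact ⟨_, rfl⟩
    have hs1 : s1 ∈ P.S := by rw [hPS]; exact ⟨_, rfl⟩
    have hne : s0 ≠ s1 := by
      intro he
      have h1 : (s0 : GL D.Idx F) = s1 := congrArg Subtype.val he
      simp only [s0, s1] at h1
      rw [← horbW ⟨0, by omega⟩, ← horbW ⟨0 + 1, hj0⟩,
        nWordGL_map hD h B hsimp, nWordGL_map hD h B hsimp] at h1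
      apply comm_notin_borel h B hsimp hBN _ _ (hchainW 0 hj0)
      rw [h1]
      simp
    exact hne (Subsingleton.elim _ _)
  exact simple_of_bnPair D hD' G1 P hPB hirr hperf hcore

end

end Cfsg.Agent.Helper6.TwBN
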