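import Cfsg.Agent.Lib.Helper6.TwistBND4
import Cfsg.Agent.Lib.Helper6.TwistSimpleGen
import Cfsg.Agent.Lib.Helper6.TwistPerfD4

/-!
# `³D₄(q)` is simple
-/

set_option autoImplicit false
set_option linter.unusedSectionVars false
set_option linter.unusedVariables false
set_option maxRecDepth 100000

namespace Cfsg.Agent.Helper6.TwBN.D4

open Cfsg Cfsg.Lie Cfsg.Agent.S1043 Cfsg.Agent.Helper17 Cfsg.Agent.Helper18
open Cfsg.Agent.Helper6.Twist Cfsg.Agent.Helper6.Twist.D4 Cfsg.Agent.Helper6.Chev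
open Cfsg.Agent.Helper6.ChevS Cfsg.Agent.Helper6.ChevLen Cfsg.Agent.Helper6.Weyl
open Cfsg.Agent.Helper59.TwFix Cfsg.Agent.Helper59.TwD4 Matrix

theorem chainTable : ∀ (j : ℕ) (hj : j + 1 < 2),
    (((Weyl.D4.vd).wpM (orb ⟨j, by omega⟩ ++ orb ⟨j + 1, hj⟩) : (Mat 4)ˣ) : Mat 4) ≠
      (((Weyl.D4.vd).wpM (orb ⟨j + 1, hj⟩ ++ orb ⟨j, by omega⟩) : (Mat 4)ˣ) : Mat 4) := by
  have key : (((Weyl.D4.vd).wpM (orb 0 ++ orb 1) : (Mat 4)ˣ) : Mat 4) ≠
      (((Weyl.D4.vd).wpM (orb 1 ++ orb 0) : (Mat 4)ˣ) : Mat 4) := by decide +kernel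
  intro j hj
  have hj0 : j = 0 := by omega
  subst hj0
  exact key

section

variable {K : Type*} [Field K] [Fintype K] (p k : ℕ) [ExpChar K p]

/-- **`³D₄(q)` is simple** -/
theorem simple_twistedD4 (hk : 0 < k) (hp : p.Prime) (hK : Fintype.card K = (p ^ k) ^ 3) :
    IsSimpleGroup ↥(twistedD4 K (p ^ k)) ∧ ¬ IsMulCommutative ↥(twistedD4 K (p ^ k)) := by
  have hq : 1 < p ^ k := Nat.one_lt_pow hk.ne' hp.one_lt
  obtain ⟨P, hPB, -, hPS⟩ := bnPair_twistedD4 (K := K) p k hK hq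
  exact simple_twisted goodD4 (twistedD4 K (p ^ k)) orbD (hnJ p k) (nData_D4 (F := K)) bridge_D4 hsimpD4
    orb orbTable1 (borel_inf_mono goodD4 (hypD4 (K := K)))
    (fun j hj hc => chainTable j hj (congrArg Units.val hc))
    (by simp) (le_refl 2) P hPB hPS (perfect_twistedD4 p k hk hp hK) (core_twistedD4 p k hk hp hK)

end

end Cfsg.Agent.Helper6.TwBN.D4
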