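import Cfsg.Agent.Lib.Helper6.TwistBNE6
import Cfsg.Agent.Lib.Helper6.TwistSimpleGen
import Cfsg.Agent.Lib.Helper6.TwistPerfE6

/-!
# `²E₆(q)` is simple
-/

set_option autoImplicit false
set_option linter.unusedSectionVars false
set_option linter.unusedVariables false
set_option maxRecDepth 100000

namespace Cfsg.Agent.Helper6.TwBN.E6

open Cfsg Cfsg.Lie Cfsg.Agent.S1043 Cfsg.Agent.Helper17 Cfsg.Agent.Helper18
open Cfsg.Agent.Helper6.Twist Cfsg.Agent.Helper6.Twist.E6 Cfsg.Agent.Helper6.Chev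
open Cfsg.Agent.Helper6.ChevS Cfsg.Agent.Helper6.ChevLen Cfsg.Agent.Helper6.Weyl
open Cfsg.Agent.Helper59.TwFix Matrix

theorem chainTable : ∀ (j : ℕ) (hj : j + 1 < 4),
    (((Weyl.E6.vd).wpM (orb ⟨j, by omega⟩ ++ orb ⟨j + 1, hj⟩) : (Mat 6)ˣ) : Mat 6) ≠
      (((Weyl.E6.vd).wpM (orb ⟨j + 1, hj⟩ ++ orb ⟨j, by omega⟩) : (Mat 6)ˣ) : Mat 6) := by
  have key0 : (((Weyl.E6.vd).wpM (orb 0 ++ orb 1) : (Mat 6)ˣ) : Mat 6) ≠
      (((Weyl.E6.vd).wpM (orb 1 ++ orb 0) : (Mat 6)ˣ) : Mat 6) := by decide +kernel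
  have key1 : (((Weyl.E6.vd).wpM (orb 1 ++ orb 2) : (Mat 6)ˣ) : Mat 6) ≠
      (((Weyl.E6.vd).wpM (orb 2 ++ orb 1) : (Mat 6)ˣ) : Mat 6) := by decide +kernel
  have key2 : (((Weyl.E6.vd).wpM (orb 2 ++ orb 3) : (Mat 6)ˣ) : Mat 6) ≠
      (((Weyl.E6.vd).wpM (orb 3 ++ orb 2) : (Mat 6)ˣ) : Mat 6) := by decide +kernel
  intro j hj
  have hj0 : j = 0 ∨ j = 1 ∨ j = 2 := by omega
  rcases hj0 with rfl | rfl | rfl
  · exact key0
  · exact key1
  · exact key2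

section

variable {K : Type*} [Field K] [Fintype K] (p k : ℕ) [ExpChar K p]

/-- **`²E₆(q)` is simple** -/
theorem simple_twistedE6 (hk : 0 < k) (hp : p.Prime) (hK : Fintype.card K = (p ^ k) ^ 2) :
    IsSimpleGroup ↥(twistedE6 K (p ^ k)) ∧ ¬ IsMulCommutative ↥(twistedE6 K (p ^ k)) := by
  have hq : 1 < p ^ k := Nat.one_lt_pow hk.ne' hp.one_lt
  obtain ⟨P, hPB, -, hPS⟩ := bnPair_twistedE6 (K := K) p k hK hq
  exact simple_twisted goodE6 (twistedE6 K (p ^ k)) orbE (hnJ p k) (nData_E6 (F := K)) bridge_E6 hsimpE6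
    orb orbTable1 (borel_inf_mono goodE6 (hypE6 (K := K)))
    (fun j hj hc => chainTable j hj (congrArg Units.val hc))
    (by simp) (by norm_num) P hPB hPS (perfect_twistedE6 p k hk hp hK) (core_twistedE6 p k hk hp hK)

end

end Cfsg.Agent.Helper6.TwBN.E6
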