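import Cfsg.Agent.Lib.Helper6.TwistTorus
import Cfsg.Agent.Lib.Helper6.TwistPerfE6
import Cfsg.Agent.Lib.Helper6.TwistCount

/-!
# `gcd(3, q + 1) · |H ∩ ²E₆(q)| = (q - 1)⁴ (q + 1)²`
-/

set_option autoImplicit false
set_option maxRecDepth 100000
set_option linter.unusedSectionVars false
set_option linter.unusedVariables false

namespace Cfsg.Agent.Helper6.Twist.E6

open Cfsg.Lie Cfsg.Agent.Helper18 Cfsg.Agent.Helper17 Cfsg.Agent.Helper6.Weyl Cfsg.Agent.Helper6.Chev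
open Cfsg.Agent.Helper6.ChevS Cfsg.Agent.Helper6.ChevLen Cfsg.Agent.S1043 Matrix

theorem cartanTable :
    (chevE6.cartan 0 56 = 2 ∧ chevE6.cartan 1 56 = 0 ∧ chevE6.cartan 2 56 = -1 ∧ chevE6.cartan 3 56 = 0 ∧
      chevE6.cartan 4 56 = 0 ∧ chevE6.cartan 5 56 = 0) ∧
    (chevE6.cartan 0 46 = 0 ∧ chevE6.cartan 1 46 = 2 ∧ chevE6.cartan 2 46 = 0 ∧ chevE6.cartan 3 46 = -1 ∧
      chevE6.cartan 4 46 = 0 ∧ chevE6.cartan 5 46 = 0) ∧
    (chevE6.cartan 0 42 = -1 ∧ chevE6.cartan 1 42 = 0 ∧ chevE6.cartan 2 42 = 2 ∧ chevE6.cartan 3 42 = -1 ∧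
      chevE6.cartan 4 42 = 0 ∧ chevE6.cartan 5 42 = 0) ∧
    (chevE6.cartan 0 39 = 0 ∧ chevE6.cartan 1 39 = -1 ∧ chevE6.cartan 2 39 = -1 ∧ chevE6.cartan 3 39 = 2 ∧
      chevE6.cartan 4 39 = -1 ∧ chevE6.cartan 5 39 = 0) ∧
    (chevE6.cartan 0 37 = 0 ∧ chevE6.cartan 1 37 = 0 ∧ chevE6.cartan 2 37 = 0 ∧ chevE6.cartan 3 37 = -1 ∧
      chevE6.cartan 4 37 = 2 ∧ chevE6.cartan 5 37 = -1) ∧
    (chevE6.cartan 0 36 = 0 ∧ chevE6.cartan 1 36 = 0 ∧ chevE6.cartan 2 36 = 0 ∧ chevE6.cartan 3 36 = 0 ∧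
      chevE6.cartan 4 36 = -1 ∧ chevE6.cartan 5 36 = 2) ∧
    chevE6.rank = 6 := by
  decide +kernel

section

variable {K : Type*} [Field K]

/-- a parameter function from six units -/
def mk6 (a b c d e f : Kˣ) : ℕ → Kˣ := fun i =>
  if i = 0 then a else if i = 1 then b else if i = 2 then c else if i = 3 then d else
    if i = 4 then e else if i = 5 then f else 1

theorem mk6_mul (a b c d e f a' b' c' d' e' f' : Kˣ) :
    mk6 a b c d e f * mk6 a' b' c' d' e' f' =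
      mk6 (a * a') (b * b') (c * c') (d * d') (e * e') (f * f') := by
  funext i
  simp only [Pi.mul_apply, mk6]
  split_ifs <;> simp

theorem mk6_inv (a b c d e f : Kˣ) : (mk6 a b c d e f)⁻¹ = mk6 a⁻¹ b⁻¹ c⁻¹ d⁻¹ e⁻¹ f⁻¹ := by
  funext i
  simp only [Pi.inv_apply, mk6]
  split_ifs <;> simp

theorem mk6_one : mk6 (1 : Kˣ) 1 1 1 1 1 = 1 := by
  funext i
  simp only [mk6, Pi.one_apply]
  split_ifs <;> rfl

theorem chi_mk6 (a b c d e f : Kˣ) :
    chi chevE6 (fun i => ((mk6 a b c d e f i : Kˣ) : K)) 56 = ((a ^ 2 * c⁻¹ : Kˣ) : K) ∧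
    chi chevE6 (fun i => ((mk6 a b c d e f i : Kˣ) : K)) 46 = ((b ^ 2 * d⁻¹ : Kˣ) : K) ∧
    chi chevE6 (fun i => ((mk6 a b c d e f i : Kˣ) : K)) 42 = ((c ^ 2 * (a * d)⁻¹ : Kˣ) : K) ∧
    chi chevE6 (fun i => ((mk6 a b c d e f i : Kˣ) : K)) 39 = ((d ^ 2 * (b * c * e)⁻¹ : Kˣ) : K) ∧
    chi chevE6 (fun i => ((mk6 a b c d e f i : Kˣ) : K)) 37 = ((e ^ 2 * (f * d)⁻¹ : Kˣ) : K) ∧
    chi chevE6 (fun i => ((mk6 a b c d e f i : Kˣ) : K)) 36 = ((f ^ 2 * e⁻¹ : Kˣ) : K) := by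
  obtain ⟨⟨h00, h10, h20, h30, h40, h50⟩, ⟨h01, h11, h21, h31, h41, h51⟩,
    ⟨h02, h12, h22, h32, h42, h52⟩, ⟨h03, h13, h23, h33, h43, h53⟩,
    ⟨h04, h14, h24, h34, h44, h54⟩, ⟨h05, h15, h25, h35, h45, h55⟩, hr⟩ := cartanTable
  refine ⟨?_, ?_, ?_, ?_, ?_, ?_⟩
  · simp [chi, hr, List.range_succ, mk6, h00, h10, h20, h30, h40, h50, _root_.zpow_neg]
  · simp [chi, hr, List.range_succ, mk6, h01, h11, h21, h31, h41, h51, _root_.zpow_neg]
  · simp [chi, hr, List.range_succ, mk6, h02, h12, h22, h32, h42, h52, _root_.zpow_neg]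
    ring
  · simp [chi, hr, List.range_succ, mk6, h03, h13, h23, h33, h43, h53, _root_.zpow_neg]
    ring
  · simp [chi, hr, List.range_succ, mk6, h04, h14, h24, h34, h44, h54, _root_.zpow_neg]
    ring
  · simp [chi, hr, List.range_succ, mk6, h05, h15, h25, h35, h45, h55, _root_.zpow_neg]
    ring

theorem chi_one (s : ℕ) : chi chevE6 (fun i => (((1 : ℕ → Kˣ) i : Kˣ) : K)) s = 1 := by
  simp [chi]

/-- the kernel of the torus parametrisation -/
theorem ker_mk6 (a b c d e f : Kˣ) (h1 : torHom (F := K) chevE6 (mk6 a b c d e f) = 1) :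
    a ^ 3 = 1 ∧ b = 1 ∧ c = a ^ 2 ∧ d = 1 ∧ e = a ∧ f = a ^ 2 := by
  have h1' : torHom (F := K) chevE6 (mk6 a b c d e f) = torHom chevE6 1 := by rw [h1, map_one]
  obtain ⟨c56, c46, c42, c39, c37, c36⟩ := chi_mk6 a b c d e f
  have e56 := chi_of_torHom_eq chevE6 _ _ h1' 56 (by decide)
  have e46 := chi_of_torHom_eq chevE6 _ _ h1' 46 (by decide)
  have e42 := chi_of_torHom_eq chevE6 _ _ h1' 42 (by decide)
  have e39 := chi_of_torHom_eq chevE6 _ _ h1' 39 (by decide)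
  have e37 := chi_of_torHom_eq chevE6 _ _ h1' 37 (by decide)
  have e36 := chi_of_torHom_eq chevE6 _ _ h1' 36 (by decide)
  rw [chi_one, c56, Units.val_eq_one, mul_inv_eq_one] at e56
  rw [chi_one, c46, Units.val_eq_one, mul_inv_eq_one] at e46
  rw [chi_one, c42, Units.val_eq_one, mul_inv_eq_one] at e42
  rw [chi_one, c39, Units.val_eq_one, mul_inv_eq_one] at e39
  rw [chi_one, c37, Units.val_eq_one, mul_inv_eq_one] at e37
  rw [chi_one, c36, Units.val_eq_one, mul_inv_eq_one] at e36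
  -- pass to the field
  have E56 : (a : K) ^ 2 = c := by exact_mod_cast congrArg Units.val e56
  have E46 : (b : K) ^ 2 = d := by exact_mod_cast congrArg Units.val e46
  have E42 : (c : K) ^ 2 = a * d := by exact_mod_cast congrArg Units.val e42
  have E39 : (d : K) ^ 2 = b * c * e := by exact_mod_cast congrArg Units.val e39
  have E37 : (e : K) ^ 2 = f * d := by exact_mod_cast congrArg Units.val e37
  have E36 : (f : K) ^ 2 = e := by exact_mod_cast congrArg Units.val e36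
  have ha0 : (a : K) ≠ 0 := a.ne_zero
  have hb0 : (b : K) ≠ 0 := b.ne_zero
  have hf0 : (f : K) ≠ 0 := f.ne_zero
  have A3 : (a : K) ^ 3 = (b : K) ^ 2 := by
    apply mul_left_cancel₀ ha0
    rw [← E56, ← E46] at E42
    linear_combination E42
  have F3 : (f : K) ^ 3 = (b : K) ^ 2 := by
    apply mul_left_cancel₀ hf0
    rw [← E36, ← E46] at E37
    linear_combination E37
  have B3 : (b : K) ^ 3 = (a : K) ^ 2 * (f : K) ^ 2 := by
    apply mul_left_cancel₀ hb0
    rw [← E56, ← E46, ← E36] at E39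
    linear_combination E39
  have B1 : (b : K) = 1 := by
    have : (b : K) ^ 8 * b = (b : K) ^ 8 * 1 := by
      linear_combination ((b : K) ^ 6 + (b : K) ^ 3 * ((a : K) ^ 2 * (f : K) ^ 2) +
        ((a : K) ^ 2 * (f : K) ^ 2) ^ 2) * B3 + ((a : K) ^ 3 + (b : K) ^ 2) * (f : K) ^ 6 * A3 +
        (b : K) ^ 4 * ((f : K) ^ 3 + (b : K) ^ 2) * F3
    exact mul_left_cancel₀ (pow_ne_zero 8 hb0) this
  rw [B1] at A3 F3 B3 E46
  have A3' : (a : K) ^ 3 = 1 := by rw [A3, one_pow]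
  have F3' : (f : K) ^ 3 = 1 := by rw [F3, one_pow]
  have D1 : (d : K) = 1 := by rw [← E46, one_pow]
  have F2 : (f : K) ^ 2 = a := by
    have : (a : K) ^ 2 * (f : K) ^ 2 = (a : K) ^ 2 * a := by
      rw [← B3, one_pow, ← pow_succ, A3']
    exact mul_left_cancel₀ (pow_ne_zero 2 ha0) this
  have F1 : (f : K) = (a : K) ^ 2 := by
    have : (f : K) = (f : K) ^ 3 * f := by rw [F3', one_mul]
    rw [this, ← F2]
    ring
  refine ⟨?_, ?_, ?_, ?_, ?_, ?_⟩
  · apply Units.ext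
    rw [Units.val_pow_eq_pow_val, A3', Units.val_one]
  · exact Units.ext B1
  · apply Units.ext
    rw [Units.val_pow_eq_pow_val, E56]
  · exact Units.ext D1
  · apply Units.ext
    rw [← E36, F2]
  · apply Units.ext
    rw [Units.val_pow_eq_pow_val, F1]

variable (p k : ℕ) [ExpChar K p]

/-- the Frobenius on units -/
noncomputable def frobU : Kˣ →* Kˣ := Units.map (frob (K := K) p k : K →* K)

theorem frobU_val (u : Kˣ) : ((frobU p k u : Kˣ) : K) = frob (K := K) p k (u : K) := rfl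

/-- a `τ`-fixed torus element is also given by the `τ`-twisted parameters -/
theorem tau_rep (a b c d e f : Kˣ)
    (hfix : tau (frob (K := K) p k) Pg (torHom chevE6 (mk6 a b c d e f)) =
      torHom chevE6 (mk6 a b c d e f)) :
    torHom (F := K) chevE6 (mk6 (frobU p k f) (frobU p k b) (frobU p k e) (frobU p k d)
      (frobU p k c) (frobU p k a)) = torHom chevE6 (mk6 a b c d e f) := by
  obtain ⟨hneg, -, -, -, -, -⟩ := coreTable1
  have hcart := coreTable2
  obtain ⟨⟨hR1, hR2, hR3, hR4, hR5, hR6⟩, -, hη, ⟨hs0, hs1, hs2, hs3, hs4, hs5⟩, -, -⟩ := tableOK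
  have hr : chevE6.rank = 6 := rfl
  have fx : ∀ s < chevE6.nroots, dec8 gRE6a s < chevE6.nroots → s ∈ [56, 46, 42, 39, 37, 36] →
      chi chevE6 (fun i => ((mk6 a b c d e f i : Kˣ) : K)) (dec8 gRE6a s) =
        frob (K := K) p k (chi chevE6 (fun i => ((mk6 a b c d e f i : Kˣ) : K)) s) := by
    intro s hs hRs hmem
    apply chi_of_fixed chevE6 goodE6 torusE6 (nData_E6 (F := K)) (frob (K := K) p k) Pg (dec8 gRE6a)
      (fun s => etaOf gSE6a (chevE6.rank + s)) hconj hneg (mk6 a b c d e f) hfix s hs hRs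
    have : etaOf gSE6a (chevE6.rank + s) = 1 := by
      apply hη
      simp only [List.mem_cons, List.not_mem_nil, or_false] at hmem ⊢
      rcases hmem with rfl | rfl | rfl | rfl | rfl | rfl <;> simp
    rw [this]
    simp
  have f56 := fx 56 (by decide) (by rw [hR1]; decide) (by simp)
  have f36 := fx 36 (by decide) (by rw [hR2]; decide) (by simp)
  have f42 := fx 42 (by decide) (by rw [hR3]; decide) (by simp)
  have f37 := fx 37 (by decide) (by rw [hR4]; decide) (by simp)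
  have f46 := fx 46 (by decide) (by rw [hR5]; decide) (by simp)
  have f39 := fx 39 (by decide) (by rw [hR6]; decide) (by simp)
  rw [hR1] at f56
  rw [hR2] at f36
  rw [hR3] at f42
  rw [hR4] at f37
  rw [hR5] at f46
  rw [hR6] at f39
  obtain ⟨c56, c46, c42, c39, c37, c36⟩ := chi_mk6 a b c d e f
  obtain ⟨t56, t46, t42, t39, t37, t36⟩ := chi_mk6 (frobU p k f) (frobU p k b) (frobU p k e)
    (frobU p k d) (frobU p k c) (frobU p k a)
  apply torHom_eq_of_chi chevE6 (nData_E6 (F := K)) hcart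
  intro j hj
  rw [hr] at hj
  interval_cases j
  · rw [hs0, t56, f36, c36, ← frobU_val, map_mul, map_pow, map_inv]
  · rw [hs1, t46, f46, c46, ← frobU_val, map_mul, map_pow, map_inv]
  · rw [hs2, t42, f37, c37, ← frobU_val, map_mul, map_pow, map_inv, map_mul]
  · rw [hs3, t39, f39, c39, ← frobU_val, map_mul, map_pow, map_inv, map_mul, map_mul]
    congr 3
    exact mul_right_comm _ _ _
  · rw [hs4, t37, f42, c42, ← frobU_val, map_mul, map_pow, map_inv, map_mul]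
  · rw [hs5, t36, f56, c56, ← frobU_val, map_mul, map_pow, map_inv]

end

section Main

variable {K : Type*} [Field K] (p k : ℕ) [ExpChar K p]

/-- the units fixed by the Frobenius -/
abbrev Fqx : Subgroup Kˣ := (powMonoidHom (p ^ k - 1) : Kˣ →* Kˣ).ker

theorem frobU_eq_pow (u : Kˣ) : frobU p k u = u ^ (p ^ k) :=
  Units.ext (by rw [frobU_val, frob_apply, Units.val_pow_eq_pow_val])

theorem mem_Fqx_iff (hq : 1 ≤ p ^ k) (u : Kˣ) : u ∈ Fqx (K := K) p k ↔ frobU p k u = u := by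
  rw [MonoidHom.mem_ker, powMonoidHom_apply, frobU_eq_pow]
  constructor
  · intro h
    calc u ^ (p ^ k) = u ^ (p ^ k - 1 + 1) := by rw [Nat.sub_add_cancel hq]
      _ = u ^ (p ^ k - 1) * u := pow_succ _ _
      _ = u := by rw [h, one_mul]
  · intro h
    have : u ^ (p ^ k - 1) * u = 1 * u := by rw [← pow_succ, Nat.sub_add_cancel hq, h, one_mul]
    exact mul_right_cancel this

/-- the parameters of the `τ`-fixed torus -/
noncomputable def emb : Kˣ × Kˣ × ↥(Fqx (K := K) p k) × ↥(Fqx (K := K) p k) →* (ℕ → Kˣ) where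
  toFun x := mk6 x.1 x.2.2.1 x.2.1 x.2.2.2 (frobU p k x.2.1) (frobU p k x.1)
  map_one' := by
    simp only [Prod.fst_one, Prod.snd_one, OneMemClass.coe_one, map_one]
    exact mk6_one
  map_mul' x y := by
    rw [mk6_mul]
    simp only [Prod.fst_mul, Prod.snd_mul, Subgroup.coe_mul, map_mul]

/-- the parametrisation of `H ∩ ²E₆(q)` -/
noncomputable def Psi : Kˣ × Kˣ × ↥(Fqx (K := K) p k) × ↥(Fqx (K := K) p k) →* GL chevE6.Idx K :=
  (torHom chevE6).comp (emb p k)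

theorem Psi_mk (lam mu nu rho : Kˣ) (hnu : nu ∈ Fqx (K := K) p k) (hrho : rho ∈ Fqx (K := K) p k) :
    Psi p k (lam, mu, ⟨nu, hnu⟩, ⟨rho, hrho⟩) =
      torHom chevE6 (mk6 lam nu mu rho (frobU p k mu) (frobU p k lam)) := rfl

theorem torHom_mk6 (a b c d e f : Kˣ) : torHom (F := K) chevE6 (mk6 a b c d e f) =
    hg (nData_E6 (F := K)) 56 (a : K) * (hg nData_E6 46 (b : K) * (hg nData_E6 42 (c : K) *
      (hg nData_E6 39 (d : K) * (hg nData_E6 37 (e : K) * hg nData_E6 36 (f : K))))) := by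
  obtain ⟨-, -, -, ⟨hs0, hs1, hs2, hs3, hs4, hs5⟩, -, -⟩ := tableOK
  have hr : List.range chevE6.rank = [0, 1, 2, 3, 4, 5] := rfl
  rw [torHom_eq_prod chevE6 torusE6 (nData_E6 (F := K)), hr]
  simp only [List.map_cons, List.map_nil, List.prod_cons, List.prod_nil, mul_one, hs0, hs1, hs2, hs3,
    hs4, hs5]
  rfl

theorem Psi_mem (hq : 1 ≤ p ^ k) (x : Kˣ × Kˣ × ↥(Fqx (K := K) p k) × ↥(Fqx (K := K) p k)) :
    Psi p k x ∈ chevE6.diagonalSubgroup K ⊓ twistedE6 K (p ^ k) := by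
  refine ⟨torHom_mem_H chevE6 torusE6 (nData_E6 (F := K)) _, ?_⟩
  obtain ⟨-, -, -, ⟨hs0, hs1, hs2, hs3, hs4, hs5⟩, ⟨hn0, hn1, hn2, hn3, hn4, hn5⟩, -⟩ := tableOK
  obtain ⟨lam, mu, ⟨nu, hnu⟩, ⟨rho, hrho⟩⟩ := x
  have e : mk6 lam nu mu rho (frobU p k mu) (frobU p k lam) =
      mk6 lam 1 1 1 1 (frobU p k lam) * (mk6 1 1 mu 1 (frobU p k mu) 1 *
        (mk6 1 nu 1 1 1 1 * mk6 1 1 1 rho 1 1)) := by
    rw [mk6_mul, mk6_mul, mk6_mul]
    simp
  rw [Psi_mk, e, map_mul, map_mul, map_mul, torHom_mk6, torHom_mk6, torHom_mk6, torHom_mk6]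
  simp only [Units.val_one, hg_one, one_mul, mul_one]
  have hsingle : ∀ (r r' : ℕ) (u : Kˣ), u ∈ Fqx (K := K) p k → chevE6.neg r = r' →
      r ∈ [e6p2, e6m2, e6p4, e6m4] → r' ∈ [e6p2, e6m2, e6p4, e6m4] →
      hg (nData_E6 (F := K)) r (u : K) ∈ twistedE6 K (p ^ k) := by
    intro r r' u hu hneg hr hr'
    have hu' : frobU p k u = u := (mem_Fqx_iff p k hq u).1 hu
    have huf : frob (K := K) p k (u : K) = (u : K) := by rw [← frobU_val, hu']
    have hfr : ∀ t : K, frob (K := K) p k t = t → t ^ (p ^ k) = t := fun t ht => by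
      rw [← frob_apply, ht]
    have g1 : ∀ t : K, frob (K := K) p k t = t → xg (nData_E6 (F := K)) r t ∈ twistedE6 K (p ^ k) :=
      fun t ht => single_gen p k r hr t (hfr t ht)
    have g2 : ∀ t : K, frob (K := K) p k t = t → xg (nData_E6 (F := K)) r' t ∈ twistedE6 K (p ^ k) :=
      fun t ht => single_gen p k r' hr' t (hfr t ht)
    rw [hg, ng, ng, hneg]
    have f1 : frob (K := K) p k (-(u : K)⁻¹) = -(u : K)⁻¹ := by rw [map_neg, map_inv₀, huf]
    have f2 : frob (K := K) p k (-1 : K) = -1 := by rw [map_neg, map_one]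
    have f3 : frob (K := K) p k (-(-1 : K)⁻¹) = -(-1 : K)⁻¹ := by rw [map_neg, map_inv₀, f2]
    exact mul_mem (mul_mem (mul_mem (g1 _ huf) (g2 _ f1)) (g1 _ huf))
      (mul_mem (mul_mem (g1 _ f2) (g2 _ f3)) (g1 _ f2))
  refine mul_mem ?_ (mul_mem ?_ (mul_mem ?_ ?_))
  · have := HP_mem_frob chevE6 (nData_E6 (F := K)) (frob (K := K) p k) ex [0, 5] perfTable1
      (twistedE6 K (p ^ k)) (hXmem05 p k) (hYmem05 p k) (lam : K)
    have e0 : (frob (K := K) p k)^[ex 0] (lam : K) = (lam : K) := rfl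
    have e5 : (frob (K := K) p k)^[ex 5] (lam : K) = ((frobU p k lam : Kˣ) : K) := rfl
    simp only [List.map_cons, List.map_nil, List.prod_cons, List.prod_nil, mul_one, hs0, hs5,
      e0, e5] at this
    exact this
  · have := HP_mem_frob chevE6 (nData_E6 (F := K)) (frob (K := K) p k) ex [2, 4] perfTable2
      (twistedE6 K (p ^ k)) (hXmem24 p k) (hYmem24 p k) (mu : K)
    have e2 : (frob (K := K) p k)^[ex 2] (mu : K) = (mu : K) := rfl
    have e4 : (frob (K := K) p k)^[ex 4] (mu : K) = ((frobU p k mu : Kˣ) : K) := rfl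
    simp only [List.map_cons, List.map_nil, List.prod_cons, List.prod_nil, mul_one, hs2, hs4,
      e2, e4] at this
    exact this
  · exact hsingle 46 25 nu hnu hn1 (by simp [e6p2]) (by simp [e6m2])
  · exact hsingle 39 32 rho hrho hn3 (by simp [e6p4]) (by simp [e6m4])

theorem frobU2 [Fintype K] (hK : Fintype.card K = (p ^ k) ^ 2) (u : Kˣ) :
    frobU p k (frobU p k u) = u := by
  apply Units.ext
  rw [frobU_val, frobU_val, frob_apply, frob_apply, ← pow_mul, ← sq, ← hK, FiniteField.pow_card]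

/-- every element of `H ∩ ²E₆(q)` is in the image of the parametrisation -/
theorem le_range [Fintype K] (hq : 1 ≤ p ^ k) (hK : Fintype.card K = (p ^ k) ^ 2) :
    chevE6.diagonalSubgroup K ⊓ twistedE6 K (p ^ k) ≤ (Psi (K := K) p k).range := by
  rintro g ⟨hgH, hgG⟩
  obtain ⟨c0, rfl⟩ := (mem_H_iff chevE6 torusE6 (nData_E6 (F := K)) g).1 hgH
  have hr : chevE6.rank = 6 := rfl
  have e0 : torHom (F := K) chevE6 c0 =
      torHom chevE6 (mk6 (c0 0) (c0 1) (c0 2) (c0 3) (c0 4) (c0 5)) := by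
    apply torHom_congr
    intro i hi
    rw [hr] at hi
    interval_cases i <;> simp [mk6]
  generalize c0 0 = a at e0
  generalize c0 1 = b at e0
  generalize c0 2 = c at e0
  generalize c0 3 = d at e0
  generalize c0 4 = e at e0
  generalize c0 5 = f at e0
  have hfix : tau (frob (K := K) p k) Pg (torHom chevE6 (mk6 a b c d e f)) =
      torHom chevE6 (mk6 a b c d e f) := by
    rw [← e0]
    exact (mem_fixTau _ _ _).1 (twisted_le_fix p k hK hgG)
  have e1 := tau_rep p k a b c d e f hfix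
  -- the kernel element
  have hker : torHom (F := K) chevE6 (mk6 (a * (frobU p k f)⁻¹) (b * (frobU p k b)⁻¹)
      (c * (frobU p k e)⁻¹) (d * (frobU p k d)⁻¹) (e * (frobU p k c)⁻¹) (f * (frobU p k a)⁻¹)) = 1 := by
    rw [← mk6_mul, ← mk6_inv, map_mul, map_inv, e1, mul_inv_cancel]
  obtain ⟨ka, kb, kc, kd, ke, kf⟩ := ker_mk6 _ _ _ _ _ _ hker
  have hb : frobU p k b = b := (mul_inv_eq_one.1 kb).symm
  have hd : frobU p k d = d := (mul_inv_eq_one.1 kd).symm
  have cube : ∀ x y : Kˣ, (x * y⁻¹) ^ 3 = 1 → x ^ 3 = y ^ 3 := by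
    intro x y hxy
    rw [mul_pow, inv_pow, mul_inv_eq_one] at hxy
    exact hxy
  have he3 : e ^ 3 = frobU p k c ^ 3 := by
    apply cube
    rw [ke, ka]
  have hf3 : f ^ 3 = frobU p k a ^ 3 := by
    apply cube
    rw [kf, ← pow_mul, show 2 * 3 = 3 * 2 from rfl, pow_mul, ka, one_pow]
  have h2 := frobU2 p k hK
  -- the square
  have hg2 : torHom (F := K) chevE6 (mk6 a b c d e f) ^ 2 ∈ (Psi (K := K) p k).range := by
    have hnu : b * frobU p k b ∈ Fqx (K := K) p k := by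
      rw [mem_Fqx_iff p k hq]
      simp only [map_mul, hb]
    have hrho : d * frobU p k d ∈ Fqx (K := K) p k := by
      rw [mem_Fqx_iff p k hq]
      simp only [map_mul, hd]
    have hc' : frobU p k (c * frobU p k e) = e * frobU p k c := by
      rw [map_mul, h2, mul_comm]
    have ha' : frobU p k (a * frobU p k f) = f * frobU p k a := by
      rw [map_mul, h2, mul_comm]
    refine ⟨(a * frobU p k f, c * frobU p k e, ⟨b * frobU p k b, hnu⟩, ⟨d * frobU p k d, hrho⟩), ?_⟩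
    have e3 : torHom (F := K) chevE6 (mk6 a b c d e f) ^ 2 =
        torHom chevE6 (mk6 a b c d e f) *
          torHom chevE6 (mk6 (frobU p k f) (frobU p k b) (frobU p k e) (frobU p k d)
            (frobU p k c) (frobU p k a)) := by
      rw [e1, pow_two]
    rw [Psi_mk, e3, ← map_mul, mk6_mul, hc', ha']
  -- the cube
  have hg3 : torHom (F := K) chevE6 (mk6 a b c d e f) ^ 3 ∈ (Psi (K := K) p k).range := by
    have hnu : b ^ 3 ∈ Fqx (K := K) p k := by
      rw [mem_Fqx_iff p k hq, map_pow, hb]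
    have hrho : d ^ 3 ∈ Fqx (K := K) p k := by
      rw [mem_Fqx_iff p k hq, map_pow, hd]
    have hc' : frobU p k (c ^ 3) = e ^ 3 := by rw [map_pow, he3]
    have ha' : frobU p k (a ^ 3) = f ^ 3 := by rw [map_pow, hf3]
    have e3 : torHom (F := K) chevE6 (mk6 a b c d e f) ^ 3 =
        torHom chevE6 (mk6 (a ^ 3) (b ^ 3) (c ^ 3) (d ^ 3) (e ^ 3) (f ^ 3)) := by
      rw [pow_succ, pow_two, ← map_mul, ← map_mul, mk6_mul, mk6_mul]
      simp only [← pow_two, ← pow_succ]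
    refine ⟨(a ^ 3, c ^ 3, ⟨b ^ 3, hnu⟩, ⟨d ^ 3, hrho⟩), ?_⟩
    rw [Psi_mk, e3, hc', ha']
  have : torHom (F := K) chevE6 c0 = torHom chevE6 (mk6 a b c d e f) ^ 3 *
      (torHom chevE6 (mk6 a b c d e f) ^ 2)⁻¹ := by
    rw [e0]
    group
  rw [this]
  exact mul_mem hg3 (inv_mem hg2)

/-- the embedding of the kernel -/
noncomputable def iota : Kˣ →* Kˣ × Kˣ × ↥(Fqx (K := K) p k) × ↥(Fqx (K := K) p k) :=
  (MonoidHom.id Kˣ).prod ((powMonoidHom 2 : Kˣ →* Kˣ).prod 1)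

theorem iota_apply (z : Kˣ) : iota (K := K) p k z = (z, z ^ 2, 1, 1) := rfl

theorem iota_injective : Function.Injective (iota (K := K) p k) := by
  intro x y hxy
  exact congrArg Prod.fst hxy

/-- the kernel of the parametrisation -/
theorem ker_Psi [Fintype K] (hK : Fintype.card K = (p ^ k) ^ 2) :
    (Psi (K := K) p k).ker =
      Subgroup.map (iota (K := K) p k) (powMonoidHom (Nat.gcd 3 (p ^ k + 1)) : Kˣ →* Kˣ).ker := by
  ext x
  rw [MonoidHom.mem_ker, Subgroup.mem_map]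
  constructor
  · intro hx
    obtain ⟨lam, mu, ⟨nu, hnu⟩, ⟨rho, hrho⟩⟩ := x
    rw [Psi_mk] at hx
    obtain ⟨k1, k2, k3, k4, k5, k6⟩ := ker_mk6 _ _ _ _ _ _ hx
    refine ⟨lam, ?_, ?_⟩
    · rw [MonoidHom.mem_ker, powMonoidHom_apply, pow_gcd_eq_one]
      refine ⟨k1, ?_⟩
      rw [pow_succ, ← frobU_eq_pow, k6, ← pow_succ, k1]
    · rw [iota_apply]
      subst k2 k4 k3
      rfl
  · rintro ⟨z, hz, rfl⟩
    rw [MonoidHom.mem_ker, powMonoidHom_apply, pow_gcd_eq_one] at hz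
    obtain ⟨hz3, hzq⟩ := hz
    have hfz : frobU p k z = z ^ 2 := by
      have : frobU p k z * z = z ^ 2 * z := by
        rw [frobU_eq_pow, ← pow_succ, hzq, ← pow_succ, hz3]
      exact mul_right_cancel this
    have hfz2 : frobU p k (z ^ 2) = z := by
      rw [map_pow, hfz, ← pow_mul]
      calc z ^ (2 * 2) = z ^ 3 * z := by rw [← pow_succ]
        _ = z := by rw [hz3, one_mul]
    have h1 : (1 : Kˣ) ∈ Fqx (K := K) p k := one_mem _
    have : iota (K := K) p k z = (z, z ^ 2, ⟨1, h1⟩, ⟨1, h1⟩) := rfl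
    rw [this, Psi_mk, hfz, hfz2]
    have hcart := coreTable2
    obtain ⟨-, -, -, ⟨hs0, hs1, hs2, hs3, hs4, hs5⟩, -, -⟩ := tableOK
    obtain ⟨c56, c46, c42, c39, c37, c36⟩ := chi_mk6 z 1 (z ^ 2) 1 z (z ^ 2)
    have hr : chevE6.rank = 6 := rfl
    rw [← map_one (torHom (F := K) chevE6)]
    apply torHom_eq_of_chi chevE6 (nData_E6 (F := K)) hcart
    intro j hj
    rw [hr] at hj
    have hz4 : z ^ 4 = z := by
      calc z ^ 4 = z ^ 3 * z := by rw [← pow_succ]
        _ = z := by rw [hz3, one_mul]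
    interval_cases j
    · rw [hs0, c56, chi_one, mul_inv_cancel, Units.val_one]
    · rw [hs1, c46, chi_one, one_pow, inv_one, mul_one, Units.val_one]
    · rw [hs2, c42, chi_one, mul_one, ← pow_mul, hz4, mul_inv_cancel, Units.val_one]
    · rw [hs3, c39, chi_one, one_pow, one_mul, one_mul, ← pow_succ, hz3, inv_one, Units.val_one]
    · rw [hs4, c37, chi_one, mul_one, mul_inv_cancel, Units.val_one]
    · rw [hs5, c36, chi_one, ← pow_mul, hz4, mul_inv_cancel, Units.val_one]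

/-- `gcd(3, q + 1) · |H ∩ ²E₆(q)| = (q - 1)⁴ (q + 1)²` -/
theorem card_H1 [Fintype K] (hk : 0 < k) (hp : p.Prime) (hK : Fintype.card K = (p ^ k) ^ 2) :
    Nat.gcd 3 (p ^ k + 1) * Nat.card ↥(chevE6.diagonalSubgroup K ⊓ twistedE6 K (p ^ k)) =
      (p ^ k - 1) ^ 4 * (p ^ k + 1) ^ 2 := by
  have hq : 1 ≤ p ^ k := Nat.one_le_pow _ _ hp.pos
  have heq : chevE6.diagonalSubgroup K ⊓ twistedE6 K (p ^ k) = (Psi (K := K) p k).range := by
    apply le_antisymm (le_range p k hq hK)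
    rintro _ ⟨x, rfl⟩
    exact Psi_mem p k hq x
  have hdvd : p ^ k - 1 ∣ Fintype.card K - 1 := by
    rw [hK]
    exact sub_one_dvd_pow_sub_one _ _
  have hdvd2 : Nat.gcd 3 (p ^ k + 1) ∣ Fintype.card K - 1 := by
    rw [hK, sq_sub_one _ hq]
    exact Dvd.dvd.mul_left (Nat.gcd_dvd_right _ _) _
  have hker : Nat.card ↥(Psi (K := K) p k).ker = Nat.gcd 3 (p ^ k + 1) := by
    rw [ker_Psi p k hK, Subgroup.card_map_of_injective (iota_injective p k), card_powKer _ hdvd2]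
  rw [heq, ← Subgroup.index_ker, ← hker, Subgroup.card_mul_index, Nat.card_prod, Nat.card_prod,
    Nat.card_prod, Nat.card_units, Nat.card_eq_fintype_card, card_powKer _ hdvd, hK, sq_sub_one _ hq]
  ring

end Main

end Cfsg.Agent.Helper6.Twist.E6
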