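import Cfsg.Agent.Lib.Helper6.WeylChain

/-!
# Centres of concrete Weyl groups

A central element of the Weyl group of an irreducible root datum acts as `1` or `-1`.
-/

set_option autoImplicit false
set_option linter.unusedSectionVars false

namespace Cfsg.Agent.Helper6.Weyl

open Matrix

variable {n : ℕ}

namespace VDatum

variable (D : VDatum n)

theorem smul_eq_mulVec (w : (Mat n)ˣ) (v : Vec n) : w • v = (w : Mat n).mulVec v := rfl

/-- a positive root supported on a single node is the simple root -/
theorem eq_single_of_support {β : Vec n} (hβ : β ∈ D.pos) {i : Fin n}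
    (h : ∀ j, j ≠ i → β j = 0) : β = Pi.single i 1 := by
  by_contra hne
  have hJ : β ∈ D.posJ (fun j => j = i) := (D.mem_posJ _).2 ⟨hβ, fun j hj => h j hj⟩
  have h1 := D.s_smul_mem_posJ (fun j => j = i) (i := i) rfl hJ hne
  have h2 : D.s i • β = -β := by
    have hb : β = β i • (Pi.single i 1 : Vec n) := by
      ext j
      by_cases hj : j = i
      · subst hj; simp
      · simp [hj, h j hj]
    rw [hb, smul_smul', s_smul_single, smul_neg]
  rw [h2] at h1
  exact D.neg_not_mem_posJ _ hJ h1

theorem central_smul_single {w : (Mat n)ˣ} (hw : w ∈ D.Wf) (hc : ∀ i, w * D.s i = D.s i * w)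
    (i : Fin n) : w • (Pi.single i 1 : Vec n) = Pi.single i 1 ∨
      w • (Pi.single i 1 : Vec n) = -Pi.single i 1 := by
  have h1 : D.s i • (w • (Pi.single i 1 : Vec n)) = -(w • (Pi.single i 1 : Vec n)) := by
    rw [← mul_smul, ← hc i, mul_smul, s_smul_single, smul_neg']
  have h2 : ∀ j, j ≠ i → (w • (Pi.single i 1 : Vec n)) j = 0 := by
    intro j hj
    have := congrFun h1 j
    rw [s_smul_eq] at this
    simp only [Pi.sub_apply, Pi.smul_apply, Pi.single_apply, if_neg hj, smul_eq_mul, mul_zero,
      sub_zero, Pi.neg_apply] at this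
    omega
  have hroot : D.IsRoot allJ (w • (Pi.single i 1 : Vec n)) :=
    D.isRoot_smul allJ hw (Or.inl (D.single_mem_posJ allJ trivial))
  rcases hroot with h | h
  · left
    exact D.eq_single_of_support ((D.mem_posJ _).1 h).1 h2
  · right
    have := D.eq_single_of_support ((D.mem_posJ _).1 h).1 (i := i)
      (by intro j hj; simp [h2 j hj])
    exact neg_eq_iff_eq_neg.mp this

end VDatum

/-- connectivity certificate: every element of the list is joined to a later one -/
def connOK (A : Mat n) : List (Fin n) → Bool
  | [] => true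
  | v :: rest => (rest.isEmpty || rest.any fun u => decide (A v u ≠ 0)) && connOK A rest

theorem connOK_spec {A : Mat n} {α : Type} (f : Fin n → α) (hf : ∀ i j, A i j ≠ 0 → f i = f j) :
    ∀ L : List (Fin n), connOK A L = true → ∀ u ∈ L, ∀ v ∈ L, f u = f v := by
  intro L
  induction L with
  | nil => intro _ u hu; simp at hu
  | cons v0 rest ih =>
    intro h u hu v hv
    unfold connOK at h
    rw [Bool.and_eq_true, Bool.or_eq_true] at h
    obtain ⟨h1, h2⟩ := h
    rcases h1 with h1 | h1
    · have : rest = [] := by simpa using h1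
      subst this
      simp only [List.mem_singleton] at hu hv
      rw [hu, hv]
    · rw [List.any_eq_true] at h1
      obtain ⟨u0, hu0, h3⟩ := h1
      have h3 : A v0 u0 ≠ 0 := of_decide_eq_true h3
      have key : ∀ x ∈ v0 :: rest, f x = f u0 := by
        intro x hx
        rcases List.mem_cons.1 hx with rfl | hx
        · exact hf _ _ h3
        · exact ih h2 x hx u0 hu0
      rw [key u hu, key v hv]

namespace VDatum

variable (D : VDatum n)

/-- central elements of an irreducible Weyl group are `±1` -/
theorem central_val (L : List (Fin n)) (hconn : connOK D.A L = true) (hall : ∀ i, i ∈ L)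
    {w : (Mat n)ˣ} (hw : w ∈ D.Wf) (hc : ∀ i, w * D.s i = D.s i * w) :
    (w : Mat n) = 1 ∨ (w : Mat n) = -1 := by
  -- the sign function
  have hε : ∀ i, w • (Pi.single i 1 : Vec n) =
      ((w • (Pi.single i 1 : Vec n)) i) • (Pi.single i 1 : Vec n) := by
    intro i
    rcases D.central_smul_single hw hc i with h | h
    · rw [h]; simp
    · rw [h]; simp
  have hadj : ∀ i j, D.A i j ≠ 0 →
      (w • (Pi.single i 1 : Vec n)) i = (w • (Pi.single j 1 : Vec n)) j := by
    intro i j hij
    by_cases hne : i = j
    · rw [hne]
    have h1 : w • (D.s j • (Pi.single i 1 : Vec n)) = D.s j • (w • (Pi.single i 1 : Vec n)) := by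
      rw [← mul_smul, ← mul_smul, hc j]
    rw [s_smul_eq, smul_sub', smul_smul', pair_single, s_smul_eq, hε i, hε j] at h1
    have h2 := congrFun h1 j
    have hji : j ≠ i := fun h => hne h.symm
    simp only [Pi.sub_apply, Pi.smul_apply, Pi.single_apply, if_neg hji, smul_eq_mul, mul_zero,
      zero_sub, if_true, mul_one, pair] at h2
    have h3 : ∑ l, D.A l j * ((w • (Pi.single i 1 : Vec n)) i * if l = i then (1 : ℤ) else 0) =
        D.A i j * (w • (Pi.single i 1 : Vec n)) i := by
      rw [Finset.sum_eq_single i]
      · simp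
      · intro b _ hb; simp [hb]
      · simp
    rw [h3] at h2
    have h4 : D.A i j * ((w • (Pi.single i 1 : Vec n)) i - (w • (Pi.single j 1 : Vec n)) j) = 0 := by
      linear_combination h2
    rcases mul_eq_zero.1 h4 with h5 | h5
    · exact absurd h5 hij
    · linarith
  have hconst := connOK_spec (fun i => (w • (Pi.single i 1 : Vec n)) i) hadj L hconn
  -- the matrix is scalar
  have hmat : ∀ (c : ℤ), (∀ i, (w • (Pi.single i 1 : Vec n)) i = c) → (w : Mat n) = c • 1 := by
    intro c hcc
    ext a l
    have h1 : (w : Mat n) a l = (w • (Pi.single l 1 : Vec n)) a := by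
      rw [smul_eq_mulVec, mulVec_single_one, col_apply]
    rw [h1, hε l, hcc l]
    simp [Matrix.one_apply, Pi.single_apply]
  cases L with
  | nil =>
    left
    ext a
    exact absurd (hall a) (by simp)
  | cons v0 rest =>
    rcases D.central_smul_single hw hc v0 with h | h
    · left
      have := hmat 1 (fun i => by
        rw [hconst i (hall i) v0 (by simp), h]; simp)
      rw [this, one_smul]
    · right
      have := hmat (-1) (fun i => by
        rw [hconst i (hall i) v0 (by simp), h]; simp)
      rw [this, neg_one_smul]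

end VDatum

/-! ### the element `-1` -/

/-- the code of the negative of the `l`-th simple root -/
def codeNegE (n : ℕ) (l : Fin n) : ℕ := codeZ n - 16 ^ (l : ℕ)

/-- the word acts as `-1` -/
def wordNegOK (A : Mat n) (L : List (Fin n)) : Bool :=
  baseOK n && (List.finRange n).all fun l =>
    (applyWord A L (codeE n l) == some (codeNegE n l)) &&
      decide (decode n (codeNegE n l) = -Pi.single l 1)

theorem wordNegOK_spec {A : Mat n} {L : List (Fin n)} (h : wordNegOK A L = true) :
    wordMat A L = -1 := by
  unfold wordNegOK at h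
  rw [Bool.and_eq_true, List.all_eq_true] at h
  obtain ⟨hb, h⟩ := h
  ext a l
  have h1 := h l (List.mem_finRange l)
  rw [Bool.and_eq_true] at h1
  have h2 : applyWord A L (codeE n l) = some (codeNegE n l) := by simpa using h1.1
  have h4 : decode n (codeNegE n l) = -Pi.single l 1 := of_decide_eq_true h1.2
  have h3 := applyWord_spec L _ _ h2
  rw [baseOK_spec hb, mulVec_single_one, h4] at h3
  have := congrFun h3 a
  rw [Matrix.col_apply] at this
  rw [← this, Matrix.neg_apply, Matrix.one_apply, Pi.neg_apply, Pi.single_apply]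

/-- the decoded list of a closed certificate is stable under the parabolic subgroup -/
theorem smul_mem_codes (J : Fin n → Prop) [DecidablePred J] (D : VDatum n) (codes : List ℕ)
    (hcl : closedOK J D.A codes = true) {w : (Mat n)ˣ} (hw : w ∈ D.W J) {c : ℕ} (hc : c ∈ codes) :
    w • decode n c ∈ codes.map (decode n) := by
  obtain ⟨L, hL, rfl⟩ := D.exists_word J hw
  induction L with
  | nil => simpa using ⟨c, hc, rfl⟩
  | cons i L ih =>
    have hL' : ∀ j ∈ L, J j := fun j hj => hL j (List.mem_cons_of_mem _ hj)
    have := ih hL' (D.wpM_mem_W J hL')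
    obtain ⟨c', hc', hcv⟩ := List.mem_map.1 this
    obtain ⟨h3, h4⟩ := closedOK_spec J hcl (hL i (by simp)) hc'
    rw [VDatum.wpM_cons, mul_smul, ← hcv]
    exact List.mem_map.2 ⟨_, h3, h4⟩

theorem stepCertOK_closed {A : Mat n} {k : ℕ} {codes : List ℕ} (h : stepCertOK A k codes = true) :
    closedOK (Jk n (k + 1)) A codes = true := by
  cases codes with
  | nil => simp [stepCertOK] at h
  | cons c0 rest =>
    unfold stepCertOK at h
    simp only [Bool.and_eq_true] at h
    exact h.1.1.1.2

/-- `-1` is not in the Weyl group if some orbit is not symmetric -/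
theorem neg_one_not_mem (D : VDatum n) (k : ℕ) (hk : k + 1 = n) (codes : List ℕ)
    (h : stepCertOK D.A k codes = true)
    (hno : ∃ c ∈ codes, -decode n c ∉ codes.map (decode n)) :
    ∀ w ∈ D.Wf, (w : Mat n) ≠ -1 := by
  intro w hw hneg
  obtain ⟨c, hc, hcn⟩ := hno
  apply hcn
  have hw' : w ∈ D.W (Jk n (k + 1)) := by
    rw [hk, W_Jk_full]; exact hw
  have := smul_mem_codes (Jk n (k + 1)) D codes (stepCertOK_closed h) hw' hc
  rwa [VDatum.smul_eq_mulVec, hneg, neg_mulVec, one_mulVec] at this

/-! ### The centre of the presented Coxeter group -/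

section centre

variable (D : VDatum n) (M : CoxeterMatrix (Fin n))

/-- centre of order two generated by a power of the Coxeter element -/
theorem centre_of_neg (hM : ordersOK D.A M = true) (L : List (Fin n))
    (hconn : connOK D.A L = true) (hall : ∀ i, i ∈ L) (hn : 0 < n) (k : ℕ)
    (hk : wordNegOK D.A (rep k (List.finRange n)) = true) :
    Nat.card (Subgroup.center M.Group) = 2 ∧
      Subgroup.center M.Group ≤ Subgroup.zpowers ((List.finRange n).map M.simple).prod := by
  obtain ⟨e, he⟩ := D.exists_mulEquiv M (ordersOK_spec D M hM)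
  set cG := ((List.finRange n).map M.simple).prod with hcG
  have hcW : (((e cG : D.Wf) : (Mat n)ˣ) : Mat n) = wordMat D.A (List.finRange n) := by
    rw [hcG, map_list_prod, List.map_map]
    have h1 : (⇑e ∘ M.simple) = D.σ := funext he
    rw [h1, coe_coxeter]
  have hz0 : (((e (cG ^ k) : D.Wf) : (Mat n)ˣ) : Mat n) = -1 := by
    rw [map_pow, Subgroup.coe_pow, Units.val_pow_eq_pow_val, hcW, ← wordMat_rep]
    exact wordNegOK_spec hk
  have hne : (1 : M.Group) ≠ cG ^ k := by
    intro h
    rw [← h, map_one] at hz0
    have := congrFun (congrFun hz0 ⟨0, hn⟩) ⟨0, hn⟩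
    simp at this
  have hmem : ∀ z : M.Group, z ∈ Subgroup.center M.Group ↔ z = 1 ∨ z = cG ^ k := by
    intro z
    constructor
    · intro hz
      rw [Subgroup.mem_center_iff] at hz
      have hc : ∀ i, ((e z : D.Wf) : (Mat n)ˣ) * D.s i = D.s i * ((e z : D.Wf) : (Mat n)ˣ) := by
        intro i
        have := congrArg (fun g => ((e g : D.Wf) : (Mat n)ˣ)) (hz (M.simple i))
        simp only [map_mul, Subgroup.coe_mul, he] at this
        exact this.symm
      rcases D.central_val L hconn hall (e z).2 hc with h | h
      · left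
        apply e.injective
        rw [map_one]
        exact Subtype.ext (Units.ext h)
      · right
        apply e.injective
        exact Subtype.ext (Units.ext (h.trans hz0.symm))
    · rintro (rfl | rfl)
      · exact Subgroup.one_mem _
      · rw [Subgroup.mem_center_iff]
        intro g
        apply e.injective
        apply Subtype.ext
        apply Units.ext
        rw [map_mul, map_mul, Subgroup.coe_mul, Subgroup.coe_mul, Units.val_mul, Units.val_mul, hz0]
        simp
  constructor
  · rw [Nat.card_eq_two_iff]
    refine ⟨⟨1, (hmem 1).2 (Or.inl rfl)⟩, ⟨cG ^ k, (hmem _).2 (Or.inr rfl)⟩, ?_, ?_⟩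
    · intro h
      exact hne (congrArg Subtype.val h)
    · ext ⟨z, hz⟩
      simp only [Set.mem_insert_iff, Set.mem_singleton_iff, Set.mem_univ, iff_true, Subtype.mk.injEq]
      exact (hmem z).1 hz
  · intro z hz
    rcases (hmem z).1 hz with rfl | rfl
    · exact Subgroup.one_mem _
    · exact Subgroup.pow_mem _ (Subgroup.mem_zpowers _) k

/-- trivial centre -/
theorem centre_of_no_neg (hM : ordersOK D.A M = true) (L : List (Fin n))
    (hconn : connOK D.A L = true) (hall : ∀ i, i ∈ L)
    (hneg : ∀ w ∈ D.Wf, (w : Mat n) ≠ -1) :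
    Nat.card (Subgroup.center M.Group) = 1 ∧
      Subgroup.center M.Group ≤ Subgroup.zpowers ((List.finRange n).map M.simple).prod := by
  obtain ⟨e, he⟩ := D.exists_mulEquiv M (ordersOK_spec D M hM)
  have hbot : Subgroup.center M.Group = ⊥ := by
    rw [Subgroup.eq_bot_iff_forall]
    intro z hz
    rw [Subgroup.mem_center_iff] at hz
    have hc : ∀ i, ((e z : D.Wf) : (Mat n)ˣ) * D.s i = D.s i * ((e z : D.Wf) : (Mat n)ˣ) := by
      intro i
      have := congrArg (fun g => ((e g : D.Wf) : (Mat n)ˣ)) (hz (M.simple i))
      simp only [map_mul, Subgroup.coe_mul, he] at this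
      exact this.symm
    rcases D.central_val L hconn hall (e z).2 hc with h | h
    · apply e.injective
      rw [map_one]
      exact Subtype.ext (Units.ext h)
    · exact absurd h (hneg _ (e z).2)
  rw [hbot]
  exact ⟨by simp, bot_le⟩

end centre

end Cfsg.Agent.Helper6.Weyl
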