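import Cfsg.Agent.Lib.Helper6.WeylDataB2
import Cfsg.Agent.Lib.Helper6.WeylDataG2
import Cfsg.Agent.Lib.Helper6.WeylDataD4
import Cfsg.Agent.Lib.Helper6.WeylDataF4
import Cfsg.Agent.Lib.Helper6.WeylDataE6
import Cfsg.Agent.Lib.Helper6.WeylDataE7
import Cfsg.Agent.Lib.Helper6.WeylDataE8
import Cfsg.Agent.Lib.Helper6.WeylCentre

/-!
# Centres of the Weyl groups of types B2, G2, D4, F4, E6, E7, E8
-/

set_option autoImplicit false
set_option maxRecDepth 100000

namespace Cfsg.Agent.Helper6.Weyl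

theorem B2.centre : Nat.card (Subgroup.center (CoxeterMatrix.B 2).Group) = 2 ∧
    Subgroup.center (CoxeterMatrix.B 2).Group ≤ Subgroup.zpowers ((List.finRange 2).map (CoxeterMatrix.B 2).simple).prod :=
  centre_of_neg B2.vd (CoxeterMatrix.B 2) B2.orders_ok [1, 0] (by decide +kernel) (by decide +kernel)
    (by norm_num) 2 (by decide +kernel)

theorem G2.centre : Nat.card (Subgroup.center (CoxeterMatrix.G₂).Group) = 2 ∧
    Subgroup.center (CoxeterMatrix.G₂).Group ≤ Subgroup.zpowers ((List.finRange 2).map (CoxeterMatrix.G₂).simple).prod :=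
  centre_of_neg G2.vd (CoxeterMatrix.G₂) G2.orders_ok [1, 0] (by decide +kernel) (by decide +kernel)
    (by norm_num) 3 (by decide +kernel)

theorem D4.centre : Nat.card (Subgroup.center (Cfsg.Lie.coxeterD4).Group) = 2 ∧
    Subgroup.center (Cfsg.Lie.coxeterD4).Group ≤ Subgroup.zpowers ((List.finRange 4).map (Cfsg.Lie.coxeterD4).simple).prod :=
  centre_of_neg D4.vd (Cfsg.Lie.coxeterD4) D4.orders_ok [3, 2, 1, 0] (by decide +kernel) (by decide +kernel)
    (by norm_num) 3 (by decide +kernel)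

theorem F4.centre : Nat.card (Subgroup.center (CoxeterMatrix.F₄).Group) = 2 ∧
    Subgroup.center (CoxeterMatrix.F₄).Group ≤ Subgroup.zpowers ((List.finRange 4).map (CoxeterMatrix.F₄).simple).prod :=
  centre_of_neg F4.vd (CoxeterMatrix.F₄) F4.orders_ok [3, 2, 1, 0] (by decide +kernel) (by decide +kernel)
    (by norm_num) 6 (by decide +kernel)

theorem E6.centre : Nat.card (Subgroup.center (CoxeterMatrix.E₆).Group) = 1 ∧
    Subgroup.center (CoxeterMatrix.E₆).Group ≤ Subgroup.zpowers ((List.finRange 6).map (CoxeterMatrix.E₆).simple).prod :=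
  centre_of_no_neg E6.vd (CoxeterMatrix.E₆) E6.orders_ok [5, 4, 1, 3, 2, 0] (by decide +kernel) (by decide +kernel)
    (neg_one_not_mem E6.vd 5 rfl E6.cert5 E6.step5_ok
      ⟨13495482, by decide +kernel, by decide +kernel⟩)

theorem E7.centre : Nat.card (Subgroup.center (CoxeterMatrix.E₇).Group) = 2 ∧
    Subgroup.center (CoxeterMatrix.E₇).Group ≤ Subgroup.zpowers ((List.finRange 7).map (CoxeterMatrix.E₇).simple).prod :=
  centre_of_neg E7.vd (CoxeterMatrix.E₇) E7.orders_ok [6, 5, 4, 1, 3, 2, 0] (by decide +kernel) (by decide +kernel)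
    (by norm_num) 9 (by decide +kernel)

theorem E8.centre : Nat.card (Subgroup.center (CoxeterMatrix.E₈).Group) = 2 ∧
    Subgroup.center (CoxeterMatrix.E₈).Group ≤ Subgroup.zpowers ((List.finRange 8).map (CoxeterMatrix.E₈).simple).prod :=
  centre_of_neg E8.vd (CoxeterMatrix.E₈) E8.orders_ok [7, 6, 5, 4, 1, 3, 2, 0] (by decide +kernel) (by decide +kernel)
    (by norm_num) 15 (by decide +kernel)

end Cfsg.Agent.Helper6.Weyl
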