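import Cfsg.Agent.Lib.Helper6.CoxExch

/-!
# Concrete Weyl groups from integral root data

A `Datum n` consists of a Cartan matrix `A`, a Gram matrix `G` and the list `pos` of positive
roots (in simple-root coordinates).  The reflections are the integer matrices `refl A i`.
For a decidable set `J` of nodes we study the parabolic subgroup `W J` generated by the
reflections `s i`, `i ∈ J`, acting on the positive roots supported on `J`.
-/

set_option autoImplicit false
set_option linter.unusedSectionVars false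

namespace Cfsg.Agent.Helper6.Weyl

open Matrix

variable {n : ℕ}

/-- integer vectors in simple-root coordinates -/
abbrev Vec (n : ℕ) := Fin n → ℤ
/-- integer matrices -/
abbrev Mat (n : ℕ) := Matrix (Fin n) (Fin n) ℤ

/-- reflection matrix attached to the Cartan matrix `A` -/
def refl (A : Mat n) (i : Fin n) : Mat n :=
  Matrix.of fun m l => (if m = l then 1 else 0) - (if m = i then A l i else 0)

/-- the coroot pairing `c_i(v) = Σ_l A l i * v l` -/
def pair (A : Mat n) (i : Fin n) (v : Vec n) : ℤ := ∑ l, A l i * v l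

theorem refl_mulVec_apply (A : Mat n) (i : Fin n) (v : Vec n) (m : Fin n) :
    (refl A i).mulVec v m = v m - if m = i then pair A i v else 0 := by
  simp only [refl, mulVec, dotProduct, of_apply, sub_mul, Finset.sum_sub_distrib, ite_mul,
    one_mul, zero_mul, Finset.sum_ite_eq, Finset.mem_univ, if_true]
  congr 1
  split_ifs with h
  · rfl
  · simp

theorem refl_mulVec_ne (A : Mat n) (i : Fin n) (v : Vec n) {m : Fin n} (h : m ≠ i) :
    (refl A i).mulVec v m = v m := by
  rw [refl_mulVec_apply, if_neg h, sub_zero]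

theorem refl_mulVec_self (A : Mat n) (i : Fin n) (v : Vec n) :
    (refl A i).mulVec v i = v i - pair A i v := by
  rw [refl_mulVec_apply, if_pos rfl]

theorem pair_single (A : Mat n) (i j : Fin n) : pair A i (Pi.single j 1) = A j i := by
  simp [pair, Pi.single_apply]

/-- the data -/
structure Datum (n : ℕ) where
  /-- Cartan matrix -/
  A : Mat n
  /-- Gram matrix of an invariant form -/
  G : Mat n
  /-- positive roots -/
  pos : List (Vec n)

namespace Datum

variable (D : Datum n)

/-- reflection matrices -/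
def S (i : Fin n) : Mat n := refl D.A i

/-- validity of the data (all fields decidable) -/
structure Valid : Prop where
  diag : ∀ i, D.A i i = 2
  gram : ∀ i j, 2 * D.G j i = D.A j i * D.G i i
  gpos : ∀ i, 0 < D.G i i
  sq : ∀ i, D.S i * D.S i = 1
  isom : ∀ i, (D.S i)ᵀ * D.G * D.S i = D.G
  simple_mem : ∀ i, Pi.single i 1 ∈ D.pos
  nonneg : ∀ β ∈ D.pos, (∀ j, 0 ≤ β j) ∧ β ≠ 0
  refl_mem : ∀ i, ∀ β ∈ D.pos, β ≠ Pi.single i 1 → (D.S i).mulVec β ∈ D.pos

end Datum

/-- valid data -/
structure VDatum (n : ℕ) extends Datum n where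
  valid : toDatum.Valid

namespace VDatum

variable (D : VDatum n)

/-- the reflections as units -/
def s (i : Fin n) : (Mat n)ˣ := ⟨D.S i, D.S i, D.valid.sq i, D.valid.sq i⟩

@[simp] theorem s_val (i : Fin n) : ((D.s i : (Mat n)ˣ) : Mat n) = D.S i := rfl

theorem s_mul_s (i : Fin n) : D.s i * D.s i = 1 := Units.ext (D.valid.sq i)

theorem s_inv (i : Fin n) : (D.s i)⁻¹ = D.s i := inv_eq_of_mul_eq_one_right (D.s_mul_s i)

theorem s_smul (i : Fin n) (v : Vec n) : D.s i • v = (D.S i).mulVec v := rfl

theorem s_smul_single (i : Fin n) : D.s i • (Pi.single i 1 : Vec n) = -Pi.single i 1 := by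
  ext m
  rw [s_smul, Datum.S, refl_mulVec_apply, pair_single, D.valid.diag]
  by_cases h : m = i
  · subst h; simp
  · simp [h]

theorem smul_neg' (w : (Mat n)ˣ) (v : Vec n) : w • (-v) = -(w • v) := by
  change (w : Mat n).mulVec (-v) = -((w : Mat n).mulVec v)
  rw [mulVec_neg]

theorem smul_add' (w : (Mat n)ˣ) (u v : Vec n) : w • (u + v) = w • u + w • v := by
  change (w : Mat n).mulVec (u + v) = (w : Mat n).mulVec u + (w : Mat n).mulVec v
  rw [mulVec_add]

theorem smul_sub' (w : (Mat n)ˣ) (u v : Vec n) : w • (u - v) = w • u - w • v := by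
  change (w : Mat n).mulVec (u - v) = (w : Mat n).mulVec u - (w : Mat n).mulVec v
  rw [mulVec_sub]

theorem smul_smul' (w : (Mat n)ˣ) (c : ℤ) (v : Vec n) : w • (c • v) = c • (w • v) := by
  change (w : Mat n).mulVec (c • v) = c • (w : Mat n).mulVec v
  rw [mulVec_smul]

variable (J : Fin n → Prop) [DecidablePred J]

/-- the parabolic subgroup -/
def W : Subgroup (Mat n)ˣ := Subgroup.closure {g | ∃ i, J i ∧ g = D.s i}

theorem s_mem_W {i : Fin n} (hi : J i) : D.s i ∈ D.W J := Subgroup.subset_closure ⟨i, hi, rfl⟩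

/-- positive roots supported on `J` -/
def posJ : Finset (Vec n) := (D.pos.filter (fun β => ∀ j, ¬ J j → β j = 0)).toFinset

theorem mem_posJ {β : Vec n} : β ∈ D.posJ J ↔ β ∈ D.pos ∧ ∀ j, ¬ J j → β j = 0 := by
  simp [posJ]

theorem single_mem_posJ {i : Fin n} (hi : J i) : (Pi.single i 1 : Vec n) ∈ D.posJ J := by
  rw [mem_posJ]
  refine ⟨D.valid.simple_mem i, ?_⟩
  intro j hj
  have : j ≠ i := fun h => hj (h ▸ hi)
  simp [this]

theorem s_smul_mem_posJ {i : Fin n} (hi : J i) {β : Vec n} (hβ : β ∈ D.posJ J)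
    (hne : β ≠ Pi.single i 1) : D.s i • β ∈ D.posJ J := by
  rw [mem_posJ] at hβ ⊢
  refine ⟨D.valid.refl_mem i β hβ.1 hne, ?_⟩
  intro j hj
  have : j ≠ i := fun h => hj (h ▸ hi)
  rw [s_smul, Datum.S, refl_mulVec_ne _ _ _ this]
  exact hβ.2 j hj

theorem neg_not_mem_posJ {β : Vec n} (hβ : β ∈ D.posJ J) : -β ∉ D.posJ J := by
  intro h
  rw [mem_posJ] at hβ h
  obtain ⟨h1, h2⟩ := D.valid.nonneg β hβ.1
  obtain ⟨h3, _⟩ := D.valid.nonneg (-β) h.1
  apply h2
  ext j
  have := h1 j
  have := h3 j
  simp only [Pi.neg_apply] at this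
  simp only [Pi.zero_apply]
  omega

/-- roots supported on `J` -/
def IsRoot (v : Vec n) : Prop := v ∈ D.posJ J ∨ -v ∈ D.posJ J

theorem isRoot_neg {v : Vec n} (h : D.IsRoot J v) : D.IsRoot J (-v) := by
  rcases h with h | h
  · right; simpa using h
  · left; exact h

theorem isRoot_s_smul {i : Fin n} (hi : J i) {v : Vec n} (h : D.IsRoot J v) :
    D.IsRoot J (D.s i • v) := by
  have key : ∀ β ∈ D.posJ J, D.IsRoot J (D.s i • β) := by
    intro β hβ
    by_cases hne : β = Pi.single i 1
    · subst hne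
      rw [s_smul_single]
      right
      simpa using D.single_mem_posJ J hi
    · left
      exact D.s_smul_mem_posJ J hi hβ hne
  rcases h with h | h
  · exact key v h
  · have := D.isRoot_neg J (key (-v) h)
    rwa [smul_neg', neg_neg] at this

/-- product of a word of reflections -/
def wpM (L : List (Fin n)) : (Mat n)ˣ := (L.map D.s).prod

@[simp] theorem wpM_nil : D.wpM [] = 1 := by simp [wpM]

@[simp] theorem wpM_cons (i : Fin n) (L : List (Fin n)) : D.wpM (i :: L) = D.s i * D.wpM L := by
  simp [wpM]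

@[simp] theorem wpM_append (L L' : List (Fin n)) : D.wpM (L ++ L') = D.wpM L * D.wpM L' := by
  simp [wpM]

theorem wpM_reverse (L : List (Fin n)) : D.wpM L.reverse = (D.wpM L)⁻¹ := by
  induction L with
  | nil => simp
  | cons i L ih =>
    rw [List.reverse_cons, wpM_append, ih, wpM_cons, wpM_nil, mul_one, wpM_cons, _root_.mul_inv_rev, s_inv]

theorem wpM_mem_W {L : List (Fin n)} (hL : ∀ i ∈ L, J i) : D.wpM L ∈ D.W J := by
  induction L with
  | nil => simp [(D.W J).one_mem]
  | cons i L ih =>
    rw [wpM_cons]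
    exact (D.W J).mul_mem (D.s_mem_W J (hL i (by simp)))
      (ih (fun j hj => hL j (List.mem_cons_of_mem _ hj)))

theorem exists_word {w : (Mat n)ˣ} (hw : w ∈ D.W J) :
    ∃ L : List (Fin n), (∀ i ∈ L, J i) ∧ D.wpM L = w := by
  induction hw using Subgroup.closure_induction with
  | mem x hx =>
    obtain ⟨i, hi, rfl⟩ := hx
    exact ⟨[i], by simpa using hi, by simp⟩
  | one => exact ⟨[], by simp, by simp⟩
  | mul x y _ _ hx hy =>
    obtain ⟨L1, h1, rfl⟩ := hx
    obtain ⟨L2, h2, rfl⟩ := hy
    refine ⟨L1 ++ L2, ?_, by simp⟩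
    intro i hi
    rcases List.mem_append.1 hi with h | h
    · exact h1 i h
    · exact h2 i h
  | inv x _ hx =>
    obtain ⟨L, h1, rfl⟩ := hx
    exact ⟨L.reverse, fun i hi => h1 i (List.mem_reverse.1 hi), D.wpM_reverse L⟩

theorem isRoot_wpM {L : List (Fin n)} (hL : ∀ i ∈ L, J i) :
    ∀ v, D.IsRoot J v → D.IsRoot J (D.wpM L • v) := by
  induction L with
  | nil => intro v hv; simpa using hv
  | cons i L ih =>
    intro v hv
    rw [wpM_cons, mul_smul]
    exact D.isRoot_s_smul J (hL i (by simp))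
      (ih (fun j hj => hL j (List.mem_cons_of_mem _ hj)) v hv)

theorem isRoot_smul {w : (Mat n)ˣ} (hw : w ∈ D.W J) {v : Vec n} (hv : D.IsRoot J v) :
    D.IsRoot J (w • v) := by
  obtain ⟨L, hL, rfl⟩ := D.exists_word J hw
  exact D.isRoot_wpM J hL v hv

/-- the invariant bilinear form -/
def form (u v : Vec n) : ℤ := u ⬝ᵥ (D.G.mulVec v)

/-- isometries of the form -/
def IsIsom (w : (Mat n)ˣ) : Prop := (w : Mat n)ᵀ * D.G * (w : Mat n) = D.G

theorem isIsom_s (i : Fin n) : D.IsIsom (D.s i) := D.valid.isom i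

theorem isIsom_one : D.IsIsom 1 := by simp [IsIsom]

theorem IsIsom.mul {x y : (Mat n)ˣ} (hx : D.IsIsom x) (hy : D.IsIsom y) : D.IsIsom (x * y) := by
  unfold IsIsom at *
  rw [Units.val_mul, transpose_mul]
  calc (y : Mat n)ᵀ * (x : Mat n)ᵀ * D.G * ((x : Mat n) * (y : Mat n))
      = (y : Mat n)ᵀ * ((x : Mat n)ᵀ * D.G * (x : Mat n)) * (y : Mat n) := by
        simp only [Matrix.mul_assoc]
    _ = D.G := by rw [hx, hy]

theorem isIsom_wpM (L : List (Fin n)) : D.IsIsom (D.wpM L) := by
  induction L with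
  | nil => simpa using D.isIsom_one
  | cons i L ih => rw [wpM_cons]; exact (D.isIsom_s i).mul D ih

theorem form_smul {w : (Mat n)ˣ} (hw : D.IsIsom w) (u v : Vec n) :
    D.form (w • u) (w • v) = D.form u v := by
  unfold form
  change ((w : Mat n).mulVec u) ⬝ᵥ (D.G.mulVec ((w : Mat n).mulVec v)) = u ⬝ᵥ (D.G.mulVec v)
  rw [mulVec_mulVec, dotProduct_mulVec, vecMul_mulVec, ← Matrix.mul_assoc, hw, ← dotProduct_mulVec]

theorem s_smul_eq (i : Fin n) (v : Vec n) :
    D.s i • v = v - pair D.A i v • (Pi.single i 1 : Vec n) := by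
  ext m
  rw [s_smul, Datum.S, refl_mulVec_apply]
  by_cases h : m = i
  · subst h; simp
  · simp [h]

theorem two_form_single (v : Vec n) (i : Fin n) :
    2 * D.form v (Pi.single i 1) = pair D.A i v * D.G i i := by
  unfold form pair
  simp only [mulVec_single_one, dotProduct, Finset.mul_sum, Finset.sum_mul]
  apply Finset.sum_congr rfl
  intro l _
  have := D.valid.gram i l
  simp only [col_apply] at *
  linear_combination (v l) * this

theorem form_single_single (i : Fin n) :
    D.form (Pi.single i 1) (Pi.single i 1) = D.G i i := by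
  unfold form
  simp

/-- conjugation formula for reflections -/
theorem mul_s_eq_s_mul {w : (Mat n)ˣ} (hw : D.IsIsom w) {t i : Fin n}
    (h : w • (Pi.single t 1 : Vec n) = Pi.single i 1) : w * D.s t = D.s i * w := by
  have hG : D.G t t = D.G i i := by
    rw [← form_single_single, ← form_single_single, ← h, D.form_smul hw]
  have hc : ∀ v : Vec n, pair D.A t v = pair D.A i (w • v) := by
    intro v
    have h1 := D.two_form_single v t
    have h2 := D.two_form_single (w • v) i
    rw [← h, D.form_smul hw, h1, hG] at h2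
    exact mul_right_cancel₀ (D.valid.gpos i).ne' h2
  apply Units.ext
  apply Matrix.mulVec_injective
  funext v
  change (w * D.s t) • v = (D.s i * w) • v
  rw [mul_smul, mul_smul, s_smul_eq, s_smul_eq, smul_sub', smul_smul', h, hc]

/-- number of positive roots (supported on `J`) made negative by `w` -/
def nJ (w : (Mat n)ˣ) : ℕ := ∑ β ∈ D.posJ J, if -(w • β) ∈ D.posJ J then 1 else 0

theorem nJ_one : D.nJ J 1 = 0 := by
  unfold nJ
  apply Finset.sum_eq_zero
  intro β hβ
  rw [one_smul, if_neg (D.neg_not_mem_posJ J hβ)]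

theorem sum_erase_mul_s (w : (Mat n)ˣ) {i : Fin n} (hi : J i) :
    (∑ β ∈ (D.posJ J).erase (Pi.single i 1), if -((w * D.s i) • β) ∈ D.posJ J then 1 else 0) =
      ∑ β ∈ (D.posJ J).erase (Pi.single i 1), if -(w • β) ∈ D.posJ J then 1 else 0 := by
  have hmap : ∀ β ∈ (D.posJ J).erase (Pi.single i 1),
      D.s i • β ∈ (D.posJ J).erase (Pi.single i 1) := by
    intro β hβ
    rw [Finset.mem_erase] at hβ ⊢
    refine ⟨?_, D.s_smul_mem_posJ J hi hβ.2 hβ.1⟩
    intro h
    have h2 : β = -Pi.single i 1 := by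
      have := congrArg (fun v => D.s i • v) h
      simp only [← mul_smul, s_mul_s, one_smul, s_smul_single] at this
      exact this
    have h3 := D.neg_not_mem_posJ J hβ.2
    rw [h2, neg_neg] at h3
    exact h3 (D.single_mem_posJ J hi)
  have hinv : ∀ β : Vec n, D.s i • (D.s i • β) = β := by
    intro β
    rw [← mul_smul, s_mul_s, one_smul]
  apply Finset.sum_nbij' (fun β => D.s i • β) (fun β => D.s i • β) hmap hmap
    (fun β _ => hinv β) (fun β _ => hinv β)
  intro β _
  rw [mul_smul]

theorem nJ_mul_s_of_pos (w : (Mat n)ˣ) {i : Fin n} (hi : J i)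
    (h : w • (Pi.single i 1 : Vec n) ∈ D.posJ J) : D.nJ J (w * D.s i) = D.nJ J w + 1 := by
  have ha := D.single_mem_posJ J hi
  unfold nJ
  rw [← Finset.add_sum_erase _ _ ha, ← Finset.add_sum_erase (D.posJ J) _ ha,
    D.sum_erase_mul_s J w hi, mul_smul, s_smul_single, smul_neg', neg_neg, if_pos h,
    if_neg (D.neg_not_mem_posJ J h)]
  ring

theorem nJ_mul_s_of_neg (w : (Mat n)ˣ) {i : Fin n} (hi : J i)
    (h : -(w • (Pi.single i 1 : Vec n)) ∈ D.posJ J) : D.nJ J (w * D.s i) + 1 = D.nJ J w := by
  have ha := D.single_mem_posJ J hi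
  have h' : w • (Pi.single i 1 : Vec n) ∉ D.posJ J := by
    have := D.neg_not_mem_posJ J h
    rwa [neg_neg] at this
  unfold nJ
  rw [← Finset.add_sum_erase _ _ ha, ← Finset.add_sum_erase (D.posJ J) _ ha,
    D.sum_erase_mul_s J w hi, mul_smul, s_smul_single, smul_neg', neg_neg, if_pos h,
    if_neg h']
  ring

theorem isRoot_wpM_single {L : List (Fin n)} (hL : ∀ i ∈ L, J i) {t : Fin n} (ht : J t) :
    D.IsRoot J (D.wpM L • (Pi.single t 1 : Vec n)) :=
  D.isRoot_wpM J hL _ (Or.inl (D.single_mem_posJ J ht))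

/-- root walking: the exchange lemma -/
theorem exchange {L : List (Fin n)} (hL : ∀ i ∈ L, J i) {t : Fin n} (ht : J t)
    (h : -(D.wpM L • (Pi.single t 1 : Vec n)) ∈ D.posJ J) :
    ∃ L' : List (Fin n), L'.Sublist L ∧ L'.length + 1 = L.length ∧
      D.wpM L' = D.wpM L * D.s t := by
  induction L with
  | nil =>
    exfalso
    rw [wpM_nil, one_smul] at h
    exact D.neg_not_mem_posJ J (D.single_mem_posJ J ht) h
  | cons i L1 ih =>
    have hi : J i := hL i (by simp)
    have hL1 : ∀ j ∈ L1, J j := fun j hj => hL j (List.mem_cons_of_mem _ hj)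
    rcases D.isRoot_wpM_single J hL1 ht with hr | hr
    · -- the root is positive before applying `s i`, negative after
      rw [wpM_cons, mul_smul] at h
      by_cases hne : D.wpM L1 • (Pi.single t 1 : Vec n) = Pi.single i 1
      · refine ⟨L1, List.sublist_cons_self _ _, by simp, ?_⟩
        have := D.mul_s_eq_s_mul (D.isIsom_wpM L1) hne
        rw [wpM_cons, mul_assoc, this, ← mul_assoc, s_mul_s, one_mul]
      · exfalso
        exact D.neg_not_mem_posJ J (D.s_smul_mem_posJ J hi hr hne) h
    · obtain ⟨L1', hsub, hlen, hwp⟩ := ih hL1 hr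
      refine ⟨i :: L1', hsub.cons_cons i, by simp [hlen], ?_⟩
      rw [wpM_cons, wpM_cons, hwp, mul_assoc]

theorem nJ_wpM_le {L : List (Fin n)} (hL : ∀ i ∈ L, J i) : D.nJ J (D.wpM L) ≤ L.length := by
  induction L using List.reverseRecOn with
  | nil => simp [nJ_one]
  | append_singleton L0 t ih =>
    have hL0 : ∀ j ∈ L0, J j := fun j hj => hL j (List.mem_append_left _ hj)
    have ht : J t := hL t (by simp)
    have ih' := ih hL0
    rw [wpM_append, wpM_cons, wpM_nil, mul_one, List.length_append, List.length_singleton]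
    rcases D.isRoot_wpM_single J hL0 ht with hr | hr
    · rw [D.nJ_mul_s_of_pos J _ ht hr]; omega
    · have := D.nJ_mul_s_of_neg J _ ht hr; omega

theorem exists_shorter {L : List (Fin n)} (hL : ∀ i ∈ L, J i)
    (h : D.nJ J (D.wpM L) < L.length) :
    ∃ L' : List (Fin n), (∀ i ∈ L', J i) ∧ D.wpM L' = D.wpM L ∧ L'.length < L.length := by
  induction L using List.reverseRecOn with
  | nil => simp at h
  | append_singleton L0 t ih =>
    have hL0 : ∀ j ∈ L0, J j := fun j hj => hL j (List.mem_append_left _ hj)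
    have ht : J t := hL t (by simp)
    have hle := D.nJ_wpM_le J hL0
    rw [wpM_append, wpM_cons, wpM_nil, mul_one, List.length_append, List.length_singleton] at h
    by_cases hlt : D.nJ J (D.wpM L0) < L0.length
    · obtain ⟨L0', h1, h2, h3⟩ := ih hL0 hlt
      refine ⟨L0' ++ [t], ?_, ?_, ?_⟩
      · intro j hj
        rcases List.mem_append.1 hj with hj | hj
        · exact h1 j hj
        · rw [List.mem_singleton] at hj; exact hj ▸ ht
      · simp [h2]
      · simp; omega
    · rcases D.isRoot_wpM_single J hL0 ht with hr | hr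
      · rw [D.nJ_mul_s_of_pos J _ ht hr] at h; omega
      · obtain ⟨L0', hsub, hlen, hwp⟩ := D.exchange J hL0 ht hr
        refine ⟨L0', fun j hj => hL0 j (hsub.subset hj), ?_, ?_⟩
        · simp [hwp]
        · simp; omega

theorem exists_word_length_eq_nJ_aux : ∀ (k : ℕ) (L : List (Fin n)), L.length = k →
    (∀ i ∈ L, J i) →
    ∃ L' : List (Fin n), (∀ i ∈ L', J i) ∧ D.wpM L' = D.wpM L ∧ L'.length = D.nJ J (D.wpM L) := by
  intro k
  induction k using Nat.strong_induction_on with
  | _ k ih =>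
    intro L hlen hL
    by_cases h : D.nJ J (D.wpM L) = L.length
    · exact ⟨L, hL, rfl, h.symm⟩
    · have hlt : D.nJ J (D.wpM L) < L.length := lt_of_le_of_ne (D.nJ_wpM_le J hL) h
      obtain ⟨L', h1, h2, h3⟩ := D.exists_shorter J hL hlt
      obtain ⟨L'', h4, h5, h6⟩ := ih L'.length (by omega) L' rfl h1
      exact ⟨L'', h4, by rw [h5, h2], by rw [h6, h2]⟩

theorem exists_word_length_eq_nJ {w : (Mat n)ˣ} (hw : w ∈ D.W J) :
    ∃ L : List (Fin n), (∀ i ∈ L, J i) ∧ D.wpM L = w ∧ L.length = D.nJ J w := by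
  obtain ⟨L, hL, rfl⟩ := D.exists_word J hw
  exact D.exists_word_length_eq_nJ_aux J _ L rfl hL

theorem eq_one_of_nJ_eq_zero {w : (Mat n)ˣ} (hw : w ∈ D.W J) (h : D.nJ J w = 0) : w = 1 := by
  obtain ⟨L, _, h2, h3⟩ := D.exists_word_length_eq_nJ J hw
  rw [h, List.length_eq_zero_iff] at h3
  rw [← h2, h3, wpM_nil]

end VDatum

/-! ### Stabilisers of dominant vectors are parabolic -/

namespace VDatum

variable (D : VDatum n)

theorem form_single_right (u : Vec n) (j : Fin n) :
    D.form u (Pi.single j 1) = ∑ i, u i * D.G i j := by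
  unfold form
  simp [dotProduct]

theorem form_eq_sum (u v : Vec n) :
    D.form u v = ∑ j, v j * D.form u (Pi.single j 1) := by
  simp only [form_single_right]
  unfold form
  simp only [dotProduct, mulVec, Finset.mul_sum]
  rw [Finset.sum_comm]
  apply Finset.sum_congr rfl
  intro j _
  apply Finset.sum_congr rfl
  intro i _
  ring

theorem form_neg_right (u v : Vec n) : D.form u (-v) = -D.form u v := by
  unfold form
  rw [mulVec_neg, dotProduct_neg]

variable (J' J : Fin n → Prop) [DecidablePred J'] [DecidablePred J]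

theorem W_mono (h : ∀ i, J i → J' i) : D.W J ≤ D.W J' := by
  apply Subgroup.closure_mono
  rintro g ⟨i, hi, rfl⟩
  exact ⟨i, h i hi, rfl⟩

theorem isIsom_of_mem_W {w : (Mat n)ˣ} (hw : w ∈ D.W J) : D.IsIsom w := by
  obtain ⟨L, _, rfl⟩ := D.exists_word J hw
  exact D.isIsom_wpM L

/-- the stabiliser of a dominant vector is generated by the simple reflections fixing it -/
theorem mem_W_of_fix (lam : Vec n) (hdom : ∀ i, J' i → 0 ≤ pair D.A i lam)
    (hJ : ∀ i, J i ↔ (J' i ∧ pair D.A i lam = 0)) :
    ∀ (k : ℕ) (w : (Mat n)ˣ), D.nJ J' w = k → w ∈ D.W J' → w • lam = lam → w ∈ D.W J := by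
  intro k
  induction k using Nat.strong_induction_on with
  | _ k ih =>
    intro w hk hw hfix
    obtain ⟨L, hL, hLw, hlen⟩ := D.exists_word_length_eq_nJ J' hw
    rcases List.eq_nil_or_concat' L with rfl | ⟨L0, t, rfl⟩
    · rw [← hLw, wpM_nil]; exact (D.W J).one_mem
    have hL0 : ∀ j ∈ L0, J' j := fun j hj => hL j (List.mem_append_left _ hj)
    have ht : J' t := hL t (by simp)
    set w0 := D.wpM L0 with hw0
    have hww0 : w = w0 * D.s t := by
      rw [← hLw, wpM_append, wpM_cons, wpM_nil, mul_one]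
    have hle0 : D.nJ J' w0 ≤ L0.length := D.nJ_wpM_le J' hL0
    rw [List.length_append, List.length_singleton] at hlen
    -- the last letter increases the length
    have hpos : w0 • (Pi.single t 1 : Vec n) ∈ D.posJ J' := by
      rcases D.isRoot_wpM_single J' hL0 ht with h | h
      · exact h
      · exfalso
        have := D.nJ_mul_s_of_neg J' w0 ht h
        rw [← hww0] at this
        omega
    have hn0 : D.nJ J' w0 + 1 = D.nJ J' w := by
      rw [hww0, D.nJ_mul_s_of_pos J' w0 ht hpos]
    have hwneg : w • (Pi.single t 1 : Vec n) = -(w0 • (Pi.single t 1 : Vec n)) := by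
      rw [hww0, mul_smul, s_smul_single, smul_neg']
    -- the form computation
    have hisom := D.isIsom_of_mem_W J' hw
    have h1 : D.form lam (w • (Pi.single t 1 : Vec n)) = D.form lam (Pi.single t 1) := by
      conv_lhs => rw [← hfix]
      exact D.form_smul hisom _ _
    have h2 : 0 ≤ D.form lam (w0 • (Pi.single t 1 : Vec n)) := by
      rw [form_eq_sum]
      apply Finset.sum_nonneg
      intro j _
      rw [mem_posJ] at hpos
      by_cases hj : J' j
      · apply mul_nonneg ((D.valid.nonneg _ hpos.1).1 j)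
        have := D.two_form_single lam j
        have h3 := mul_nonneg (hdom j hj) (D.valid.gpos j).le
        omega
      · rw [hpos.2 j hj, zero_mul]
    have h3 : 0 ≤ 2 * D.form lam (Pi.single t 1) := by
      rw [D.two_form_single]
      exact mul_nonneg (hdom t ht) (D.valid.gpos t).le
    rw [hwneg, form_neg_right] at h1
    have h4 : D.form lam (Pi.single t 1) = 0 := by omega
    have h5 : pair D.A t lam = 0 := by
      have := D.two_form_single lam t
      rw [h4, mul_zero] at this
      rcases mul_eq_zero.1 this.symm with h | h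
      · exact h
      · exact absurd h (D.valid.gpos t).ne'
    have htJ : J t := (hJ t).2 ⟨ht, h5⟩
    have hst : D.s t • lam = lam := by
      rw [s_smul_eq, h5, zero_smul, sub_zero]
    have hw0fix : w0 • lam = lam := by
      have : w0 = w * D.s t := by rw [hww0, mul_assoc, s_mul_s, mul_one]
      rw [this, mul_smul, hst, hfix]
    have hw0mem : w0 ∈ D.W J' := D.wpM_mem_W J' hL0
    have := ih (D.nJ J' w0) (by omega) w0 rfl hw0mem hw0fix
    rw [hww0]
    exact (D.W J).mul_mem this (D.s_mem_W J htJ)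

theorem fix_of_word (lam : Vec n) (hJ : ∀ i, J i → pair D.A i lam = 0) {L : List (Fin n)}
    (hL : ∀ i ∈ L, J i) : D.wpM L • lam = lam := by
  induction L with
  | nil => simp
  | cons i L ih =>
    rw [wpM_cons, mul_smul, ih (fun j hj => hL j (List.mem_cons_of_mem _ hj)), s_smul_eq,
      hJ i (hL i (by simp)), zero_smul, sub_zero]

theorem fix_of_mem_W (lam : Vec n) (hJ : ∀ i, J i → pair D.A i lam = 0) {w : (Mat n)ˣ}
    (hw : w ∈ D.W J) : w • lam = lam := by
  obtain ⟨L, hL, rfl⟩ := D.exists_word J hw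
  exact D.fix_of_word J lam hJ hL

/-- orbit–stabiliser for a dominant vector -/
theorem card_W_eq (lam : Vec n) (hdom : ∀ i, J' i → 0 ≤ pair D.A i lam)
    (hJ : ∀ i, J i ↔ (J' i ∧ pair D.A i lam = 0)) :
    Nat.card (D.W J') = Nat.card (D.W J) * (MulAction.orbit (D.W J') lam).ncard := by
  have hle : D.W J ≤ D.W J' := D.W_mono J' J (fun i hi => ((hJ i).1 hi).1)
  have hstab : MulAction.stabilizer (D.W J') lam = (D.W J).subgroupOf (D.W J') := by
    ext ⟨w, hw⟩
    rw [MulAction.mem_stabilizer_iff, Subgroup.mem_subgroupOf]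
    constructor
    · intro h
      exact D.mem_W_of_fix J' J lam hdom hJ _ w rfl hw h
    · intro h
      exact D.fix_of_mem_W J lam (fun i hi => ((hJ i).1 hi).2) h
  rw [← Subgroup.card_mul_index (MulAction.stabilizer (D.W J') lam), MulAction.index_stabilizer,
    hstab, Nat.card_congr (Subgroup.subgroupOfEquivOfLe hle).toEquiv]

end VDatum

/-! ### The full group is a Coxeter group -/

namespace VDatum

variable (D : VDatum n)

/-- all nodes -/
abbrev allJ : Fin n → Prop := fun _ => True

/-- the full Weyl group -/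
abbrev Wf : Subgroup (Mat n)ˣ := D.W allJ

/-- the simple reflections as elements of the Weyl group -/
def σ (i : Fin n) : D.Wf := ⟨D.s i, D.s_mem_W allJ trivial⟩

theorem coe_wp (L : List (Fin n)) : ((CoxExch.wp D.σ L : D.Wf) : (Mat n)ˣ) = D.wpM L := by
  induction L with
  | nil => rfl
  | cons i L ih =>
    rw [CoxExch.wp_cons, Subgroup.coe_mul, ih, wpM_cons]
    rfl

theorem allJ_mem (L : List (Fin n)) : ∀ i ∈ L, allJ i := fun _ _ => trivial

theorem nJ_of_isRed {L : List (Fin n)} (h : CoxExch.IsRed D.σ L) :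
    D.nJ allJ (D.wpM L) = L.length := by
  by_contra hne
  have hlt : D.nJ allJ (D.wpM L) < L.length :=
    lt_of_le_of_ne (D.nJ_wpM_le allJ (allJ_mem L)) hne
  obtain ⟨L', _, h2, h3⟩ := D.exists_shorter allJ (allJ_mem L) hlt
  have := h L' (Subtype.ext (by rw [coe_wp, coe_wp, h2]))
  omega

theorem σ_exch : CoxExch.Exch D.σ := by
  refine ⟨fun i => Subtype.ext (D.s_mul_s i), ?_⟩
  intro L t hr hnr
  have hn := D.nJ_of_isRed hr
  have hneg : -(D.wpM L • (Pi.single t 1 : Vec n)) ∈ D.posJ allJ := by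
    rcases D.isRoot_wpM_single allJ (allJ_mem L) (t := t) trivial with hpos | hneg
    · exfalso
      apply hnr
      intro L' hL'
      have h1 := D.nJ_wpM_le allJ (allJ_mem L')
      have h2 : D.wpM L' = D.wpM (L ++ [t]) := by
        rw [← coe_wp, ← coe_wp, hL']
      rw [h2, wpM_append, wpM_cons, wpM_nil, mul_one, D.nJ_mul_s_of_pos allJ _ trivial hpos,
        hn] at h1
      simpa using h1
    · exact hneg
  obtain ⟨L', hsub, hlen, hwp⟩ := D.exchange allJ (allJ_mem L) (t := t) trivial hneg
  refine ⟨L', hsub, hlen, Subtype.ext ?_⟩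
  rw [coe_wp, Subgroup.coe_mul, coe_wp, hwp]
  rfl

theorem σ_injective : Function.Injective D.σ := by
  intro i j h
  by_contra hne
  have h1 : D.s i = D.s j := congrArg Subtype.val h
  have h2 := D.s_smul_single i
  rw [h1, s_smul, Datum.S] at h2
  have h3 := congrFun h2 i
  rw [refl_mulVec_ne _ _ _ hne] at h3
  simp at h3

theorem σ_gen (w : D.Wf) : ∃ L : List (Fin n), CoxExch.wp D.σ L = w := by
  obtain ⟨L, _, hL⟩ := D.exists_word allJ w.2
  exact ⟨L, Subtype.ext (by rw [coe_wp, hL])⟩

theorem exists_cs : ∃ (M : CoxeterMatrix (Fin n)) (cs : CoxeterSystem M D.Wf),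
    (∀ i, cs.simple i = D.σ i) ∧ ∀ i j, M i j = orderOf (D.s i * D.s j) := by
  obtain ⟨M, cs, h1, h2⟩ := CoxExch.exists_coxeterSystem' D.σ D.σ_exch D.σ_injective D.σ_gen
  refine ⟨M, cs, h1, ?_⟩
  intro i j
  rw [h2, ← Subgroup.orderOf_coe]
  rfl

/-- If the given Coxeter matrix records the orders of the products of the concrete reflections, the
presented Coxeter group is isomorphic to the concrete Weyl group. -/
theorem exists_mulEquiv (M : CoxeterMatrix (Fin n))
    (hM : ∀ i j, M i j = orderOf (D.s i * D.s j)) :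
    ∃ e : M.Group ≃* D.Wf, ∀ i, e (M.simple i) = D.σ i := by
  obtain ⟨M', cs, h1, h2⟩ := D.exists_cs
  have : M' = M := by
    ext i j
    rw [h2, hM]
  subst this
  refine ⟨cs.mulEquiv.symm, ?_⟩
  intro i
  exact h1 i

end VDatum

end Cfsg.Agent.Helper6.Weyl
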