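import Cfsg.Agent.Lib.Helper6.WeylChain

/-!
# Generation of concrete Weyl groups by a Coxeter element and a few reflections

A subgroup `H` containing the Coxeter element and some simple reflections contains the reflections in
all roots obtained from the given simple roots by applying the Coxeter element and reflecting known
roots in each other.  A derivation of all simple roots is checked by computation on codes.
-/

set_option autoImplicit false
set_option linter.unusedSectionVars false

namespace Cfsg.Agent.Helper6.Weyl

open Matrix

variable {n : ℕ}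

namespace VDatum

variable (D : VDatum n)

theorem coe_wpM (L : List (Fin n)) : ((D.wpM L : (Mat n)ˣ) : Mat n) = wordMat D.A L := by
  induction L with
  | nil => simp [wordMat]
  | cons i L ih =>
    rw [wpM_cons, Units.val_mul, ih, wordMat_cons]
    rfl

variable (H : Subgroup (Mat n)ˣ)

/-- the reflection in the root `β` lies in `H` -/
def ReflIn (β : Vec n) : Prop :=
  ∃ w ∈ D.Wf, ∃ i, w • (Pi.single i 1 : Vec n) = β ∧ w * D.s i * w⁻¹ ∈ H

theorem reflIn_single {i : Fin n} (h : D.s i ∈ H) : D.ReflIn H (Pi.single i 1) :=
  ⟨1, D.Wf.one_mem, i, one_smul _ _, by simpa using h⟩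

theorem reflIn_smul {β : Vec n} (hβ : D.ReflIn H β) {g : (Mat n)ˣ} (hg : g ∈ H) (hgW : g ∈ D.Wf) :
    D.ReflIn H (g • β) := by
  obtain ⟨w, hw, i, rfl, hH⟩ := hβ
  refine ⟨g * w, D.Wf.mul_mem hgW hw, i, mul_smul _ _ _, ?_⟩
  have : g * w * D.s i * (g * w)⁻¹ = g * (w * D.s i * w⁻¹) * g⁻¹ := by group
  rw [this]
  exact H.mul_mem (H.mul_mem hg hH) (H.inv_mem hg)

theorem reflIn_reflect {β γ : Vec n} (hβ : D.ReflIn H β) (hγ : D.ReflIn H γ) (k : ℤ)
    (hk : k * D.form β β = 2 * D.form γ β) : D.ReflIn H (γ - k • β) := by
  obtain ⟨w, hw, i, rfl, hH⟩ := hβ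
  have hiso : D.IsIsom w := D.isIsom_of_mem_W allJ hw
  have hrW : w * D.s i * w⁻¹ ∈ D.Wf :=
    D.Wf.mul_mem (D.Wf.mul_mem hw (D.s_mem_W allJ trivial)) (D.Wf.inv_mem hw)
  have := D.reflIn_smul H hγ hH hrW
  have key : (w * D.s i * w⁻¹) • γ = γ - k • (w • (Pi.single i 1 : Vec n)) := by
    rw [mul_smul, mul_smul, s_smul_eq, smul_sub', smul_smul', ← mul_smul, mul_inv_cancel, one_smul]
    congr 2
    -- the pairing equals k
    have h1 := D.two_form_single (w⁻¹ • γ) i
    have h2 : D.form (w⁻¹ • γ) (Pi.single i 1) = D.form γ (w • (Pi.single i 1 : Vec n)) := by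
      rw [← D.form_smul hiso (w⁻¹ • γ), ← mul_smul, mul_inv_cancel, one_smul]
    have h3 : D.form (w • (Pi.single i 1 : Vec n)) (w • (Pi.single i 1 : Vec n)) = D.G i i := by
      rw [D.form_smul hiso, form_single_single]
    rw [h2] at h1
    rw [h3] at hk
    have : (pair D.A i (w⁻¹ • γ) - k) * D.G i i = 0 := by linear_combination -h1 - hk
    rcases mul_eq_zero.1 this with h | h
    · linarith
    · exact absurd h (D.valid.gpos i).ne'
  rwa [key] at this

theorem s_mem_of_reflIn {j : Fin n} (h : D.ReflIn H (Pi.single j 1)) : D.s j ∈ H := by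
  obtain ⟨w, hw, i, hwi, hH⟩ := h
  have := D.mul_s_eq_s_mul (D.isIsom_of_mem_W allJ hw) hwi
  rw [this, mul_assoc, mul_inv_cancel, mul_one] at hH
  exact hH

end VDatum

/-- instructions of a derivation -/
inductive Instr
  | cox (b : ℕ)
  | rf (b g : ℕ)

/-- force the evaluation of an integer -/
def forceInt {α : Type} (x : ℤ) (f : ℤ → α) : α :=
  match x with
  | Int.ofNat a => forceNat a fun a => f (Int.ofNat a)
  | Int.negSucc a => forceNat a fun a => f (Int.negSucc a)

theorem forceInt_eq {α : Type} (x : ℤ) (f : ℤ → α) : forceInt x f = f x := by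
  cases x <;> simp [forceInt, forceNat_eq]

/-- the form on codes -/
def formC (G : Mat n) (b g : ℕ) : ℤ := decode n b ⬝ᵥ G.mulVec (decode n g)

/-- one step of a derivation: the new code -/
def stepInstr (A G : Mat n) (known : List ℕ) : Instr → Option ℕ
  | .cox b => if known.contains b then applyWord A (List.finRange n) b else none
  | .rf b g =>
    if known.contains b && known.contains g then
      forceInt (formC G b b) fun bb => forceInt (formC G g b) fun gb => forceInt (2 * gb / bb) fun k =>
        forceNat (Int.toNat ((g : ℤ) - k * ((b : ℤ) - codeZ n))) fun r =>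
          if k * bb = 2 * gb ∧ decode n r = decode n g - k • decode n b then some r else none
    else none

/-- run a derivation -/
def runInstrs (A G : Mat n) : List ℕ → List Instr → Option (List ℕ)
  | known, [] => some known
  | known, ins :: rest =>
    match stepInstr A G known ins with
    | some r => forceNat r fun r => runInstrs A G (r :: known) rest
    | none => none

/-- the derivation reaches all simple roots -/
def deriveOK (A G : Mat n) (start : List (Fin n)) (prog : List Instr) : Bool :=
  baseOK n &&
    match runInstrs A G (start.map (codeE n)) prog with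
    | some known => (List.finRange n).all fun j => known.contains (codeE n j)
    | none => false

section derive

variable (D : VDatum n) (H : Subgroup (Mat n)ˣ)

theorem stepInstr_sound (hc : D.wpM (List.finRange n) ∈ H) (known : List ℕ)
    (hk : ∀ c ∈ known, D.ReflIn H (decode n c)) (ins : Instr) (r : ℕ)
    (h : stepInstr D.A D.G known ins = some r) : D.ReflIn H (decode n r) := by
  cases ins with
  | cox b =>
    simp only [stepInstr] at h
    split_ifs at h with hb
    have hb' : b ∈ known := by simpa using hb
    have h1 := applyWord_spec _ _ _ h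
    rw [h1, ← D.coe_wpM]
    exact D.reflIn_smul H (hk b hb') hc (D.wpM_mem_W VDatum.allJ (VDatum.allJ_mem _))
  | rf b g =>
    simp only [stepInstr, forceInt_eq, forceNat_eq] at h
    split_ifs at h with hbg h2
    rw [Bool.and_eq_true] at hbg
    have hb' : b ∈ known := by simpa using hbg.1
    have hg' : g ∈ known := by simpa using hbg.2
    simp only [Option.some.injEq] at h
    subst h
    rw [h2.2]
    exact D.reflIn_reflect H (hk b hb') (hk g hg') _ h2.1

theorem runInstrs_sound (hc : D.wpM (List.finRange n) ∈ H) : ∀ (prog : List Instr) (known final : List ℕ),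
    (∀ c ∈ known, D.ReflIn H (decode n c)) → runInstrs D.A D.G known prog = some final →
    ∀ c ∈ final, D.ReflIn H (decode n c) := by
  intro prog
  induction prog with
  | nil =>
    intro known final hk h
    simp only [runInstrs, Option.some.injEq] at h
    subst h
    exact hk
  | cons ins rest ih =>
    intro known final hk h
    simp only [runInstrs] at h
    cases h1 : stepInstr D.A D.G known ins with
    | none => rw [h1] at h; simp at h
    | some r =>
      rw [h1] at h
      simp only [forceNat_eq] at h
      apply ih (r :: known) final ?_ h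
      intro c hc'
      rcases List.mem_cons.1 hc' with rfl | hc'
      · exact stepInstr_sound D H hc known hk ins _ h1
      · exact hk c hc'

/-- a subgroup containing the Coxeter element and the starting reflections contains all reflections -/
theorem s_mem_of_deriveOK (hc : D.wpM (List.finRange n) ∈ H) (start : List (Fin n))
    (hstart : ∀ i ∈ start, D.s i ∈ H) (prog : List Instr)
    (h : deriveOK D.A D.G start prog = true) (j : Fin n) : D.s j ∈ H := by
  unfold deriveOK at h
  rw [Bool.and_eq_true] at h
  obtain ⟨hb, h⟩ := h
  cases h1 : runInstrs D.A D.G (start.map (codeE n)) prog with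
  | none => rw [h1] at h; simp at h
  | some known =>
    rw [h1] at h
    simp only [List.all_eq_true] at h
    have h2 : codeE n j ∈ known := by simpa using h j (List.mem_finRange j)
    have h3 := runInstrs_sound D H hc prog _ known ?_ h1 _ h2
    · rw [baseOK_spec hb] at h3
      exact D.s_mem_of_reflIn H h3
    · intro c hc'
      obtain ⟨i, hi, rfl⟩ := List.mem_map.1 hc'
      rw [baseOK_spec hb]
      exact D.reflIn_single H (hstart i hi)

end derive

/-! ### Transfer to the presented Coxeter group -/

section transfer

variable (D : VDatum n) (M : CoxeterMatrix (Fin n))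

/-- generation of the presented Coxeter group by the Coxeter element and the simple reflections
in `start`, given a membership proof for every simple reflection of the concrete group -/
theorem closure_eq_top_of (e : M.Group ≃* D.Wf) (he : ∀ i, e (M.simple i) = D.σ i)
    (T : Set M.Group)
    (h : ∀ H : Subgroup (Mat n)ˣ, D.wpM (List.finRange n) ∈ H →
      (∀ t ∈ T, ((e t : D.Wf) : (Mat n)ˣ) ∈ H) → ∀ j, D.s j ∈ H) :
    Subgroup.closure (({((List.finRange n).map M.simple).prod} : Set M.Group) ∪ T) = ⊤ := by
  set K := Subgroup.closure (({((List.finRange n).map M.simple).prod} : Set M.Group) ∪ T) with hK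
  have hsimple : ∀ j, M.simple j ∈ K := by
    intro j
    have := h ((K.map e.toMonoidHom).map D.Wf.subtype) ?_ ?_ j
    · obtain ⟨y, ⟨x, hx, rfl⟩, hy⟩ := this
      have : e x = D.σ j := Subtype.ext hy
      rw [← he j] at this
      rw [← e.injective this]
      exact hx
    · refine ⟨e ((List.finRange n).map M.simple).prod, ⟨_, Subgroup.subset_closure (Or.inl rfl), rfl⟩, ?_⟩
      rw [map_list_prod, List.map_map]
      have h1 : (⇑e ∘ M.simple) = D.σ := funext he
      rw [h1]
      apply Units.ext
      rw [D.coe_wpM]
      exact coe_coxeter D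
    · intro t ht
      exact ⟨e t, ⟨t, Subgroup.subset_closure (Or.inr ht), rfl⟩, rfl⟩
  rw [eq_top_iff, ← M.toCoxeterSystem.subgroup_closure_range_simple, Subgroup.closure_le]
  rintro _ ⟨j, rfl⟩
  exact hsimple j

/-- the statement on generation by the Coxeter element and the simple reflections in `start` -/
theorem gen_result (hM : ordersOK D.A M = true) (start : List (Fin n)) (hnd : start.Nodup)
    (prog : List Instr) (h : deriveOK D.A D.G start prog = true) :
    ∃ T : Finset M.Group, T.card = start.length ∧
      (∀ t ∈ T, ∃ (g : M.Group) (i : Fin n), t = g * M.simple i * g⁻¹) ∧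
      Subgroup.closure (({((List.finRange n).map M.simple).prod} : Set M.Group) ∪ ↑T) = ⊤ := by
  classical
  obtain ⟨e, he⟩ := D.exists_mulEquiv M (ordersOK_spec D M hM)
  have hinj : Function.Injective M.simple := by
    intro i j hij
    apply D.σ_injective
    rw [← he i, ← he j, hij]
  refine ⟨(start.map M.simple).toFinset, ?_, ?_, ?_⟩
  · rw [List.toFinset_card_of_nodup (hnd.map hinj), List.length_map]
  · intro t ht
    rw [List.mem_toFinset, List.mem_map] at ht
    obtain ⟨i, _, rfl⟩ := ht
    exact ⟨1, i, by simp⟩
  · apply closure_eq_top_of D M e he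
    intro H hc hT j
    apply s_mem_of_deriveOK D H hc start ?_ prog h j
    intro i hi
    have := hT (M.simple i) (by
      rw [Finset.mem_coe, List.mem_toFinset]
      exact List.mem_map.2 ⟨i, hi, rfl⟩)
    rw [he i] at this
    exact this

end transfer

/-- rank two: the Coxeter element and one simple reflection generate -/
theorem gen_rank2 (M : CoxeterMatrix (Fin 2)) :
    ∃ T : Finset M.Group, T.card = 1 ∧
      (∀ t ∈ T, ∃ (g : M.Group) (i : Fin 2), t = g * M.simple i * g⁻¹) ∧
      Subgroup.closure (({((List.finRange 2).map M.simple).prod} : Set M.Group) ∪ ↑T) = ⊤ := by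
  classical
  refine ⟨{M.simple 0}, Finset.card_singleton _, ?_, ?_⟩
  · intro t ht
    rw [Finset.mem_singleton] at ht
    exact ⟨1, 0, by simp [ht]⟩
  · set K := Subgroup.closure (({((List.finRange 2).map M.simple).prod} : Set M.Group) ∪
      ↑({M.simple 0} : Finset M.Group)) with hK
    have h0 : M.simple 0 ∈ K := Subgroup.subset_closure (Or.inr (by simp))
    have hc : M.simple 0 * M.simple 1 ∈ K := by
      have : ((List.finRange 2).map M.simple).prod = M.simple 0 * M.simple 1 := by
        simp [List.finRange_succ]
      rw [← this]
      exact Subgroup.subset_closure (Or.inl rfl)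
    have h1 : M.simple 1 ∈ K := by
      have := K.mul_mem (K.inv_mem h0) hc
      rwa [inv_mul_cancel_left] at this
    rw [eq_top_iff, ← M.toCoxeterSystem.subgroup_closure_range_simple, Subgroup.closure_le]
    rintro _ ⟨j, rfl⟩
    fin_cases j
    · exact h0
    · exact h1

end Cfsg.Agent.Helper6.Weyl
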