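import Cfsg.Agent.Lib.Helper6.WeylDataB2
import Cfsg.Agent.Lib.Helper6.WeylDataG2
import Cfsg.Agent.Lib.Helper6.WeylDataD4
import Cfsg.Agent.Lib.Helper6.WeylDataF4
import Cfsg.Agent.Lib.Helper6.WeylDataE6
import Cfsg.Agent.Lib.Helper6.WeylDataE7
import Cfsg.Agent.Lib.Helper6.WeylDataE8
import Cfsg.Agent.Lib.Helper6.WeylGen

/-!
# Generation of the Weyl groups of types B2, G2, D4, F4, E6, E7, E8 by a Coxeter element and reflections
-/

set_option autoImplicit false
set_option maxRecDepth 100000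

namespace Cfsg.Agent.Helper6.Weyl

theorem B2.gen : ∃ T : Finset (CoxeterMatrix.B 2).Group, T.card = 1 ∧
    (∀ t ∈ T, ∃ (g : (CoxeterMatrix.B 2).Group) (i : Fin 2), t = g * (CoxeterMatrix.B 2).simple i * g⁻¹) ∧
    Subgroup.closure (({((List.finRange 2).map (CoxeterMatrix.B 2).simple).prod} : Set (CoxeterMatrix.B 2).Group) ∪ ↑T) = ⊤ :=
  gen_rank2 (CoxeterMatrix.B 2)

theorem G2.gen : ∃ T : Finset (CoxeterMatrix.G₂).Group, T.card = 1 ∧
    (∀ t ∈ T, ∃ (g : (CoxeterMatrix.G₂).Group) (i : Fin 2), t = g * (CoxeterMatrix.G₂).simple i * g⁻¹) ∧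
    Subgroup.closure (({((List.finRange 2).map (CoxeterMatrix.G₂).simple).prod} : Set (CoxeterMatrix.G₂).Group) ∪ ↑T) = ⊤ :=
  gen_rank2 (CoxeterMatrix.G₂)

/-- derivation of all simple reflections of type D4 -/
def D4.genProg : List Instr := [.cox 34953, .rf 35208 34968, .cox 35224]

theorem D4.gen_ok : deriveOK D4.cartanA D4.gramG [0, 2] D4.genProg = true := by decide +kernel

theorem D4.gen : ∃ T : Finset (Cfsg.Lie.coxeterD4).Group, T.card = 2 ∧
    (∀ t ∈ T, ∃ (g : (Cfsg.Lie.coxeterD4).Group) (i : Fin 4), t = g * (Cfsg.Lie.coxeterD4).simple i * g⁻¹) ∧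
    Subgroup.closure (({((List.finRange 4).map (Cfsg.Lie.coxeterD4).simple).prod} : Set (Cfsg.Lie.coxeterD4).Group) ∪ ↑T) = ⊤ :=
  gen_result D4.vd (Cfsg.Lie.coxeterD4) D4.orders_ok [0, 2] (by decide) D4.genProg D4.gen_ok

/-- derivation of all simple reflections of type F4 -/
def F4.genProg : List Instr := [.cox 34953, .cox 35208]

theorem F4.gen_ok : deriveOK F4.cartanA F4.gramG [0, 2] F4.genProg = true := by decide +kernel

theorem F4.gen : ∃ T : Finset (CoxeterMatrix.F₄).Group, T.card = 2 ∧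
    (∀ t ∈ T, ∃ (g : (CoxeterMatrix.F₄).Group) (i : Fin 4), t = g * (CoxeterMatrix.F₄).simple i * g⁻¹) ∧
    Subgroup.closure (({((List.finRange 4).map (CoxeterMatrix.F₄).simple).prod} : Set (CoxeterMatrix.F₄).Group) ∪ ↑T) = ⊤ :=
  gen_result F4.vd (CoxeterMatrix.F₄) F4.orders_ok [0, 2] (by decide) F4.genProg F4.gen_ok

/-- derivation of all simple reflections of type E6 -/
def E6.genProg : List Instr := [.cox 8947849, .cox 8948104, .cox 8951960, .cox 9017737, .rf 9017737 8947849, .cox 10066328, .cox 8877960, .cox 8951944, .cox 7829624, .cox 9013384]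

theorem E6.gen_ok : deriveOK E6.cartanA E6.gramG [0] E6.genProg = true := by decide +kernel

theorem E6.gen : ∃ T : Finset (CoxeterMatrix.E₆).Group, T.card = 1 ∧
    (∀ t ∈ T, ∃ (g : (CoxeterMatrix.E₆).Group) (i : Fin 6), t = g * (CoxeterMatrix.E₆).simple i * g⁻¹) ∧
    Subgroup.closure (({((List.finRange 6).map (CoxeterMatrix.E₆).simple).prod} : Set (CoxeterMatrix.E₆).Group) ∪ ↑T) = ⊤ :=
  gen_result E6.vd (CoxeterMatrix.E₆) E6.orders_ok [0] (by decide) E6.genProg E6.gen_ok

/-- derivation of all simple reflections of type E7 -/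
def E7.genProg : List Instr := [.cox 143165592, .cox 143169929, .cox 143235480, .rf 143165592 143235480, .rf 143235480 143165592, .cox 144288153, .cox 143095688, .rf 144288153 143235464, .cox 161131161, .cox 142047352, .rf 143169929 144358041, .rf 143235464 161131161, .cox 125269895, .rf 144288152 144353688, .rf 144288152 161061273, .cox 143165577, .cox 143231112, .rf 144288153 162183849, .cox 144214152, .cox 161061272]

theorem E7.gen_ok : deriveOK E7.cartanA E7.gramG [1] E7.genProg = true := by decide +kernel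

theorem E7.gen : ∃ T : Finset (CoxeterMatrix.E₇).Group, T.card = 1 ∧
    (∀ t ∈ T, ∃ (g : (CoxeterMatrix.E₇).Group) (i : Fin 7), t = g * (CoxeterMatrix.E₇).simple i * g⁻¹) ∧
    Subgroup.closure (({((List.finRange 7).map (CoxeterMatrix.E₇).simple).prod} : Set (CoxeterMatrix.E₇).Group) ∪ ↑T) = ⊤ :=
  gen_result E7.vd (CoxeterMatrix.E₇) E7.orders_ok [1] (by decide) E7.genProg E7.gen_ok

/-- derivation of all simple reflections of type E8 -/
def E8.genProg : List Instr := [.cox 2290649225, .cox 2290649480, .rf 2290649225 2290649480, .cox 2290653336, .cox 2290649481, .cox 2290719113, .cox 2290653592, .rf 2290649225 2290719113, .rf 2290649481 2290719113, .rf 2290719113 2290649225, .cox 2291767704, .cox 2290719112, .cox 2290579336, .rf 2290649225 2290723225, .rf 2291767704 2290718856, .cox 2308549017, .cox 2291767448, .cox 2289531000, .rf 2290649225 2308549017, .cox 2577050265, .cox 2308544905, .rf 2290649225 2272753543, .cox 2576980376, .cox 2272753544, .rf 2290723224 2291771800,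 .rf 2291771800 2291837336, .rf 2291771800 2308549016, .cox 2004318328, .cox 2307426440]

theorem E8.gen_ok : deriveOK E8.cartanA E8.gramG [0] E8.genProg = true := by decide +kernel

theorem E8.gen : ∃ T : Finset (CoxeterMatrix.E₈).Group, T.card = 1 ∧
    (∀ t ∈ T, ∃ (g : (CoxeterMatrix.E₈).Group) (i : Fin 8), t = g * (CoxeterMatrix.E₈).simple i * g⁻¹) ∧
    Subgroup.closure (({((List.finRange 8).map (CoxeterMatrix.E₈).simple).prod} : Set (CoxeterMatrix.E₈).Group) ∪ ↑T) = ⊤ :=
  gen_result E8.vd (CoxeterMatrix.E₈) E8.orders_ok [0] (by decide) E8.genProg E8.gen_ok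

end Cfsg.Agent.Helper6.Weyl
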